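import Groth.Agent.AlgSpDec.ThickPushoutScheme
import Groth.Agent.AlgSpDec.LqfSplitZ

/-!
# Charts of pushouts of algebraic spaces along thickenings
-/

set_option backward.isDefEq.respectTransparency false
set_option backward.isDefEq.respectTransparency.types false
set_option autoImplicit false

noncomputable section

universe u

open CategoryTheory CategoryTheory.Limits AlgebraicGeometry AlgSp Groth.Agent.AlgSpLib Groth.Agent.AlgSpPts

namespace Groth.Agent.AlgSpDec

variable {S : Scheme.{u}}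

/-- An etale chart on which a square of sheaves is a pushout of schemes along a thickening and an affine
morphism. -/
structure PushChart {X X' Y P : Sp S} (t : X ⟶ X') (f : X ⟶ Y) (f' : X' ⟶ P) (t' : Y ⟶ P) where
  U : Over S
  U' : Over S
  V : Over S
  V' : Over S
  i : U ⟶ U'
  j : U ⟶ V
  a : U' ⟶ V'
  b : V ⟶ V'
  sq : ThickSq i j a b
  uX : (yon S).obj U ⟶ X
  uX' : (yon S).obj U' ⟶ X'
  v : (yon S).obj V ⟶ Y
  p : (yon S).obj V' ⟶ P
  sqU : IsPullback ((yon S).map j) uX v f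
  sqU' : IsPullback ((yon S).map i) uX uX' t
  sqa : IsPullback ((yon S).map a) uX' p f'
  sqb : IsPullback ((yon S).map b) v p t'
  etale : RepWith @Etale p
  surj : RepWith @Surjective p

namespace PushChart

section

variable {X X' Y P : Sp S} {t : X ⟶ X'} {f : X ⟶ Y} {f' : X' ⟶ P} {t' : Y ⟶ P}

theorem etale_uX' (C : PushChart t f f' t') : RepWith @Etale C.uX' := repWith_of_isPullback C.sqa C.etale

theorem surj_uX' (C : PushChart t f f' t') : RepWith @Surjective C.uX' := repWith_of_isPullback C.sqa C.surj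

theorem etale_v (C : PushChart t f f' t') : RepWith @Etale C.v := repWith_of_isPullback C.sqb C.etale

theorem surj_v (C : PushChart t f f' t') : RepWith @Surjective C.v := repWith_of_isPullback C.sqb C.surj

theorem etale_uX (C : PushChart t f f' t') : RepWith @Etale C.uX := repWith_of_isPullback C.sqU C.etale_v

theorem surj_uX (C : PushChart t f f' t') : RepWith @Surjective C.uX := repWith_of_isPullback C.sqU C.surj_v

theorem w (C : PushChart t f f' t') : t ≫ f' = f ≫ t' := by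
  have := epi_of_etale_surjective C.etale_uX C.surj_uX
  rw [← cancel_epi C.uX, ← reassoc_of% C.sqU'.w, ← C.sqa.w, ← Category.assoc, ← Functor.map_comp, C.sq.po.w,
    Functor.map_comp, Category.assoc, C.sqb.w, reassoc_of% C.sqU.w]

theorem hom_ext (C : PushChart t f f' t') {Z : Sp S} (hZ : IsAlgSpace Z) {m m' : P ⟶ Z}
    (h₁ : f' ≫ m = f' ≫ m') (h₂ : t' ≫ m = t' ≫ m') : m = m' := by
  have := epi_of_etale_surjective C.etale C.surj
  rw [← cancel_epi C.p]
  refine C.sq.space_ext hZ ?_ ?_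
  · rw [reassoc_of% C.sqa.w, reassoc_of% C.sqa.w, h₁]
  · rw [reassoc_of% C.sqb.w, reassoc_of% C.sqb.w, h₂]

theorem exists_desc (C : PushChart t f f' t') {Z : Sp S} (hZ : IsAlgSpace Z) (mX : X' ⟶ Z) (mY : Y ⟶ Z)
    (hw : t ≫ mX = f ≫ mY) : ∃ m : P ⟶ Z, f' ≫ m = mX ∧ t' ≫ m = mY := by
  obtain ⟨c, hca, hcb⟩ := C.sq.space_desc hZ (C.uX' ≫ mX) (C.v ≫ mY) (by
    rw [reassoc_of% C.sqU'.w, hw, reassoc_of% C.sqU.w])
  let R := C.etale.rep.pullback C.p
  let t₁ : R ⟶ C.V' := C.etale.rep.fst' C.p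
  let s₁ : R ⟶ C.V' := C.etale.rep.snd C.p
  have sqR : IsPullback ((yon S).map t₁) ((yon S).map s₁) C.p C.p := C.etale.rep.isPullback' C.p
  have : Etale t₁.left := C.etale.property C.p _ _ sqR.flip
  have key : (yon S).map t₁ ≫ c = (yon S).map s₁ ≫ c := by
    let a₁ := pullback.fst t₁ C.a
    let g₁ := pullback.snd t₁ C.a
    let b₁ := pullback.fst t₁ C.b
    let g₂ := pullback.snd t₁ C.b
    let i₁ := pullback.fst g₁ C.i
    let g₀ := pullback.snd g₁ C.i
    let j₁ : pullback g₁ C.i ⟶ pullback t₁ C.b := pullback.lift (i₁ ≫ a₁) (g₀ ≫ C.j) (by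
      rw [Category.assoc, pullback.condition, ← Category.assoc, pullback.condition, Category.assoc, C.sq.po.w,
        Category.assoc])
    obtain ⟨hR, -⟩ := C.sq.baseChange (IsPullback.of_hasPullback t₁ C.a) (IsPullback.of_hasPullback t₁ C.b)
      (IsPullback.of_hasPullback g₁ C.i) (j' := j₁) (pullback.lift_snd _ _ _) (pullback.lift_fst _ _ _).symm
    refine hR.space_ext hZ ?_ ?_
    · have h1 : (yon S).map (a₁ ≫ t₁) ≫ c = (yon S).map g₁ ≫ C.uX' ≫ mX := by
        rw [show a₁ ≫ t₁ = g₁ ≫ C.a from pullback.condition, Functor.map_comp, Category.assoc, hca]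
      obtain ⟨l, hl₁, hl₂⟩ := C.sqa.exists_lift ((yon S).map (a₁ ≫ s₁)) ((yon S).map g₁ ≫ C.uX') (by
        rw [Functor.map_comp, Category.assoc, ← sqR.w, ← Category.assoc, ← Functor.map_comp,
          show a₁ ≫ t₁ = g₁ ≫ C.a from pullback.condition, Functor.map_comp, Category.assoc, Category.assoc, C.sqa.w])
      rw [← Functor.map_comp_assoc, ← Functor.map_comp_assoc, h1, ← hl₁, Category.assoc, hca, reassoc_of% hl₂]
    · have h1 : (yon S).map (b₁ ≫ t₁) ≫ c = (yon S).map g₂ ≫ C.v ≫ mY := by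
        rw [show b₁ ≫ t₁ = g₂ ≫ C.b from pullback.condition, Functor.map_comp, Category.assoc, hcb]
      obtain ⟨l, hl₁, hl₂⟩ := C.sqb.exists_lift ((yon S).map (b₁ ≫ s₁)) ((yon S).map g₂ ≫ C.v) (by
        rw [Functor.map_comp, Category.assoc, ← sqR.w, ← Category.assoc, ← Functor.map_comp,
          show b₁ ≫ t₁ = g₂ ≫ C.b from pullback.condition, Functor.map_comp, Category.assoc, Category.assoc, C.sqb.w])
      rw [← Functor.map_comp_assoc, ← Functor.map_comp_assoc, h1, ← hl₁, Category.assoc, hcb, reassoc_of% hl₂]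
  have := isLocallySurjective_of_etale_surjective C.etale C.surj
  obtain ⟨m, hm⟩ := exists_desc_of_kernelPair sqR c key
  have := epi_of_etale_surjective C.etale_uX' C.surj_uX'
  have := epi_of_etale_surjective C.etale_v C.surj_v
  refine ⟨m, ?_, ?_⟩
  · rw [← cancel_epi C.uX', ← reassoc_of% C.sqa.w, hm, hca]
  · rw [← cancel_epi C.v, ← reassoc_of% C.sqb.w, hm, hcb]

/-- Transport of a chart along an isomorphism of the target. -/
def ofIso (C : PushChart t f f' t') {P' : Sp S} (e : P ≅ P') {g' : X' ⟶ P'} {s' : Y ⟶ P'} (h₁ : f' ≫ e.hom = g')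
    (h₂ : t' ≫ e.hom = s') : PushChart t f g' s' where
  U := C.U
  U' := C.U'
  V := C.V
  V' := C.V'
  i := C.i
  j := C.j
  a := C.a
  b := C.b
  sq := C.sq
  uX := C.uX
  uX' := C.uX'
  v := C.v
  p := C.p ≫ e.hom
  sqU := C.sqU
  sqU' := C.sqU'
  sqa := C.sqa.of_iso (Iso.refl _) (Iso.refl _) (Iso.refl _) e (by simp) (by simp) (by simp) (by simp [h₁])
  sqb := C.sqb.of_iso (Iso.refl _) (Iso.refl _) (Iso.refl _) e (by simp) (by simp) (by simp) (by simp [h₂])
  etale := repWith_comp C.etale (repWith_of_isIso _ _)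
  surj := repWith_comp C.surj (repWith_of_isIso _ _)

/-- Base change of a chart along a flat morphism to the corner. -/
theorem nonempty_baseChange (C : PushChart t f f' t') (hP : IsAlgSpace P) {W' WY WX' WX : Sp S}
    (hW : IsAlgSpace W') {w : W' ⟶ P} (hw : LocP @Flat w) {aY : WY ⟶ W'} {bY : WY ⟶ Y}
    (hWY : IsPullback aY bY w t') {aX' : WX' ⟶ W'} {bX' : WX' ⟶ X'} (hWX' : IsPullback aX' bX' w f')
    {cY : WX ⟶ WY} {cX' : WX ⟶ WX'} {bX : WX ⟶ X} (hWX₁ : IsPullback cY bX bY f)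
    (hWX₂ : IsPullback cX' bX bX' t) (hc : cY ≫ aY = cX' ≫ aX') :
    Nonempty (PushChart cX' cY aX' aY) := by
  obtain ⟨K, q₀, hq₀, hq₀s⟩ := (isAlgSpace_pullback hW (IsAlgSpace.yon_obj C.V') hP w C.p).atlas
  let q : (yon S).obj K ⟶ W' := q₀ ≫ pullback.fst w C.p
  have hq : RepWith @Etale q := repWith_comp hq₀ (repWith_fst w C.etale)
  have hqs : RepWith @Surjective q := repWith_comp hq₀s (repWith_fst w C.surj)
  obtain ⟨k, hk⟩ := (yon S).map_surjective (q₀ ≫ pullback.snd w C.p)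
  have hqk : q ≫ w = (yon S).map k ≫ C.p := by
    rw [hk, Category.assoc, Category.assoc, pullback.condition]
  have : Flat k.left := hw q C.p k hq C.etale hqk
  let a₁ := pullback.fst k C.a
  let g₁ := pullback.snd k C.a
  let b₁ := pullback.fst k C.b
  let g₂ := pullback.snd k C.b
  let i₁ := pullback.fst g₁ C.i
  let g₀ := pullback.snd g₁ C.i
  let j₁ : pullback g₁ C.i ⟶ pullback k C.b := pullback.lift (i₁ ≫ a₁) (g₀ ≫ C.j) (by
    rw [Category.assoc, pullback.condition, ← Category.assoc, pullback.condition, Category.assoc, C.sq.po.w,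
      Category.assoc])
  have hj : j₁ ≫ g₂ = g₀ ≫ C.j := pullback.lift_snd _ _ _
  have hij : i₁ ≫ a₁ = j₁ ≫ b₁ := (pullback.lift_fst _ _ _).symm
  obtain ⟨hR, sqj⟩ := C.sq.baseChange (IsPullback.of_hasPullback k C.a) (IsPullback.of_hasPullback k C.b)
      (IsPullback.of_hasPullback g₁ C.i) hj hij
  have sA : IsPullback ((yon S).map a₁) ((yon S).map g₁ ≫ C.uX') (q ≫ w) f' := by
    rw [hqk]
    exact ((IsPullback.of_hasPullback k C.a).map (yon S)).paste_vert C.sqa
  let uX₁' := hWX'.lift ((yon S).map a₁ ≫ q) ((yon S).map g₁ ≫ C.uX') (by rw [Category.assoc]; exact sA.w)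
  have hu₁ : uX₁' ≫ aX' = (yon S).map a₁ ≫ q := hWX'.lift_fst _ _ _
  have hu₂ : uX₁' ≫ bX' = (yon S).map g₁ ≫ C.uX' := hWX'.lift_snd _ _ _
  have sqa₁ : IsPullback ((yon S).map a₁) uX₁' q aX' :=
    IsPullback.of_bot (by rw [hu₂]; exact sA) hu₁.symm hWX'
  have sB : IsPullback ((yon S).map b₁) ((yon S).map g₂ ≫ C.v) (q ≫ w) t' := by
    rw [hqk]
    exact ((IsPullback.of_hasPullback k C.b).map (yon S)).paste_vert C.sqb
  let v₁ := hWY.lift ((yon S).map b₁ ≫ q) ((yon S).map g₂ ≫ C.v) (by rw [Category.assoc]; exact sB.w)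
  have hv₁ : v₁ ≫ aY = (yon S).map b₁ ≫ q := hWY.lift_fst _ _ _
  have hv₂ : v₁ ≫ bY = (yon S).map g₂ ≫ C.v := hWY.lift_snd _ _ _
  have sqb₁ : IsPullback ((yon S).map b₁) v₁ q aY :=
    IsPullback.of_bot (by rw [hv₂]; exact sB) hv₁.symm hWY
  have sU : IsPullback ((yon S).map i₁) ((yon S).map g₀ ≫ C.uX) (uX₁' ≫ bX') t := by
    rw [hu₂]
    exact ((IsPullback.of_hasPullback g₁ C.i).map (yon S)).paste_vert C.sqU'
  let uX₁ := hWX₂.lift ((yon S).map i₁ ≫ uX₁') ((yon S).map g₀ ≫ C.uX) (by rw [Category.assoc]; exact sU.w)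
  have hx₁ : uX₁ ≫ cX' = (yon S).map i₁ ≫ uX₁' := hWX₂.lift_fst _ _ _
  have hx₂ : uX₁ ≫ bX = (yon S).map g₀ ≫ C.uX := hWX₂.lift_snd _ _ _
  have sqU₁' : IsPullback ((yon S).map i₁) uX₁ uX₁' cX' :=
    IsPullback.of_bot (by rw [hx₂]; exact sU) hx₁.symm hWX₂
  have sV : IsPullback ((yon S).map j₁) ((yon S).map g₀ ≫ C.uX) (v₁ ≫ bY) f := by
    rw [hv₂]
    exact (sqj.map (yon S)).paste_vert C.sqU
  have hy : (yon S).map j₁ ≫ v₁ = uX₁ ≫ cY := by
    refine hWY.hom_ext ?_ ?_
    · rw [Category.assoc, hv₁, ← Functor.map_comp_assoc, ← hij, Category.assoc, hc, reassoc_of% hx₁, hu₁,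
        Functor.map_comp, Category.assoc]
    · rw [Category.assoc, sV.w, Category.assoc, Category.assoc, hWX₁.w, reassoc_of% hx₂]
  have sqU₁ : IsPullback ((yon S).map j₁) uX₁ v₁ cY :=
    IsPullback.of_bot (by rw [hx₂]; exact sV) hy hWX₁
  exact ⟨⟨_, _, _, _, i₁, j₁, a₁, b₁, hR, uX₁, uX₁', v₁, q, sqU₁, sqU₁', sqa₁, sqb₁, hq, hqs⟩⟩

end

/-- A square of algebraic spaces with a chart is a pushout. -/
theorem isPushout {X X' Y P : Space S} {t : X ⟶ X'} {f : X ⟶ Y} {f' : X' ⟶ P} {t' : Y ⟶ P}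
    (C : PushChart t.hom f.hom f'.hom t'.hom) : IsPushout t f f' t' := by
  choose m hm₁ hm₂ using fun s : PushoutCocone t f =>
    C.exists_desc s.pt.property s.inl.hom s.inr.hom (congrArg (·.hom) s.condition)
  exact ⟨⟨ObjectProperty.hom_ext _ C.w⟩, ⟨PushoutCocone.IsColimit.mk _
    (fun s => ObjectProperty.homMk (m s)) (fun s => ObjectProperty.hom_ext _ (hm₁ s))
    (fun s => ObjectProperty.hom_ext _ (hm₂ s)) (fun s n hn₁ hn₂ => ObjectProperty.hom_ext _
      (C.hom_ext s.pt.property ((congrArg (·.hom) hn₁).trans (hm₁ s).symm)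
        ((congrArg (·.hom) hn₂).trans (hm₂ s).symm)))⟩⟩

end PushChart

/-- A morphism which becomes an isomorphism after pulling back along a locally surjective map is an
isomorphism. -/
theorem isIso_of_isPullback_locallySurjective {V Q Q' V₁ : Sp S} {θ : V ⟶ Q} {c : Q' ⟶ Q}
    [Sheaf.IsLocallySurjective c] {c' : V₁ ⟶ V} {θ' : V₁ ⟶ Q'} (sq : IsPullback c' θ' θ c) [IsIso θ'] :
    IsIso θ := by
  have : Mono θ := mono_of_yon_injective fun T x y h => by
    obtain ⟨T', k, l, hk, hl⟩ := exists_fppf_lift_of_locallySurjective c (x ≫ θ)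
    refine hom_ext_of_fppf k hk x y ?_
    obtain ⟨m, hm₁, hm₂⟩ := sq.exists_lift ((yon S).map k ≫ x) l (by rw [Category.assoc, hl])
    obtain ⟨n, hn₁, hn₂⟩ := sq.exists_lift ((yon S).map k ≫ y) l (by rw [Category.assoc, ← h, hl])
    have : m = n := by rw [← cancel_mono θ', hm₂, hn₂]
    rw [← hm₁, ← hn₁, this]
  have : Sheaf.IsLocallySurjective θ := isLocallySurjective_of_lifts θ fun T ξ => by
    obtain ⟨T', k, l, hk, hl⟩ := exists_fppf_lift_of_locallySurjective c ξ
    refine ⟨T', k, l ≫ inv θ' ≫ c', hk, ?_⟩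
    rw [Category.assoc, Category.assoc, sq.w, IsIso.inv_hom_id_assoc, hl]
  exact isIso_of_mono_of_locallySurjective θ

end Groth.Agent.AlgSpDec
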