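import Groth.Agent.AlgSpDec.BiratSp3
import Groth.Agent.AlgSpDec.AffineRep
import Groth.Agent.AlgSpDec.OneFlat
import Groth.Agent.AlgSpDec.PushoutChart
import Groth.Agent.BirNormal.Basic
import Groth.Agent.EtStalk.Normal
import Groth.Agent.S9821

/-!
# An integral birational morphism onto a normal decent space is an isomorphism
-/

set_option autoImplicit false
set_option backward.isDefEq.respectTransparency false
set_option backward.isDefEq.respectTransparency.types false

universe u

open CategoryTheory CategoryTheory.Limits AlgebraicGeometry AlgSp Topology TopologicalSpace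
  Groth.Agent.AlgSpLib Groth.Agent.AlgSpPts Groth.Agent.AlgSpDec

namespace Groth.Agent.AlgSpDec.BiratSp

theorem unique_generic {V : Scheme.{u}} (v : V) [IsDomain (V.presheaf.stalk v)] {η η' : V}
    (hη : η ∈ genericPoints V) (hη' : η' ∈ genericPoints V) (h : η ⤳ v) (h' : η' ⤳ v) : η = η' := by
  obtain ⟨p, hp⟩ : η ∈ Set.range (V.fromSpecStalk v) := by rw [Scheme.range_fromSpecStalk]; exact h
  obtain ⟨p', hp'⟩ : η' ∈ Set.range (V.fromSpecStalk v) := by rw [Scheme.range_fromSpecStalk]; exact h'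
  let q : Spec (V.presheaf.stalk v) := (⟨⊥, Ideal.isPrime_bot⟩ : PrimeSpectrum _)
  have hq : ∀ r : Spec (V.presheaf.stalk v), q ⤳ r :=
    fun r => (PrimeSpectrum.le_iff_specializes q r).1 bot_le
  have h1 : V.fromSpecStalk v q = η :=
    MorLib.Birat.eq_of_specializes_generic hη (hp ▸ (hq p).map (V.fromSpecStalk v).continuous)
  have h2 : V.fromSpecStalk v q = η' :=
    MorLib.Birat.eq_of_specializes_generic hη' (hp' ▸ (hq p').map (V.fromSpecStalk v).continuous)
  exact h1.symm.trans h2

/-- Schemes: an integral birational morphism from a reduced scheme onto a normal one is an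
isomorphism. -/
theorem isIso_of_isIntegralHom_birational {W V : Scheme.{u}} (g : W ⟶ V) [IsIntegralHom g] [IsReduced W]
    (hVf : (irreducibleComponents V).Finite)
    (hN : ∀ v : V, IsDomain (V.presheaf.stalk v) ∧ IsIntegrallyClosed (V.presheaf.stalk v))
    (hbij : Set.BijOn g (genericPoints W) (genericPoints V))
    (hiso : ∀ w ∈ genericPoints W, IsIso (g.stalkMap w)) : IsIso g := by
  have : IsReduced V := by
    have : ∀ v : V, _root_.IsReduced (V.presheaf.stalk v) := fun v => by
      have := (hN v).1; infer_instance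
    exact isReduced_of_isReduced_stalk V
  have key : ∀ v : V, ∃ V' : V.Opens, v ∈ V' ∧ IsIso (g ∣_ V') := by
    intro v
    obtain ⟨η, hη, hηv⟩ := MorLib.Birat.exists_generic v
    obtain ⟨O, hηO, hO⟩ := MorLib.Birat.exists_separating hVf hη
    let C : Set V := ⋃ η' ∈ genericPoints V \ {η}, closure {η'}
    have hC : IsClosed C := ((genericPoints.finite hVf).subset Set.sdiff_subset).isClosed_biUnion
      fun _ _ => isClosed_closure
    have hvC : v ∉ C := fun hmem => by
      obtain ⟨η', hη', hmem⟩ := Set.mem_iUnion₂.1 hmem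
      have := (hN v).1
      exact hη'.2 (unique_generic v hη'.1 hη (specializes_iff_mem_closure.2 hmem) hηv)
    obtain ⟨V', hV', hvV', hV'C⟩ :=
      exists_isAffineOpen_mem_and_subset (x := v) (U := ⟨Cᶜ, hC.isOpen_compl⟩) hvC
    have hsp : ∀ z ∈ V', η ⤳ z := fun z hz => by
      obtain ⟨η', hη', hsp⟩ := MorLib.Birat.exists_generic z
      by_cases he : η' = η
      · exact he ▸ hsp
      · exact absurd (Set.mem_iUnion₂.2 ⟨η', ⟨hη', he⟩, specializes_iff_mem_closure.1 hsp⟩) (hV'C hz)
    refine ⟨V', hvV', ?_⟩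
    have hηV : η ∈ V' := (hsp v hvV').mem_open V'.2 hvV'
    haveI : Nonempty (V' : Scheme.{u}) := ⟨⟨η, hηV⟩⟩
    haveI hdom : IsDomain Γ(V, V') := MorLib.Birat.isDomain_of_generic hV' hηV hsp
    haveI : IsAffine (V' : Scheme.{u}) := hV'
    obtain ⟨x, hx, hxη⟩ := hbij.surjOn hη
    have hgx : ∀ w ∈ g ⁻¹ᵁ V', x ⤳ w := fun w hw => by
      obtain ⟨x', hx', hsp'⟩ := MorLib.Birat.exists_generic w
      have h1 : g x' ∈ V' := (hsp'.map g.continuous).mem_open V'.2 hw
      have h2 : g x' = η := (MorLib.Birat.eq_of_specializes_generic (hbij.mapsTo hx') (hsp _ h1)).symm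
      exact hbij.injOn hx' hx (h2.trans hxη.symm) ▸ hsp'
    have hxW : x ∈ g ⁻¹ᵁ V' := show g x ∈ V' from hxη ▸ hηV
    haveI : IsAffine (g ⁻¹ᵁ V' : Scheme.{u}) := hV'.preimage g
    haveI : Nonempty (g ⁻¹ᵁ V' : Scheme.{u}) := ⟨⟨x, hxW⟩⟩
    haveI : IrreducibleSpace (g ⁻¹ᵁ V' : Scheme.{u}) := by
      rw [irreducibleSpace_def]
      have h1 : (Set.univ : Set (g ⁻¹ᵁ V' : Scheme.{u})) = closure {(⟨x, hxW⟩ : (g ⁻¹ᵁ V' : Scheme.{u}))} :=
        (Set.eq_univ_of_forall fun z => specializes_iff_mem_closure.mp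
          (((g ⁻¹ᵁ V').ι.isOpenEmbedding.toIsEmbedding.isInducing.specializes_iff (x := (⟨x, hxW⟩ : (g ⁻¹ᵁ V' : Scheme.{u}))) (y := z)).mp (hgx z.1 z.2))).symm
      show IsIrreducible (Set.univ : Set (g ⁻¹ᵁ V' : Scheme.{u}))
      rw [h1]
      exact isIrreducible_singleton.closure
    haveI : IrreducibleSpace (V' : Scheme.{u}) := by
      rw [irreducibleSpace_def]
      have h1 : (Set.univ : Set (V' : Scheme.{u})) = closure {(⟨η, hηV⟩ : (V' : Scheme.{u}))} :=
        (Set.eq_univ_of_forall fun z => specializes_iff_mem_closure.mp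
          ((V'.ι.isOpenEmbedding.toIsEmbedding.isInducing.specializes_iff (x := (⟨η, hηV⟩ : (V' : Scheme.{u}))) (y := z)).mp (hsp z.1 z.2))).symm
      show IsIrreducible (Set.univ : Set (V' : Scheme.{u}))
      rw [h1]
      exact isIrreducible_singleton.closure
    haveI : IsIntegral (V' : Scheme.{u}) := isIntegral_of_irreducibleSpace_of_isReduced _
    haveI : IsIntegral (g ⁻¹ᵁ V' : Scheme.{u}) := isIntegral_of_irreducibleSpace_of_isReduced _
    haveI : IsIntegralHom (g ∣_ V') := IsZariskiLocalAtTarget.restrict ‹_› V'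
    have hx' : genericPoint (g ⁻¹ᵁ V' : Scheme.{u}) = ⟨x, hxW⟩ := (genericPoint_spec _).eq
      (Set.eq_univ_of_forall fun z => specializes_iff_mem_closure.mp
        (((g ⁻¹ᵁ V').ι.isOpenEmbedding.toIsEmbedding.isInducing.specializes_iff (x := (⟨x, hxW⟩ : (g ⁻¹ᵁ V' : Scheme.{u}))) (y := z)).mp (hgx z.1 z.2)))
    have hη' : genericPoint (V' : Scheme.{u}) = ⟨η, hηV⟩ := (genericPoint_spec _).eq
      (Set.eq_univ_of_forall fun z => specializes_iff_mem_closure.mp
        ((V'.ι.isOpenEmbedding.toIsEmbedding.isInducing.specializes_iff (x := (⟨η, hηV⟩ : (V' : Scheme.{u}))) (y := z)).mp (hsp z.1 z.2)))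
    have hgen : (g ∣_ V') (genericPoint (g ⁻¹ᵁ V' : Scheme.{u})) = genericPoint (V' : Scheme.{u}) := by
      rw [hx', hη']
      refine V'.ι.isOpenEmbedding.injective ?_
      rw [← Scheme.Hom.comp_apply, morphismRestrict_ι, Scheme.Hom.comp_apply]
      exact hxη
    haveI : IsIso ((g ∣_ V').stalkMap (genericPoint (g ⁻¹ᵁ V' : Scheme.{u}))) := by
      rw [hx']
      have := hiso x hx
      have h1 : IsIso (((g ∣_ V') ≫ V'.ι).stalkMap ⟨x, hxW⟩) :=
        isIso_stalkMap_congr (morphismRestrict_ι g V').symm (by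
          rw [Scheme.Hom.stalkMap_comp]
          exact IsIso.comp_isIso' this inferInstance)
      rw [Scheme.Hom.stalkMap_comp] at h1
      exact IsIso.of_isIso_comp_left (V'.ι.stalkMap _) _
    haveI : IsIso ((V' : Scheme.{u}).presheaf.stalkSpecializes (specializes_of_eq hgen)) :=
      Groth.Agent.BirNormal.isIso_stalkSpecializes_of_eq hgen _
    refine Groth.Agent.BirNormal.isIso_of_isIntegralHom (g ∣_ V') (fun U hne hU => ?_) hgen
      ((ConcreteCategory.isIso_iff_bijective _).1 inferInstance)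
    refine (Groth.Agent.S9821.result (V' : Scheme.{u})).1 (fun z => ?_) U hU
    let e := (asIso (V'.ι.stalkMap z)).commRingCatIsoToRingEquiv
    obtain ⟨hd, hn⟩ := hN (V'.ι z)
    exact ⟨e.symm.toMulEquiv.isDomain _, IsIntegrallyClosed.of_equiv e⟩
  choose V' hvV' hV' using key
  exact IsZariskiLocalAtTarget.of_iSup_eq_top (P := MorphismProperty.isomorphisms Scheme) V'
    (top_unique fun v _ => Opens.mem_iSup.2 ⟨v, hvV' v⟩) hV'

variable {S : Scheme.{u}}

theorem isNormal_chart {Z : Sp S}
    (hn : EtaleLocally (fun T => ∀ t : ↥T, IsDomain ↥(T.presheaf.stalk t) ∧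
      IsIntegrallyClosed ↥(T.presheaf.stalk t)) Z) {U : Over S} {a : (yon S).obj U ⟶ Z}
    (ha : RepWith @Etale a) :
    ∀ t : ↥U.left, IsDomain ↥(U.left.presheaf.stalk t) ∧ IsIntegrallyClosed ↥(U.left.presheaf.stalk t) := by
  obtain ⟨V, b, hb, hb', hV⟩ := hn
  have : Etale (hb.rep.snd a).left := hb.property_snd a
  have : Surjective (hb.rep.snd a).left := hb'.property _ _ _ (hb.rep.isPullback a)
  have : Etale (hb.rep.fst' a).left := ha.property _ _ _ (hb.rep.isPullback' a).flip
  intro t
  obtain ⟨z, rfl⟩ := (hb.rep.snd a).left.surjective t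
  exact (Groth.Agent.EtStalk.normal_stalk_iff (hb.rep.snd a).left z).1
    ((Groth.Agent.EtStalk.normal_stalk_iff (hb.rep.fst' a).left z).2 (hV _))

/-- Birational morphisms between schemes, seen as morphisms of spaces. -/
theorem birational_of_isBirational_yon_map {W V : Over S} (g : W ⟶ V)
    (h : W4stk3decentspacesp2.IsBirational ((yon S).map g)) :
    Set.BijOn g.left (genericPoints ↥W.left) (genericPoints ↥V.left) ∧
      ∀ w ∈ genericPoints ↥W.left, IsIso (g.left.stalkMap w) := by
  have hmap : ∀ w, Points.map ((yon S).map g) (Points.schemeHomeo W w) =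
      Points.schemeHomeo V (g.left w) := fun w => Points.map_yon_map_apply _ _
  have hgen : ∀ {T : Over S} (t : ↥T.left),
      t ∈ genericPoints ↥T.left ↔ Points.schemeHomeo T t ∈ genericPoints (Points ((yon S).obj T)) :=
    fun t => mem_genericPoints_iff (Points.schemeHomeo _).isOpenEmbedding
  refine ⟨⟨fun w hw => ?_, fun w hw w' hw' he => ?_, fun v hv => ?_⟩, fun w hw => ?_⟩
  · rw [hgen, ← hmap]
    exact h.bijOn.mapsTo ((hgen w).1 hw)
  · exact (Points.schemeHomeo W).injective
      (h.bijOn.injOn ((hgen w).1 hw) ((hgen w').1 hw') (by rw [hmap, hmap, he]))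
  · obtain ⟨p, hp, hpv⟩ := h.bijOn.surjOn ((hgen v).1 hv)
    obtain ⟨w, rfl⟩ := (Points.schemeHomeo W).surjective p
    exact ⟨w, (hgen w).2 hp, (Points.schemeHomeo V).injective ((hmap w).symm.trans hpv)⟩
  · obtain ⟨U, V', a, b, g', u, ha, hb, w', hu, hiso⟩ := h.stalkIso _ ((hgen w).1 hw)
    obtain ⟨φ, rfl⟩ := (yon S).map_surjective a
    obtain ⟨ψ, rfl⟩ := (yon S).map_surjective b
    have : IsOpenImmersion φ.left := (repWith_yon_map_iff @IsOpenImmersion φ).1 ha
    have : IsOpenImmersion ψ.left := (repWith_yon_map_iff @IsOpenImmersion ψ).1 hb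
    rw [← CategoryTheory.Functor.map_comp, ← CategoryTheory.Functor.map_comp] at w'
    have e : φ.left ≫ g.left = g'.left ≫ ψ.left := congrArg (fun k => k.left) ((yon S).map_injective w')
    have h2 : IsIso ((φ.left ≫ g.left).stalkMap u) := by
      refine isIso_stalkMap_congr e.symm ?_
      rw [Scheme.Hom.stalkMap_comp]
      exact IsIso.comp_isIso' inferInstance hiso
    rw [Scheme.Hom.stalkMap_comp] at h2
    have h3 := IsIso.of_isIso_comp_right (g.left.stalkMap (φ.left u)) (φ.left.stalkMap u)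
    have hφu : φ.left u = w := by
      refine (Points.schemeHomeo W).injective (Eq.trans ?_ hu)
      rw [Points.ofPt_eq_map_ofScheme]
      exact (Points.map_yon_map_apply _ _).symm
    exact hφu ▸ h3

theorem isIso_of_isIntegralMor {X Y : Space S} (f : X ⟶ Y) (hX : IsDecent X.obj) (hY : IsDecent Y.obj)
    (hXf : (irreducibleComponents (Points X.obj)).Finite)
    (hYf : (irreducibleComponents (Points Y.obj)).Finite) (hi : IsIntegralMor f.hom)
    (hf : W4stk3decentspacesp2.IsBirational f.hom)
    (hYn : EtaleLocally (fun T => ∀ t : ↥T, IsDomain ↥(T.presheaf.stalk t) ∧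
      IsIntegrallyClosed ↥(T.presheaf.stalk t)) Y.obj)
    (hXr : EtaleLocally (fun T => IsReduced T) X.obj) : IsIso f.hom := by
  have hr := isIntegralMor_iff_repWith.1 hi
  obtain ⟨U, a, ha, has⟩ := Y.property.atlas
  have := isLocallySurjective_of_etale_surjective ha has
  suffices IsIso (hr.rep.snd a).left by
    have : IsIso (hr.rep.snd a) := by
      have : IsIso ((Over.forget S).map (hr.rep.snd a)) := this
      exact isIso_of_reflects_iso _ (Over.forget S)
    exact isIso_of_isPullback_locallySurjective (hr.rep.isPullback a)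
  refine IsZariskiLocalAtTarget.of_iSup_eq_top (P := MorphismProperty.isomorphisms Scheme)
    (fun O : U.left.affineOpens => O.1) (iSup_affineOpens_eq_top _) fun ⟨O, hO⟩ => ?_
  show IsIso ((hr.rep.snd a).left ∣_ O)
  let ι : Over.mk (O.ι ≫ U.hom) ⟶ U := Over.homMk O.ι rfl
  have hOaff : IsAffine (Over.mk (O.ι ≫ U.hom)).left := hO
  have hι : IsOpenImmersion ι.left := inferInstanceAs (IsOpenImmersion O.ι)
  have hb : RepWith @Etale ((yon S).map ι ≫ a) :=
    repWith_comp ((repWith_yon_map_iff @Etale ι).2 inferInstance) ha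
  let W := hr.rep.pullback ((yon S).map ι ≫ a)
  let g := hr.rep.snd ((yon S).map ι ≫ a)
  have sq := hr.rep.isPullback ((yon S).map ι ≫ a)
  obtain ⟨-, -, hVf, hbir⟩ := isBirational_baseChange f hX hY hXf hYf hf _ hb _ _ sq
  obtain ⟨hbij, hiso⟩ := birational_of_isBirational_yon_map g hbir
  have : IsIntegralHom g.left := hr.property_snd _
  have : IsReduced W.left := isReduced_chart hXr (repWith_of_isPullback sq.flip hb)
  have hg : IsIso g.left := isIso_of_isIntegralHom_birational g.left
    (finite_components (Points.schemeHomeo _).isOpenEmbedding hVf) (isNormal_chart hYn hb) hbij hiso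
  -- compare with the restriction
  let l : W ⟶ hr.rep.pullback a := hr.rep.lift (hr.rep.fst _) (g ≫ ι)
    (by rw [sq.w, CategoryTheory.Functor.map_comp, Category.assoc])
  have sql : IsPullback ((yon S).map l) ((yon S).map g) ((yon S).map (hr.rep.snd a)) ((yon S).map ι) := by
    refine IsPullback.of_right ?_ ?_ (hr.rep.isPullback a)
    · rw [hr.rep.lift_fst]; exact sq
    · rw [← CategoryTheory.Functor.map_comp, ← CategoryTheory.Functor.map_comp, hr.rep.lift_snd]
  have sq2 := (IsPullback.of_map (yon S) (by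
    exact (yon S).map_injective (by simpa using sql.w)) sql).map (Over.forget S)
  have sq3 := (isPullback_morphismRestrict (hr.rep.snd a).left O).flip
  let e := sq3.isoIsPullback _ _ sq2
  rw [← sq3.isoIsPullback_hom_snd _ _ sq2]
  exact IsIso.comp_isIso' inferInstance hg

end Groth.Agent.AlgSpDec.BiratSp
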