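import Groth.Agent.AlgSpDec.AffineClassQuot
import Groth.Agent.AlgSpPts.Univ
import Groth.Prelude.Def_AlgSpMor5

/-!
Open subschemes of spaces with a finite locally free cover around classes contained in affine opens.
-/

set_option autoImplicit false
set_option backward.isDefEq.respectTransparency false
set_option backward.isDefEq.respectTransparency.types false

universe u

open CategoryTheory CategoryTheory.Limits AlgebraicGeometry AlgSp Groth.Agent.AlgSpLib Groth.Agent.AlgSpPts

namespace Groth.Agent.AlgSpDec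

variable {S : Scheme.{u}} {X : Sp S} {U : Over S}

theorem isLocallySurjective_of_finLocFree {F G : Sp S} {f : F ⟶ G} (he : RepWith finLocFree f)
    (hs : RepWith @Surjective f) : Sheaf.IsLocallySurjective f := by
  refine isLocallySurjective_of_repWith ⟨he.1, fun a b g fst snd h => ?_⟩
  have h' : Mor2.IsFinLocFree snd.left := he.2 g fst snd h
  haveI : Flat snd.left := h'.2.1
  haveI : LocallyOfFinitePresentation snd.left := h'.2.2
  have : Surjective snd.left := hs.2 g fst snd h
  exact fppf_of snd.left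

theorem isOpenMap_ofPt_finLocFree {a : (yon S).obj U ⟶ X} (ha : RepWith finLocFree a) : IsOpenMap (Points.ofPt a) := by
  have h : IsOpenMap (Points.map a) := isOpenMap_map (repWith_mono (P := finLocFree) (fun _ _ g hg => by
    haveI : Flat g := hg.2.1
    haveI : LocallyOfFinitePresentation g := hg.2.2
    exact UniversallyOpen.of_flat g) _ ha)
  have : Points.ofPt a = Points.map a ∘ Points.ofScheme U := funext fun x => Points.ofPt_eq_map_ofScheme a x
  rw [this]
  exact h.comp (Points.schemeHomeo U).isOpenMap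

theorem exists_iso_of_affine_finLocFree (a : (yon S).obj U ⟶ X) (ha : RepWith finLocFree a) (hs : RepWith @Surjective a) [IsAffine U.left] :
    ∃ Z : Over S, Nonempty ((yon S).obj Z ≅ X) := by
  let R := ha.rep.pullback a
  let t : R ⟶ U := ha.rep.fst' a
  let s : R ⟶ U := ha.rep.snd a
  have sq : IsPullback ((yon S).map t) ((yon S).map s) a a := ha.rep.isPullback' a
  have hsl : Mor2.IsFinLocFree s.left := ha.property_snd a
  obtain ⟨G, hU, hR, hgs, hgt, hpU, hpR⟩ := exists_groupoid_over sq
  obtain ⟨GU, GR, pU, pR, gs, gt, ge, gi, gc, h1, h2, h3, h4, h5, h6, h7, h8, h9, h10, h11, h12, h13⟩ := G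
  subst hU hR
  obtain rfl : gs = s.left := eq_of_heq hgs
  obtain rfl : gt = t.left := eq_of_heq hgt
  obtain rfl : pU = U.hom := eq_of_heq hpU
  obtain rfl : pR = R.hom := eq_of_heq hpR
  let G : Grpd.GroupoidScheme S :=
    ⟨_, _, U.hom, R.hom, _, _, ge, gi, gc, h1, h2, h3, h4, h5, h6, h7, h8, h9, h10, h11, h12, h13⟩
  have hfl : Mor2.IsFinLocFree G.s := hsl
  have heq : AlgSp.IsEqvRel s t := by
    refine ⟨fun T r r' ht' hs' => ?_, fun T => ⟨fun y => ?_, ?_, ?_⟩⟩
    · exact Over.OverMorphism.ext (rel_ext sq (congrArg Over.Hom.left ht') (congrArg Over.Hom.left hs'))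
    · exact exists_rel_lift sq y y rfl
    · rintro y z ⟨r, rfl, rfl⟩
      refine exists_rel_lift sq _ _ ?_
      rw [(yon S).map_comp r t, (yon S).map_comp r s, Category.assoc, Category.assoc, sq.w]
    · rintro y z w ⟨r, rfl, hr⟩ ⟨r', rfl, rfl⟩
      refine exists_rel_lift sq _ _ ?_
      rw [(yon S).map_comp r t, Category.assoc, sq.w, ← Category.assoc, ← (yon S).map_comp r s, hr,
        (yon S).map_comp r' t, Category.assoc, sq.w, ← Category.assoc, ← (yon S).map_comp r' s]
  obtain ⟨M, m, hm, hmsurj, hpb, -⟩ := FinLocFreeQuot.exists_quotient G hfl heq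
    (fun Z _ ⟨z, hz⟩ => ⟨z, hz, ⊤, isAffineOpen_top U.left, fun _ _ => trivial⟩)
  let m' : U ⟶ M := m
  haveI : Flat m'.left := hm.2.1
  haveI : LocallyOfFinitePresentation m'.left := hm.2.2
  haveI : Surjective m'.left := hmsurj
  haveI : Sheaf.IsLocallySurjective a := isLocallySurjective_of_finLocFree ha hs
  haveI : Sheaf.IsLocallySurjective ((yon S).map m') :=
    isLocallySurjective_of_repWith ((repWith_yon_map_iff fppf m').2 (fppf_of m'.left))
  haveI : Epi a := (Sheaf.isLocallySurjective_iff_epi a).1 inferInstance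
  haveI : Epi ((yon S).map m') := (Sheaf.isLocallySurjective_iff_epi _).1 inferInstance
  have hpb' : IsPullback ((yon S).map t) ((yon S).map s) ((yon S).map m') ((yon S).map m') :=
    (IsPullback.of_map (Over.forget S) (f := t) (g := s) (h := m') (i := m')
      (Over.OverMorphism.ext hpb.w) hpb).map (yon S)
  exact ⟨M, nonempty_iso_of_same_kernelPair _ _ _ _ hpb' sq⟩

/-- A point whose class lies in an affine open of a finite etale chart has an open neighbourhood which is a scheme. -/
theorem exists_open_subscheme_of_finLocFree (hX : IsAlgSpace X) (a : (yon S).obj U ⟶ X) (ha : RepWith finLocFree a) (hs : RepWith @Surjective a) {V : U.left.Opens} (hV : IsAffineOpen V) (u : U.left)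
    (huV : Points.ofPt a ⁻¹' {Points.ofPt a u} ⊆ (V : Set U.left)) :
    ∃ (T : Over S) (j : (yon S).obj T ⟶ X),
      RepWith @IsOpenImmersion j ∧ Points.ofPt a u ∈ Set.range (Points.map j) := by
  let R := ha.rep.pullback a
  let t : R ⟶ U := ha.rep.fst' a
  let s : R ⟶ U := ha.rep.snd a
  have sq : IsPullback ((yon S).map t) ((yon S).map s) a a := ha.rep.isPullback' a
  obtain ⟨G, hU, hR, hgs, hgt⟩ := exists_groupoid sq
  obtain ⟨GU, GR, pU, pR, gs, gt, ge, gi, gc, h1, h2, h3, h4, h5, h6, h7, h8, h9, h10, h11, h12, h13⟩ := G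
  subst hU hR
  obtain rfl : gs = s.left := eq_of_heq hgs
  obtain rfl : gt = t.left := eq_of_heq hgt
  let G : Grpd.GroupoidScheme S :=
    ⟨_, _, pU, pR, _, _, ge, gi, gc, h1, h2, h3, h4, h5, h6, h7, h8, h9, h10, h11, h12, h13⟩
  have hG : Mor2.IsFinLocFree G.s := ha.property_snd a
  haveI : IsFinite G.s := hG.1
  haveI : Flat G.s := hG.2.1
  haveI : LocallyOfFinitePresentation G.s := hG.2.2
  have hrel : ∀ r : R.left, Points.ofPt a (t.left r) = Points.ofPt a (s.left r) := fun r => by
    rw [← ofPt_comp, ← ofPt_comp, sq.w]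
  obtain ⟨W, hW, huW, hinv, -⟩ := GrpdLib.exists_invariant_affineOpen (G := G) u V hV
    (fun r hr => huV (show Points.ofPt a (t.left r) = _ from (hrel r).trans (by rw [← hr])))
  have hpre : Points.ofPt a ⁻¹' (Points.ofPt a '' (W : Set U.left)) = W := by
    refine Set.Subset.antisymm ?_ fun x hx => ⟨x, hx, rfl⟩
    rintro x ⟨w, hw, e⟩
    obtain ⟨r, hr₁, hr₂⟩ := exists_ofPt_of_eq sq (u := w) (v := x) e
    rw [← hr₂]
    have hw' : G.t r ∈ W := by
      show t.left r ∈ W
      rw [hr₁]; exact hw
    exact (hinv.mem_iff r).2 hw'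
  obtain ⟨O, j, hO, hj, hrange⟩ :=
    exists_open_subspace hX (isOpenMap_ofPt_finLocFree ha _ W.isOpen)
  let P := hj.rep.pullback a
  let i : P ⟶ U := hj.rep.snd a
  haveI : IsOpenImmersion i.left := hj.property_snd a
  have hPr : i.left.opensRange = W := TopologicalSpace.Opens.ext (by
    show Set.range i.left = (W : Set U.left)
    rw [← hpre, ← hrange]
    ext x
    constructor
    · rintro ⟨p, rfl⟩
      exact ⟨Points.ofPt (hj.rep.fst a) p, by rw [Points.map_ofPt, hj.rep.w a, ofPt_comp]⟩
    · rintro ⟨z, hz⟩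
      obtain ⟨w, -, hw⟩ := exists_point_of_isPullback (hj.rep.isPullback a) (x := z)
        (y := Points.ofScheme U x) (hz.trans (Points.ofPt_eq_map_ofScheme a x))
      obtain ⟨w, rfl⟩ := (Points.schemeHomeo _).surjective w
      exact ⟨w, (Points.schemeHomeo U).injective ((Points.map_yon_map_apply i w).symm.trans hw)⟩)
  haveI : IsAffine i.left.opensRange.toScheme := hPr ▸ hW
  haveI : IsAffine P.left := IsAffine.of_isIso i.left.isoOpensRange.hom
  have sqP := hj.rep.isPullback a
  obtain ⟨Z, ⟨e⟩⟩ := exists_iso_of_affine_finLocFree (X := O) (hj.rep.fst a)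
    (repWith_of_isPullback sqP.flip ha) (repWith_of_isPullback sqP.flip hs)
  refine ⟨Z, e.hom ≫ j, repWith_comp (repWith_of_isIso _ e.hom) hj, ?_⟩
  obtain ⟨z, hz⟩ : Points.ofPt a u ∈ Set.range (Points.map j) := hrange.symm.subset ⟨u, huW, rfl⟩
  exact ⟨Points.map e.inv z, by rw [← Points.map_comp, e.inv_hom_id_assoc, hz]⟩

end Groth.Agent.AlgSpDec
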