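import Groth.Agent.AlgSpDec.LimAffineStage
import Groth.Agent.AlgSpDec.LimDescentRep
import Groth.Agent.AlgSpDec.FinLocFreeClass
import Groth.Agent.AlgSpDec.AffineRep
import Groth.Agent.AlgSpLib.LocalBaseTop
import Groth.Agent.EtFound.Descent
import Groth.Agent.Pi1Ext.SepClosureLim

/-!
Affineness of a space over a field after base change to an algebraic extension.
-/

set_option autoImplicit false
set_option maxHeartbeats 800000
set_option backward.isDefEq.respectTransparency false
set_option backward.isDefEq.respectTransparency.types false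

universe u

open CategoryTheory CategoryTheory.Limits AlgebraicGeometry AlgSp Groth.Agent.AlgSpLib Groth.Agent.AlgSpPts
open Groth.Agent.Pi1Ext Opposite

namespace Groth.Agent.AlgSpDec.AffineAlgClosure

variable {k : Type u} [Field k] (K : Type u) [Field K] [Algebra k K]

local notation "𝐒" => Spec (CommRingCat.of k)

/-- The point of an extension. -/
noncomputable abbrev fpt : Over 𝐒 := Over.mk (Spec.map (CommRingCat.ofHom (algebraMap k K)))

/-- The spectra of the finitely generated subextensions over the base. -/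
noncomputable def specsOver : (Finset K)ᵒᵖ ⥤ Over 𝐒 where
  obj s := Over.mk (SepLim.str k K s)
  map g := Over.homMk ((SepLim.specs k K).map g) (SepLim.str_map k K g)
  map_id s := Over.OverMorphism.ext ((SepLim.specs k K).map_id s)
  map_comp g h := Over.OverMorphism.ext ((SepLim.specs k K).map_comp g h)

/-- The cone with point the extension. -/
noncomputable def specConeOver : Cone (specsOver (k := k) K) where
  pt := fpt K
  π :=
    { app := fun s => Over.homMk ((SepLim.specCone k K).π.app s) (SepLim.str_cone k K s)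
      naturality := fun s t g => Over.OverMorphism.ext ((Category.id_comp _).trans ((SepLim.specCone k K).w g).symm) }

/-- It is a limit. -/
noncomputable def isLimitSpecConeOver : IsLimit (specConeOver (k := k) K) := by
  classical
  let L (s : Cone (specsOver (k := k) K)) : s.pt.left ⟶ (SepLim.specCone k K).pt :=
    (SepLim.isLimitSpec k K).lift ((Over.forget 𝐒).mapCone s)
  have hL : ∀ (s : Cone (specsOver (k := k) K)) j, L s ≫ (SepLim.specCone k K).π.app j = (s.π.app j).left :=
    fun s j => (SepLim.isLimitSpec k K).fac ((Over.forget 𝐒).mapCone s) j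
  refine ⟨fun s => Over.homMk (L s) ?_, fun s j => Over.OverMorphism.ext (hL s j), fun s m hm =>
    Over.OverMorphism.ext ((SepLim.isLimitSpec k K).uniq ((Over.forget 𝐒).mapCone s) m.left
      fun j => congrArg (fun q => q.left) (hm j))⟩
  show L s ≫ Spec.map _ = s.pt.hom
  rw [← SepLim.str_cone k K (op ∅), ← Category.assoc, hL]
  exact Over.w (s.π.app (op ∅))

theorem repWith_yon_map_finite {s t : (Finset K)ᵒᵖ} [Algebra.IsAlgebraic k K] (g : s ⟶ t) :
    RepWith @IsAffineHom ((yon 𝐒).map ((specsOver (k := k) K).map g)) := by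
  refine (repWith_yon_map_iff _ _).2 ?_
  show IsAffineHom ((SepLim.specs k K).map g)
  haveI : IsAffine ((SepLim.specs k K).obj s) := inferInstanceAs (IsAffine (Spec _))
  haveI : IsAffine ((SepLim.specs k K).obj t) := inferInstanceAs (IsAffine (Spec _))
  infer_instance

theorem exists_affine [IsAlgClosure k K] (X : Space 𝐒) (hqs : IsQuasiSeparatedSp X.obj) (T : Over 𝐒)
    (hT : IsAffine T.left) (e : X.obj ⨯ (yon 𝐒).obj (fpt K) ≅ (yon 𝐒).obj T) :
    ∃ U : Over 𝐒, IsAffine U.left ∧ Nonempty (X.obj ≅ (yon 𝐒).obj U) := by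
  classical
  haveI : Algebra.IsAlgebraic k K := IsAlgClosure.isAlgebraic
  haveI : IsAffine T.left := hT
  have hterm := isTerminalYon 𝐒
  let q : X.obj ⟶ (yon 𝐒).obj (Over.mk (𝟙 𝐒)) := hterm.from _
  have sqP : ∀ Y : Sp 𝐒, IsPullback (prod.fst : X.obj ⨯ Y ⟶ _) prod.snd q (hterm.from Y) := fun Y =>
    IsPullback.of_is_product' (prodIsProd _ _) hterm
  have hfst : ∀ (V : Over 𝐒) {P : MorphismProperty Scheme.{u}} [P.IsStableUnderBaseChange], P V.hom →
      RepWith P (prod.fst : X.obj ⨯ (yon 𝐒).obj V ⟶ _) := fun V {P} _ hV => by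
    refine repWith_of_isPullback (sqP _).flip ?_
    rw [hterm.hom_ext (hterm.from ((yon 𝐒).obj V)) ((yon 𝐒).map (Over.homMk V.hom : V ⟶ Over.mk (𝟙 𝐒)))]
    exact (repWith_yon_map_iff _ _).2 hV
  -- quasi-compactness
  have hKs : RepWith @Surjective (prod.fst : X.obj ⨯ (yon 𝐒).obj (fpt K) ⟶ _) :=
    hfst (fpt K) (show Surjective (Spec.map (CommRingCat.ofHom (algebraMap k K))) from
      ⟨fun x => ⟨IsLocalRing.closedPoint K, @Subsingleton.elim _ (inferInstanceAs (Subsingleton (PrimeSpectrum k))) _ _⟩⟩)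
  haveI : CompactSpace T.left := inferInstance
  haveI : CompactSpace (Points X.obj) := by
    refine ⟨?_⟩
    have hsurj : Function.Surjective (Points.ofPt (e.inv ≫ prod.fst)) :=
      surjective_ofPt (repWith_comp (repWith_of_isIso _ e.inv) hKs)
    rw [← hsurj.range_eq]
    exact isCompact_range (Points.continuous_ofPt _)
  have hqc : IsQuasiCompactSp X.obj := isQuasiCompactSp_of_compactSpace X.property
  -- the system
  let D : (Finset K)ᵒᵖ ⥤ Sp 𝐒 :=
    { obj := fun s => X.obj ⨯ (yon 𝐒).obj ((specsOver (k := k) K).obj s)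
      map := fun g => prod.map (𝟙 _) ((yon 𝐒).map ((specsOver (k := k) K).map g))
      map_id := fun s => by simp
      map_comp := fun g h => by simp }
  have hD : ∀ s, IsAlgSpace (D.obj s) := fun s =>
    isAlgSpace_of_isPullback (sqP _) X.property (IsAlgSpace.yon_obj _) (IsAlgSpace.yon_obj _)
  have haff : ∀ V : Over 𝐒, IsAffine V.left → RepWith @IsAffineHom (prod.fst : X.obj ⨯ (yon 𝐒).obj V ⟶ _) :=
    fun V hV => hfst V (by haveI := hV; infer_instance)
  have hDaff : ∀ s, RepWith @IsAffineHom (prod.fst : D.obj s ⟶ X.obj) := fun s =>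
    haff _ (inferInstanceAs (IsAffine (Spec _)))
  have hDa : ∀ (s t : (Finset K)ᵒᵖ) (g : s ⟶ t), IsAffineMor (D.map g) := fun s t g => by
    have hsq : IsPullback (prod.snd : D.obj s ⟶ _) (D.map g) ((yon 𝐒).map ((specsOver (k := k) K).map g)) prod.snd := by
      refine (IsPullback.of_right (h₁₂ := prod.fst) (v₁₃ := q) (h₂₂ := hterm.from _) ?_ (by simp [D]) (sqP _)).flip
      rw [hterm.hom_ext ((yon 𝐒).map ((specsOver (k := k) K).map g) ≫ hterm.from _) (hterm.from _)]
      simpa [D] using sqP ((yon 𝐒).obj ((specsOver (k := k) K).obj s))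
    exact isAffineMor_of_repWith le_rfl (repWith_of_isPullback hsq (repWith_yon_map_finite K g))
  have hDqc : ∀ s, IsQuasiCompactSp (D.obj s) := fun s => isQuasiCompactSp_of_affine X.property prod.fst (hDaff s) hqc
  have hDqs : ∀ s, IsQuasiSeparatedSp (D.obj s) := fun s => isQuasiSeparatedSp_of_affine prod.fst (hDaff s) hqs
  let c : Cone D :=
    { pt := X.obj ⨯ (yon 𝐒).obj (fpt K)
      π := { app := fun s => prod.map (𝟙 _) ((yon 𝐒).map ((specConeOver (k := k) K).π.app s))
             naturality := fun s t g => by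
              show 𝟙 _ ≫ _ = _ ≫ prod.map _ _
              rw [Category.id_comp, prod.map_map, Category.comp_id, ← Functor.map_comp, (specConeOver (k := k) K).w g] } }
  have hl := isLimitOfPreserves (yon 𝐒) (isLimitSpecConeOver (k := k) K)
  let proj (σ : Cone D) : Cone (specsOver (k := k) K ⋙ yon 𝐒) :=
    { pt := σ.pt
      π := { app := fun j => σ.π.app j ≫ prod.snd
             naturality := fun j j' g => by
              show 𝟙 _ ≫ _ = _
              rw [Category.id_comp, ← σ.w g]
              simp [D] } }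
  have hl' : ∀ (σ : Cone D) j, hl.lift (proj σ) ≫ (yon 𝐒).map ((specConeOver (k := k) K).π.app j) =
      σ.π.app j ≫ prod.snd := fun σ j => hl.fac (proj σ) j
  have hfstc : ∀ (σ : Cone D) j, σ.π.app j ≫ prod.fst = σ.π.app (op ∅) ≫ prod.fst := fun σ j => by
    rw [← σ.w (homOfLE (Finset.empty_subset j.unop)).op]
    simp [D]
  have hc : IsLimit c := by
    refine ⟨fun σ => prod.lift (σ.π.app (op ∅) ≫ prod.fst) (hl.lift (proj σ)), fun σ j => ?_, fun σ m hm => ?_⟩
    · refine Limits.prod.hom_ext ?_ ?_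
      · simp [c, hfstc σ j]
      · simp [c, hl' σ j]
    · refine Limits.prod.hom_ext ?_ ?_
      · rw [prod.lift_fst, ← hm (op ∅)]; simp [c]
      · rw [prod.lift_snd]
        refine hl.uniq (proj σ) (m ≫ prod.snd) fun j => ?_
        show (m ≫ prod.snd) ≫ (yon 𝐒).map _ = σ.π.app j ≫ prod.snd
        rw [← hm j]
        simp [c]
  obtain ⟨s, T', hT', ⟨e'⟩⟩ := exists_isAffine_stage D hD hDa hDqc hDqs c hc T hT e.symm
  haveI : IsAffine T'.left := hT'
  let E := SepLim.sub k K s.unop
  haveI : FiniteDimensional k E :=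
    IntermediateField.finiteDimensional_adjoin fun x _ => (Algebra.IsAlgebraic.isAlgebraic x).isIntegral
  let V : Over 𝐒 := (specsOver (k := k) K).obj s
  have hfl : Mor2.IsFinLocFree V.hom := by
    show Mor2.IsFinLocFree (Spec.map (CommRingCat.ofHom (algebraMap k E)))
    exact ⟨(IsFinite.SpecMap_iff _).2 (RingHom.finite_algebraMap.2 inferInstance),
      (HasRingHomProperty.Spec_iff (P := @Flat)).2 (RingHom.flat_algebraMap_iff.2 inferInstance),
      (HasRingHomProperty.Spec_iff (P := @LocallyOfFinitePresentation)).2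
        (RingHom.finitePresentation_algebraMap.2 (Algebra.FinitePresentation.of_finiteType.1
          (Algebra.FiniteType.trans (R := k) (S := k) (A := E) inferInstance inferInstance)))⟩
  have hsurj : Surjective V.hom :=
    ⟨fun x => ⟨IsLocalRing.closedPoint E, @Subsingleton.elim _ (inferInstanceAs (Subsingleton (PrimeSpectrum k))) _ _⟩⟩
  let a : (yon 𝐒).obj T' ⟶ X.obj := e'.hom ≫ prod.fst
  have ha : RepWith finLocFree a := by
    rw [show a = e'.hom ≫ prod.fst from rfl, (RepWith finLocFree).cancel_left_of_respectsIso]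
    exact hfst V hfl
  have has : RepWith @Surjective a := repWith_comp (repWith_of_isIso _ e'.hom) (hfst V hsurj)
  obtain ⟨Z, ⟨eZ⟩⟩ := exists_iso_of_affine_finLocFree a ha has
  refine ⟨Z, ?_, ⟨eZ.symm⟩⟩
  obtain ⟨p, hp⟩ := (yon 𝐒).map_surjective (a ≫ eZ.inv)
  obtain ⟨r, hr⟩ := (yon 𝐒).map_surjective (e'.hom ≫ prod.snd)
  have sqy : IsPullback ((yon 𝐒).map p) ((yon 𝐒).map r)
      ((yon 𝐒).map (Over.homMk Z.hom : Z ⟶ Over.mk (𝟙 𝐒))) ((yon 𝐒).map (Over.homMk V.hom : V ⟶ Over.mk (𝟙 𝐒))) := by
    rw [hp, hr]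
    refine (sqP ((yon 𝐒).obj V)).of_iso e'.symm eZ.symm (Iso.refl _) (Iso.refl _) ?_ ?_ (hterm.hom_ext _ _) (hterm.hom_ext _ _)
    · simp [a, D]; rfl
    · simp [D]; rfl
  have sqS : IsPullback p.left r.left Z.hom V.hom :=
    (IsPullback.of_map (yon 𝐒) ((yon 𝐒).map_injective (by rw [Functor.map_comp, Functor.map_comp]; exact sqy.w)) sqy).map
      (Over.forget 𝐒)
  haveI : IsAffine V.left := inferInstanceAs (IsAffine (Spec _))
  haveI : IsAffineHom r.left := inferInstance
  haveI : IsFinite V.hom := hfl.1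
  haveI : Flat V.hom := hfl.2.1
  haveI := hsurj
  haveI := Groth.Agent.EtFound.fpqc_isAffineHom.{u}
  haveI : IsAffineHom Z.hom :=
    MorphismProperty.of_isPullback_of_descendsAlong (P := @IsAffineHom)
      (Q := (@Surjective ⊓ @Flat ⊓ @QuasiCompact : MorphismProperty Scheme.{u})) sqS.flip
      ⟨⟨inferInstance, inferInstance⟩, inferInstance⟩ (inferInstanceAs (IsAffineHom r.left))
  exact isAffine_of_isAffineHom Z.hom

end Groth.Agent.AlgSpDec.AffineAlgClosure
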