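import Groth.Prelude.Def_W4stk3decentspacesp2Birat
import Groth.Agent.AlgSpDec.DecentDense
import Groth.Agent.AlgSpDec.Fibres
import Groth.Agent.AlgSpDec.Factor
import Groth.Agent.AlgSpDec.LimOpen
import Groth.Agent.AlgSpDec.PointsSpectral
import Groth.Agent.AlgSpPts.InjEtale
import Groth.Agent.MorLib.Birat

/-!
# Birational morphisms of decent algebraic spaces

Reduction to birational morphisms of schemes: dense open subschemes through all generic points, and
the fact that only generic points lie over generic points.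
-/

set_option autoImplicit false
set_option backward.isDefEq.respectTransparency false
set_option backward.isDefEq.respectTransparency.types false

universe u

open CategoryTheory CategoryTheory.Limits AlgebraicGeometry AlgSp Topology TopologicalSpace
  Groth.Agent.AlgSpLib Groth.Agent.AlgSpPts Groth.Agent.AlgSpDec

namespace Groth.Agent.AlgSpDec.BiratSp

section Top

variable {A B : Type*} [TopologicalSpace A] [TopologicalSpace B]

theorem eq_of_specializes_generic [T0Space B] {x y : B} (hy : y ∈ genericPoints B) (h : x ⤳ y) :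
    x = y := by
  have h1 : closure {y} ⊆ closure {x} :=
    closure_minimal (Set.singleton_subset_iff.mpr (specializes_iff_mem_closure.mp h)) isClosed_closure
  have h2 : closure {x} ⊆ closure {y} := hy.2 isIrreducible_singleton.closure h1
  exact (h.antisymm (specializes_iff_mem_closure.mpr (h2 (subset_closure rfl)))).eq

theorem exists_generic [QuasiSober B] (z : B) : ∃ x ∈ genericPoints B, x ⤳ z :=
  ⟨(genericPoints.ofComponent ⟨_, irreducibleComponent_mem_irreducibleComponents z⟩).1,
    (genericPoints.ofComponent ⟨_, irreducibleComponent_mem_irreducibleComponents z⟩).2,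
    (genericPoints.isGenericPoint_ofComponent
      ⟨_, irreducibleComponent_mem_irreducibleComponents z⟩).specializes mem_irreducibleComponent⟩

theorem mem_genericPoints_iff {j : A → B} (hj : IsOpenEmbedding j) {a : A} :
    a ∈ genericPoints A ↔ j a ∈ genericPoints B := by
  have hcl : j ⁻¹' closure {j a} = closure {a} := by
    rw [hj.toIsEmbedding.closure_eq_preimage_closure_image, Set.image_singleton]
  constructor
  · intro ha
    obtain ⟨T, hT, hjT⟩ := exists_mem_irreducibleComponents_subset_of_isIrreducible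
      ({j a} : Set B) isIrreducible_singleton
    have haT : j a ∈ T := hjT rfl
    have hTc := isClosed_of_mem_irreducibleComponents T hT
    have h1 := preimage_mem_irreducibleComponents hT hj ⟨j a, haT, a, rfl⟩
    have h2 : closure {a} ⊆ j ⁻¹' T :=
      closure_minimal (Set.singleton_subset_iff.2 haT) (hTc.preimage hj.continuous)
    have h3 : j ⁻¹' T ⊆ closure {a} := ha.2 h1.1 h2
    have h4 : T ⊆ closure {j a} := by
      refine (subset_closure_inter_of_isPreirreducible_of_isOpen hT.1.isPreirreducible
        hj.isOpen_range ⟨j a, haT, a, rfl⟩).trans (closure_minimal ?_ isClosed_closure)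
      rintro _ ⟨hb, b, rfl⟩
      exact hcl.symm.subset (h3 hb)
    show closure {j a} ∈ irreducibleComponents B
    rwa [Set.Subset.antisymm (closure_minimal hjT hTc) h4]
  · intro ha
    show closure {a} ∈ irreducibleComponents A
    rw [← hcl]
    exact preimage_mem_irreducibleComponents ha hj ⟨j a, subset_closure rfl, a, rfl⟩

theorem finite_components {j : A → B} (hj : IsOpenEmbedding j) (h : (irreducibleComponents B).Finite) :
    (irreducibleComponents A).Finite := by
  refine (h.image (fun T => j ⁻¹' T)).subset fun Z hZ => ?_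
  obtain ⟨T, hT, hZT⟩ := exists_mem_irreducibleComponents_subset_of_isIrreducible (j '' Z)
    (hZ.1.image j hj.continuous.continuousOn)
  obtain ⟨a, ha⟩ := hZ.1.nonempty
  have h1 := preimage_mem_irreducibleComponents hT hj ⟨j a, hZT ⟨a, ha, rfl⟩, a, rfl⟩
  exact ⟨T, hT, (hZ.2 h1.1 (Set.image_subset_iff.1 hZT)).antisymm (Set.image_subset_iff.1 hZT)⟩

theorem genericPoints_subset_of_dense (hfin : (irreducibleComponents B).Finite) {O : Set B}
    (hO : IsOpen O) (hd : Dense O) : genericPoints B ⊆ O := by
  intro x hx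
  let C : Set B := ⋃₀ (irreducibleComponents B \ {closure {x}})
  have hC : IsClosed C := by
    rw [show C = _ from Set.sUnion_eq_biUnion]
    exact (hfin.subset Set.sdiff_subset).isClosed_biUnion
      fun T hT => isClosed_of_mem_irreducibleComponents T hT.1
  have hxC : x ∉ C := fun ⟨T, hT, hxT⟩ => hT.2 <| by
    have h1 : closure {x} ⊆ T :=
      closure_minimal (Set.singleton_subset_iff.2 hxT) (isClosed_of_mem_irreducibleComponents T hT.1)
    exact ((hx.2 hT.1.1 h1).antisymm h1)
  obtain ⟨z, hzC, hzO⟩ := hd.inter_open_nonempty Cᶜ hC.isOpen_compl ⟨x, hxC⟩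
  obtain ⟨T, hT, hzT⟩ := exists_mem_irreducibleComponents_subset_of_isIrreducible
    ({z} : Set B) isIrreducible_singleton
  have hTx : T = closure {x} := by
    by_contra hne
    exact hzC ⟨T, ⟨hT, hne⟩, hzT rfl⟩
  exact (specializes_iff_mem_closure.2 (hTx ▸ hzT rfl : z ∈ closure {x})).mem_open hO hzO

theorem dense_of_genericPoints [QuasiSober B] {O : Set B} (h : genericPoints B ⊆ O) : Dense O :=
  Dense.mono h (dense_iff_closure_eq.mpr genericPoints.closure)

end Top

variable {S : Scheme.{u}}

theorem isOpenEmbedding_ofPt {X : Sp S} (hX : IsAlgSpace X) {U : Over S} {a : (yon S).obj U ⟶ X}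
    (ha : RepWith @IsOpenImmersion a) : IsOpenEmbedding (Points.ofPt a) := by
  have h : Points.ofPt a = Points.map a ∘ Points.schemeHomeo U :=
    funext fun z => Points.ofPt_eq_map_ofScheme a z
  rw [h]
  exact (isOpenEmbedding_map' hX ha).comp (Points.schemeHomeo U).isOpenEmbedding

theorem repWith_etale {X Y : Sp S} {a : X ⟶ Y} (ha : RepWith @IsOpenImmersion a) : RepWith @Etale a :=
  repWith_mono (fun _ _ g (_ : IsOpenImmersion g) => inferInstanceAs (Etale g)) _ ha

theorem exists_dense_scheme (X : Space S) (hX : IsDecent X.obj) :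
    ∃ (U : Over S) (a : (yon S).obj U ⟶ X.obj), RepWith @IsOpenImmersion a ∧
      Dense (Set.range (Points.ofPt a)) := by
  obtain ⟨X', j, hj, hr, hd⟩ := exists_dense_open_subscheme_of_isDecent X hX
  obtain ⟨T, ⟨r⟩⟩ := hr.has_representation
  let e := AlgSp.isoOfRepresentableBy r
  refine ⟨T, e.hom ≫ j.hom, MorphismProperty.RespectsIso.precomp _ _ _ hj, hd.mono ?_⟩
  rintro _ ⟨x, rfl⟩
  refine ⟨(Points.schemeHomeo T).symm (Points.map e.inv x), ?_⟩
  rw [Points.ofPt_eq_map_ofScheme]
  show Points.map _ (Points.schemeHomeo T ((Points.schemeHomeo T).symm _)) = _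
  rw [Homeomorph.apply_symm_apply, ← Points.map_comp, Iso.inv_hom_id_assoc]

theorem isIso_stalkMap_congr {U V : Scheme.{u}} {f g : U ⟶ V} (h : f = g) {x : U}
    (hf : IsIso (f.stalkMap x)) : IsIso (g.stalkMap x) := by subst h; exact hf

/-- Birational morphisms of decent spaces restrict to birational morphisms of dense open subschemes. -/
theorem exists_model {X Y : Space S} (f : X ⟶ Y) (hX : IsDecent X.obj) (hY : IsDecent Y.obj)
    (hXf : (irreducibleComponents (Points X.obj)).Finite)
    (hYf : (irreducibleComponents (Points Y.obj)).Finite)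
    (hf : W4stk3decentspacesp2.IsBirational f.hom) :
    ∃ (U V : Over S) (a : (yon S).obj U ⟶ X.obj) (b : (yon S).obj V ⟶ Y.obj) (g : U ⟶ V),
      RepWith @IsOpenImmersion a ∧ RepWith @IsOpenImmersion b ∧ a ≫ f.hom = (yon S).map g ≫ b ∧
      genericPoints (Points X.obj) ⊆ Set.range (Points.ofPt a) ∧
      genericPoints (Points Y.obj) ⊆ Set.range (Points.ofPt b) ∧
      (irreducibleComponents ↥U.left).Finite ∧ (irreducibleComponents ↥V.left).Finite ∧
      Set.BijOn g.left (genericPoints ↥U.left) (genericPoints ↥V.left) ∧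
      ∀ u ∈ genericPoints ↥U.left, IsIso (g.left.stalkMap u) := by
  obtain ⟨U₀, a₀, ha₀, hda⟩ := exists_dense_scheme X hX
  obtain ⟨V, b, hb, hdb⟩ := exists_dense_scheme Y hY
  have hga := genericPoints_subset_of_dense hXf (isOpenEmbedding_ofPt X.property ha₀).isOpen_range hda
  have hgb := genericPoints_subset_of_dense hYf (isOpenEmbedding_ofPt Y.property hb).isOpen_range hdb
  let U := hb.rep.pullback (a₀ ≫ f.hom)
  let i : U ⟶ U₀ := hb.rep.snd (a₀ ≫ f.hom)
  let g : U ⟶ V := hb.rep.fst' (a₀ ≫ f.hom)
  have sq : IsPullback ((yon S).map g) ((yon S).map i) b (a₀ ≫ f.hom) :=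
    hb.rep.isPullback' (a₀ ≫ f.hom)
  let a := (yon S).map i ≫ a₀
  have ha : RepWith @IsOpenImmersion a := repWith_comp (repWith_of_isPullback sq hb) ha₀
  have w : a ≫ f.hom = (yon S).map g ≫ b := by rw [Category.assoc, sq.w]
  have hgU : genericPoints (Points X.obj) ⊆ Set.range (Points.ofPt a) := by
    intro x hx
    obtain ⟨u₀, rfl⟩ := hga hx
    obtain ⟨v, hv⟩ := hgb (hf.bijOn.mapsTo hx)
    rw [Points.map_ofPt] at hv
    obtain ⟨z, -, hz⟩ := exists_ofPt_of_eq sq hv
    exact ⟨z, by rw [← hz]; exact ofPt_comp _ _ _⟩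
  have eA := isOpenEmbedding_ofPt X.property ha
  have eB := isOpenEmbedding_ofPt Y.property hb
  have hmap : ∀ u, Points.map f.hom (Points.ofPt a u) = Points.ofPt b (g.left u) := fun u => by
    rw [Points.map_ofPt, w, ofPt_comp]
  refine ⟨U, V, a, b, g, ha, hb, w, hgU, hgb, finite_components eA hXf, finite_components eB hYf,
    ⟨fun u hu => ?_, fun u hu u' hu' he => ?_, fun v hv => ?_⟩, fun u hu => ?_⟩
  · rw [mem_genericPoints_iff eB, ← hmap]
    exact hf.bijOn.mapsTo ((mem_genericPoints_iff eA).1 hu)
  · refine eA.injective (hf.bijOn.injOn ((mem_genericPoints_iff eA).1 hu)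
      ((mem_genericPoints_iff eA).1 hu') ?_)
    rw [hmap, hmap, he]
  · obtain ⟨x, hx, hxv⟩ := hf.bijOn.surjOn ((mem_genericPoints_iff eB).1 hv)
    obtain ⟨u, rfl⟩ := hgU hx
    exact ⟨u, (mem_genericPoints_iff eA).2 hx, eB.injective ((hmap u).symm.trans hxv)⟩
  · obtain ⟨U', V', a', b', g', u', ha', hb', w', hu', hiso⟩ :=
      hf.stalkIso _ ((mem_genericPoints_iff eA).1 hu)
    have sqP := ha'.rep.isPullback' a
    obtain ⟨z, hz1, hz2⟩ := exists_ofPt_of_eq sqP hu'
    let p := ha'.rep.fst' a
    let q := ha'.rep.snd a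
    have sqQ := hb'.rep.isPullback' b
    have : IsOpenImmersion q.left := ha'.property_snd a
    have : IsOpenImmersion p.left := ha.property _ _ _ sqP.flip
    have : IsOpenImmersion (hb'.rep.snd b).left := hb'.property_snd b
    have : IsOpenImmersion (hb'.rep.fst' b).left := hb.property _ _ _ sqQ.flip
    have hw : (yon S).map (p ≫ g') ≫ b' = (yon S).map (q ≫ g) ≫ b := by
      rw [CategoryTheory.Functor.map_comp, CategoryTheory.Functor.map_comp, Category.assoc,
        Category.assoc, ← w', ← w, reassoc_of% sqP.w]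
    obtain ⟨l, hl1, hl2⟩ : ∃ l : ha'.rep.pullback a ⟶ hb'.rep.pullback b,
        l ≫ hb'.rep.fst' b = p ≫ g' ∧ l ≫ hb'.rep.snd b = q ≫ g :=
      ⟨(yon S).preimage (sqQ.lift _ _ hw),
        (yon S).map_injective (by simpa using sqQ.lift_fst _ _ hw),
        (yon S).map_injective (by simpa using sqQ.lift_snd _ _ hw)⟩
    have h1 : IsIso ((p ≫ g').left.stalkMap z) := by
      refine isIso_stalkMap_congr (f := p.left ≫ g'.left) rfl ?_
      rw [Scheme.Hom.stalkMap_comp]
      have : IsIso (g'.left.stalkMap (p.left z)) := hz1 ▸ hiso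
      exact IsIso.comp_isIso' this inferInstance
    have h2 : IsIso (l.left.stalkMap z) := by
      have h := isIso_stalkMap_congr (f := (p ≫ g').left) (g := l.left ≫ (hb'.rep.fst' b).left)
        (by rw [← hl1]; rfl) h1
      rw [Scheme.Hom.stalkMap_comp] at h
      exact IsIso.of_isIso_comp_left ((hb'.rep.fst' b).left.stalkMap (l.left z)) (l.left.stalkMap z)
    have h3 : IsIso ((q.left ≫ g.left).stalkMap z) := by
      refine isIso_stalkMap_congr (f := l.left ≫ (hb'.rep.snd b).left)
        (show (l ≫ hb'.rep.snd b).left = (q ≫ g).left by rw [hl2]) ?_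
      rw [Scheme.Hom.stalkMap_comp]
      exact IsIso.comp_isIso' inferInstance h2
    rw [Scheme.Hom.stalkMap_comp] at h3
    have h4 : IsIso (g.left.stalkMap (q.left z)) :=
      IsIso.of_isIso_comp_right (g.left.stalkMap (q.left z)) (q.left.stalkMap z)
    exact hz2 ▸ h4

theorem eq_of_specializes_of_isIntegral {T V : Scheme.{u}} (h : T ⟶ V) {t' t : T} (hsp : t' ⤳ t)
    (he : h t' = h t) (hi : (h.residueFieldMap t').hom.IsIntegral) : t' = t := by
  let ψ := T.presheaf.stalkSpecializes hsp ≫ T.residue t'
  have hcomp : (h.stalkMap t ≫ ψ).hom.IsIntegral := by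
    have e : h.stalkMap t ≫ ψ =
        (V.presheaf.stalkSpecializes (hsp.map h.continuous) ≫ V.residue (h t')) ≫ h.residueFieldMap t' := by
      rw [Category.assoc, Scheme.residue_residueFieldMap,
        Scheme.Hom.stalkSpecializes_stalkMap_assoc]
    rw [e, CommRingCat.hom_comp, CommRingCat.hom_comp]
    refine RingHom.IsIntegral.trans _ _ (RingHom.IsIntegral.trans _ _ ?_ ?_) hi
    · have : IsIso (V.presheaf.stalkSpecializes (hsp.map h.continuous)) := by
        have : V.presheaf.stalkSpecializes (hsp.map h.continuous) =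
            (V.presheaf.stalkCongr (.of_eq he.symm)).hom := rfl
        rw [this]; infer_instance
      exact RingHom.isIntegral_of_surjective _
        (ConcreteCategory.bijective_of_isIso (V.presheaf.stalkSpecializes _)).2
    · exact RingHom.isIntegral_of_surjective _ (V.residue_surjective _)
  rw [CommRingCat.hom_comp] at hcomp
  have hψ := RingHom.IsIntegral.tower_top _ _ hcomp
  have hmax := Ideal.isMaximal_comap_of_isIntegral_of_isMaximal' ψ.hom hψ ⊥
  have hker := IsLocalRing.eq_maximalIdeal hmax
  have h0 := congrArg (fun φ => φ.base (IsLocalRing.closedPoint (T.presheaf.stalk t')))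
    (Scheme.SpecMap_stalkSpecializes_fromSpecStalk hsp)
  simp only [Scheme.fromSpecStalk_closedPoint] at h0
  change T.fromSpecStalk t (PrimeSpectrum.comap (T.presheaf.stalkSpecializes hsp).hom
    (IsLocalRing.closedPoint _)) = t' at h0
  have e : PrimeSpectrum.comap (T.presheaf.stalkSpecializes hsp).hom
      (IsLocalRing.closedPoint _) = IsLocalRing.closedPoint (T.presheaf.stalk t) := by
    refine PrimeSpectrum.ext (Eq.trans ?_ hker)
    rw [CommRingCat.hom_comp, ← Ideal.comap_comap]
    exact congrArg (Ideal.comap (T.presheaf.stalkSpecializes hsp).hom)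
      (IsLocalRing.ker_residue (R := T.presheaf.stalk t')).symm
  rw [e, Scheme.fromSpecStalk_closedPoint] at h0
  exact h0.symm

/-- Over a generic point of `Y` lies only the generic point of `X`. -/
theorem eq_of_map_eq_generic {X Y : Space S} (f : X ⟶ Y) (hX : IsDecent X.obj) (hY : IsDecent Y.obj)
    (hf : W4stk3decentspacesp2.IsBirational f.hom) {U V : Over S} {a : (yon S).obj U ⟶ X.obj}
    {b : (yon S).obj V ⟶ Y.obj} {g : U ⟶ V} (ha : RepWith @IsOpenImmersion a)
    (hb : RepWith @IsOpenImmersion b) (w : a ≫ f.hom = (yon S).map g ≫ b)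
    (hgU : genericPoints (Points X.obj) ⊆ Set.range (Points.ofPt a))
    (hiso : ∀ u ∈ genericPoints ↥U.left, IsIso (g.left.stalkMap u))
    {x x₀ : Points X.obj} (hx₀ : x₀ ∈ genericPoints (Points X.obj))
    (he : Points.map f.hom x = Points.map f.hom x₀) : x = x₀ := by
  haveI := t0Space_points X.property hX
  haveI := quasiSober_points X.property hX
  haveI := t0Space_points Y.property hY
  obtain ⟨x₁, hx₁, hsp⟩ := exists_generic x
  obtain rfl : x₁ = x₀ := hf.bijOn.injOn hx₁ hx₀ (eq_of_specializes_generic (hf.bijOn.mapsTo hx₀)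
    (he ▸ hsp.map (Points.continuous_map f.hom)))
  obtain ⟨T, c, hc, hcs⟩ := X.property.atlas
  obtain ⟨t, rfl⟩ := surjective_ofPt hcs x
  obtain ⟨t', ht', rfl⟩ := exists_specializes_lift_of_isDecent hX hc hsp
  obtain ⟨u₀, hu₀⟩ := hgU hx₁
  have eA := isOpenEmbedding_ofPt X.property ha
  have hv₀ : Points.map f.hom (Points.ofPt c t') = Points.ofPt b (g.left u₀) := by
    rw [← hu₀, Points.map_ofPt, w, ofPt_comp]
  have sqT := hb.rep.isPullback' (c ≫ f.hom)
  let i := hb.rep.snd (c ≫ f.hom)
  let h := hb.rep.fst' (c ≫ f.hom)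
  have : IsOpenImmersion i.left := hb.property_snd _
  obtain ⟨z, hz1, hz2⟩ := exists_ofPt_of_eq sqT (u := g.left u₀) (v := t)
    ((hv₀.symm.trans (he.symm.trans (Points.map_ofPt _ _ _))))
  obtain ⟨z', hz1', hz2'⟩ := exists_ofPt_of_eq sqT (u := g.left u₀) (v := t')
    (hv₀.symm.trans (Points.map_ofPt _ _ _))
  have hzz : z' ⤳ z := by
    rw [← i.left.isOpenEmbedding.toIsEmbedding.isInducing.specializes_iff]
    show i.left z' ⤳ i.left z
    rwa [hz2, hz2']
  suffices hzeq : z' = z by rw [← hz2, ← hzeq, hz2']
  -- compare residue fields through the open subscheme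
  have sqR := ha.rep.isPullback' ((yon S).map i ≫ c)
  let s := ha.rep.snd ((yon S).map i ≫ c)
  let e := ha.rep.fst' ((yon S).map i ≫ c)
  have : IsOpenImmersion s.left := ha.property_snd _
  have : Etale e.left := (repWith_comp (repWith_etale (repWith_of_isPullback sqT hb)) hc).property
    _ _ _ sqR.flip
  obtain ⟨r, hr1, hr2⟩ := exists_ofPt_of_eq sqR (u := u₀) (v := z') (by rw [ofPt_comp, hu₀, hz2'])
  have hmono := mono_of_openImm hb
  have hse : s ≫ h = e ≫ g := by
    refine (yon S).map_injective ((cancel_mono b).1 ?_)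
    rw [CategoryTheory.Functor.map_comp, CategoryTheory.Functor.map_comp, Category.assoc,
      Category.assoc, sqT.w, ← w, ← Category.assoc, ← Category.assoc, ← Category.assoc, sqR.w,
      Category.assoc, Category.assoc, Category.assoc]
    simp only [Category.assoc]; rfl
  have hgfin : (g.left.residueFieldMap (e.left r)).hom.Finite := by
    have := hiso _ ((mem_genericPoints_iff eA).2 (show Points.ofPt a u₀ ∈ _ from hu₀.symm ▸ hx₁))
    rw [hr1]
    refine RingHom.Finite.of_surjective _ fun k => ?_
    obtain ⟨k', rfl⟩ := U.left.residue_surjective u₀ k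
    obtain ⟨k'', rfl⟩ := (ConcreteCategory.bijective_of_isIso (g.left.stalkMap u₀)).2 k'
    refine ⟨V.left.residue _ k'', ?_⟩
    rw [← ConcreteCategory.comp_apply, Scheme.residue_residueFieldMap]
    rfl
  have heg : ((e ≫ g).left.residueFieldMap r).hom.Finite := by
    rw [show (e ≫ g).left = e.left ≫ g.left from rfl, Scheme.residueFieldMap_comp,
      CommRingCat.hom_comp]
    exact (Groth.Agent.MorLib.GF.finite_residueFieldMap e.left r).comp hgfin
  rw [← hse, show (s ≫ h).left = s.left ≫ h.left from rfl, Scheme.residueFieldMap_comp,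
    CommRingCat.hom_comp] at heg
  refine eq_of_specializes_of_isIntegral h.left hzz (hz1'.trans hz1.symm) ?_
  rw [← hr2]
  refine RingHom.Finite.to_isIntegral ?_
  algebraize [(h.left.residueFieldMap (s.left r)).hom, (s.left.residueFieldMap r).hom,
    (s.left.residueFieldMap r).hom.comp (h.left.residueFieldMap (s.left r)).hom]
  have : Module.Finite (V.left.residueField (h.left (s.left r)))
      ((ha.rep.pullback ((yon S).map i ≫ c)).left.residueField r) := heg
  exact FiniteDimensional.left (V.left.residueField (h.left (s.left r)))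
    ((hb.rep.pullback (c ≫ f.hom)).left.residueField (s.left r))
    ((ha.rep.pullback ((yon S).map i ≫ c)).left.residueField r)

end Groth.Agent.AlgSpDec.BiratSp
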