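import Groth.Agent.AlgSpDec.BiratSp
import Groth.Agent.AlgSpDec.OneFlat
import Groth.Agent.AlgSpPts.ProperSubspace
import Groth.Agent.AlgSpPts.Sep
import Groth.Agent.AlgSpVal.DvrThrough
import Groth.Agent.S9677

/-!
# A birational morphism is an isomorphism over a dense open subscheme of the target
-/

set_option autoImplicit false
set_option backward.isDefEq.respectTransparency false
set_option backward.isDefEq.respectTransparency.types false

universe u

open CategoryTheory CategoryTheory.Limits AlgebraicGeometry AlgSp Topology TopologicalSpace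
  Groth.Agent.AlgSpLib Groth.Agent.AlgSpPts Groth.Agent.AlgSpDec

namespace Groth.Agent.AlgSpDec.BiratSp

variable {S : Scheme.{u}}

theorem exists_factor_space {P F G : Sp S} (hP : IsAlgSpace P) {j : F ⟶ G}
    (hj : RepWith @IsOpenImmersion j) (m : P ⟶ G)
    (h : ∀ p, Points.map m p ∈ Set.range (Points.map j)) : ∃ k, k ≫ j = m := by
  have : IsIso (pullback.snd j m) := by
    refine isIso_of_openImm_surjective hP (repWith_snd m hj) fun p => ?_
    obtain ⟨x, hx⟩ := h p
    obtain ⟨z, -, hz⟩ := exists_point_of_isPullback (IsPullback.of_hasPullback j m) hx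
    exact ⟨z, hz⟩
  exact ⟨inv (pullback.snd j m) ≫ pullback.fst j m, by
    rw [Category.assoc, pullback.condition, IsIso.inv_hom_id_assoc]⟩

/-- A morphism to an open subspace whose composite is an open immersion is an open immersion. -/
theorem repWith_openImm_of_comp {A B C : Sp S} {s : A ⟶ B} {j : B ⟶ C} [Mono j]
    (h : RepWith @IsOpenImmersion (s ≫ j)) : RepWith @IsOpenImmersion s :=
  repWith_of_isPullback (g := j) (fst := 𝟙 A)
    ⟨⟨by rw [Category.id_comp]⟩, ⟨PullbackCone.IsLimit.mk _ (fun c => c.fst)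
      (fun c => Category.comp_id _)
      (fun c => (cancel_mono j).1 (by rw [Category.assoc]; exact c.condition))
      (fun c m h₁ _ => by simpa using h₁)⟩⟩ h

/-- Dense open subschemes which are mapped isomorphically, containing all generic points. -/
theorem exists_iso_model {X Y : Space S} (f : X ⟶ Y) (hX : IsDecent X.obj) (hY : IsDecent Y.obj)
    (hXf : (irreducibleComponents (Points X.obj)).Finite)
    (hYf : (irreducibleComponents (Points Y.obj)).Finite)
    (hf : W4stk3decentspacesp2.IsBirational f.hom)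
    (h : (LocP @LocallyOfFiniteType f.hom ∧ EtaleLocally (fun T => IsReduced T) Y.obj) ∨
      LocP @LocallyOfFinitePresentation f.hom) :
    ∃ (U V : Over S) (a : (yon S).obj U ⟶ X.obj) (b : (yon S).obj V ⟶ Y.obj) (g : U ⟶ V),
      RepWith @IsOpenImmersion a ∧ RepWith @IsOpenImmersion b ∧ a ≫ f.hom = (yon S).map g ≫ b ∧
      genericPoints (Points X.obj) ⊆ Set.range (Points.ofPt a) ∧
      genericPoints (Points Y.obj) ⊆ Set.range (Points.ofPt b) ∧ IsIso g.left ∧
      (∀ u ∈ genericPoints ↥U.left, IsIso (g.left.stalkMap u)) ∧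
      (irreducibleComponents ↥V.left).Finite := by
  obtain ⟨U, V, a, b, g, ha, hb, w, hgU, hgV, hUf, hVf, hbij, hiso⟩ := exists_model f hX hY hXf hYf hf
  have hcase : IsReduced V.left ∨ LocallyOfFinitePresentation g.left :=
    h.imp (fun h => isReduced_chart h.2 (repWith_etale hb))
      (fun h => h a b g (repWith_etale ha) (repWith_etale hb) w)
  have : LocallyOfFiniteType g.left := h.elim (fun h => h.1 a b g (repWith_etale ha) (repWith_etale hb) w)
    (fun h => by have := h a b g (repWith_etale ha) (repWith_etale hb) w; infer_instance)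
  obtain ⟨U₁, V₁, hle, hgU₁, hgV₁, hI⟩ := MorLib.Birat.exists_dense_iso g.left hVf hbij hiso hcase
  let iU : Over.mk (U₁.ι ≫ U.hom) ⟶ U := Over.homMk U₁.ι rfl
  let iV : Over.mk (V₁.ι ≫ V.hom) ⟶ V := Over.homMk V₁.ι rfl
  let g₁ : Over.mk (U₁.ι ≫ U.hom) ⟶ Over.mk (V₁.ι ≫ V.hom) := Over.homMk (g.left.resLE V₁ U₁ hle)
    (show g.left.resLE V₁ U₁ hle ≫ V₁.ι ≫ V.hom = U₁.ι ≫ U.hom by
      rw [Scheme.Hom.resLE_comp_ι_assoc, Over.w])
  have : IsOpenImmersion iU.left := inferInstanceAs (IsOpenImmersion U₁.ι)
  have : IsOpenImmersion iV.left := inferInstanceAs (IsOpenImmersion V₁.ι)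
  have ha₁ : RepWith @IsOpenImmersion ((yon S).map iU ≫ a) :=
    repWith_comp ((repWith_yon_map_iff @IsOpenImmersion iU).2 ‹_›) ha
  have hb₁ : RepWith @IsOpenImmersion ((yon S).map iV ≫ b) :=
    repWith_comp ((repWith_yon_map_iff @IsOpenImmersion iV).2 ‹_›) hb
  have hr : g₁ ≫ iV = iU ≫ g := by
    ext1
    exact Scheme.Hom.resLE_comp_ι _ _
  refine ⟨_, _, (yon S).map iU ≫ a, (yon S).map iV ≫ b, g₁, ha₁, hb₁, ?_, ?_, ?_, hI, ?_,
    finite_components iV.left.isOpenEmbedding hVf⟩
  · rw [Category.assoc, w, ← CategoryTheory.Functor.map_comp_assoc,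
      ← CategoryTheory.Functor.map_comp_assoc, hr]
  · intro x hx
    obtain ⟨u, rfl⟩ := hgU hx
    exact ⟨⟨u, hgU₁ ((mem_genericPoints_iff (isOpenEmbedding_ofPt X.property ha)).2 hx)⟩,
      ofPt_comp iU a _⟩
  · intro y hy
    obtain ⟨v, rfl⟩ := hgV hy
    exact ⟨⟨v, hgV₁ ((mem_genericPoints_iff (isOpenEmbedding_ofPt Y.property hb)).2 hy)⟩,
      ofPt_comp iV b _⟩
  · intro u _
    have := hI
    exact inferInstanceAs (IsIso ((g.left.resLE V₁ U₁ hle).stalkMap u))

/-- Quasi-compact or separated birational morphisms of finite type are isomorphisms over a dense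
open subscheme. -/
theorem exists_isIso_pullback {X Y : Space S} (f : X ⟶ Y) (hX : IsDecent X.obj) (hY : IsDecent Y.obj)
    (hXf : (irreducibleComponents (Points X.obj)).Finite)
    (hYf : (irreducibleComponents (Points Y.obj)).Finite)
    (hf : W4stk3decentspacesp2.IsBirational f.hom)
    (h₁ : IsQuasiCompactMor f.hom ∨ IsSeparatedMor f.hom)
    (h₂ : (LocP @LocallyOfFiniteType f.hom ∧ EtaleLocally (fun T => IsReduced T) Y.obj) ∨
      LocP @LocallyOfFinitePresentation f.hom) :
    ∃ (V : Over S) (b : (yon S).obj V ⟶ Y.obj), RepWith @IsOpenImmersion b ∧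
      Dense (Set.range (Points.ofPt b)) ∧
        ∀ ⦃P : Sp S⦄ (fst : P ⟶ X.obj) (snd : P ⟶ (yon S).obj V),
          IsPullback fst snd f.hom b → IsIso snd := by
  obtain ⟨U, V, a, b, g, ha, hb, w, hgU, hgV, hg, hiso, -⟩ :=
    exists_iso_model f hX hY hXf hYf hf h₂
  haveI := quasiSober_points X.property hX
  haveI := quasiSober_points Y.property hY
  have : IsIso g := by
    have : IsIso ((Over.forget S).map g) := hg
    exact isIso_of_reflects_iso g (Over.forget S)
  let a' : (yon S).obj V ⟶ X.obj := (yon S).map (inv g) ≫ a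
  have wa : a' ≫ f.hom = b := by
    rw [Category.assoc, w, CategoryTheory.Functor.map_inv, IsIso.inv_hom_id_assoc]
  have ha' : RepWith @IsOpenImmersion a' := MorphismProperty.RespectsIso.precomp _ _ _ ha
  let s : (yon S).obj V ⟶ pullback f.hom b :=
    pullback.lift a' (𝟙 _) (by rw [wa, Category.id_comp])
  have hP : IsAlgSpace (pullback f.hom b) :=
    isAlgSpace_pullback X.property (IsAlgSpace.yon_obj V) Y.property f.hom b
  have hfst : RepWith @IsOpenImmersion (pullback.fst f.hom b) := repWith_fst f.hom hb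
  have := mono_of_openImm hfst
  have hs : RepWith @IsOpenImmersion s := repWith_openImm_of_comp (j := pullback.fst f.hom b) (by
    rw [pullback.lift_fst]; exact ha')
  let π := pullback.snd f.hom b
  have eA := isOpenEmbedding_ofPt X.property ha
  have eA' := isOpenEmbedding_ofPt X.property ha'
  have eB := isOpenEmbedding_ofPt Y.property hb
  have ej : IsOpenEmbedding (Points.map (pullback.fst f.hom b)) := isOpenEmbedding_map' X.property hfst
  -- over generic points only the section
  have key : ∀ p, Points.map (f.hom) (Points.map (pullback.fst f.hom b) p) ∈ genericPoints (Points Y.obj) →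
      p ∈ Set.range (Points.map s) := by
    intro p hp
    obtain ⟨x₀, hx₀, hx₀p⟩ := hf.bijOn.surjOn hp
    have hpx := eq_of_map_eq_generic f hX hY hf ha hb w hgU hiso hx₀ hx₀p.symm
    obtain ⟨u, hu⟩ := hgU hx₀
    refine ⟨Points.schemeHomeo V (g.left u), ej.injective ?_⟩
    rw [← Points.map_comp, pullback.lift_fst, hpx, ← hu]
    refine (Points.ofPt_eq_map_ofScheme a' _).symm.trans ((ofPt_comp _ _ _).trans ?_)
    congr 1
    show (g.left ≫ (inv g).left) u = u
    rw [show g.left ≫ (inv g).left = (g ≫ inv g).left from rfl, IsIso.hom_inv_id]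
    rfl
  have hπ : ∀ p v, Points.map π p = Points.schemeHomeo V v →
      Points.map f.hom (Points.map (pullback.fst f.hom b) p) = Points.ofPt b v := fun p v hv => by
    rw [← Points.map_comp, pullback.condition, Points.map_comp, hv, Points.ofPt_eq_map_ofScheme]
    rfl
  -- an open set avoiding the image of the complement of the section
  obtain ⟨V', hV', hV'P⟩ : ∃ V' : V.left.Opens, genericPoints ↥V.left ⊆ V' ∧
      ∀ p v, Points.map π p = Points.schemeHomeo V v → v ∈ V' → p ∈ Set.range (Points.map s) := by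
    rcases h₁ with hqc | hsep
    · let C : Set ↥V.left := (fun p => (Points.schemeHomeo V).symm (Points.map π p)) ''
        (Set.range (Points.map s))ᶜ
      refine ⟨⟨(closure C)ᶜ, isClosed_closure.isOpen_compl⟩, fun η hη hmem => ?_, fun p v hpv hv => ?_⟩
      · obtain ⟨W, hW, hηW, -⟩ := exists_isAffineOpen_mem_and_subset (x := η) (U := ⊤) trivial
        let ιW : Over.mk (W.ι ≫ V.hom) ⟶ V := Over.homMk W.ι rfl
        have : IsAffine (Over.mk (W.ι ≫ V.hom)).left := hW
        have hqW : IsQuasiCompactSp (pullback f.hom ((yon S).map ιW ≫ b)) :=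
          hqc (IsAlgSpace.yon_obj _)
            ((isQuasiCompactSp_yon_iff (Over.mk (W.ι ≫ V.hom))).2 inferInstance) _ _ _
            (IsPullback.of_hasPullback _ _)
        obtain ⟨T, c, hT, hc, hcs⟩ := exists_affine_atlas hqW
        have := hT
        let m : pullback f.hom ((yon S).map ιW ≫ b) ⟶ pullback f.hom b :=
          pullback.lift (pullback.fst _ _) (pullback.snd _ _ ≫ (yon S).map ιW)
            (by rw [pullback.condition, Category.assoc])
        let h := (yon S).preimage (c ≫ pullback.snd f.hom ((yon S).map ιW ≫ b))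
        have hh : (yon S).map h = c ≫ pullback.snd f.hom ((yon S).map ιW ≫ b) :=
          (yon S).map_preimage _
        have hopen := (isOpenEmbedding_map' hP hs).isOpen_range
        let CT : Set ↥T.left := Points.ofPt (c ≫ m) ⁻¹' (Set.range (Points.map s))ᶜ
        have hCT : IsClosed CT := hopen.isClosed_compl.preimage (Points.continuous_ofPt _)
        let I := Scheme.IdealSheafData.vanishingIdeal ⟨CT, hCT⟩
        have hr : Set.range I.subschemeι = CT := by
          rw [Scheme.IdealSheafData.range_subschemeι, Scheme.IdealSheafData.coe_support_vanishingIdeal]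
          rfl
        have : CompactSpace ↥I.subscheme := QuasiCompact.compactSpace_of_compactSpace I.subschemeι
        have hproj : ∀ t : ↥T.left, Points.map π (Points.ofPt (c ≫ m) t) =
            Points.schemeHomeo V (ιW.left (h.left t)) := fun t => by
          rw [Points.map_ofPt, Category.assoc, pullback.lift_snd, ← Category.assoc, ← hh,
            ← CategoryTheory.Functor.map_comp, Points.ofPt_eq_map_ofScheme]
          exact Points.map_yon_map_apply _ _
        have hηcl : (⟨η, hηW⟩ : (W : Scheme.{u})) ∈ closure (Set.range (I.subschemeι ≫ h.left)) := by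
          rw [mem_closure_iff]
          intro O hO hηO
          obtain ⟨v, hvO, p, hp, rfl⟩ := mem_closure_iff.1 hmem (W.ι '' O)
            (W.ι.isOpenEmbedding.isOpenMap _ hO) ⟨_, hηO, rfl⟩
          obtain ⟨o, ho, hov⟩ := hvO
          obtain ⟨q, hq1, hq2⟩ := exists_point_of_isPullback
            (IsPullback.of_hasPullback f.hom ((yon S).map ιW ≫ b))
            (x := Points.map (pullback.fst f.hom b) p) (y := Points.schemeHomeo _ o) (by
              rw [hπ p (W.ι o) ((Homeomorph.apply_symm_apply _ _).symm.trans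
                (congrArg (Points.schemeHomeo V) hov.symm)), Points.map_comp,
                Points.map_yon_map_apply, Points.ofPt_eq_map_ofScheme]
              rfl)
          obtain ⟨t, rfl⟩ := surjective_ofPt hcs q
          have hmt : Points.ofPt (c ≫ m) t = p := ej.injective (by
            rw [Points.map_ofPt, Category.assoc, pullback.lift_fst, ← hq1, Points.map_ofPt])
          obtain ⟨z, rfl⟩ : t ∈ Set.range I.subschemeι := hr ▸ (show t ∈ CT from by
            show Points.ofPt (c ≫ m) t ∈ (Set.range (Points.map s))ᶜ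
            rw [hmt]
            exact hp)
          refine ⟨h.left (I.subschemeι z), ?_, z, rfl⟩
          suffices h.left (I.subschemeι z) = o from this ▸ ho
          apply (Points.schemeHomeo _).injective
          rw [← hq2, Points.map_ofPt, ← hh, ← Points.map_yon_map_apply,
            Points.ofPt_eq_map_ofScheme]
          rfl
        have : IsAffine (W : Scheme.{u}) := hW
        obtain ⟨z, hz⟩ := AlgSpVal.exists_specializes_of_mem_closure_range
          (V := (W : Scheme.{u})) (I.subschemeι ≫ h.left) hηcl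
        have hzη : ιW.left (h.left (I.subschemeι z)) = η :=
          MorLib.Birat.eq_of_specializes_generic hη (hz.map W.ι.continuous)
        have hzC : I.subschemeι z ∈ CT := hr ▸ ⟨z, rfl⟩
        refine hzC (key _ ?_)
        rw [hπ _ η ((hproj _).trans (congrArg _ hzη))]
        exact (mem_genericPoints_iff eB).1 hη
      · by_contra hn
        exact hv (subset_closure ⟨p, hn, by simp only [hpv, Homeomorph.symm_apply_apply]⟩)
    · refine ⟨⊤, fun _ _ => trivial, fun p v hpv _ => ?_⟩
      by_contra hn
      have hsc : RepWith @IsClosedImmersion s :=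
        section_property (pullback.lift_snd _ _ _)
          (isSeparatedMor_of_isPullback (IsPullback.of_hasPullback f.hom b) hsep)
      have hcl : IsClosed (Set.range (Points.map s)) := (AlgSpPts.isClosedMap_map (repWith_mono
        (fun _ _ i (_ : IsClosedImmersion i) => (inferInstance : UniversallyClosed i)) _ hsc)).isClosed_range
      have hO := ej.isOpenMap _ hcl.isOpen_compl
      obtain ⟨x, hxO, hx⟩ := (dense_of_genericPoints (B := Points X.obj) subset_rfl).inter_open_nonempty
        _ hO ⟨_, p, hn, rfl⟩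
      obtain ⟨q, hq, rfl⟩ := hxO
      exact hq (key q (hf.bijOn.mapsTo hx))
  let ιV : Over.mk (V'.ι ≫ V.hom) ⟶ V := Over.homMk V'.ι rfl
  have : IsOpenImmersion ιV.left := inferInstanceAs (IsOpenImmersion V'.ι)
  refine ⟨_, (yon S).map ιV ≫ b,
    repWith_comp ((repWith_yon_map_iff @IsOpenImmersion ιV).2 ‹_›) hb,
    dense_of_genericPoints fun y hy => ?_, fun P fst snd sq => ?_⟩
  · obtain ⟨v, rfl⟩ := hgV hy
    exact ⟨⟨v, hV' ((mem_genericPoints_iff eB).2 hy)⟩, ofPt_comp ιV b _⟩
  have hP' : IsAlgSpace P := (isAlgSpace_pullback X.property (IsAlgSpace.yon_obj _) Y.property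
    f.hom ((yon S).map ιV ≫ b)).of_iso sq.isoPullback.symm
  let m : P ⟶ pullback f.hom b := pullback.lift fst (snd ≫ (yon S).map ιV)
    (by rw [sq.w, Category.assoc])
  obtain ⟨k, hk⟩ := exists_factor_space hP' hs m fun p => by
    obtain ⟨v', hv'⟩ := (Points.schemeHomeo _).surjective (Points.map snd p)
    refine hV'P _ (ιV.left v') ?_ v'.2
    rw [← Points.map_comp, pullback.lift_snd, Points.map_comp, ← hv', Points.map_yon_map_apply]
  have hk1 : k = snd ≫ (yon S).map ιV := by
    have := congrArg (· ≫ π) hk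
    simpa [m, s, π] using this
  refine ⟨sq.lift ((yon S).map ιV ≫ a') (𝟙 _) (by rw [Category.assoc, wa, Category.id_comp]), ?_,
    sq.lift_snd _ _ _⟩
  refine sq.hom_ext ?_ ?_
  · rw [Category.assoc, sq.lift_fst, Category.id_comp, ← Category.assoc, ← hk1]
    have := congrArg (· ≫ pullback.fst f.hom b) hk
    simpa [m, s] using this
  · rw [Category.assoc, sq.lift_snd, Category.comp_id, Category.id_comp]

/-- Over the local ring of a generic point a birational morphism is an isomorphism. -/
theorem isIso_baseChange_specStalk {X Y : Space S} (f : X ⟶ Y) (hX : IsDecent X.obj) (hY : IsDecent Y.obj)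
    (hXf : (irreducibleComponents (Points X.obj)).Finite)
    (hYf : (irreducibleComponents (Points Y.obj)).Finite)
    (hf : W4stk3decentspacesp2.IsBirational f.hom) {V' : Over S} (b' : (yon S).obj V' ⟶ Y.obj)
    (hb' : RepWith @IsOpenImmersion b') (v : ↥V'.left)
    (hv : Points.ofPt b' v ∈ genericPoints (Points Y.obj)) {P : Sp S} (fst : P ⟶ X.obj)
    (snd : P ⟶ (yon S).obj (Over.mk (V'.left.fromSpecStalk v ≫ V'.hom)))
    (hP : IsPullback fst snd f.hom
      ((yon S).map (Over.homMk (V'.left.fromSpecStalk v) rfl) ≫ b')) :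
    IsIso snd := by
  obtain ⟨U, V, a, b, g, ha, hb, w, hgU, hgV, hUf, hVf, hbij, hiso⟩ := exists_model f hX hY hXf hYf hf
  have := mono_of_openImm ha
  have := mono_of_openImm hb
  haveI := t0Space_points Y.property hY
  let T := Over.mk (V'.left.fromSpecStalk v ≫ V'.hom)
  let j : T ⟶ V' := Over.homMk (V'.left.fromSpecStalk v) rfl
  have hT : ∀ t : ↥T.left, Points.ofPt ((yon S).map j ≫ b') t = Points.ofPt b' v := fun t => by
    rw [ofPt_comp]
    refine eq_of_specializes_generic hv (Specializes.map ?_ (Points.continuous_ofPt b'))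
    have h : j.left t ∈ {x | x ⤳ v} := Scheme.range_fromSpecStalk (X := V'.left) (x := v) ▸ ⟨t, rfl⟩
    exact h
  obtain ⟨v₀, hv₀⟩ := hgV hv
  obtain ⟨τ, hτ⟩ := exists_factor_open hb ((yon S).map j ≫ b') fun t => by
    refine ⟨Points.schemeHomeo V v₀, ?_⟩
    rw [hT, ← hv₀]
    exact (Points.ofPt_eq_map_ofScheme _ _).symm
  obtain ⟨t₁, rfl⟩ := (yon S).map_surjective τ
  -- the two descriptions of the local ring
  have sqW := hb'.rep.isPullback' b
  obtain ⟨z, hz1, hz2⟩ := exists_ofPt_of_eq sqW hv₀.symm
  let p := hb'.rep.fst' b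
  let q := hb'.rep.snd b
  have : IsOpenImmersion q.left := hb'.property_snd b
  have : IsOpenImmersion p.left := hb.property _ _ _ sqW.flip
  obtain ⟨e, he, het⟩ : ∃ e : T.left ⟶ Spec (V.left.presheaf.stalk v₀), IsIso e ∧
      t₁.left = e ≫ V.left.fromSpecStalk v₀ := by
    subst hz1 hz2
    let E : Spec ((hb'.rep.pullback b).left.presheaf.stalk z) ⟶ T.left := Spec.map (p.left.stalkMap z)
    have hE : E ≫ j.left = (hb'.rep.pullback b).left.fromSpecStalk z ≫ p.left :=
      Scheme.SpecMap_stalkMap_fromSpecStalk p.left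
    refine ⟨inv E ≫ Spec.map (q.left.stalkMap z), inferInstance, ?_⟩
    rw [Category.assoc, Scheme.SpecMap_stalkMap_fromSpecStalk, IsIso.eq_inv_comp]
    let E' : Over.mk (E ≫ T.hom) ⟶ T := Over.homMk E rfl
    let d : Over.mk (E ≫ T.hom) ⟶ hb'.rep.pullback b :=
      Over.homMk ((hb'.rep.pullback b).left.fromSpecStalk z) (by
        show _ ≫ _ = E ≫ j.left ≫ V'.hom
        rw [reassoc_of% hE, Over.w])
    have h2 : E' ≫ t₁ = d ≫ q := by
      refine (yon S).map_injective ((cancel_mono b).1 ?_)
      rw [CategoryTheory.Functor.map_comp, CategoryTheory.Functor.map_comp, Category.assoc, Category.assoc,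
        hτ, ← sqW.w, ← CategoryTheory.Functor.map_comp_assoc, ← CategoryTheory.Functor.map_comp_assoc,
        show E' ≫ j = d ≫ p from Over.OverMorphism.ext hE]
    exact congrArg (fun φ => φ.left) h2
  have hiso' : IsIso (pullback.snd g.left t₁.left) := by
    have h0 := Groth.Agent.S9677.result g.left hUf hVf hbij hiso v₀
      ((mem_genericPoints_iff (isOpenEmbedding_ofPt Y.property hb)).2 (hv₀.symm ▸ hv))
    have := he
    rw [het, ← pullbackLeftPullbackSndIso_inv_snd_snd]
    infer_instance
  have hP' : IsAlgSpace P := (isAlgSpace_pullback X.property (IsAlgSpace.yon_obj _) Y.property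
    f.hom ((yon S).map j ≫ b')).of_iso hP.isoPullback.symm
  obtain ⟨x₀, hx₀, hx₀v⟩ := hf.bijOn.surjOn hv
  obtain ⟨l, hl⟩ := exists_factor_space hP' ha fst fun x => by
    obtain ⟨t, ht⟩ := (Points.schemeHomeo T).surjective (Points.map snd x)
    have h1 : Points.map f.hom (Points.map fst x) = Points.map f.hom x₀ := by
      rw [← Points.map_comp, hP.w, Points.map_comp, ← ht, hx₀v, ← hT t]
      exact (Points.ofPt_eq_map_ofScheme _ _).symm
    rw [eq_of_map_eq_generic f hX hY hf ha hb w hgU hiso hx₀ h1]
    obtain ⟨u, hu⟩ := hgU hx₀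
    exact ⟨Points.schemeHomeo U u, (Points.ofPt_eq_map_ofScheme _ _).symm.trans hu⟩
  have sq : IsPullback l snd ((yon S).map g) ((yon S).map t₁) := by
    have hw : l ≫ (yon S).map g = snd ≫ (yon S).map t₁ := by
      refine (cancel_mono b).1 ?_
      rw [Category.assoc, Category.assoc, ← w, hτ, reassoc_of% hl, hP.w]
    refine ⟨⟨hw⟩, ⟨PullbackCone.IsLimit.mk _ (fun c => hP.lift (c.fst ≫ a) c.snd ?_) (fun c => ?_)
      (fun c => hP.lift_snd _ _ _) (fun c m h₁ h₂ => ?_)⟩⟩
    · rw [Category.assoc, w, reassoc_of% c.condition, hτ]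
    · refine (cancel_mono a).1 ?_
      rw [Category.assoc, hl, hP.lift_fst]
    · refine hP.hom_ext ?_ (h₂.trans (hP.lift_snd _ _ _).symm)
      rw [hP.lift_fst, ← h₁, Category.assoc, hl]
  have sq' := (IsPullback.of_hasPullback g t₁).map (yon S)
  have : IsIso (pullback.snd g t₁) := by
    have h3 := (IsPullback.of_hasPullback g t₁).map (Over.forget S)
    have : IsIso ((Over.forget S).map (pullback.snd g t₁)) := by
      rw [← h3.isoPullback_hom_snd]
      exact IsIso.comp_isIso' inferInstance hiso'
    exact isIso_of_reflects_iso _ (Over.forget S)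
  rw [← IsPullback.isoIsPullback_hom_snd _ _ sq sq']
  infer_instance

end Groth.Agent.AlgSpDec.BiratSp
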