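import Groth.Agent.AlgSpDec.BiratSp2

/-!
# Base change of birational morphisms along etale morphisms from affine schemes
-/

set_option autoImplicit false
set_option backward.isDefEq.respectTransparency false
set_option backward.isDefEq.respectTransparency.types false

universe u

open CategoryTheory CategoryTheory.Limits AlgebraicGeometry AlgSp Topology TopologicalSpace
  Groth.Agent.AlgSpLib Groth.Agent.AlgSpPts Groth.Agent.AlgSpDec

namespace Groth.Agent.AlgSpDec.BiratSp

section Top

variable {A B : Type*} [TopologicalSpace A] [TopologicalSpace B]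

theorem finite_components_of_dense {j : A → B} (hj : Continuous j) (hd : Dense (Set.range j))
    (h : (irreducibleComponents A).Finite) : (irreducibleComponents B).Finite := by
  refine (h.image (fun T => closure (j '' T))).subset fun Z hZ => ?_
  have hfin : ((fun T => closure (j '' T)) '' irreducibleComponents A).Finite := h.image _
  have hcov : Z ⊆ ⋃₀ ((fun T => closure (j '' T)) '' irreducibleComponents A) := by
    refine (Set.subset_univ Z).trans (hd.closure_eq.symm.subset.trans (closure_minimal ?_ ?_))
    · rintro _ ⟨a, rfl⟩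
      exact ⟨_, ⟨_, irreducibleComponent_mem_irreducibleComponents a, rfl⟩,
        subset_closure ⟨a, mem_irreducibleComponent, rfl⟩⟩
    · rw [Set.sUnion_eq_biUnion]
      exact hfin.isClosed_biUnion (by rintro _ ⟨T, -, rfl⟩; exact isClosed_closure)
  obtain ⟨C, hC, hZC⟩ := (isIrreducible_iff_sUnion_isClosed.1 hZ.1) hfin.toFinset
    (fun C hC => by
      obtain ⟨T, -, rfl⟩ := hfin.mem_toFinset.1 hC
      exact isClosed_closure)
    (by rwa [hfin.coe_toFinset])
  obtain ⟨T, hT, rfl⟩ := hfin.mem_toFinset.1 hC
  exact ⟨T, hT, (hZ.2 ((hT.1.image j hj.continuousOn).closure) hZC).antisymm hZC⟩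

theorem finite_components_of_genericPoints [QuasiSober B] (h : (genericPoints B).Finite) :
    (irreducibleComponents B).Finite := by
  refine (h.image fun x => closure {x}).subset fun T hT => ?_
  exact ⟨(genericPoints.ofComponent ⟨T, hT⟩).1, (genericPoints.ofComponent ⟨T, hT⟩).2,
    genericPoints.isGenericPoint_ofComponent ⟨T, hT⟩⟩

end Top

theorem map_mem_genericPoints_of_flat {W V : Scheme.{u}} (h : W ⟶ V) [Flat h] {w : W}
    (hw : w ∈ genericPoints W) : h w ∈ genericPoints V := by
  obtain ⟨η, hη, hsp⟩ := MorLib.Birat.exists_generic (h w)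
  obtain ⟨w', hw', rfl⟩ := Flat.generalizingMap h hsp
  rwa [← MorLib.Birat.eq_of_specializes_generic hw hw']

theorem mem_genericPoints_of_etale {W V : Scheme.{u}} (h : W ⟶ V) [Etale h] {w : W}
    (hw : h w ∈ genericPoints V) : w ∈ genericPoints W := by
  obtain ⟨w', hw', hsp⟩ := MorLib.Birat.exists_generic w
  have := MorLib.Birat.eq_of_specializes_generic hw (hsp.map h.continuous)
  rwa [← eq_of_specializes_of_isIntegral h hsp this
    (RingHom.Finite.to_isIntegral (Groth.Agent.MorLib.GF.finite_residueFieldMap h w'))]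

/-- A morphism which is an isomorphism over `Spec O_w` with a single point `q` over `w` induces an
isomorphism of local rings at `q`. -/
theorem isIso_stalkMap_of_isIso_pullback {Q W : Scheme.{u}} (f : Q ⟶ W) (q : Q)
    (h : IsIso (pullback.snd f (W.fromSpecStalk (f q)))) : IsIso (f.stalkMap q) := by
  let σ := inv (pullback.snd f (W.fromSpecStalk (f q))) ≫ pullback.fst f (W.fromSpecStalk (f q))
  have hσ : σ ≫ f = W.fromSpecStalk (f q) := by
    rw [Category.assoc, pullback.condition, IsIso.inv_hom_id_assoc]
  have key : ∀ {Z : Scheme.{u}} (a : Z ⟶ Q) (b : Z ⟶ Spec (W.presheaf.stalk (f q))),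
      a ≫ f = b ≫ W.fromSpecStalk (f q) → a = b ≫ σ := fun a b w => by
    have h2 : pullback.lift a b w = b ≫ inv (pullback.snd f (W.fromSpecStalk (f q))) := by
      rw [← cancel_mono (pullback.snd f (W.fromSpecStalk (f q))), pullback.lift_snd, Category.assoc,
        IsIso.inv_hom_id, Category.comp_id]
    have h3 := pullback.lift_fst a b w
    rw [h2, Category.assoc] at h3
    exact h3.symm
  have h1 : Q.fromSpecStalk q = Spec.map (f.stalkMap q) ≫ σ :=
    key _ _ (Scheme.SpecMap_stalkMap_fromSpecStalk f).symm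
  have hq : σ (IsLocalRing.closedPoint _) = q := by
    have h4 := congrArg (fun φ => φ.base (IsLocalRing.closedPoint (Q.presheaf.stalk q))) h1
    simp only [Scheme.fromSpecStalk_closedPoint, Scheme.Hom.comp_base, TopCat.comp_app] at h4
    rw [Spec_closedPoint] at h4
    exact h4.symm
  obtain ⟨φ, hφ⟩ : ∃ φ : Q.presheaf.stalk q ⟶ W.presheaf.stalk (f q),
      Spec.map φ ≫ Q.fromSpecStalk q = σ :=
    ⟨(Q.presheaf.stalkCongr (.of_eq hq)).inv ≫ Scheme.stalkClosedPointTo σ, by
      rw [Spec.map_comp, Category.assoc]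
      refine Eq.trans ?_ (Scheme.Spec_stalkClosedPointTo_fromSpecStalk σ)
      congr 1
      exact Scheme.SpecMap_stalkSpecializes_fromSpecStalk (specializes_of_eq hq)⟩
  refine ⟨φ, ?_, ?_⟩
  · refine Spec.map_injective ((cancel_mono (W.fromSpecStalk (f q))).1 ?_)
    rw [Spec.map_comp, Spec.map_id, Category.id_comp, Category.assoc,
      Scheme.SpecMap_stalkMap_fromSpecStalk, reassoc_of% hφ, hσ]
  · refine Spec.map_injective ((cancel_mono (Q.fromSpecStalk q)).1 ?_)
    rw [Spec.map_comp, Spec.map_id, Category.id_comp, Category.assoc, hφ, h1]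

/-- Base change of a birational morphism of schemes along an etale morphism. -/
theorem birational_baseChange {U V W Q : Scheme.{u}} (g : U ⟶ V) (h : W ⟶ V) [Etale h]
    {q₁ : Q ⟶ U} {q₂ : Q ⟶ W} (sq : IsPullback q₁ q₂ g h)
    (hUf : (irreducibleComponents U).Finite) (hVf : (irreducibleComponents V).Finite)
    (hWf : (irreducibleComponents W).Finite)
    (hbij : Set.BijOn g (genericPoints U) (genericPoints V))
    (hiso : ∀ u ∈ genericPoints U, IsIso (g.stalkMap u)) :
    (irreducibleComponents Q).Finite ∧ Set.BijOn q₂ (genericPoints Q) (genericPoints W) ∧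
      ∀ q ∈ genericPoints Q, IsIso (q₂.stalkMap q) := by
  have : Etale q₁ := MorphismProperty.of_isPullback sq.flip ‹Etale h›
  have hmaps : Set.MapsTo q₂ (genericPoints Q) (genericPoints W) := fun q hq => by
    refine mem_genericPoints_of_etale h ?_
    rw [← Scheme.Hom.comp_apply, ← sq.w, Scheme.Hom.comp_apply]
    exact hbij.mapsTo (map_mem_genericPoints_of_flat q₁ hq)
  have hfib : ∀ w ∈ genericPoints W, IsIso (pullback.snd q₂ (W.fromSpecStalk w)) := by
    intro w hw
    have h0 := Groth.Agent.S9677.result g hUf hVf hbij hiso (h w) (map_mem_genericPoints_of_flat h hw)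
    have sq' := (IsPullback.of_hasPullback q₂ (W.fromSpecStalk w)).paste_horiz sq
    rw [← sq'.isoPullback_hom_snd]
    have : IsIso (pullback.snd g (W.fromSpecStalk w ≫ h)) := by
      rw [← Scheme.SpecMap_stalkMap_fromSpecStalk h, ← pullbackLeftPullbackSndIso_inv_snd_snd]
      infer_instance
    exact IsIso.comp_isIso' inferInstance this
  have hinj : ∀ q q', q₂ q ∈ genericPoints W → q₂ q' = q₂ q → q' = q := by
    intro q q' hq he
    have := hfib _ hq
    obtain ⟨z, hz1, hz2⟩ := Scheme.Pullback.exists_preimage_pullback (f := q₂)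
      (g := W.fromSpecStalk (q₂ q)) q (IsLocalRing.closedPoint _) Scheme.fromSpecStalk_closedPoint.symm
    obtain ⟨z', hz1', hz2'⟩ := Scheme.Pullback.exists_preimage_pullback (f := q₂)
      (g := W.fromSpecStalk (q₂ q)) q' (IsLocalRing.closedPoint _)
      (he.trans Scheme.fromSpecStalk_closedPoint.symm)
    rw [← hz1, ← hz1', (pullback.snd q₂ (W.fromSpecStalk (q₂ q))).isOpenEmbedding.injective
      (hz2'.trans hz2.symm)]
  have hb : Set.BijOn q₂ (genericPoints Q) (genericPoints W) := by
    refine ⟨hmaps, fun q hq q' _ he => (hinj q q' (hmaps hq) he.symm).symm, fun w hw => ?_⟩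
    have := hfib w hw
    obtain ⟨z, hz⟩ := (pullback.snd q₂ (W.fromSpecStalk w)).surjective (IsLocalRing.closedPoint _)
    let q := pullback.fst q₂ (W.fromSpecStalk w) z
    have hqw : q₂ q = w := by
      rw [← Scheme.Hom.comp_apply, pullback.condition, Scheme.Hom.comp_apply, hz,
        Scheme.fromSpecStalk_closedPoint]
    obtain ⟨q', hq', hsp⟩ := MorLib.Birat.exists_generic q
    have hq'w : q₂ q' = w := MorLib.Birat.eq_of_specializes_generic hw (hqw ▸ hsp.map q₂.continuous)
    exact ⟨q', hq', hq'w⟩
  refine ⟨finite_components_of_genericPoints (Set.Finite.of_finite_image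
    ((genericPoints.finite hWf).subset hb.mapsTo.image_subset) hb.injOn), hb,
    fun q hq => isIso_stalkMap_of_isIso_pullback q₂ q (hfib _ (hmaps hq))⟩

variable {S : Scheme.{u}}

theorem isBirational_baseChange {X Y : Space S} (f : X ⟶ Y) (hX : IsDecent X.obj) (hY : IsDecent Y.obj)
    (hXf : (irreducibleComponents (Points X.obj)).Finite)
    (hYf : (irreducibleComponents (Points Y.obj)).Finite)
    (hf : W4stk3decentspacesp2.IsBirational f.hom) {V : Over S} [IsAffine V.left]
    (b : (yon S).obj V ⟶ Y.obj) (hb : RepWith @Etale b) {P : Sp S} (fst : P ⟶ X.obj)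
    (snd : P ⟶ (yon S).obj V) (hP : IsPullback fst snd f.hom b) :
    IsDecent P ∧ (irreducibleComponents (Points P)).Finite ∧
      (irreducibleComponents (Points ((yon S).obj V))).Finite ∧
      W4stk3decentspacesp2.IsBirational snd := by
  obtain ⟨U, V₀, a, b₀, g, ha, hb₀, w, hgU, hgV, hUf, hVf, hbij, hiso⟩ :=
    exists_model f hX hY hXf hYf hf
  haveI := t0Space_points X.property hX
  haveI := quasiSober_points X.property hX
  haveI := t0Space_points Y.property hY
  have hPA : IsAlgSpace P := (isAlgSpace_pullback X.property (IsAlgSpace.yon_obj _) Y.property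
    f.hom b).of_iso hP.isoPullback.symm
  have hfe : RepWith @Etale fst := repWith_of_isPullback hP.flip hb
  have hPd : IsDecent P := isDecent_of_isEtaleMor hPA X.property fst (isEtaleMor_of_repWith hfe) hX
  haveI := t0Space_points hPA hPd
  haveI := quasiSober_points hPA hPd
  -- generic points of the etale neighbourhood
  have hVgen : ∀ v ∈ genericPoints ↥V.left, Points.ofPt b v ∈ genericPoints (Points Y.obj) := by
    intro v hv
    haveI := quasiSober_points Y.property hY
    obtain ⟨η, hη, hsp⟩ := exists_generic (Points.ofPt b v)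
    obtain ⟨v', hv', rfl⟩ := exists_specializes_lift_of_isDecent hY hb hsp
    rwa [← MorLib.Birat.eq_of_specializes_generic hv hv']
  have hVc : (irreducibleComponents ↥V.left).Finite :=
    finite_components_of_genericPoints <| ((genericPoints.finite hYf).biUnion
      fun y _ => finite_fibre Y.property hY hb y).subset fun v hv =>
        Set.mem_biUnion (hVgen v hv) rfl
  have hVP : (irreducibleComponents (Points ((yon S).obj V))).Finite :=
    finite_components (Points.schemeHomeo V).symm.isOpenEmbedding hVc
  -- the open subscheme `W` of `V` and the scheme `Q` over it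
  have sqW := hb₀.rep.isPullback' b
  let W := hb₀.rep.pullback b
  let i : W ⟶ V := hb₀.rep.snd b
  let h : W ⟶ V₀ := hb₀.rep.fst' b
  have : IsOpenImmersion i.left := hb₀.property_snd b
  have : Etale h.left := hb.property _ _ _ sqW.flip
  have hWf := finite_components i.left.isOpenEmbedding hVc
  have hiW : genericPoints ↥V.left ⊆ Set.range i.left := fun v hv => by
    obtain ⟨v₀, hv₀⟩ := hgV (hVgen v hv)
    obtain ⟨z, -, hz⟩ := exists_ofPt_of_eq sqW hv₀
    exact ⟨z, hz⟩
  let q₁ := pullback.fst g h
  let q₂ := pullback.snd g h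
  have sqQ := IsPullback.of_hasPullback g h
  obtain ⟨hQf, hQbij, hQiso⟩ := birational_baseChange g.left h.left (sqQ.map (Over.forget S))
    hUf hVf hWf hbij hiso
  let aQ : (yon S).obj (pullback g h) ⟶ P :=
    hP.lift ((yon S).map q₁ ≫ a) ((yon S).map (q₂ ≫ i)) (by
      rw [Category.assoc, w, ← CategoryTheory.Functor.map_comp_assoc, sqQ.w,
        CategoryTheory.Functor.map_comp_assoc, sqW.w, CategoryTheory.Functor.map_comp, Category.assoc])
  have sqA : IsPullback ((yon S).map q₁) aQ a fst := by
    refine IsPullback.of_bot ?_ (hP.lift_fst _ _ _).symm hP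
    rw [hP.lift_snd, CategoryTheory.Functor.map_comp, w]
    exact (sqQ.map (yon S)).paste_vert sqW
  have haQ : RepWith @IsOpenImmersion aQ := repWith_of_isPullback sqA ha
  have eQ := isOpenEmbedding_ofPt hPA haQ
  have eA := isOpenEmbedding_ofPt X.property ha
  have hopen : IsOpenMap (Points.map fst) :=
    isOpenMap_map (repWith_mono (fun _ _ e (_ : Etale e) => inferInstanceAs (UniversallyOpen e)) _ hfe)
  have hdense : Dense (Set.range (Points.ofPt aQ)) := by
    refine ((dense_of_genericPoints hgU).preimage hopen).mono ?_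
    rintro p ⟨u, hu⟩
    obtain ⟨z, -, hz⟩ := exists_point_of_isPullback sqA (x := Points.schemeHomeo U u) (y := p)
      ((Points.ofPt_eq_map_ofScheme a u).symm.trans hu)
    obtain ⟨z, rfl⟩ := (Points.schemeHomeo _).surjective z
    exact ⟨z, (Points.ofPt_eq_map_ofScheme _ _).trans hz⟩
  have hPf := finite_components_of_dense (Points.continuous_ofPt aQ) hdense hQf
  have hgP := genericPoints_subset_of_dense hPf eQ.isOpen_range hdense
  refine ⟨hPd, hPf, hVP, ?_, ?_⟩
  · have hsnd : ∀ z, Points.map snd (Points.ofPt aQ z) =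
        Points.schemeHomeo V (i.left (q₂.left z)) := fun z => by
      rw [Points.map_ofPt, hP.lift_snd, Points.ofPt_eq_map_ofScheme]
      exact Points.map_yon_map_apply _ _
    have hV : ∀ v, Points.schemeHomeo V v ∈ genericPoints (Points ((yon S).obj V)) ↔
        v ∈ genericPoints ↥V.left :=
      fun v => (mem_genericPoints_iff (Points.schemeHomeo V).isOpenEmbedding).symm
    refine ⟨fun p hp => ?_, fun p hp p' hp' he => ?_, fun v hv => ?_⟩
    · obtain ⟨z, rfl⟩ := hgP hp
      rw [hsnd, hV, ← mem_genericPoints_iff i.left.isOpenEmbedding]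
      exact hQbij.mapsTo ((mem_genericPoints_iff eQ).2 hp)
    · obtain ⟨z, rfl⟩ := hgP hp
      obtain ⟨z', rfl⟩ := hgP hp'
      rw [hsnd, hsnd] at he
      rw [hQbij.injOn ((mem_genericPoints_iff eQ).2 hp) ((mem_genericPoints_iff eQ).2 hp')
        (i.left.isOpenEmbedding.injective ((Points.schemeHomeo V).injective he))]
    · obtain ⟨v, rfl⟩ := (Points.schemeHomeo V).surjective v
      obtain ⟨z₀, rfl⟩ := hiW ((hV v).1 hv)
      obtain ⟨z, hz, rfl⟩ := hQbij.surjOn
        ((mem_genericPoints_iff i.left.isOpenEmbedding).2 ((hV _).1 hv))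
      exact ⟨_, (mem_genericPoints_iff eQ).1 hz, hsnd z⟩
  · intro p hp
    obtain ⟨z, rfl⟩ := hgP hp
    exact ⟨_, W, aQ, (yon S).map i, q₂, z, haQ, (repWith_yon_map_iff @IsOpenImmersion i).2 inferInstance,
      by rw [hP.lift_snd, CategoryTheory.Functor.map_comp], rfl,
      hQiso z ((mem_genericPoints_iff eQ).2 hp)⟩

end Groth.Agent.AlgSpDec.BiratSp
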