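import Groth.Agent.AlgSpDec.Fibres
import Groth.Agent.AlgSpDec.Basic
import Groth.Agent.AlgSpLib.Points
import Groth.Agent.DimFormula.Jacobson
import Groth.Agent.FibDim.AffineSpaceFibre
import Groth.Prelude.Def_W4stk3decentspacesp2Birat
import Mathlib.AlgebraicGeometry.ZariskisMainTheorem

/-!
# Decent spaces locally of finite type over a universally catenary base are catenary
-/

set_option autoImplicit false
set_option backward.isDefEq.respectTransparency false
set_option backward.isDefEq.respectTransparency.types false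

universe u

open CategoryTheory Limits Opposite AlgebraicGeometry AlgSp Topology TopologicalSpace Groth.Agent.AlgSpLib
  Groth.Agent.AlgSpPts Groth.Agent.DimFormula

namespace Groth.Agent.AlgSpDec.CatenaryDecent

variable {S : Scheme.{u}} [IsLocallyNoetherian S]

/-- The dimension formula makes codimensions additive along a morphism locally of finite type. -/
theorem cd_add_of_lft (hS : ∀ s : ↥S, CAlg.IsUniversallyCatenary ↥(S.presheaf.stalk s)) {U : Scheme.{u}} (g : U ⟶ S)
    [LocallyOfFiniteType g] [IsLocallyNoetherian U] {ζ η x : U} (hη : η ⤳ x) (hζ : ζ ⤳ η) :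
    cd ζ x = cd η x + cd ζ η := by
  have h1 := (cd_formula g hη).2 (hS _)
  have h2 := (cd_formula g hζ).2 (hS _)
  have h3 := (cd_formula g (hζ.trans hη)).2 (hS _)
  have h4 := cd_trans (hη.map g.continuous) (hζ.map g.continuous) (hS _)
  omega

theorem cd_eq_one_of_immediate {U : Scheme.{u}} [IsLocallyNoetherian U] {η x : U} (h : η ⤳ x) (hne : η ≠ x)
    (himm : ∀ z : U, η ⤳ z → z ⤳ x → z = η ∨ z = x) : cd η x = 1 := by
  have h0 : cd η x ≠ 0 := fun h0 => hne ((cd_eq_zero_iff h).1 h0)
  suffices cd η x ≤ 1 by omega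
  obtain ⟨l, hl0, hl1, hl⟩ := exists_cd_series h
  rw [← hl]
  by_contra hlen
  push Not at hlen
  let z := l ⟨1, by omega⟩
  have hz1 : l.head < z := l.strictMono (show (0 : Fin (l.length + 1)) < ⟨1, by omega⟩ by rw [Fin.lt_def]; simp)
  have hz2 : z < l.last := l.strictMono (show (⟨1, by omega⟩ : Fin (l.length + 1)) < Fin.last _ by
    rw [Fin.lt_def]; simp; omega)
  have hzx : z ⤳ x := hl0 ▸ hz1.le
  have hzl : l.last ⤳ z := hz2.le
  rcases himm z (hl1.trans hzl) hzx with e | e
  · exact hz2.not_ge (show l.last ≤ z from e ▸ hl1)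
  · exact hz1.not_ge (show z ≤ l.head from e ▸ hl0 ▸ le_rfl)

theorem rd_eq_of_ofPt_eq {X : Sp S} {U : Over S} {a : (yon S).obj U ⟶ X} (ha : RepWith @Etale a)
    [LocallyOfFiniteType U.hom] {w w' : ↥U.left} (h : Points.ofPt a w = Points.ofPt a w') :
    U.hom w = U.hom w' ∧ FibDim.rd U.hom w = FibDim.rd U.hom w' := by
  obtain ⟨r, hr, hr'⟩ := exists_ofPt_of_eq (ha.rep.isPullback' a) h
  have ht : Etale (ha.rep.fst' a).left := ha.property a _ _ (ha.rep.isPullback' a).flip
  have hs : Etale (ha.rep.snd a).left := ha.property_snd a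
  have e : (ha.rep.fst' a).left ≫ U.hom = (ha.rep.snd a).left ≫ U.hom := (Over.w _).trans (Over.w _).symm
  subst hr hr'
  refine ⟨by rw [← Scheme.Hom.comp_apply, ← Scheme.Hom.comp_apply, e], ?_⟩
  have h1 := FibDim.rd_comp (ha.rep.fst' a).left U.hom r
  have h2 := FibDim.rd_comp (ha.rep.snd a).left U.hom r
  rw [FibDim.rd_eq_zero_of_quasiFinite (ha.rep.fst' a).left, Nat.add_zero] at h1
  rw [FibDim.rd_eq_zero_of_quasiFinite (ha.rep.snd a).left, Nat.add_zero] at h2
  simp only [e] at h1
  exact h1.symm.trans h2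

variable (hS : ∀ s : ↥S, CAlg.IsUniversallyCatenary ↥(S.presheaf.stalk s)) (X : Space S) (hX : IsDecent X.obj)
  (p : X.obj ⟶ (yon S).obj (Over.mk (𝟙 S))) (hp : LocP @LocallyOfFiniteType p)

include hS hX hp in
theorem isCatenarySpace : W4stk3decentspacesp2.IsCatenarySpace (Points X.obj) := by
  haveI := quasiSober_points X.property hX
  haveI := t0Space_points X.property hX
  intro T T' hTT'
  obtain ⟨U, a, u, -, ha, hu⟩ := exists_affine_chart_at X.property T.2.genericPoint
  haveI : LocallyOfFiniteType U.hom := by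
    obtain ⟨g, hg⟩ := (yon S).map_surjective (a ≫ p)
    have := hp a (𝟙 _) g ha (repWith_of_isIso _ _) (by rw [Category.comp_id]; exact hg.symm)
    have e : g.left = U.hom := (Category.comp_id _).symm.trans (Over.w g)
    rw [← e]; exact this
  haveI := LocallyOfFiniteType.isLocallyNoetherian U.hom
  have hgen : ∀ {A B : IrreducibleCloseds (Points X.obj)}, A ≤ B → B.2.genericPoint ⤳ A.2.genericPoint := fun {A B} h =>
    (B.2.isGenericPoint_genericPoint B.3).specializes (h (A.2.isGenericPoint_genericPoint A.3).mem)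
  have hinj : ∀ {A B : IrreducibleCloseds (Points X.obj)}, A.2.genericPoint = B.2.genericPoint → A = B := fun {A B} h =>
    IrreducibleCloseds.ext ((A.2.isGenericPoint_genericPoint A.3).def.symm.trans
      ((congrArg (fun z => closure {z}) h).trans (B.2.isGenericPoint_genericPoint B.3).def))
  have step : ∀ (q : LTSeries (IrreducibleCloseds (Points X.obj))), q.head = T → ∀ i : Fin (q.length + 1),
      ∃ w, w ⤳ u ∧ Points.ofPt a w = (q i).2.genericPoint ∧ (i : ℕ) ≤ cd w u ∧
        ((∀ j : Fin q.length, q j.castSucc ⋖ q j.succ) → cd w u = i) := by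
    intro q hq i
    induction i using Fin.induction with
    | zero => exact ⟨u, specializes_rfl, by rw [hu, ← hq], Nat.zero_le _, fun _ => cd_self u⟩
    | succ j ih =>
      obtain ⟨v, hvu, hv, hle, heq⟩ := ih
      have hlt : q j.castSucc < q j.succ := q.step j
      obtain ⟨w, hwv, hw⟩ := exists_specializes_lift_of_isDecent hX ha (u := v) (hv.symm ▸ hgen hlt.le)
      have hne : w ≠ v := fun e => hlt.ne (hinj (by rw [← hw, ← hv, e]))
      have h0 : cd w v ≠ 0 := fun h0 => hne ((cd_eq_zero_iff hwv).1 h0)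
      refine ⟨w, hwv.trans hvu, hw, ?_, fun hsat => ?_⟩
      · rw [cd_add_of_lft hS U.hom hvu hwv, Fin.val_succ]
        simp only [Fin.val_castSucc] at hle
        omega
      rw [cd_add_of_lft hS U.hom hvu hwv, heq hsat, cd_eq_one_of_immediate hwv hne fun z h1 h2 => ?_]
      · simp
      let C : IrreducibleCloseds (Points X.obj) := ⟨closure {Points.ofPt a z}, isIrreducible_singleton.closure, isClosed_closure⟩
      have hC1 : q j.castSucc ≤ C := by
        show ((q j.castSucc : IrreducibleCloseds _) : Set (Points X.obj)) ⊆ closure {Points.ofPt a z}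
        refine ((q j.castSucc).2.isGenericPoint_genericPoint (q j.castSucc).3).def.symm.subset.trans
          (closure_minimal (Set.singleton_subset_iff.2 ?_) isClosed_closure)
        exact specializes_iff_mem_closure.1 (hv ▸ h2.map (Points.continuous_ofPt a))
      have hC2 : C ≤ q j.succ :=
        closure_minimal (Set.singleton_subset_iff.2 ((hw ▸ h1.map (Points.continuous_ofPt a) :
          (q j.succ).2.genericPoint ⤳ Points.ofPt a z).mem_closed (q j.succ).3
            ((q j.succ).2.isGenericPoint_genericPoint (q j.succ).3).mem)) (q j.succ).3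
      have hz : C.2.genericPoint = Points.ofPt a z :=
        ((C.2.isGenericPoint_genericPoint C.3).eq isGenericPoint_closure)
      rcases (hsat j).eq_or_eq hC1 hC2 with e | e
      · exact Or.inr (eq_of_specializes_of_isDecent hX ha (by rw [← hz, hv, e]) h2).symm
      · exact Or.inl (eq_of_specializes_of_isDecent hX ha (by rw [← hz, hw, e]) h1)
  obtain ⟨y, hyu, hy⟩ := exists_specializes_lift_of_isDecent hX ha (hu.symm ▸ hgen hTT')
  have hlast : ∀ (q : LTSeries (IrreducibleCloseds (Points X.obj))), q.head = T → q.last = T' →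
      q.length ≤ cd y u ∧ ((∀ j : Fin q.length, q j.castSucc ⋖ q j.succ) → cd y u = q.length) := by
    intro q hq hq'
    obtain ⟨w, hwu, hw, hle, heq⟩ := step q hq (Fin.last _)
    obtain ⟨e1, e2⟩ := rd_eq_of_ofPt_eq ha (hw.trans ((congrArg (fun A : IrreducibleCloseds _ => A.2.genericPoint) hq').trans hy.symm))
    have h1 := (cd_formula U.hom hwu).2 (hS _)
    have h2 := (cd_formula U.hom hyu).2 (hS _)
    rw [e1, e2] at h1
    have e : cd w u = cd y u := by omega
    exact ⟨by simpa [e] using hle, fun hsat => by simpa [e] using heq hsat⟩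
  refine ⟨⟨cd y u, fun q hq hq' => (hlast q hq hq').1⟩, fun q r hq hq' hr hr' hqs hrs => ?_⟩
  rw [← (hlast q hq hq').2 hqs, (hlast r hr hr').2 hrs]

end Groth.Agent.AlgSpDec.CatenaryDecent
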