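import Groth.Prelude.Def_DescFam
import Groth.Agent.AlgSpLib.Rep
import Groth.Agent.AlgSpLib.FpqcDescent
import Mathlib.AlgebraicGeometry.Sites.Fpqc

/-!
# Representability from an effective descent class
-/

set_option backward.isDefEq.respectTransparency false
set_option backward.isDefEq.respectTransparency.types false
set_option autoImplicit false

universe u

open CategoryTheory CategoryTheory.Limits AlgebraicGeometry Opposite AlgSp Groth.Agent.AlgSpLib

namespace Groth.Agent.AlgSpDec.EffDesc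

variable {S : Scheme.{u}} {F G : Sp S} {f : G ⟶ F} {W Z P : Over S} {c : W ⟶ Z} {a : (yon S).obj Z ⟶ F}
  {fst : (yon S).obj P ⟶ G} {q : P ⟶ W} (sq : IsPullback fst ((yon S).map q) f ((yon S).map c ≫ a))

variable (fst) in
/-- Two points with the same image. -/
def Same {T : Scheme.{u}} (v v' : T ⟶ P.left) : Prop :=
  ∃ h : v ≫ P.hom = v' ≫ P.hom, (yon S).map (Over.homMk v h : Over.mk (v' ≫ P.hom) ⟶ P) ≫ fst =
    (yon S).map (Over.homMk v' rfl : Over.mk (v' ≫ P.hom) ⟶ P) ≫ fst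

theorem same_iff {T : Over S} (a b : T ⟶ P) :
    Same fst a.left b.left ↔ (yon S).map a ≫ fst = (yon S).map b ≫ fst := by
  let i : T ⟶ Over.mk (b.left ≫ P.hom) := Over.homMk (𝟙 _) (by
    show 𝟙 _ ≫ b.left ≫ P.hom = T.hom
    rw [Category.id_comp]; exact Over.w b)
  let i' : Over.mk (b.left ≫ P.hom) ⟶ T := Over.homMk (𝟙 _) (by
    show 𝟙 _ ≫ T.hom = b.left ≫ P.hom
    rw [Category.id_comp]; exact (Over.w b).symm)
  have hab : a.left ≫ P.hom = b.left ≫ P.hom := (Over.w a).trans (Over.w b).symm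
  have hb : i' ≫ b = (Over.homMk b.left rfl : Over.mk (b.left ≫ P.hom) ⟶ P) :=
    Over.OverMorphism.ext (Category.id_comp b.left)
  have ha : i' ≫ a = (Over.homMk a.left hab : Over.mk (b.left ≫ P.hom) ⟶ P) :=
    Over.OverMorphism.ext (Category.id_comp a.left)
  constructor
  · rintro ⟨h, e⟩
    have hi : ∀ x : T ⟶ P, i ≫ i' ≫ x = x := fun x => Over.OverMorphism.ext (by simp [i, i'])
    have e' := congrArg ((yon S).map i ≫ ·) e
    simp only [← ha, ← hb, ← Functor.map_comp_assoc, hi] at e'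
    exact e'
  · intro e
    refine ⟨hab, ?_⟩
    rw [← ha, ← hb, Functor.map_comp, Functor.map_comp, Category.assoc, Category.assoc, e]

theorem Same.symm {T : Scheme.{u}} {v v' : T ⟶ P.left} (h : Same fst v v') : Same fst v' v := by
  obtain ⟨h₁, h₂⟩ := h
  let A : Over.mk (v' ≫ P.hom) ⟶ P := Over.homMk v h₁
  let B : Over.mk (v' ≫ P.hom) ⟶ P := Over.homMk v' rfl
  exact (same_iff (T := Over.mk (v' ≫ P.hom)) B A).2 h₂.symm

theorem Same.trans {T : Scheme.{u}} {v v' v'' : T ⟶ P.left} (h : Same fst v v') (h' : Same fst v' v'') :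
    Same fst v v'' := by
  have h₁ := h'.1
  have h₀ := h.1
  let A : Over.mk (v'' ≫ P.hom) ⟶ P := Over.homMk v (h₀.trans h₁)
  let B : Over.mk (v'' ≫ P.hom) ⟶ P := Over.homMk v' h₁
  let C : Over.mk (v'' ≫ P.hom) ⟶ P := Over.homMk v'' rfl
  exact (same_iff (T := Over.mk (v'' ≫ P.hom)) A C).2
    (((same_iff (T := Over.mk (v'' ≫ P.hom)) A B).1 h).trans ((same_iff (T := Over.mk (v'' ≫ P.hom)) B C).1 h'))

theorem Same.comp {T T' : Scheme.{u}} {v v' : T ⟶ P.left} (g : T' ⟶ T) (h : Same fst v v') :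
    Same fst (g ≫ v) (g ≫ v') := by
  obtain ⟨h₀, h₁⟩ := h
  let k : Over.mk (g ≫ v' ≫ P.hom) ⟶ Over.mk (v' ≫ P.hom) := Over.homMk g rfl
  refine (same_iff (k ≫ Over.homMk v h₀) (k ≫ Over.homMk v' rfl)).2 ?_
  rw [Functor.map_comp, Functor.map_comp, Category.assoc, Category.assoc, h₁]

include sq in
theorem same_ext {T : Scheme.{u}} {v v' : T ⟶ P.left} (hq : v ≫ q.left = v' ≫ q.left) (h : Same fst v v') :
    v = v' := by
  obtain ⟨h₀, h₁⟩ := h
  let A : Over.mk (v' ≫ P.hom) ⟶ P := Over.homMk v h₀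
  let B : Over.mk (v' ≫ P.hom) ⟶ P := Over.homMk v' rfl
  have hAB : (yon S).map A = (yon S).map B := sq.hom_ext h₁
    (by rw [← Functor.map_comp, ← Functor.map_comp, show A ≫ q = B ≫ q from Over.OverMorphism.ext hq])
  exact congrArg CommaMorphism.left ((yon S).map_injective hAB)

include sq in
theorem exists_point {T : Scheme.{u}} (v : T ⟶ P.left) (x₀ x₁ : T ⟶ W.left) (hv : v ≫ q.left = x₀)
    (h : x₀ ≫ c.left = x₁ ≫ c.left) : ∃ v' : T ⟶ P.left, v' ≫ q.left = x₁ ∧ Same fst v' v := by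
  let T' : Over S := Over.mk (v ≫ P.hom)
  let A : T' ⟶ P := Over.homMk v rfl
  let X₁ : T' ⟶ W := Over.homMk x₁ (by
    show x₁ ≫ W.hom = v ≫ P.hom
    rw [← Over.w c, ← Category.assoc, ← h, Category.assoc, Over.w c, ← hv, Category.assoc, Over.w q])
  have hc : (A ≫ q) ≫ c = X₁ ≫ c := Over.OverMorphism.ext (by
    show (v ≫ q.left) ≫ c.left = x₁ ≫ c.left
    rw [hv, h])
  obtain ⟨k, hk⟩ := (yon S).map_surjective (sq.lift ((yon S).map A ≫ fst) ((yon S).map X₁) (by
    rw [Category.assoc, sq.w, ← Functor.map_comp_assoc, ← Functor.map_comp_assoc,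
      ← Functor.map_comp_assoc, hc]))
  have hq' : k ≫ q = X₁ := (yon S).map_injective (by rw [Functor.map_comp, hk, sq.lift_snd])
  exact ⟨k.left, congrArg CommaMorphism.left hq', (same_iff k A).2 (by rw [hk, sq.lift_fst])⟩

/-- The point over `x₁` moved from a point over `x₀`. -/
noncomputable def move {T : Scheme.{u}} (x₀ x₁ : T ⟶ W.left) (h : x₀ ≫ c.left = x₁ ≫ c.left)
    (v : Desc.Lifts (Over.mk q.left) x₀) : Desc.Lifts (Over.mk q.left) x₁ :=
  ⟨(exists_point sq v.1 x₀ x₁ v.2 h).choose, (exists_point sq v.1 x₀ x₁ v.2 h).choose_spec.1⟩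

theorem same_move {T : Scheme.{u}} (x₀ x₁ : T ⟶ W.left) (h : x₀ ≫ c.left = x₁ ≫ c.left)
    (v : Desc.Lifts (Over.mk q.left) x₀) : Same fst (move sq x₀ x₁ h v).1 v.1 :=
  (exists_point sq v.1 x₀ x₁ v.2 h).choose_spec.2

include sq in
theorem lifts_ext {T : Scheme.{u}} {x : T ⟶ W.left} {v v' : Desc.Lifts (Over.mk q.left) x}
    (h : Same fst v.1 v'.1) : v = v' :=
  Subtype.ext (same_ext sq (v.2.trans v'.2.symm) h)

theorem same_refl {T : Scheme.{u}} (v : T ⟶ P.left) : Same fst v v := ⟨rfl, rfl⟩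

/-- The descent datum of the pullback. -/
noncomputable def dd : Desc.SchDD c.left where
  obj := Over.mk q.left
  φ _ x₀ x₁ h :=
    { toFun := move sq x₀ x₁ h
      invFun := move sq x₁ x₀ h.symm
      left_inv := fun v => lifts_ext sq ((same_move sq x₁ x₀ h.symm _).trans (same_move sq x₀ x₁ h v))
      right_inv := fun v => lifts_ext sq ((same_move sq x₀ x₁ h _).trans (same_move sq x₁ x₀ h.symm v)) }
  φ_natural _ _ g x₀ x₁ h h' v v' hv' := by
    show (move sq (g ≫ x₀) (g ≫ x₁) h' v').1 = g ≫ (move sq x₀ x₁ h v).1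
    refine same_ext sq ?_ ?_
    · exact ((move sq (g ≫ x₀) (g ≫ x₁) h' v').2).trans
        (((congrArg (g ≫ ·) (move sq x₀ x₁ h v).2).symm).trans (Category.assoc _ _ _).symm)
    · refine (same_move sq _ _ h' v').trans ?_
      rw [hv']
      exact Same.comp g (same_move sq x₀ x₁ h v).symm
  φ_self _ x v := lifts_ext sq (same_move sq x x rfl v)
  φ_comp _ x₀ x₁ x₂ h₀₁ h₁₂ v := lifts_ext sq (((same_move sq x₁ x₂ h₁₂ _).trans (same_move sq x₀ x₁ h₀₁ v)).trans
    (same_move sq x₀ x₂ (h₀₁.trans h₁₂) v).symm)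

include sq in
/-- An effective descent datum gives a scheme representing the fibre product. -/
theorem exists_rep [Surjective c.left] [Flat c.left] [LocallyOfFinitePresentation c.left]
    (he : (Desc.toDD c.left).essImage (dd sq)) :
    ∃ (Y : Over S) (φ : (yon S).obj Y ⟶ G) (u : Y ⟶ Z) (r : P ⟶ Y),
      IsPullback φ ((yon S).map u) f a ∧ IsPullback r.left q.left u.left c.left := by
  obtain ⟨U₀, ⟨e⟩⟩ := he
  let eo : pullback c.left U₀.hom ≅ P.left :=
    { hom := e.hom.hom.left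
      inv := e.inv.hom.left
      hom_inv_id := congrArg CommaMorphism.left (congrArg Desc.SchDD.Hom.hom e.hom_inv_id)
      inv_hom_id := congrArg CommaMorphism.left (congrArg Desc.SchDD.Hom.hom e.inv_hom_id) }
  have he : eo.inv ≫ pullback.fst c.left U₀.hom = q.left := Over.w e.inv.hom
  let r : P.left ⟶ U₀.left := eo.inv ≫ pullback.snd c.left U₀.hom
  have sqr : IsPullback q.left r c.left U₀.hom := by
    refine (IsPullback.of_hasPullback c.left U₀.hom).of_iso eo (Iso.refl _) (Iso.refl _) (Iso.refl _) ?_ ?_ ?_ ?_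
    · rw [← he]; simp
    · simp [r]
    · simp
    · simp
  let Y : Over S := Over.mk (U₀.hom ≫ Z.hom)
  have hrw : r ≫ U₀.hom ≫ Z.hom = P.hom := by
    rw [← Category.assoc, ← sqr.w, Category.assoc, Over.w c]
    exact Over.w q
  let u : Y ⟶ Z := Over.homMk U₀.hom rfl
  let ro : P ⟶ Y := Over.homMk r hrw
  have hru : ro ≫ u = q ≫ c := Over.OverMorphism.ext sqr.w.symm
  have hr : fppf ro.left := MorphismProperty.of_isPullback sqr (fppf_of c.left)
  have hR : Sieve.generate (Presieve.singleton ro) ∈ J S Y :=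
    mem_J_of_fppf ro hr _ ⟨P, 𝟙 P, ro, Presieve.singleton_self ro, Category.id_comp _⟩
  have hcomp : ∀ (T : Over S) (z₀ z₁ : T ⟶ P), z₀ ≫ ro = z₁ ≫ ro →
      (yon S).map z₀ ≫ fst = (yon S).map z₁ ≫ fst := by
    intro T z₀ z₁ hz
    have hz' : z₀.left ≫ r = z₁.left ≫ r := congrArg CommaMorphism.left hz
    have hx : (z₀.left ≫ q.left) ≫ c.left = (z₁.left ≫ q.left) ≫ c.left := by
      simp only [Category.assoc, sqr.w]
      simp only [← Category.assoc, hz']
    let D := dd sq
    let v : Desc.Lifts D.obj (z₀.left ≫ q.left) := ⟨z₀.left, rfl⟩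
    have key : _ = (D.φ _ _ hx v).1 ≫ e.inv.hom.left :=
      e.inv.comm (z₀.left ≫ q.left) (z₁.left ≫ q.left) hx v (e.inv.push v) rfl
    have hr : (D.φ _ _ hx v).1 ≫ r = z₀.left ≫ r := by
      have key' := congrArg (· ≫ pullback.snd c.left U₀.hom) key
      refine ((Category.assoc _ _ _).symm.trans key'.symm).trans ?_
      show (Desc.canMap c.left U₀ _ _ hx (e.inv.push v)).1 ≫ pullback.snd c.left U₀.hom = z₀.left ≫ r
      simp only [Desc.canMap_val, pullback.lift_snd]
      exact Category.assoc _ _ _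
    have hz₁ : (D.φ _ _ hx v).1 = z₁.left := sqr.hom_ext (D.φ _ _ hx v).2 (hr.trans hz')
    refine ((same_iff z₀ z₁).1 ?_)
    rw [← hz₁]
    exact (same_move sq _ _ hx v).symm
  have hs : Presieve.IsSheafFor G.obj (Presieve.singleton ro) :=
    (Presieve.isSheafFor_iff_generate _).2 (((isSheaf_iff_isSheaf_of_type _ _).1 G.property) _ hR)
  obtain ⟨φ₀, hφ₀, -⟩ := Presieve.isSheafFor_singleton.1 hs (((J S).uliftYonedaEquiv.{u + 1} fst))
    fun p₁ p₂ h => by rw [uliftYonedaEquiv_precomp, uliftYonedaEquiv_precomp, hcomp _ p₁ p₂ h]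
  obtain ⟨φ, rfl⟩ := (J S).uliftYonedaEquiv.{u + 1}.surjective φ₀
  rw [uliftYonedaEquiv_precomp] at hφ₀
  have hφ : (yon S).map ro ≫ φ = fst := (J S).uliftYonedaEquiv.injective hφ₀
  have hw : φ ≫ f = (yon S).map u ≫ a := by
    refine hom_ext_of_fppf ro hr _ _ ?_
    rw [← Category.assoc, hφ, sq.w, ← Functor.map_comp_assoc, ← Functor.map_comp_assoc, hru]
  let k : (yon S).obj Y ⟶ pullback f a := pullback.lift φ ((yon S).map u) hw
  have : Mono k := mono_of_yon_injective fun T t₀ t₁ ht => by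
    obtain ⟨y₀, rfl⟩ := (yon S).map_surjective t₀
    obtain ⟨y₁, rfl⟩ := (yon S).map_surjective t₁
    have h₁ : (yon S).map y₀ ≫ φ = (yon S).map y₁ ≫ φ := by
      simpa [k] using ht =≫ pullback.fst f a
    have h₂ : y₀ ≫ u = y₁ ≫ u := (yon S).map_injective (by
      rw [Functor.map_comp, Functor.map_comp]
      simpa [k] using ht =≫ pullback.snd f a)
    let c' := pullback.snd c (y₀ ≫ u)
    have hc' : fppf c'.left :=
      MorphismProperty.of_isPullback ((IsPullback.of_hasPullback c (y₀ ≫ u)).map (Over.forget S)) (fppf_of c.left)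
    refine hom_ext_of_fppf c' hc' _ _ ?_
    let w := pullback.fst c (y₀ ≫ u)
    have hw₀ : w ≫ c = c' ≫ y₀ ≫ u := pullback.condition
    have hw₁ : w ≫ c = c' ≫ y₁ ≫ u := hw₀.trans (congrArg (c' ≫ ·) h₂)
    obtain ⟨p₀, hp₀q, hp₀r⟩ : ∃ p : pullback c (y₀ ≫ u) ⟶ P, p ≫ q = w ∧ p ≫ ro = c' ≫ y₀ := by
      let l := sqr.lift w.left (c' ≫ y₀).left (congrArg CommaMorphism.left hw₀ |>.trans (by simp [u]))
      refine ⟨Over.homMk l ?_, Over.OverMorphism.ext (sqr.lift_fst _ _ _), Over.OverMorphism.ext (sqr.lift_snd _ _ _)⟩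
      rw [← Over.w q, ← Category.assoc, show l ≫ q.left = w.left from sqr.lift_fst _ _ _]
      exact Over.w w
    obtain ⟨p₁, hp₁q, hp₁r⟩ : ∃ p : pullback c (y₀ ≫ u) ⟶ P, p ≫ q = w ∧ p ≫ ro = c' ≫ y₁ := by
      let l := sqr.lift w.left (c' ≫ y₁).left (congrArg CommaMorphism.left hw₁ |>.trans (by simp [u]))
      refine ⟨Over.homMk l ?_, Over.OverMorphism.ext (sqr.lift_fst _ _ _), Over.OverMorphism.ext (sqr.lift_snd _ _ _)⟩
      rw [← Over.w q, ← Category.assoc, show l ≫ q.left = w.left from sqr.lift_fst _ _ _]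
      exact Over.w w
    have hp : p₀ = p₁ := (yon S).map_injective (sq.hom_ext
      (by rw [← hφ, ← Functor.map_comp_assoc, ← Functor.map_comp_assoc, hp₀r, hp₁r, Functor.map_comp,
        Functor.map_comp, Category.assoc, Category.assoc, h₁])
      (by rw [← Functor.map_comp, ← Functor.map_comp, hp₀q, hp₁q]))
    rw [← Functor.map_comp, ← Functor.map_comp, ← hp₀r, ← hp₁r, hp]
  have : Sheaf.IsLocallySurjective k := isLocallySurjective_of_lifts k fun T g => by
    obtain ⟨y, hy⟩ := (yon S).map_surjective (g ≫ pullback.snd f a)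
    let c' := pullback.snd c y
    have hc' : fppf c'.left :=
      MorphismProperty.of_isPullback ((IsPullback.of_hasPullback c y).map (Over.forget S)) (fppf_of c.left)
    obtain ⟨p, hp⟩ := (yon S).map_surjective (sq.lift ((yon S).map c' ≫ g ≫ pullback.fst f a)
      ((yon S).map (pullback.fst c y)) (by
        rw [Category.assoc, Category.assoc, pullback.condition, ← reassoc_of% hy, ← Functor.map_comp_assoc,
          ← Functor.map_comp_assoc, pullback.condition]))
    have hp₁ : (yon S).map p ≫ fst = (yon S).map c' ≫ g ≫ pullback.fst f a := by rw [hp, sq.lift_fst]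
    have hp₂ : p ≫ q = pullback.fst c y :=
      (yon S).map_injective (by rw [Functor.map_comp, hp, sq.lift_snd])
    refine ⟨_, c', (yon S).map (p ≫ ro), hc', pullback.hom_ext ?_ ?_⟩
    · simp only [k, Category.assoc, pullback.lift_fst]
      rw [Functor.map_comp, Category.assoc, hφ, hp₁]
    · simp only [k, Category.assoc, pullback.lift_snd, ← hy, ← Functor.map_comp, hru, reassoc_of% hp₂]
      exact congrArg _ pullback.condition
  have : IsIso k := isIso_of_mono_of_locallySurjective k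
  refine ⟨Y, φ, u, ro, (IsPullback.of_hasPullback f a).of_iso (asIso k).symm (Iso.refl _) (Iso.refl _) (Iso.refl _)
    ?_ ?_ (by simp) (by simp), sqr.flip⟩
  · simp only [Iso.symm_hom, asIso_inv, Iso.refl_hom, Category.comp_id, IsIso.eq_inv_comp, k, pullback.lift_fst]
  · simp only [Iso.symm_hom, asIso_inv, Iso.refl_hom, Category.comp_id, IsIso.eq_inv_comp, k, pullback.lift_snd]

end Groth.Agent.AlgSpDec.EffDesc
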