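import Groth.Agent.AlgSpDec.Fibres
import Groth.Agent.AlgSpDec.More
import Groth.Agent.S9798
import Mathlib.Topology.JacobsonSpace

/-!
# Isolated points of spaces locally of finite type over a field
-/

set_option backward.isDefEq.respectTransparency false
set_option backward.isDefEq.respectTransparency.types false

universe u

open CategoryTheory Limits Opposite AlgebraicGeometry AlgSp Groth.Agent.AlgSpLib Groth.Agent.AlgSpPts Topology
  TopologicalSpace

namespace Groth.Agent.AlgSpDec

/-- An isolated point of a Jacobson space is closed. -/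
theorem isClosed_of_isLocallyClosed_point {U : Type u} [TopologicalSpace U] [JacobsonSpace U] {w : U}
    (h : IsLocallyClosed ({w} : Set U)) : IsClosed ({w} : Set U) := by
  obtain ⟨v, hv, hv'⟩ := nonempty_inter_closedPoints (Set.singleton_nonempty w) h
  obtain rfl : v = w := hv
  exact hv'

/-- In a locally noetherian scheme a closed point without proper generisation is isolated. -/
theorem isOpen_singleton_of_closed_minimal {U : Scheme.{u}} [IsLocallyNoetherian U] {w : U}
    (hc : IsClosed ({w} : Set U)) (hm : ∀ v, v ⤳ w → v = w) : IsOpen ({w} : Set U) := by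
  obtain ⟨A, hA, hwA, -⟩ := exists_isAffineOpen_mem_and_subset (U := (⊤ : U.Opens)) (x := w) trivial
  have : IsAffine A.toScheme := hA
  have : IsNoetherian A.toScheme := { }
  let w' : A.toScheme := ⟨w, hwA⟩
  let C : Set A.toScheme := ⋃ T ∈ {T ∈ irreducibleComponents ↥A.toScheme | w' ∉ T}, T
  have hC : IsClosed C := (TopologicalSpace.NoetherianSpace.finite_irreducibleComponents.subset
    fun T hT => hT.1).isClosed_biUnion fun T hT => isClosed_of_mem_irreducibleComponents T hT.1
  have he : ({w'} : Set A.toScheme) = Cᶜ := by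
    ext v
    constructor
    · rintro rfl hv
      obtain ⟨T, hT, hvT⟩ := Set.mem_iUnion₂.1 hv
      exact hT.2 hvT
    · intro hv
      have hvT : w' ∈ irreducibleComponent v := by_contra fun h => hv
        (Set.mem_biUnion ⟨irreducibleComponent_mem_irreducibleComponents v, h⟩ mem_irreducibleComponent)
      have hg := (isIrreducible_irreducibleComponent (x := v)).isGenericPoint_genericPoint isClosed_irreducibleComponent
      have h1 := hm _ ((hg.specializes hvT).map A.ι.continuous)
      have h2 : v ∈ closure {w'} := by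
        have hgw : isIrreducible_irreducibleComponent.genericPoint = w' := Subtype.ext h1
        rw [← hgw, hg.def]; exact mem_irreducibleComponent
      exact Subtype.ext (hc.closure_subset ((specializes_iff_mem_closure.1
        ((specializes_iff_mem_closure.2 h2).map A.ι.continuous))))
  have hop : IsOpen ({w'} : Set A.toScheme) := he ▸ hC.isOpen_compl
  have h3 := A.ι.isOpenEmbedding.isOpenMap _ hop
  rwa [Set.image_singleton] at h3

/-- A set of isolated closed points of a locally noetherian scheme is closed. -/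
theorem isClosed_of_isolated {U : Scheme.{u}} [IsLocallyNoetherian U] {F : Set U}
    (ho : ∀ w ∈ F, IsOpen ({w} : Set U)) (hc : ∀ w ∈ F, IsClosed ({w} : Set U)) : IsClosed F := by
  refine isOpen_compl_iff.1 (isOpen_iff_forall_mem_open.2 fun v hv => ?_)
  obtain ⟨A, hA, hvA, -⟩ := exists_isAffineOpen_mem_and_subset (U := (⊤ : U.Opens)) (x := v) trivial
  have : IsAffine A.toScheme := hA
  have : IsNoetherian A.toScheme := { }
  have hfin : ((A : Set U) ∩ F).Finite := by
    have hk : IsCompact (A.ι ⁻¹' F) := TopologicalSpace.NoetherianSpace.isCompact _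
    obtain ⟨t, ht⟩ := hk.elim_finite_subcover (fun z : ↥(A.ι ⁻¹' F) => A.ι ⁻¹' {A.ι z.1})
      (fun z => (ho _ z.2).preimage A.ι.continuous) fun z hz => Set.mem_iUnion.2 ⟨⟨z, hz⟩, rfl⟩
    refine ((t.finite_toSet.image fun z => A.ι z.1)).subset fun z hz => ?_
    obtain ⟨i, hi, hiz⟩ := Set.mem_iUnion₂.1 (ht (show (⟨z, hz.1⟩ : A.toScheme) ∈ A.ι ⁻¹' F from hz.2))
    exact ⟨i, hi, (Set.mem_singleton_iff.1 hiz).symm⟩
  have hcl : IsClosed ((A : Set U) ∩ F) := by
    rw [← Set.biUnion_of_singleton ((A : Set U) ∩ F)]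
    exact hfin.isClosed_biUnion fun z hz => hc z hz.2
  exact ⟨A \ ((A : Set U) ∩ F), fun z hz hzF => hz.2 ⟨hz.1, hzF⟩, A.2.sdiff hcl, hvA, fun h => hv h.2⟩

section Field

variable {k : Type u} [Field k] {X : Sp (Spec (CommRingCat.of k))}

theorem chart_jacobson {p : X ⟶ (yon (Spec (CommRingCat.of k))).obj (Over.mk (𝟙 _))}
    (hp : LocP @LocallyOfFiniteType p) {U : Over (Spec (CommRingCat.of k))}
    {a : (yon (Spec (CommRingCat.of k))).obj U ⟶ X} (ha : RepWith @Etale a) :
    IsLocallyNoetherian U.left ∧ JacobsonSpace ↥U.left := by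
  obtain ⟨h, hh⟩ := (yon (Spec (CommRingCat.of k))).map_surjective (a ≫ p)
  have hl : LocallyOfFiniteType h.left := hp a (𝟙 _) h ha (repWith_id _ _) (by rw [Category.comp_id, hh])
  have : IsLocallyNoetherian (Over.mk (𝟙 (Spec (CommRingCat.of k)))).left :=
    inferInstanceAs (IsLocallyNoetherian (Spec (CommRingCat.of k)))
  have : JacobsonSpace ↥(Over.mk (𝟙 (Spec (CommRingCat.of k)))).left :=
    inferInstanceAs (JacobsonSpace (PrimeSpectrum k))
  exact ⟨LocallyOfFiniteType.isLocallyNoetherian h.left, LocallyOfFiniteType.jacobsonSpace h.left⟩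

variable {p : X ⟶ (yon (Spec (CommRingCat.of k))).obj (Over.mk (𝟙 _))}

/-- Over an isolated point, the points of a chart are isolated and closed. -/
theorem isolated_of_isOpen (hp : LocP @LocallyOfFiniteType p) {U : Over (Spec (CommRingCat.of k))}
    {a : (yon (Spec (CommRingCat.of k))).obj U ⟶ X} (ha : RepWith @Etale a) {x : Points X}
    (hx : IsOpen ({x} : Set (Points X))) {w : ↥U.left} (hw : Points.ofPt a w = x) :
    IsOpen ({w} : Set ↥U.left) ∧ IsClosed ({w} : Set ↥U.left) := by
  obtain ⟨hN, hJ⟩ := chart_jacobson hp ha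
  have hF : IsOpen (Points.ofPt a ⁻¹' {x}) := hx.preimage (Points.continuous_ofPt a)
  have hlc : IsLocallyClosed ({w} : Set ↥U.left) := by
    refine ⟨Points.ofPt a ⁻¹' {x}, closure {w}, hF, isClosed_closure, ?_⟩
    ext v
    constructor
    · rintro rfl; exact ⟨hw, subset_closure rfl⟩
    · rintro ⟨hv, hvw⟩
      exact eq_of_specializes_of_isLocallyNoetherian ha ((hv : Points.ofPt a v = x).trans hw.symm)
        (specializes_iff_mem_closure.2 hvw)
  have hc := isClosed_of_isLocallyClosed_point hlc
  exact ⟨isOpen_singleton_of_closed_minimal hc fun v hv => (eq_of_specializes_of_isLocallyNoetherian ha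
    (hw.trans (hv.mem_open hF hw : Points.ofPt a v = x).symm) hv).symm, hc⟩

theorem isClosed_of_isOpen_point (hX : IsAlgSpace X) (hp : LocP @LocallyOfFiniteType p) {x : Points X}
    (hx : IsOpen ({x} : Set (Points X))) : IsClosed ({x} : Set (Points X)) := by
  obtain ⟨U, a, ha, has⟩ := hX.atlas
  obtain ⟨hN, -⟩ := chart_jacobson hp ha
  refine isOpen_compl_iff.1 ((isOpen_iff_chart ha has).2 ?_)
  rw [Set.preimage_compl, isOpen_compl_iff]
  exact isClosed_of_isolated (fun w hw => (isolated_of_isOpen hp ha hx hw).1)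
    fun w hw => (isolated_of_isOpen hp ha hx hw).2

theorem isOpen_of_closed_minimal (hX : IsAlgSpace X) (hp : LocP @LocallyOfFiniteType p) {x : Points X}
    (hc : IsClosed ({x} : Set (Points X))) (hm : ∀ x', x' ⤳ x → x' = x) : IsOpen ({x} : Set (Points X)) := by
  obtain ⟨U, a, ha, has⟩ := hX.atlas
  obtain ⟨hN, -⟩ := chart_jacobson hp ha
  obtain ⟨w, hw⟩ := surjective_ofPt has x
  have hwc : IsClosed ({w} : Set ↥U.left) := closure_eq_iff_isClosed.1 <| Set.Subset.antisymm (fun v hv => by
    have hv' : Points.ofPt a v = x := by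
      have hs : x ⤳ Points.ofPt a v := hw ▸ (specializes_iff_mem_closure.2 hv).map (Points.continuous_ofPt a)
      exact hs.mem_closed hc rfl
    exact eq_of_specializes_of_isLocallyNoetherian ha (hv'.trans hw.symm) (specializes_iff_mem_closure.2 hv))
    subset_closure
  have hwo := isOpen_singleton_of_closed_minimal hwc fun v hv => (eq_of_specializes_of_isLocallyNoetherian ha
    (hw.trans (hm _ (hw ▸ hv.map (Points.continuous_ofPt a))).symm) hv).symm
  have := isOpenMap_ofPt ha _ hwo
  rwa [Set.image_singleton, hw] at this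

theorem isOpen_iff_hasAt (hX : IsAlgSpace X) (hp : LocP @LocallyOfFiniteType p) (x : Points X) :
    IsOpen ({x} : Set (Points X)) ↔ HasAt (fun U u => FlatMor.localDim ↥U u = 0) X x := by
  constructor
  · intro hx
    obtain ⟨U, a, ha, has⟩ := hX.atlas
    obtain ⟨hN, -⟩ := chart_jacobson hp ha
    obtain ⟨w, hw⟩ := surjective_ofPt has x
    exact ⟨U, a, w, ha, hw, (S9798.result U.left w).2 (isolated_of_isOpen hp ha hx hw).1⟩
  · rintro ⟨U, a, w, ha, hw, hd⟩
    obtain ⟨hN, -⟩ := chart_jacobson hp ha
    have := isOpenMap_ofPt ha _ ((S9798.result U.left w).1 hd)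
    rwa [Set.image_singleton, hw] at this

theorem dim_eq_zero_of_discrete (hX : IsAlgSpace X) (hp : LocP @LocallyOfFiniteType p) [Nonempty (Points X)]
    [DiscreteTopology (Points X)] : AlgSp.dim X = 0 := by
  refine le_antisymm (iSup_le fun U => iSup_le fun a => iSup_le fun ha => ?_) ?_
  · have : DiscreteTopology ↥U.left := discreteTopology_iff_isOpen_singleton.2 fun w =>
      (isolated_of_isOpen hp ha (isOpen_discrete {Points.ofPt a w}) rfl).1
    exact topologicalKrullDim_zero_of_discreteTopology _
  · obtain ⟨U, a, ha, has⟩ := hX.atlas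
    obtain ⟨w, -⟩ := surjective_ofPt has (Classical.arbitrary _)
    have : Nonempty (IrreducibleCloseds ↥U.left) := ⟨⟨closure {w}, isIrreducible_singleton.closure, isClosed_closure⟩⟩
    refine le_trans ?_ (le_iSup_of_le U (le_iSup_of_le a (le_iSup (fun _ : RepWith @Etale a => topologicalKrullDim ↥U.left) ha)))
    exact Order.krullDim_nonneg

theorem discrete_of_dim_zero (hX : IsAlgSpace X) (hp : LocP @LocallyOfFiniteType p) (hd : AlgSp.dim X ≤ 0) :
    DiscreteTopology (Points X) := by
  refine discreteTopology_iff_isOpen_singleton.2 fun x => ?_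
  obtain ⟨U, a, ha, has⟩ := hX.atlas
  obtain ⟨hN, -⟩ := chart_jacobson hp ha
  obtain ⟨w, hw⟩ := surjective_ofPt has x
  refine (isOpen_iff_hasAt hX hp x).2 ⟨U, a, w, ha, hw, ?_⟩
  have h1 : topologicalKrullDim ↥U.left ≤ 0 :=
    le_trans (le_iSup_of_le U (le_iSup_of_le a (le_iSup (fun _ : RepWith @Etale a => topologicalKrullDim ↥U.left) ha))) hd
  refine le_antisymm (le_trans (iInf_le _ ⟨⊤, trivial⟩) ?_) (le_iInf fun V => ?_)
  · exact le_trans (IsInducing.subtypeVal.topologicalKrullDim_le) h1
  · have : Nonempty (IrreducibleCloseds ↥(V.1 : Set ↥U.left)) :=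
      ⟨⟨closure {⟨w, V.2⟩}, isIrreducible_singleton.closure, isClosed_closure⟩⟩
    exact Order.krullDim_nonneg

end Field

end Groth.Agent.AlgSpDec
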