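import Groth.Agent.AlgSpLib.Points
import Groth.Agent.AlgSpLib.Rep
import Groth.Agent.AlgSpDec.FreeQuotSep
import Groth.Agent.AlgSpDec.MonoRep
import Groth.Prelude.Def_AlgSpDec
import Mathlib.AlgebraicGeometry.Morphisms.QuasiFinite

/-!
# Finite fibres of fibre products over a point given by a monomorphism
-/

set_option backward.isDefEq.respectTransparency false
set_option backward.isDefEq.respectTransparency.types false

universe u

open CategoryTheory Limits Opposite AlgebraicGeometry AlgSp Groth.Agent.AlgSpLib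

namespace Groth.Agent.AlgSpDec

variable {S : Scheme.{u}} {Y : Sp S}

/-- On the fibre of a chart over a field-valued point, near a quasi-finite point the projection to
the point is locally quasi-finite and locally of finite type. -/
theorem exists_qf_open_fibre {p : FieldPt Y} (hpr : Representable p.toHom) {U V : Over S}
    {b : (yon S).obj V ⟶ Y} (hb : RepWith @Etale b) (h : U ⟶ V) (O : U.left.Opens)
    (h₁ : LocallyQuasiFinite (O.ι ≫ h.left)) (h₂ : LocallyOfFiniteType (O.ι ≫ h.left))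
    (w : ↥(hpr.pullback ((yon S).map h ≫ b)).left) (hw : (hpr.snd ((yon S).map h ≫ b)).left w ∈ O) :
    ∃ O' : (hpr.pullback ((yon S).map h ≫ b)).left.Opens, w ∈ O' ∧
      LocallyQuasiFinite (O'.ι ≫ (hpr.fst' ((yon S).map h ≫ b)).left) ∧
      LocallyOfFiniteType (O'.ι ≫ (hpr.fst' ((yon S).map h ≫ b)).left) := by
  let φ := (yon S).map h ≫ b
  let e₁ := hpr.fst' φ
  let e₂ := hpr.snd φ
  have sqU : IsPullback ((yon S).map e₁) ((yon S).map e₂) p.toHom φ := hpr.isPullback' φ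
  let c₁ := hpr.fst' b
  let c₂ := hpr.snd b
  have sqV : IsPullback ((yon S).map c₁) ((yon S).map c₂) p.toHom b := hpr.isPullback' b
  have : Etale c₁.left := hb.property _ _ _ sqV.flip
  obtain ⟨g, hg⟩ := (yon S).map_surjective (sqV.lift ((yon S).map e₁) ((yon S).map (e₂ ≫ h))
    (by rw [Functor.map_comp, Category.assoc]; exact sqU.w))
  have hg₁ : g ≫ c₁ = e₁ := (yon S).map_injective (by rw [Functor.map_comp, hg, sqV.lift_fst])
  have hg₂ : g ≫ c₂ = e₂ ≫ h := (yon S).map_injective (by rw [Functor.map_comp, hg, sqV.lift_snd])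
  have sq : IsPullback g.left e₂.left c₂.left h.left := isPullback_of_yon
    (IsPullback.of_right (by rw [← Functor.map_comp, hg₁]; exact sqU)
      (by rw [← Functor.map_comp, hg₂, Functor.map_comp]) sqV)
  have sq' := (isPullback_morphismRestrict e₂.left O).paste_vert sq.flip
  let O' := e₂.left ⁻¹ᵁ O
  have a₁ : LocallyQuasiFinite (O'.ι ≫ g.left) := MorphismProperty.of_isPullback sq' h₁
  have a₂ : LocallyOfFiniteType (O'.ι ≫ g.left) := MorphismProperty.of_isPullback sq' h₂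
  have he : O'.ι ≫ e₁.left = (O'.ι ≫ g.left) ≫ c₁.left := by
    rw [Category.assoc, ← Over.comp_left, hg₁]
  refine ⟨O', hw, ?_, ?_⟩
  · change LocallyQuasiFinite (O'.ι ≫ e₁.left)
    rw [he]; infer_instance
  · change LocallyOfFiniteType (O'.ι ≫ e₁.left)
    rw [he]; infer_instance

/-- Over a point given by a monomorphism from the spectrum of a field, a fibre product with a map
quasi-finite at a point has finitely many points over a given pair of points. -/
theorem finite_fibre_of_mono_point (p : FieldPt Y) [Mono p.toHom] (hpr : Representable p.toHom)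
    {U₁ U V R : Over S} (φ₁ : (yon S).obj U₁ ⟶ Y) {b : (yon S).obj V ⟶ Y} (hb : RepWith @Etale b)
    (h : U ⟶ V) {s : R ⟶ U₁} {t : R ⟶ U}
    (hR : IsPullback ((yon S).map t) ((yon S).map s) ((yon S).map h ≫ b) φ₁) (u₁ : ↥U₁.left) (u : ↥U.left)
    (hu₁ : Points.ofPt φ₁ u₁ = Points.mk p) (hu : Points.ofPt ((yon S).map h ≫ b) u = Points.mk p)
    (hqf : ∃ O : U.left.Opens, u ∈ O ∧ LocallyQuasiFinite (O.ι ≫ h.left) ∧ LocallyOfFiniteType (O.ι ≫ h.left)) :
    {r : ↥R.left | s.left r = u₁ ∧ t.left r = u}.Finite := by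
  let φ₂ := (yon S).map h ≫ b
  let P₁ := hpr.pullback φ₁
  let P₂ := hpr.pullback φ₂
  let v₁ := hpr.fst' φ₁
  let v₂ := hpr.snd φ₁
  let e₁ := hpr.fst' φ₂
  let e₂ := hpr.snd φ₂
  have sqP₁ : IsPullback ((yon S).map v₁) ((yon S).map v₂) p.toHom φ₁ := hpr.isPullback' φ₁
  have sqP₂ : IsPullback ((yon S).map e₁) ((yon S).map e₂) p.toHom φ₂ := hpr.isPullback' φ₂
  have : Mono v₂ := (yon S).mono_of_mono_map (PullbackCone.mono_snd_of_is_pullback_of_mono sqP₁.isLimit)
  have : Mono v₂.left := inferInstanceAs (Mono ((Over.forget S).map v₂))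
  have : Mono e₂ := (yon S).mono_of_mono_map (PullbackCone.mono_snd_of_is_pullback_of_mono sqP₂.isLimit)
  have : Mono e₂.left := inferInstanceAs (Mono ((Over.forget S).map e₂))
  let cp : ↥(Spec (CommRingCat.of p.K)) := IsLocalRing.closedPoint p.K
  obtain ⟨v, -, hv⟩ := exists_ofPt_of_eq (u := cp) (v := u₁) sqP₁ (by rw [Points.ofPt_toHom]; exact hu₁.symm)
  obtain ⟨w₀, -, hw₀⟩ := exists_ofPt_of_eq (u := cp) (v := u) sqP₂ (by rw [Points.ofPt_toHom]; exact hu.symm)
  obtain ⟨O, huO, hO₁, hO₂⟩ := hqf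
  obtain ⟨O', hwO', hO'₁, hO'₂⟩ := exists_qf_open_fibre hpr hb h O hO₁ hO₂ w₀ (hw₀.symm ▸ huO)
  obtain ⟨A, hA, hvA, -⟩ := exists_isAffineOpen_mem_and_subset (U := (⊤ : P₁.left.Opens)) (x := v) trivial
  obtain ⟨B, hB, hwB, hBO'⟩ := exists_isAffineOpen_mem_and_subset (U := O') (x := w₀) hwO'
  have : IsAffine A.toScheme := hA
  have : IsAffine B.toScheme := hB
  have : IsAffine p.pt.left := inferInstanceAs (IsAffine (Spec (CommRingCat.of p.K)))
  have eB : B.ι ≫ e₁.left = P₂.left.homOfLE hBO' ≫ O'.ι ≫ e₁.left := by rw [Scheme.homOfLE_ι_assoc]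
  have : LocallyQuasiFinite (B.ι ≫ e₁.left) := by rw [eB]; infer_instance
  have : LocallyOfFiniteType (B.ι ≫ e₁.left) := by rw [eB]; infer_instance
  have : QuasiCompact (B.ι ≫ e₁.left) := inferInstance
  let W₀ := pullback (A.ι ≫ v₁.left) (B.ι ≫ e₁.left)
  let q : W₀ ⟶ A.toScheme := pullback.fst _ _
  have hfin : (q ⁻¹' {(⟨v, hvA⟩ : ↥A.toScheme)}).Finite := q.finite_preimage_singleton _
  let W : Over S := Over.mk (q ≫ A.ι ≫ P₁.hom)
  let iA : W ⟶ P₁ := CategoryTheory.Over.homMk (q ≫ A.ι) (Category.assoc _ _ _)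
  let iB : W ⟶ P₂ := CategoryTheory.Over.homMk (pullback.snd _ _ ≫ B.ι) (by
    change (pullback.snd _ _ ≫ B.ι) ≫ _ = _
    rw [← CategoryTheory.Over.w e₁]
    simp only [Category.assoc]
    have := pullback.condition_assoc (f := A.ι ≫ v₁.left) (g := B.ι ≫ e₁.left) p.pt.hom
    simp only [Category.assoc] at this
    rw [← this]
    change _ = q ≫ A.ι ≫ _
    rw [CategoryTheory.Over.w])
  have hAB : iA ≫ v₁ = iB ≫ e₁ := Over.OverMorphism.ext (by
    change (q ≫ A.ι) ≫ v₁.left = (pullback.snd _ _ ≫ B.ι) ≫ e₁.left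
    rw [Category.assoc, Category.assoc]
    exact pullback.condition)
  have wW : (yon S).map (iB ≫ e₂) ≫ φ₂ = (yon S).map (iA ≫ v₂) ≫ φ₁ := by
    rw [Functor.map_comp, Functor.map_comp, Category.assoc, Category.assoc, ← sqP₁.w, ← sqP₂.w,
      ← Category.assoc, ← Functor.map_comp, ← Category.assoc, ← Functor.map_comp, hAB]
  obtain ⟨m, hm⟩ := (yon S).map_surjective (hR.lift _ _ wW)
  have hmt : m ≫ t = iB ≫ e₂ := (yon S).map_injective (by rw [Functor.map_comp, hm, hR.lift_fst])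
  have hms : m ≫ s = iA ≫ v₂ := (yon S).map_injective (by rw [Functor.map_comp, hm, hR.lift_snd])
  refine (hfin.image m.left).subset ?_
  rintro r ⟨hrs, hrt⟩
  let g : (yon S).obj R ⟶ Y := (yon S).map s ≫ φ₁
  let w₁ := hpr.fst' g
  let w₂ := hpr.snd g
  have sqW : IsPullback ((yon S).map w₁) ((yon S).map w₂) p.toHom g := hpr.isPullback' g
  obtain ⟨w, -, hw⟩ := exists_ofPt_of_eq (u := cp) (v := r) sqW
    (by rw [Points.ofPt_toHom, ofPt_comp, hrs]; exact hu₁.symm)
  have ea : (yon S).map w₁ ≫ p.toHom = (yon S).map (w₂ ≫ s) ≫ φ₁ := by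
    rw [sqW.w, Functor.map_comp, Category.assoc]
  have eb : (yon S).map w₁ ≫ p.toHom = (yon S).map (w₂ ≫ t) ≫ φ₂ := by
    rw [sqW.w, Functor.map_comp, Category.assoc, hR.w]
  obtain ⟨a, ha⟩ := (yon S).map_surjective (sqP₁.lift _ _ ea)
  obtain ⟨c, hc⟩ := (yon S).map_surjective (sqP₂.lift _ _ eb)
  have ha₁ : a ≫ v₁ = w₁ := (yon S).map_injective (by rw [Functor.map_comp, ha]; exact sqP₁.lift_fst _ _ _)
  have hc₁ : c ≫ e₁ = w₁ := (yon S).map_injective (by rw [Functor.map_comp, hc]; exact sqP₂.lift_fst _ _ _)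
  have ha₂ : a ≫ v₂ = w₂ ≫ s := (yon S).map_injective (by rw [Functor.map_comp, ha]; exact sqP₁.lift_snd _ _ _)
  have hc₂ : c ≫ e₂ = w₂ ≫ t := (yon S).map_injective (by rw [Functor.map_comp, hc]; exact sqP₂.lift_snd _ _ _)
  have hav : a.left w = v := FreeAction.injective_of_mono v₂.left (by
    rw [hv, ← Scheme.Hom.comp_apply, ← Over.comp_left, ha₂, Over.comp_left, Scheme.Hom.comp_apply, hw, hrs])
  have hcw : c.left w = w₀ := FreeAction.injective_of_mono e₂.left (by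
    rw [hw₀, ← Scheme.Hom.comp_apply, ← Over.comp_left, hc₂, Over.comp_left, Scheme.Hom.comp_apply, hw, hrt])
  let Q := (a.left ⁻¹ᵁ A) ⊓ (c.left ⁻¹ᵁ B)
  let lA : Q.toScheme ⟶ A.toScheme := IsOpenImmersion.lift A.ι (Q.ι ≫ a.left) (by
    rw [Scheme.Opens.range_ι]; rintro _ ⟨o, rfl⟩; exact o.2.1)
  let lB : Q.toScheme ⟶ B.toScheme := IsOpenImmersion.lift B.ι (Q.ι ≫ c.left) (by
    rw [Scheme.Opens.range_ι]; rintro _ ⟨o, rfl⟩; exact o.2.2)
  let Q' : Over S := Over.mk (Q.ι ≫ (hpr.pullback g).hom)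
  let jQ : Q' ⟶ hpr.pullback g := CategoryTheory.Over.homMk Q.ι rfl
  let l₀ : Q.toScheme ⟶ W₀ := pullback.lift lA lB (by
    simp only [lA, lB, IsOpenImmersion.lift_fac_assoc, Category.assoc, ← Over.comp_left, ha₁, hc₁])
  let l : Q' ⟶ W := CategoryTheory.Over.homMk l₀ (by
    change l₀ ≫ q ≫ A.ι ≫ _ = Q.ι ≫ _
    simp only [l₀, q, pullback.lift_fst_assoc, lA, IsOpenImmersion.lift_fac_assoc, Category.assoc]
    rw [CategoryTheory.Over.w a])
  have hlA : l ≫ iA = jQ ≫ a := Over.OverMorphism.ext (by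
    change l₀ ≫ q ≫ A.ι = Q.ι ≫ a.left
    simp only [l₀, q, pullback.lift_fst_assoc, lA, IsOpenImmersion.lift_fac])
  have hlB : l ≫ iB = jQ ≫ c := Over.OverMorphism.ext (by
    change l₀ ≫ pullback.snd _ _ ≫ B.ι = Q.ι ≫ c.left
    simp only [l₀, pullback.lift_snd_assoc, lB, IsOpenImmersion.lift_fac])
  have key : l ≫ m = jQ ≫ w₂ := (yon S).map_injective (hR.hom_ext
    (by rw [← Functor.map_comp, ← Functor.map_comp, Category.assoc, hmt, reassoc_of% hlB, hc₂, Category.assoc])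
    (by rw [← Functor.map_comp, ← Functor.map_comp, Category.assoc, hms, reassoc_of% hlA, ha₂, Category.assoc]))
  have hwQ : w ∈ Q := ⟨show a.left w ∈ A from hav.symm ▸ hvA, show c.left w ∈ B from hcw.symm ▸ hwB⟩
  refine ⟨l.left ⟨w, hwQ⟩, ?_, ?_⟩
  · change q (l₀ ⟨w, hwQ⟩) = (⟨v, hvA⟩ : ↥A.toScheme)
    rw [← Scheme.Hom.comp_apply]
    simp only [l₀, q, pullback.lift_fst]
    refine A.ι.isOpenEmbedding.injective ?_
    rw [← Scheme.Hom.comp_apply]
    simp only [lA, IsOpenImmersion.lift_fac]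
    exact hav
  · exact (congrArg (fun f : Q' ⟶ R => f.left ⟨w, hwQ⟩) key).trans hw

end Groth.Agent.AlgSpDec
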