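import Groth.Agent.AlgSpDec.FiniteOverGeneric
import Groth.Agent.AlgSpDec.CodimZero
import Groth.Agent.AlgSpDec.IsolatedPoints
import Groth.Agent.AlgSpDec.LocFinIrredTfae
import Groth.Agent.S10389

/-!
# Finiteness over a dense open
-/

set_option backward.isDefEq.respectTransparency false
set_option backward.isDefEq.respectTransparency.types false

universe u

open CategoryTheory Limits Opposite AlgebraicGeometry AlgSp Groth.Agent.AlgSpLib Groth.Agent.AlgSpPts Topology

namespace Groth.Agent.AlgSpDec.FiniteDense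

attribute [local instance] Groth.Agent.EtFound.fpqc_isFinite

theorem exists_coheight_zero_specializes {X : Scheme.{u}} (x : X) : ∃ η : X, η ⤳ x ∧ Order.coheight η = 0 := by
  obtain ⟨η, hη, hmax⟩ := FibDim.exists_maximal_generization x
  refine ⟨η, hη, Order.coheight_eq_zero.2 fun y hy => ?_⟩
  rw [hmax y (Scheme.le_iff_specializes.1 hy)]

/-- A fibre consisting of points of codimension zero is discrete. -/
theorem discrete_fibre_of_coheight {T V : Scheme.{u}} (k : T ⟶ V) [LocallyOfFiniteType k] (v : V)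
    (h : ∀ t, k t = v → Order.coheight t = 0) : DiscreteTopology ↥(k.fiber v) := by
  have : LocallyOfFiniteType (k.fiberToSpecResidueField v) :=
    inferInstanceAs (LocallyOfFiniteType (pullback.snd k (V.fromSpecResidueField v)))
  have : IsLocallyNoetherian (k.fiber v) :=
    LocallyOfFiniteType.isLocallyNoetherian (k.fiberToSpecResidueField v)
  have key : ∀ z z' : k.fiber v, z ⤳ z' → z = z' := fun z z' hs => by
    have hz : k (k.fiberι v z') = v := by
      have := Set.mem_range_self (f := k.fiberι v) z'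
      rw [k.range_fiberι] at this
      exact this
    refine (k.fiberι v).isEmbedding.injective ?_
    exact eq_of_specializes_of_coheight (h _ hz) (hs.map (k.fiberι v).continuous)
  refine discreteTopology_iff_isOpen_singleton.2 fun z => ?_
  refine isOpen_singleton_of_closed_minimal ?_ fun z' hz' => key _ _ hz'
  refine isClosed_of_closure_subset fun z' hz' => ?_
  exact (key _ _ (specializes_iff_mem_closure.2 hz')).symm

/-- A point whose fibre consists of points of codimension zero is quasi-finite. -/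
theorem quasiFiniteAt_of_coheight {T V : Scheme.{u}} (k : T ⟶ V) [LocallyOfFiniteType k] (t : T)
    (h : ∀ t', k t' = k t → Order.coheight t' = 0) : k.QuasiFiniteAt t := by
  have := discrete_fibre_of_coheight k (k t) h
  exact Scheme.Hom.quasiFiniteAt_iff_isOpen_singleton_asFiber.mpr (isOpen_discrete _)

/-- The fibre over a point of a quasi-compact morphism is finite if it consists of points of codimension zero. -/
theorem finite_fibre_of_coheight {T V : Scheme.{u}} (k : T ⟶ V) [LocallyOfFiniteType k] [QuasiCompact k] (v : V)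
    (h : ∀ t, k t = v → Order.coheight t = 0) : (k ⁻¹' {v}).Finite := by
  have : QuasiCompact (k.fiberToSpecResidueField v) :=
    inferInstanceAs (QuasiCompact (pullback.snd k (V.fromSpecResidueField v)))
  have : CompactSpace ↥(k.fiber v) := QuasiCompact.compactSpace_of_compactSpace (k.fiberToSpecResidueField v)
  have := discrete_fibre_of_coheight k v h
  rw [← k.range_fiberι v, ← Set.image_univ]
  exact (Set.finite_univ_iff.2 finite_of_compact_of_discrete).image _

/-- A separated morphism to an affine scheme is finite over a neighbourhood of the finitely many generic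
points if its source has only finitely many generic points, all over those of the target. -/
theorem exists_isFinite_generic {R V : Scheme.{u}} [IsAffine V] (ρ : R ⟶ V) [LocallyOfFiniteType ρ]
    [IsSeparated ρ] (hG : {v : V | Order.coheight v = 0}.Finite)
    (hfin : (ρ ⁻¹' {v : V | Order.coheight v = 0}).Finite)
    (hgen : ∀ r : R, ∃ r', r' ⤳ r ∧ Order.coheight (ρ r') = 0) :
    ∃ V₁ : V.Opens, IsAffineOpen V₁ ∧ (∀ v : V, Order.coheight v = 0 → v ∈ V₁) ∧ IsFinite (ρ ∣_ V₁) := by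
  classical
  choose A hA hmem _hsub using fun r : R =>
    exists_isAffineOpen_mem_and_subset (U := (⊤ : R.Opens)) (x := r) trivial
  let O : R.Opens := ⟨⋃ r ∈ hfin.toFinset, (A r : Set R), isOpen_biUnion fun r _ => (A r).2⟩
  have hOc : IsCompact (O : Set R) := hfin.toFinset.finite_toSet.isCompact_biUnion fun r _ => (hA r).isCompact
  have hOmem : ∀ r, Order.coheight (ρ r) = 0 → r ∈ O := fun r hr =>
    Set.mem_iUnion₂.2 ⟨r, hfin.mem_toFinset.2 hr, hmem r⟩
  have : CompactSpace ↥O.toScheme := isCompact_iff_compactSpace.1 hOc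
  let ρO := O.ι ≫ ρ
  have : QuasiCompact ρO := HasAffineProperty.iff_of_isAffine.2 ‹CompactSpace ↥O.toScheme›
  let G := {v : V | Order.coheight v = 0}
  have hgenV : ∀ η ∈ G, η ∈ genericPoints V := fun η hη =>
    FiniteOverGeneric.mem_genericPoints_of_minimal fun z hz => eq_of_specializes_of_coheight hη hz
  let N : G → V.Opens := fun η => ⟨(⋃ g ∈ G \ {η.1}, closure {g})ᶜ,
    ((hG.sdiff).isClosed_biUnion fun _ _ => isClosed_closure).isOpen_compl⟩
  have hN : ∀ η : G, η.1 ∈ N η := fun η hη => by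
    obtain ⟨g, hg, hηg⟩ := Set.mem_iUnion₂.1 hη
    exact hg.2 (eq_of_specializes_of_coheight η.2 (specializes_iff_mem_closure.2 hηg))
  have hOfin : ∀ η : G, (ρO ⁻¹' {η.1}).Finite := fun η => by
    refine (hfin.preimage (f := O.ι) O.ι.isOpenEmbedding.injective.injOn).subset fun z hz => ?_
    change Order.coheight (ρ (O.ι z)) = 0
    rw [← Scheme.Hom.comp_apply, show ρO z = η.1 from hz]
    exact η.2
  choose Vη hVη hηV hle hfinη using fun η : G => MorLib.GenFinite.exists_isFinite ρO (hgenV _ η.2) (hOfin η)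
    (fun x hx => MorLib.GenFinite.exists_open_of_finite_fibre ρO (hOfin η) x hx)
    (fun V₀ hV₀ hη₀ U₁ U₂ h₁ h₂ e₁ e₂ hne =>
      MorLib.GenFinite.exists_avoid_inf ρO (hgenV _ η.2) hV₀ hη₀ h₁ h₂ e₁ e₂ hne)
    (N η) (hN η)
  have : Finite G := hG.to_subtype
  have hdisj : Pairwise (Function.onFun Disjoint Vη) := fun η η' hne => by
    rw [Function.onFun, disjoint_iff_inf_le]
    intro z hz
    obtain ⟨g, hgz, hg⟩ := exists_coheight_zero_specializes z
    have h1 : g = η.1 := by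
      by_contra h
      exact hle η hz.1 (Set.mem_iUnion₂.2 ⟨g, ⟨hg, h⟩, specializes_iff_mem_closure.1 hgz⟩)
    exact (hle η' hz.2 (Set.mem_iUnion₂.2 ⟨g, ⟨hg, fun h => hne (Subtype.ext (h1.symm.trans h))⟩,
      specializes_iff_mem_closure.1 hgz⟩)).elim
  refine ⟨⨆ η, Vη η, IsAffineOpen.iSup_of_disjoint hVη hdisj,
    fun v hv => TopologicalSpace.Opens.mem_iSup.2 ⟨⟨v, hv⟩, hηV _⟩, ?_⟩
  have hf : IsFinite (ρO ∣_ ⨆ η, Vη η) := MorLib.GenFinite.isFinite_iSup ρO Vη hfinη
  rw [morphismRestrict_comp] at hf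
  let V₁ := ⨆ η, Vη η
  let e := O.ι ∣_ ρ ⁻¹ᵁ V₁
  have he : IsFinite e := IsFinite.of_comp e (ρ ∣_ V₁)
  have hsurj : Surjective e := by
    refine ⟨fun r => ?_⟩
    obtain ⟨r', hr', hco⟩ := hgen r.1
    have hr'V : ρ r' ∈ V₁ := TopologicalSpace.Opens.mem_iSup.2 ⟨⟨ρ r', hco⟩, hηV _⟩
    have h1 : (⟨r', hr'V⟩ : ↥(ρ ⁻¹ᵁ V₁)) ⤳ r := IsInducing.subtypeVal.specializes_iff.1 hr'
    refine h1.mem_closed e.isClosedMap.isClosed_range ?_
    refine ⟨⟨⟨r', hOmem r' hco⟩, hr'V⟩, Subtype.ext ?_⟩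
    change (ρ ⁻¹ᵁ V₁).ι (e _) = r'
    rw [← Scheme.Hom.comp_apply, morphismRestrict_ι]
    rfl
  have : IsIso e := (isIso_iff_isOpenImmersion_and_surjective _).mpr ⟨inferInstance, hsurj⟩
  exact (MorphismProperty.cancel_left_of_respectsIso @IsFinite e (ρ ∣_ V₁)).1 hf

variable {S : Scheme.{u}} {X Y : Sp S}

theorem hasAt_iff (x : Points X) :
    HasAt (fun U u => ringKrullDim ↥(U.presheaf.stalk u) = 0) X x ↔
      ∃ (U : Over S) (a : (yon S).obj U ⟶ X) (u : ↥U.left), RepWith @Etale a ∧ Points.ofPt a u = x ∧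
        Order.coheight u = 0 := by
  constructor
  · rintro ⟨U, a, u, ha, hu, h⟩
    rw [ringKrullDim_stalk_eq_coheight] at h
    exact ⟨U, a, u, ha, hu, by exact_mod_cast h⟩
  · rintro ⟨U, a, u, ha, hu, h⟩
    refine ⟨U, a, u, ha, hu, ?_⟩
    change ringKrullDim _ = 0
    rw [ringKrullDim_stalk_eq_coheight, h]; rfl

theorem hasAt_ofPt_iff {U : Over S} {a : (yon S).obj U ⟶ X} (ha : RepWith @Etale a) (u : ↥U.left) :
    HasAt (fun U u => ringKrullDim ↥(U.presheaf.stalk u) = 0) X (Points.ofPt a u) ↔ Order.coheight u = 0 := by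
  rw [hasAt_iff]
  exact ⟨fun ⟨U', a', u', ha', hu', h⟩ => (coheight_eq_of_charts ha ha' hu'.symm).trans h,
    fun h => ⟨U, a, u, ha, rfl, h⟩⟩

/-- Restriction of a chart to an open of the affine base. -/
theorem exists_chart_restrict {V : Over S} {XV : Sp S} {q₂ : XV ⟶ (yon S).obj V} {W : Over S}
    {c : (yon S).obj W ⟶ XV} (k : W ⟶ V) (hk : (yon S).map k = c ≫ q₂) (V₁ : V.left.Opens) {P : Sp S}
    {g : P ⟶ XV} {snd : P ⟶ (yon S).obj (Over.mk (V₁.ι ≫ V.hom))}
    (sq₁ : IsPullback g snd q₂ ((yon S).map (CategoryTheory.Over.homMk V₁.ι rfl : Over.mk (V₁.ι ≫ V.hom) ⟶ V))) :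
    ∃ (k₁ : Over.mk ((k.left ⁻¹ᵁ V₁).ι ≫ W.hom) ⟶ Over.mk (V₁.ι ≫ V.hom))
      (c₁ : (yon S).obj (Over.mk ((k.left ⁻¹ᵁ V₁).ι ≫ W.hom)) ⟶ P), k₁.left = k.left ∣_ V₁ ∧
        (yon S).map k₁ = c₁ ≫ snd ∧
        IsPullback ((yon S).map (CategoryTheory.Over.homMk (k.left ⁻¹ᵁ V₁).ι rfl :
          Over.mk ((k.left ⁻¹ᵁ V₁).ι ≫ W.hom) ⟶ W)) c₁ c g := by
  let V₁o : Over S := Over.mk (V₁.ι ≫ V.hom)
  let jv : V₁o ⟶ V := CategoryTheory.Over.homMk V₁.ι rfl
  let W₁ : Over S := Over.mk ((k.left ⁻¹ᵁ V₁).ι ≫ W.hom)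
  let wι : W₁ ⟶ W := CategoryTheory.Over.homMk (k.left ⁻¹ᵁ V₁).ι rfl
  let k₁ : W₁ ⟶ V₁o := CategoryTheory.Over.homMk (k.left ∣_ V₁) (by
    change (k.left ∣_ V₁) ≫ V₁.ι ≫ V.hom = (k.left ⁻¹ᵁ V₁).ι ≫ W.hom
    rw [morphismRestrict_ι_assoc, Over.w k])
  have sqW : IsPullback ((yon S).map wι) ((yon S).map k₁) ((yon S).map k) ((yon S).map jv) :=
    isPullback_yon_of_left wι k₁ k jv (isPullback_morphismRestrict k.left V₁).flip
  obtain ⟨c₁, hc₁, hc₁'⟩ := sq₁.exists_lift ((yon S).map wι ≫ c) ((yon S).map k₁)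
    (by rw [Category.assoc, ← hk]; exact sqW.w)
  exact ⟨k₁, c₁, rfl, hc₁'.symm, (IsPullback.of_right (h₁₁ := c₁) (v₁₁ := (yon S).map wι)
    (by rw [hc₁', ← hk]; exact sqW.flip) hc₁ sq₁.flip).flip⟩

/-- The restriction of a chart is finite when its relation is finite over the open. -/
theorem repWith_isFinite_restrict {XV P : Sp S} {g : P ⟶ XV} {W R : Over S} {c : (yon S).obj W ⟶ XV}
    (hc : Representable c) {t s : R ⟶ W} (sqR : IsPullback ((yon S).map t) ((yon S).map s) c c) (O : W.left.Opens)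
    {c₁ : (yon S).obj (Over.mk (O.ι ≫ W.hom)) ⟶ P}
    (sqc : IsPullback ((yon S).map (CategoryTheory.Over.homMk O.ι rfl : Over.mk (O.ι ≫ W.hom) ⟶ W)) c₁ c g)
    (hce : RepWith @Etale c₁) (hcs : RepWith @Surjective c₁) (hs : IsFinite (s.left ∣_ O)) :
    RepWith @IsFinite c₁ := by
  let W₁ : Over S := Over.mk (O.ι ≫ W.hom)
  let wι : W₁ ⟶ W := CategoryTheory.Over.homMk O.ι rfl
  let R' := hc.pullback ((yon S).map wι ≫ c)
  let t' : R' ⟶ W := hc.fst' ((yon S).map wι ≫ c)
  let s' : R' ⟶ W₁ := hc.snd ((yon S).map wι ≫ c)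
  have sqR' : IsPullback ((yon S).map t') ((yon S).map s') c ((yon S).map wι ≫ c) := hc.isPullback' _
  obtain ⟨t₁, ht₁, ht₁'⟩ := sqc.exists_lift ((yon S).map t') ((yon S).map s' ≫ c₁)
    (by rw [sqR'.w, Category.assoc, ← sqc.w])
  have sqK : IsPullback t₁ ((yon S).map s') c₁ c₁ :=
    IsPullback.of_right (by rw [ht₁, ← sqc.w]; exact sqR') ht₁' sqc
  obtain ⟨r, hr₁, hr₂⟩ := sqR.exists_lift ((yon S).map t') ((yon S).map s' ≫ (yon S).map wι)
    (by rw [Category.assoc]; exact sqR'.w)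
  obtain ⟨r, rfl⟩ := (yon S).map_surjective r
  have sqr : IsPullback r.left s'.left s.left O.ι :=
    isPullback_of_yon (IsPullback.of_right (by rw [hr₁]; exact sqR') hr₂ sqR)
  have hfs : IsFinite s'.left := by
    rw [← sqr.isoIsPullback_hom_snd _ _ (isPullback_morphismRestrict s.left O).flip]
    exact MorphismProperty.RespectsIso.precomp _ _ _ hs
  exact repWith_of_etale_cover (P := @IsFinite) (fun _ _ e (_ : IsFinite e) => inferInstanceAs (IsAffineHom e))
    hce hcs sqK ((repWith_yon_map_iff _ _).2 hfs)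

/-- A finite chart of a space over an affine base whose generic points are finitely many. -/
theorem exists_finite_of_chart {V : Over S} [IsAffine V.left] (hG : {v : V.left | Order.coheight v = 0}.Finite)
    {XV : Sp S} {q₂ : XV ⟶ (yon S).obj V} (hl : LocP @LocallyOfFiniteType q₂) (hXV : IsAlgSpace XV)
    {W : Over S} [IsAffine W.left] {c : (yon S).obj W ⟶ XV} (hc : RepWith @Etale c) (hcs : RepWith @Surjective c)
    (k : W ⟶ V) (hk : (yon S).map k = c ≫ q₂) [IsFinite k.left]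
    (hmin : ∀ t : W.left, Order.coheight t = 0 → Order.coheight (k.left t) = 0) :
    ∃ V₁ : V.left.Opens, (∀ v : V.left, Order.coheight v = 0 → v ∈ V₁) ∧ ∀ {P : Sp S} (g : P ⟶ XV)
      (snd : P ⟶ (yon S).obj (Over.mk (V₁.ι ≫ V.hom))),
      IsPullback g snd q₂ ((yon S).map (CategoryTheory.Over.homMk V₁.ι rfl : Over.mk (V₁.ι ≫ V.hom) ⟶ V)) →
        RepWith @IsFinite snd := by
  let R := hc.rep.pullback c
  let t : R ⟶ W := hc.rep.fst' c
  let s : R ⟶ W := hc.rep.snd c
  have sqR : IsPullback ((yon S).map t) ((yon S).map s) c c := hc.rep.isPullback' c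
  haveI : Etale s.left := hc.property_snd c
  let P₀ : Over S := Over.mk (pullback.fst k.left k.left ≫ W.hom)
  let p₁ : P₀ ⟶ W := CategoryTheory.Over.homMk (pullback.fst k.left k.left) rfl
  let p₂ : P₀ ⟶ W := CategoryTheory.Over.homMk (pullback.snd k.left k.left) (by
    change pullback.snd k.left k.left ≫ W.hom = pullback.fst k.left k.left ≫ W.hom
    rw [← Over.w k, pullback.condition_assoc])
  have sqP : IsPullback ((yon S).map p₁) ((yon S).map p₂) (c ≫ q₂) (c ≫ q₂) :=
    hk ▸ isPullback_yon_of_left p₁ p₂ k k (IsPullback.of_hasPullback k.left k.left)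
  obtain ⟨m, hm⟩ := (yon S).map_surjective (sqP.lift ((yon S).map t) ((yon S).map s)
    (by rw [reassoc_of% sqR.w]))
  have hm₁ : (yon S).map m ≫ (yon S).map p₁ = (yon S).map t := by rw [hm, sqP.lift_fst]
  have hm₂ : (yon S).map m ≫ (yon S).map p₂ = (yon S).map s := by rw [hm, sqP.lift_snd]
  have sqd := FiniteOverGeneric.isPullback_rel_diag q₂ sqR sqP ((yon S).map m) hm₁ hm₂
  haveI : Mono ((yon S).map m) := PullbackCone.mono_snd_of_is_pullback_of_mono sqd.isLimit
  haveI : Mono m := (yon S).mono_of_mono_map inferInstance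
  haveI : Mono m.left := inferInstanceAs (Mono ((Over.forget S).map m))
  have hms : m.left ≫ p₂.left = s.left := by
    rw [← Over.comp_left]
    exact congrArg CommaMorphism.left ((yon S).map_injective (by rw [Functor.map_comp, hm₂]))
  haveI : IsFinite p₂.left := inferInstanceAs (IsFinite (pullback.snd k.left k.left))
  haveI : IsSeparated s.left := hms ▸ inferInstance
  let ρ := s.left ≫ k.left
  have hρfin : (ρ ⁻¹' {v | Order.coheight v = 0}).Finite := by
    refine ((hG.biUnion fun v _ => (p₂.left ≫ k.left).finite_preimage_singleton v).preimage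
      (FreeAction.injective_of_mono m.left).injOn).subset fun r hr => ?_
    refine Set.mem_preimage.2 (Set.mem_biUnion hr ?_)
    rw [Set.mem_preimage, Set.mem_singleton_iff, ← Scheme.Hom.comp_apply, reassoc_of% hms]
  have hgen : ∀ r : R.left, ∃ r', r' ⤳ r ∧ Order.coheight (ρ r') = 0 := fun r => by
    obtain ⟨r', h1, h2⟩ := exists_coheight_zero_specializes r
    refine ⟨r', h1, ?_⟩
    rw [Scheme.Hom.comp_apply]
    exact hmin _ ((coheight_eq_of_etale s.left r').symm.trans h2)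
  obtain ⟨V₁, hV₁, hmem, hfR⟩ := exists_isFinite_generic ρ hG hρfin hgen
  refine ⟨V₁, hmem, fun {P} g snd sq₁ => ?_⟩
  obtain ⟨k₁, c₁, hk₁, hc₁, sqc⟩ := exists_chart_restrict k hk V₁ sq₁
  have : IsAffine (Over.mk ((k.left ⁻¹ᵁ V₁).ι ≫ W.hom)).left := hV₁.preimage k.left
  have hce : RepWith @Etale c₁ := repWith_of_isPullback sqc hc
  have hcS : RepWith @Surjective c₁ := repWith_of_isPullback sqc hcs
  have hs : IsFinite (s.left ∣_ k.left ⁻¹ᵁ V₁) := by
    have h1 : IsFinite ((s.left ∣_ k.left ⁻¹ᵁ V₁) ≫ k.left ∣_ V₁) := by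
      rw [← morphismRestrict_comp]; exact hfR
    exact IsFinite.of_comp _ (k.left ∣_ V₁)
  have : IsFinite k₁.left := by rw [hk₁]; infer_instance
  exact FiniteOverGeneric.repWith_isFinite_of_chart hce (repWith_isFinite_restrict hc.rep sqR _ sqc hce hcS hs) hcS
    k₁ hc₁ (locP_of_isPullback sq₁ hXV (IsAlgSpace.yon_obj V) (IsAlgSpace.yon_obj _) hl)

/-- A morphism to an affine scheme with finitely many generic points, finite type locally, whose source
has finitely many points over those, all of codimension zero, is finite over a dense open. -/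
theorem exists_finite_over_affine {V : Over S} [IsAffine V.left]
    (hG : {v : V.left | Order.coheight v = 0}.Finite) {XV : Sp S} (hXV : IsAlgSpace XV)
    {q₂ : XV ⟶ (yon S).obj V} (hl : LocP @LocallyOfFiniteType q₂) (hq : IsQuasiCompactMor q₂ ∨ IsSeparatedMor q₂)
    (hZ : IsSeparatedMor q₂ → {z : Points XV | ∃ v : V.left, Order.coheight v = 0 ∧ Points.map q₂ z = Points.ofScheme V v}.Finite)
    (hpre : ∀ {T : Over S} (a : (yon S).obj T ⟶ XV) (_ : RepWith @Etale a) (k : T ⟶ V), (yon S).map k = a ≫ q₂ →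
      ∀ t : T.left, Order.coheight t = 0 ↔ Order.coheight (k.left t) = 0) :
    ∃ V₁ : V.left.Opens, (∀ v : V.left, Order.coheight v = 0 → v ∈ V₁) ∧ ∀ {P : Sp S} (g : P ⟶ XV)
      (snd : P ⟶ (yon S).obj (Over.mk (V₁.ι ≫ V.hom))),
      IsPullback g snd q₂ ((yon S).map (CategoryTheory.Over.homMk V₁.ι rfl : Over.mk (V₁.ι ≫ V.hom) ⟶ V)) →
        RepWith @IsFinite snd := by
  classical
  obtain ⟨W, c, hW, hc, hcov⟩ : ∃ (W : Over S) (c : (yon S).obj W ⟶ XV), IsAffine W.left ∧ RepWith @Etale c ∧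
      (RepWith @Surjective c ∨ (IsSeparatedMor q₂ ∧
        {z : Points XV | ∃ v : V.left, Order.coheight v = 0 ∧ Points.map q₂ z = Points.ofScheme V v} ⊆
          Set.range (Points.ofPt c))) := by
    rcases hq with hqc | hsep
    · obtain ⟨W, c, h1, h2, h3⟩ := exists_affine_atlas
        (hqc (IsAlgSpace.yon_obj V) (AlgSpLib.isQuasiCompactSp_yon V) (𝟙 _) (𝟙 XV) q₂
          (IsPullback.of_horiz_isIso ⟨by rw [Category.id_comp, Category.comp_id]⟩))
      exact ⟨W, c, h1, h2, Or.inl h3⟩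
    · obtain ⟨n, e, he⟩ : ∃ (n : ℕ) (e : Fin n → Points XV), Set.range e =
          {z : Points XV | ∃ v : V.left, Order.coheight v = 0 ∧ Points.map q₂ z = Points.ofScheme V v} :=
        ⟨_, fun i => ((hZ hsep).toFinset.equivFin.symm i).1, by
          ext z
          refine ⟨fun ⟨i, hi⟩ => hi ▸ (hZ hsep).mem_toFinset.1 ((hZ hsep).toFinset.equivFin.symm i).2, fun hz =>
            ⟨(hZ hsep).toFinset.equivFin ⟨z, (hZ hsep).mem_toFinset.2 hz⟩, by simp⟩⟩⟩
      let ι : Type u := ULift.{u} (Fin n)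
      choose B c z' hB hc hz using fun i : ι => exists_affine_chart_at hXV (e i.down)
      obtain ⟨cR, hcR⟩ := exists_hom_sigma B c
      have : ∀ i, IsAffine (B i).left := hB
      refine ⟨sigmaOver B, cR, inferInstanceAs (IsAffine (∐ fun i => (B i).left)),
        repWith_etale_sigma (representable_from_yon' hXV cR) (fun i => by rw [hcR]; exact hc i), Or.inr ⟨hsep, ?_⟩⟩
      rw [← he]
      rintro _ ⟨i, rfl⟩
      exact ⟨(sigmaι B ⟨i⟩).left (z' ⟨i⟩), by rw [← ofPt_comp, hcR, hz]⟩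
  obtain ⟨k, hk⟩ := (yon S).map_surjective (c ≫ q₂)
  haveI := hW
  haveI : LocallyOfFiniteType k.left := hl c (𝟙 _) k hc (repWith_id _ V) (by rw [Category.comp_id, hk])
  haveI : QuasiCompact k.left := HasAffineProperty.iff_of_isAffine.2 (inferInstanceAs (CompactSpace ↥W.left))
  have hkfin : (k.left ⁻¹' {v | Order.coheight v = 0}).Finite := by
    refine (hG.biUnion fun v hv => finite_fibre_of_coheight k.left v fun t ht =>
      (hpre c hc k hk t).2 (ht ▸ hv)).subset fun t ht => ?_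
    exact Set.mem_biUnion (show k.left t ∈ _ from ht) rfl
  have hkgen : ∀ t : W.left, ∃ t', t' ⤳ t ∧ Order.coheight (k.left t') = 0 := fun t => by
    obtain ⟨t', h1, h2⟩ := exists_coheight_zero_specializes t
    exact ⟨t', h1, (hpre c hc k hk t').1 h2⟩
  obtain ⟨Va, hVa, hmema, hfa⟩ := exists_isFinite_generic k.left hG hkfin hkgen
  let Vo : Over S := Over.mk (Va.ι ≫ V.hom)
  let jv : Vo ⟶ V := CategoryTheory.Over.homMk Va.ι rfl
  have : IsAffine Vo.left := hVa
  have hjv : RepWith @Etale ((yon S).map jv) := (repWith_yon_map_iff _ jv).2 (inferInstanceAs (Etale Va.ι))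
  have sqa := IsPullback.of_hasPullback q₂ ((yon S).map jv)
  have hXa : IsAlgSpace (pullback q₂ ((yon S).map jv)) :=
    isAlgSpace_of_isPullback sqa hXV (IsAlgSpace.yon_obj _) (IsAlgSpace.yon_obj _)
  have hla : LocP @LocallyOfFiniteType (pullback.snd q₂ ((yon S).map jv)) :=
    locP_of_isPullback sqa hXV (IsAlgSpace.yon_obj V) (IsAlgSpace.yon_obj Vo) hl
  have hco : ∀ v : Vo.left, Order.coheight v = Order.coheight (jv.left v) := fun v =>
    coheight_eq_of_etale Va.ι v
  have hGa : {v : Vo.left | Order.coheight v = 0}.Finite :=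
    (hG.preimage (f := Va.ι) Va.ι.isOpenEmbedding.injective.injOn).subset fun v hv => (hco v).symm.trans hv
  obtain ⟨k₁, c₁, hk₁, hc₁, sqc⟩ := exists_chart_restrict k hk Va sqa
  have hce : RepWith @Etale c₁ := repWith_of_isPullback sqc hc
  let W₁ : Over S := Over.mk ((k.left ⁻¹ᵁ Va).ι ≫ W.hom)
  haveI : IsAffine Va.toScheme := hVa
  have : IsAffine W₁.left :=
    have : IsFinite (k.left ∣_ Va) := hfa
    isAffine_of_isAffineHom (k.left ∣_ Va)
  have : IsFinite k₁.left := hk₁ ▸ hfa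
  have hmin : ∀ t : W₁.left, Order.coheight t = 0 → Order.coheight (k₁.left t) = 0 := fun t ht => by
    rw [hco]
    change Order.coheight (Va.ι (k₁.left t)) = 0
    rw [hk₁]
    have e : ∀ x : (k.left ⁻¹ᵁ Va).toScheme, Va.ι ((k.left ∣_ Va) x) = k.left ((k.left ⁻¹ᵁ Va).ι x) := fun x => by
      rw [← Scheme.Hom.comp_apply, morphismRestrict_ι]; rfl
    refine (congrArg Order.coheight (e t)).trans ?_
    exact (hpre c hc k hk _).1 ((coheight_eq_of_etale (k.left ⁻¹ᵁ Va).ι t).symm.trans ht)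
  have hcS : RepWith @Surjective c₁ := by
    rcases hcov with hs | ⟨hsep, hsub⟩
    · exact repWith_of_isPullback sqc hs
    have hcf : RepWith @IsFinite c₁ := of_comp_of_diagonal (RepWith @IsFinite) c₁ _
      (hc₁ ▸ (repWith_yon_map_iff _ k₁).2 ‹IsFinite k₁.left›)
      (repWith_mono (fun _ _ g (_ : IsClosedImmersion g) => (inferInstance : IsFinite g)) _
        (isSeparatedMor_of_isPullback sqa hsep))
    refine repWith_surjective_of_surjective hce.rep fun z => ?_
    obtain ⟨U, a, u, -, ha, rfl⟩ := exists_affine_chart_at hXa z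
    obtain ⟨ka, hka⟩ := (yon S).map_surjective (a ≫ pullback.snd q₂ ((yon S).map jv))
    have hae : RepWith @Etale (a ≫ pullback.fst q₂ ((yon S).map jv)) := repWith_comp ha (repWith_fst q₂ hjv)
    have hak : (yon S).map (ka ≫ jv) = (a ≫ pullback.fst q₂ ((yon S).map jv)) ≫ q₂ := by
      rw [Functor.map_comp, hka, Category.assoc, Category.assoc, pullback.condition]
    obtain ⟨u', h1, h2⟩ := exists_coheight_zero_specializes u
    have h3 := (hpre _ hae (ka ≫ jv) hak u').1 h2
    have hcl : IsClosed (Set.range (Points.ofPt c₁)) := by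
      rw [show Points.ofPt c₁ = Points.map c₁ ∘ Points.schemeHomeo W₁ from
        funext fun t => Points.ofPt_eq_map_ofScheme c₁ t, (Points.schemeHomeo W₁).surjective.range_comp]
      exact (AlgSpPts.isClosedMap_map (repWith_mono
        (fun _ _ e (_ : IsFinite e) => (inferInstance : UniversallyClosed e)) _ hcf)).isClosed_range
    suffices Points.ofPt a u ∈ Set.range (Points.ofPt c₁) by
      obtain ⟨t, ht⟩ := this
      exact ⟨Points.ofScheme W₁ t, (Points.ofPt_eq_map_ofScheme c₁ t).symm.trans ht⟩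
    refine (h1.map (Points.continuous_ofPt a)).mem_closed hcl ?_
    obtain ⟨t, ht⟩ : Points.map (pullback.fst q₂ ((yon S).map jv)) (Points.ofPt a u') ∈
        Set.range (Points.ofPt c) := hsub ⟨(ka ≫ jv).left u', h3, by
      rw [Points.map_ofPt, Points.map_ofPt, ← hak]
      exact (Points.ofPt_eq_map_ofScheme _ u').trans (Points.map_yon_map_apply (ka ≫ jv) u')⟩
    obtain ⟨w, -, hw₂⟩ := exists_point_of_isPullback sqc (x := Points.ofScheme W t) (y := Points.ofPt a u')
      (by rw [← Points.ofPt_eq_map_ofScheme]; exact ht)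
    obtain ⟨w, rfl⟩ := (Points.schemeHomeo W₁).surjective w
    exact ⟨w, (Points.ofPt_eq_map_ofScheme c₁ w).trans hw₂⟩
  obtain ⟨V₂, hmem₂, hfin₂⟩ := exists_finite_of_chart hGa hla hXa hce hcS k₁ hc₁ hmin
  refine ⟨Va.ι ''ᵁ V₂, fun v hv => ⟨⟨v, hmema v hv⟩, hmem₂ _ ((hco _).trans hv), rfl⟩, fun {P} g snd sq => ?_⟩
  let A : Over S := Over.mk (V₂.ι ≫ Vo.hom)
  let B : Over S := Over.mk ((Va.ι ''ᵁ V₂).ι ≫ V.hom)
  let j₂ : A ⟶ Vo := CategoryTheory.Over.homMk V₂.ι rfl
  let jB : B ⟶ V := CategoryTheory.Over.homMk (Va.ι ''ᵁ V₂).ι rfl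
  have hrange : Set.range (Va.ι ''ᵁ V₂).ι = Set.range (V₂.ι ≫ Va.ι) := by
    rw [Scheme.Opens.range_ι]
    ext z
    constructor
    · rintro ⟨y, hy, rfl⟩; exact ⟨⟨y, hy⟩, rfl⟩
    · rintro ⟨y, rfl⟩; exact ⟨y.1, y.2, rfl⟩
  let eBA := IsOpenImmersion.isoOfRangeEq (Va.ι ''ᵁ V₂).ι (V₂.ι ≫ Va.ι) hrange
  have heBA : eBA.hom ≫ V₂.ι ≫ Va.ι = (Va.ι ''ᵁ V₂).ι := IsOpenImmersion.isoOfRangeEq_hom_fac _ _ _
  let eo : B ≅ A := CategoryTheory.Over.isoMk eBA (by
    change eBA.hom ≫ V₂.ι ≫ Va.ι ≫ V.hom = (Va.ι ''ᵁ V₂).ι ≫ V.hom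
    rw [reassoc_of% heBA])
  have hjB : eo.inv ≫ jB = j₂ ≫ jv := (Iso.inv_comp_eq _).2 (Over.OverMorphism.ext heBA.symm)
  have sq' : IsPullback g (snd ≫ (yon S).map eo.hom) q₂ ((yon S).map j₂ ≫ (yon S).map jv) :=
    IsPullback.of_iso sq (Iso.refl _) (Iso.refl _) ((yon S).mapIso eo) (Iso.refl _) (by simp) (by simp) (by simp)
      (by
        change (yon S).map jB ≫ 𝟙 _ = (yon S).map eo.hom ≫ (yon S).map j₂ ≫ (yon S).map jv
        rw [Category.comp_id, ← Functor.map_comp, ← Functor.map_comp, ← hjB, Iso.hom_inv_id_assoc])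
  obtain ⟨g₂, hg₂, hg₂'⟩ := sqa.exists_lift g ((snd ≫ (yon S).map eo.hom) ≫ (yon S).map j₂)
    (by rw [Category.assoc]; exact sq'.w)
  have h4 := hfin₂ g₂ (snd ≫ (yon S).map eo.hom) (IsPullback.of_right (by rw [hg₂]; exact sq') hg₂' sqa)
  have h5 := repWith_comp h4 (repWith_of_isIso @IsFinite ((yon S).map eo.inv))
  rwa [Category.assoc, ← Functor.map_comp, eo.hom_inv_id, CategoryTheory.Functor.map_id, Category.comp_id] at h5

end Groth.Agent.AlgSpDec.FiniteDense
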