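import Groth.Agent.AlgSpDec.QfLocus
import Groth.Agent.AlgSpDec.FiniteDense
import Groth.Agent.AlgSpDec.ResTrdeg
import Groth.Agent.DimFormula.Fibre

/-!
# Quasi-finiteness over points of codimension at most one
-/

set_option backward.isDefEq.respectTransparency false
set_option backward.isDefEq.respectTransparency.types false

universe u

open CategoryTheory Limits Opposite AlgebraicGeometry AlgSp Groth.Agent.AlgSpLib Groth.Agent.AlgSpPts Groth.Agent.DimFormula

namespace Groth.Agent.AlgSpDec.CodimOne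

variable {S : Scheme.{u}} {X Y : Sp S} {f : X ⟶ Y}

theorem fibreDimAt_eq_zero_of_codim_le_one {U V : Scheme.{u}} (h : U ⟶ V) [LocallyOfFiniteType h]
    [IsLocallyNoetherian V] (u : U) (hv : Order.coheight (h u) ≤ 1)
    (hgen : ∀ η : U, Order.coheight η = 0 → h η ⤳ h u → FibDim.rd h η = 0) : FlatMor.fibreDimAt h u = 0 := by
  haveI := LocallyOfFiniteType.isLocallyNoetherian h
  refine (FieldFibre.fibreDimAt_eq_zero_iff_rd h u).2 fun z hz hfz => ?_
  obtain ⟨η, hη, hη0⟩ := FiniteDense.exists_coheight_zero_specializes z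
  have h0 := hgen η hη0 (hfz ▸ hη.map h.continuous)
  rcases eq_or_ne η z with rfl | hne
  · exact h0
  have h1 : cd η z ≠ 0 := fun e => hne ((cd_eq_zero_iff hη).1 e)
  have h2 := (cd_formula h hη).1
  have h3 : cd (h η) (h z) ≤ codim (h z) := cd_le_codim (hη.map h.continuous)
  have h4 : codim (h z) ≤ 1 := by
    rw [hfz]
    exact ENat.toNat_le_of_le_natCast hv
  rw [h0] at h2
  omega

/-- Quasi-finiteness over a point of codimension at most one. -/
theorem qf_of_codim_le_one (hX : IsAlgSpace X) (hY : IsAlgSpace Y) (hf : LocP @LocallyOfFiniteType f)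
    (hN : IsLocNoethSp Y) (y : Points Y) (hy : HasAt (fun U u => ringKrullDim ↥(U.presheaf.stalk u) ≤ 1) Y y)
    (h : ∀ {U V : Over S} {a : (yon S).obj U ⟶ X} {b : (yon S).obj V ⟶ Y} {k : U ⟶ V} (_ : RepWith @Etale a)
      (_ : RepWith @Etale b) (_ : a ≫ f = (yon S).map k ≫ b) [IsLocallyNoetherian U.left]
      [LocallyOfFiniteType k.left] (η : U.left), Order.coheight η = 0 →
        Points.map f (Points.ofPt a η) ⤳ y → FibDim.rd k.left η = 0)
    (x : Points X) (hx : Points.map f x = y) : HasAtMor SplitOff.QfAt f x := by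
  obtain ⟨U, V, a, b, k, ha, has, hb, -, w⟩ := exists_chart hX hY f
  haveI := AlgSpDec.isLocallyNoetherian_chart hb hN
  haveI : LocallyOfFiniteType k.left := hf a b k ha hb w
  haveI : IsLocallyNoetherian U.left := LocallyOfFiniteType.isLocallyNoetherian k.left
  obtain ⟨u, rfl⟩ := surjective_ofPt has x
  have hmap : ∀ t : U.left, Points.map f (Points.ofPt a t) = Points.ofPt b (k.left t) := fun t => by
    rw [Points.map_ofPt, w, ofPt_comp]
  have hv : Order.coheight (k.left u) ≤ 1 := by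
    obtain ⟨U', a', u', ha', hu', hd⟩ := hy
    rw [coheight_eq_of_charts hb ha' (((hmap u).symm.trans hx).trans hu'.symm)]
    rw [ringKrullDim_stalk_eq_coheight] at hd
    exact_mod_cast hd
  refine QfLocus.qf_of_fibreDim_zero hf ⟨U, V, a, b, k, u, ha, hb, w, rfl, ?_⟩
  refine fibreDimAt_eq_zero_of_codim_le_one k.left u hv fun η hη hs => h ha hb w η hη ?_
  rw [hmap, ← hx, hmap]
  exact hs.map (Points.continuous_ofPt b)

theorem rd_eq_zero_of_qf (hf : LocP @LocallyOfFiniteType f) {U V : Over S} {a : (yon S).obj U ⟶ X}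
    {b : (yon S).obj V ⟶ Y} {k : U ⟶ V} (ha : RepWith @Etale a) (hb : RepWith @Etale b)
    (w : a ≫ f = (yon S).map k ≫ b) [LocallyOfFiniteType k.left] (η : U.left)
    (h : HasAtMor SplitOff.QfAt f (Points.ofPt a η)) : FibDim.rd k.left η = 0 :=
  (FieldFibre.fibreDimAt_eq_zero_iff_rd k.left η).1 ((AlgSpDec.fibreDimAt_eq_zero_iff k.left η).2
    (Scheme.Hom.quasiFiniteAt_iff_isOpen_singleton_asFiber.mp (QfLocus.quasiFiniteAt_of_qf hf ha hb w η h)))
    η specializes_rfl rfl

theorem rd_eq_zero_of_resTrdeg {U V : Over S} {a : (yon S).obj U ⟶ X} {b : (yon S).obj V ⟶ Y} {k : U ⟶ V}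
    (ha : RepWith @Etale a) (hb : RepWith @Etale b) (w : a ≫ f = (yon S).map k ≫ b) [LocallyOfFiniteType k.left]
    (η : U.left) (h : HasAtMor (fun _ _ h u => Dual3.resTrdeg h u = 0) f (Points.ofPt a η)) :
    FibDim.rd k.left η = 0 := by
  have h1 := (ResTrdeg.hasAtMor_iff ha hb w η 0).1 h
  rw [← FibDim.rd_eq_rdeg] at h1
  exact_mod_cast h1

/-- A point of codimension zero of a locally noetherian scheme lies in every dense open. -/
theorem mem_of_dense {U : Scheme.{u}} [IsLocallyNoetherian U] {O : Set U} (hO : IsOpen O) (hd : Dense O) {η : U}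
    (hη : Order.coheight η = 0) : η ∈ O := by
  by_contra hn
  obtain ⟨B, hB, hηB, -⟩ := exists_isAffineOpen_mem_and_subset (U := (⊤ : U.Opens)) (x := η) trivial
  haveI : IsAffine B.toScheme := hB
  haveI : IsNoetherian B.toScheme := ⟨⟩
  let η' : B.toScheme := ⟨η, hηB⟩
  have h0 : Order.coheight η' = 0 := (coheight_eq_of_etale B.ι η').trans hη
  have hc : IsCompact (B.ι ⁻¹' O) := TopologicalSpace.NoetherianSpace.isCompact _
  refine notMem_closure_of_isCompact hc (hO.preimage B.ι.continuous) h0 (show η' ∉ B.ι ⁻¹' O from hn) ?_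
  have : Dense (B.ι ⁻¹' O) := hd.preimage B.ι.isOpenEmbedding.isOpenMap
  exact this _

theorem qf_of_dense (hf : LocP @LocallyOfFiniteType f) (hd : Dense {x : Points X | HasAtMor SplitOff.QfAt f x})
    {U : Over S} [IsLocallyNoetherian U.left] {a : (yon S).obj U ⟶ X} (ha : RepWith @Etale a) (η : U.left)
    (hη : Order.coheight η = 0) : HasAtMor SplitOff.QfAt f (Points.ofPt a η) :=
  mem_of_dense (U := U.left) (O := Points.ofPt a ⁻¹' {x | HasAtMor SplitOff.QfAt f x})
    ((QfLocus.isOpen_qf).preimage (Points.continuous_ofPt a)) (hd.preimage (isOpenMap_ofPt ha)) hη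

end Groth.Agent.AlgSpDec.CodimOne

namespace Groth.Agent.AlgSpDec.CodimOne

variable {S : Scheme.{u}} {X Y : Sp S} {f : X ⟶ Y}

/-- A finite fibre of a morphism from a decent space consists of quasi-finite points. -/
theorem qf_of_finite_fibre (hX : IsAlgSpace X) (hY : IsAlgSpace Y) (hd : IsDecent X)
    (hf : LocP @LocallyOfFiniteType f) (y : Points Y) (hfin : (Points.map f ⁻¹' {y}).Finite)
    (x : Points X) (hx : Points.map f x = y) : HasAtMor SplitOff.QfAt f x := by
  obtain ⟨U, V, a, b, k, ha, has, hb, -, w⟩ := exists_chart hX hY f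
  haveI : LocallyOfFiniteType k.left := hf a b k ha hb w
  obtain ⟨u, rfl⟩ := surjective_ofPt has x
  obtain ⟨O, hO, huO, -⟩ := exists_isAffineOpen_mem_and_subset (U := (⊤ : U.left.Opens)) (x := u) trivial
  let U' : Over S := Over.mk (O.ι ≫ U.hom)
  let ι₀ : U' ⟶ U := CategoryTheory.Over.homMk O.ι rfl
  haveI : IsAffine U'.left := hO
  let a' := (yon S).map ι₀ ≫ a
  let k' := ι₀ ≫ k
  have ha' : RepWith @Etale a' := repWith_comp ((repWith_yon_map_iff _ ι₀).2 (inferInstanceAs (Etale O.ι))) ha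
  have w' : a' ≫ f = (yon S).map k' ≫ b := by rw [Category.assoc, w, Functor.map_comp, Category.assoc]
  haveI : LocallyOfFiniteType k'.left := hf a' b k' ha' hb w'
  let u' : U'.left := ⟨u, huO⟩
  have hu' : Points.ofPt a' u' = Points.ofPt a u := by rw [ofPt_comp]; rfl
  have hfinU : (k'.left ⁻¹' {k'.left u'}).Finite := by
    refine (hfin.biUnion (t := fun x => Points.ofPt a' ⁻¹' {x}) fun x _ => finite_fibre hX hd ha' x).subset
      fun t ht => Set.mem_biUnion (?_ : Points.ofPt a' t ∈ _) rfl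
    change Points.map f (Points.ofPt a' t) = y
    rw [← hx, ← hu', Points.map_ofPt, Points.map_ofPt, w', ofPt_comp, ofPt_comp, show k'.left t = k'.left u' from ht]
  haveI : LocallyOfFiniteType (k'.left.fiberToSpecResidueField (k'.left u')) :=
    inferInstanceAs (LocallyOfFiniteType (pullback.snd k'.left (V.left.fromSpecResidueField (k'.left u'))))
  haveI : JacobsonSpace ↥(k'.left.fiber (k'.left u')) :=
    LocallyOfFiniteType.jacobsonSpace (k'.left.fiberToSpecResidueField (k'.left u'))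
  haveI : Finite ↥(k'.left.fiber (k'.left u')) :=
    haveI := hfinU.to_subtype
    Finite.of_equiv _ (k'.left.fiberHomeo (k'.left u')).symm.toEquiv
  haveI : DiscreteTopology ↥(k'.left.fiber (k'.left u')) := inferInstance
  rw [← hu']
  exact ⟨U', V, a', b, k', u', ha', hb, w', rfl, k'.left.quasiFiniteLocus,
    Scheme.Hom.quasiFiniteAt_iff_isOpen_singleton_asFiber.mpr (isOpen_discrete _), inferInstance, inferInstance⟩

end Groth.Agent.AlgSpDec.CodimOne

namespace Groth.Agent.AlgSpDec.CodimOne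

variable {S : Scheme.{u}} {X Y : Sp S} {f : X ⟶ Y}

theorem fibreDim_zero_of_qf (hf : LocP @LocallyOfFiniteType f) {x : Points X} (h : HasAtMor SplitOff.QfAt f x) :
    HasAtMor (fun _ _ h u => FlatMor.fibreDimAt h u = 0) f x := by
  obtain ⟨U, V, a, b, k, u, ha, hb, w, hu, hQ⟩ := h
  haveI : LocallyOfFiniteType k.left := hf a b k ha hb w
  exact ⟨U, V, a, b, k, u, ha, hb, w, hu, (AlgSpDec.fibreDimAt_eq_zero_iff k.left u).2
    (Scheme.Hom.quasiFiniteAt_iff_isOpen_singleton_asFiber.mp
      (QfLocus.quasiFiniteAt_of_qf hf ha hb w u ⟨U, V, a, b, k, u, ha, hb, w, rfl, hQ⟩))⟩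

theorem qf_baseChange {X' Y' : Sp S} {g : Y' ⟶ Y} {fst : X' ⟶ X} {snd : X' ⟶ Y'} (sq : IsPullback fst snd f g)
    (hX : IsAlgSpace X) (hY : IsAlgSpace Y) (hY' : IsAlgSpace Y') (hf : LocP @LocallyOfFiniteType f) (x' : Points X')
    (h : HasAtMor SplitOff.QfAt f (Points.map fst x')) : HasAtMor SplitOff.QfAt snd x' :=
  QfLocus.qf_of_fibreDim_zero (locP_of_isPullback sq hX hY hY' hf)
    (RelDimSp.baseChange sq hX hY hY' hf x' 0 (fibreDim_zero_of_qf hf h))

end Groth.Agent.AlgSpDec.CodimOne
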