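import Mathlib.Topology.Spectral.ConstructibleTopology
import Mathlib.Topology.Constructible
import Mathlib.Topology.Spectral.Hom

/-!
Constructible sets as the clopen sets of the constructible topology; descent along spectral surjections.
-/

open Set Topology TopologicalSpace

namespace Groth.Agent.AlgSpDec

variable {X Y : Type*} [TopologicalSpace X] [TopologicalSpace Y]

theorem isClopen_of_isConstructible [CompactSpace X] {C : Set X}
    (hC : IsConstructible C) :
    IsClopen ((WithTopology.ofTopology (t := constructibleTopology X)) ⁻¹' C) := by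
  induction hC using IsConstructible.empty_union_induction with
  | open_retrocompact U hU hUc =>
    refine ⟨?_, ?_⟩
    · rw [← isOpen_compl_iff, WithConstructibleTopology.isOpen_iff]
      exact IsCompact.isOpen_constructibleTopology_of_isClosed (by show IsCompact Uᶜᶜ; rw [compl_compl]; exact hUc.isCompact)
        hU.isClosed_compl
    · rw [WithConstructibleTopology.isOpen_iff]
      exact IsCompact.isOpen_constructibleTopology_of_isOpen hUc.isCompact hU
  | union s _ t _ hs ht => rw [preimage_union]; exact hs.union ht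
  | compl s _ hs => rw [preimage_compl]; exact hs.compl

theorem exists_isConstructible_subset [CompactSpace X] [QuasiSeparatedSpace X] [PrespectralSpace X] {G : Set X}
    (hG : IsOpen[constructibleTopology X] G) : ∀ x ∈ G, ∃ C, IsConstructible C ∧ x ∈ C ∧ C ⊆ G := by
  induction hG with
  | basic s hs =>
    intro x hx
    refine ⟨s, ?_, hx, subset_rfl⟩
    rcases hs with ⟨ho, hc⟩ | ⟨ho, hc⟩
    · exact hc.isConstructible ho
    · exact isConstructible_compl.1 (hc.isConstructible ho.isOpen_compl)
  | univ => exact fun x hx => ⟨univ, .univ, hx, subset_rfl⟩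
  | inter s t _ _ hs ht =>
    intro x hx
    obtain ⟨C, hC, hxC, hCs⟩ := hs x hx.1
    obtain ⟨D, hD, hxD, hDt⟩ := ht x hx.2
    exact ⟨C ∩ D, hC.inter hD, ⟨hxC, hxD⟩, inter_subset_inter hCs hDt⟩
  | sUnion T _ ih =>
    rintro x ⟨t, ht, hx⟩
    obtain ⟨C, hC, hxC, hCt⟩ := ih t ht x hx
    exact ⟨C, hC, hxC, hCt.trans (subset_sUnion_of_mem ht)⟩

theorem isConstructible_of_isClopen [CompactSpace X] [QuasiSeparatedSpace X] [PrespectralSpace X] [QuasiSober X]
    {E : Set X} (hE : IsClopen ((WithTopology.ofTopology (t := constructibleTopology X)) ⁻¹' E)) :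
    IsConstructible E := by
  let π := WithTopology.ofTopology (t := constructibleTopology X)
  have ho : IsOpen[constructibleTopology X] E := WithConstructibleTopology.isOpen_iff.1 hE.isOpen
  choose C hC hxC hCE using exists_isConstructible_subset ho
  obtain ⟨t, ht⟩ := hE.isClosed.isCompact.elim_finite_subcover (fun x : E => π ⁻¹' C x.1 x.2)
    (fun x => (isClopen_of_isConstructible (hC x.1 x.2)).isOpen)
    (fun z hz => mem_iUnion.2 ⟨⟨π z, hz⟩, hxC _ hz⟩)
  have : E = ⋃ x ∈ (t : Set E), C x.1 x.2 := by
    refine subset_antisymm (fun x hx => ?_) (iUnion₂_subset fun x _ => hCE x.1 x.2)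
    obtain ⟨i, hi⟩ := mem_iUnion.1 (ht (show WithTopology.toTopology _ x ∈ π ⁻¹' E from hx))
    obtain ⟨hit, hxi⟩ := mem_iUnion.1 hi
    exact mem_iUnion₂.2 ⟨i, hit, hxi⟩
  rw [this]
  exact IsConstructible.biUnion t.finite_toSet fun x _ => hC x.1 x.2

instance t2Space_constructibleTopology [T0Space X] [PrespectralSpace X] :
    T2Space (WithConstructibleTopology X) := by
  refine ⟨fun x y hxy => ?_⟩
  let π := WithTopology.ofTopology (t := constructibleTopology X)
  have h : π x ≠ π y := fun h => hxy (WithTopology.ofTopology_injective _ h)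
  suffices ∃ W : Set X, IsOpen W ∧ IsCompact W ∧ (π x ∈ W ∧ π y ∉ W ∨ π y ∈ W ∧ π x ∉ W) by
    obtain ⟨W, hWo, hWc, hW⟩ := this
    have h1 : IsOpen (π ⁻¹' W) := by
      rw [WithConstructibleTopology.isOpen_iff]
      exact IsCompact.isOpen_constructibleTopology_of_isOpen hWc hWo
    have h2 : IsOpen (π ⁻¹' Wᶜ) := by
      rw [WithConstructibleTopology.isOpen_iff]
      exact IsCompact.isOpen_constructibleTopology_of_isClosed (by show IsCompact Wᶜᶜ; rwa [compl_compl]) hWo.isClosed_compl
    have hd : Disjoint (π ⁻¹' W) (π ⁻¹' Wᶜ) := disjoint_compl_right.preimage _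
    rcases hW with ⟨a, b⟩ | ⟨a, b⟩
    · exact ⟨_, _, h1, h2, a, b, hd⟩
    · exact ⟨_, _, h2, h1, b, a, hd.symm⟩
  obtain ⟨U, hU, hU'⟩ := exists_isOpen_xor_mem h
  rcases hU' with ⟨a, b⟩ | ⟨a, b⟩
  · obtain ⟨W, ⟨hWo, hWc⟩, hxW, hWU⟩ := PrespectralSpace.isTopologicalBasis.exists_subset_of_mem_open a hU
    exact ⟨W, hWo, hWc, .inl ⟨hxW, fun h => b (hWU h)⟩⟩
  · obtain ⟨W, ⟨hWo, hWc⟩, hxW, hWU⟩ := PrespectralSpace.isTopologicalBasis.exists_subset_of_mem_open a hU
    exact ⟨W, hWo, hWc, .inr ⟨hxW, fun h => b (hWU h)⟩⟩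

theorem continuous_constructible {f : X → Y} (hf : IsSpectralMap f) :
    Continuous fun x : WithConstructibleTopology X =>
      WithTopology.toTopology (constructibleTopology Y) (f (WithTopology.ofTopology x)) := by
  refine @Continuous.comp _ _ _ _ (constructibleTopology Y) _ _ _ (WithTopology.continuous_toTopology _)
    (continuous_generateFrom_iff.2 fun s hs => ?_)
  rw [WithConstructibleTopology.isOpen_iff]
  show IsOpen[constructibleTopology X] (f ⁻¹' s)
  rcases hs with ⟨ho, hc⟩ | ⟨ho, hc⟩
  · exact IsCompact.isOpen_constructibleTopology_of_isOpen (hc.preimage_of_isOpen hf ho) (ho.preimage hf.continuous)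
  · refine IsCompact.isOpen_constructibleTopology_of_isClosed ?_ (ho.preimage hf.continuous)
    rw [← preimage_compl]
    exact hc.preimage_of_isOpen hf ho.isOpen_compl

theorem isConstructible_of_preimage [CompactSpace X] [QuasiSeparatedSpace X] [PrespectralSpace X] [QuasiSober X]
    [CompactSpace Y] [QuasiSeparatedSpace Y] [PrespectralSpace Y] [QuasiSober Y] [T0Space Y]
    {f : X → Y} (hf : IsSpectralMap f) (hs : Function.Surjective f) {E : Set Y}
    (hE : IsConstructible (f ⁻¹' E)) : IsConstructible E := by
  let g := fun x : WithConstructibleTopology X =>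
      WithTopology.toTopology (constructibleTopology Y) (f (WithTopology.ofTopology x))
  let π := WithTopology.ofTopology (t := constructibleTopology Y)
  have key : ∀ A : Set Y, IsConstructible (f ⁻¹' A) → IsClosed (π ⁻¹' A) := fun A hA => by
    have h := ((isClopen_of_isConstructible hA).isClosed.isCompact.image (continuous_constructible hf)).isClosed
    convert h using 1
    ext z
    constructor
    · intro hz
      obtain ⟨x, hx⟩ := hs (π z)
      exact ⟨WithTopology.toTopology _ x, show f x ∈ A by rw [hx]; exact hz,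
        WithTopology.ofTopology_injective _ hx⟩
    · rintro ⟨x, hx, rfl⟩; exact hx
  refine isConstructible_of_isClopen ⟨key E hE, isClosed_compl_iff.1 ?_⟩
  rw [← preimage_compl]
  exact key _ (by rw [preimage_compl]; exact hE.compl)

end Groth.Agent.AlgSpDec
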