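import Groth.Agent.AlgSpDec.GeomConn
import Groth.Agent.AlgSpPts.Univ
import Groth.Prelude.Def_AlgSpDec

/-!
# Connected components of fibres over algebraically closed field-valued points
-/

set_option autoImplicit false
set_option backward.isDefEq.respectTransparency false
set_option backward.isDefEq.respectTransparency.types false

universe u

open CategoryTheory Limits Opposite AlgebraicGeometry AlgSp Groth.Agent.AlgSpLib Groth.Agent.AlgSpPts

namespace Groth.Agent.AlgSpDec.GeomComponents

variable {S : Scheme.{u}}

theorem encard_connectedComponents_eq {K L : Type u} [Field K] [IsAlgClosed K] [Field L]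
    {str : Spec (CommRingCat.of K) ⟶ S} {str' : Spec (CommRingCat.of L) ⟶ S} (m : Over.mk str' ⟶ Over.mk str)
    {F Q : Sp S} {b : F ⟶ (yon S).obj (Over.mk str)} {q : Q ⟶ F} {c : Q ⟶ (yon S).obj (Over.mk str')}
    (sq : IsPullback q c b ((yon S).map m)) :
    ENat.card (_root_.ConnectedComponents (Points Q)) = ENat.card (_root_.ConnectedComponents (Points F)) := by
  obtain ⟨φ, hφ⟩ := Spec.map_surjective m.left
  have huo : UniversallyOpen m.left := by
    rw [← hφ]
    have : IsIntegral (Spec (CommRingCat.of K)) := inferInstance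
    have : Subsingleton ↥(Spec (CommRingCat.of K)) := inferInstanceAs (Subsingleton (PrimeSpectrum K))
    exact (inferInstance : UniversallyOpen (Spec.map φ))
  have hq : RepWith @UniversallyOpen q := repWith_of_isPullback sq.flip ((repWith_yon_map_iff _ m).2 huo)
  have hopen : IsOpenMap (Points.map q) := isOpenMap_map hq
  have hsurj : Function.Surjective (Points.map q) :=
    surjective_map_of_isPullback sq.flip (surjective_map_of_repWith ((repWith_yon_map_iff _ _).2
      (⟨fun x => ⟨IsLocalRing.closedPoint L, Subsingleton.elim (α := PrimeSpectrum K) _ _⟩⟩ : Surjective m.left)))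
  have hfib : ∀ x, IsPreconnected (Points.map q ⁻¹' {x}) := by
    intro x
    induction x using Points.ind with
    | h p =>
      let W := hq.rep.pullback p.toHom
      have sqW : IsPullback (hq.rep.fst p.toHom) ((yon S).map (hq.rep.snd p.toHom)) q p.toHom :=
        hq.rep.isPullback p.toHom
      obtain ⟨α, hα⟩ := (yon S).map_surjective (p.toHom ≫ b)
      obtain ⟨β, hβ⟩ := (yon S).map_surjective (hq.rep.fst p.toHom ≫ c)
      have big := sqW.flip.paste_vert sq
      rw [← hα, ← hβ] at big
      have sqS := (isPullback_of_yon big).flip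
      have : IrreducibleSpace ↥p.pt.left := inferInstanceAs (IrreducibleSpace (PrimeSpectrum p.K))
      have hm : m.left = Spec.map (CommRingCat.ofHom φ.hom) := hφ.symm
      have h1 : IrreducibleSpace ↥(pullback α.left m.left) := by
        rw [hm]
        exact GrpSchLib.irreducibleSpace_pullback_of_isAlgClosed α.left φ.hom
      have h2 : IrreducibleSpace ↥W.left :=
        sqS.flip.isoPullback.hom.homeomorph.irreducibleSpace_iff.mpr h1
      have hsub : ∀ t : ↥p.pt.left, Points.ofPt p.toHom t = Points.mk p := fun t => Points.ofPt_toHom p t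
      have he : Points.map q ⁻¹' {Points.mk p} = Set.range (Points.ofPt (hq.rep.fst p.toHom)) := by
        ext z
        constructor
        · intro hz
          obtain ⟨w, hw, -⟩ := exists_lift sqW (x := z) (t := IsLocalRing.closedPoint p.K)
            ((Set.mem_singleton_iff.1 hz).trans (hsub _).symm)
          exact ⟨w, hw⟩
        · rintro ⟨w, rfl⟩
          exact (map_ofPt_fst sqW w).trans (hsub _)
      rw [he]
      exact isPreconnected_range (Points.continuous_ofPt _)
  have hcoind : Topology.IsCoinducing (Points.map q) :=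
    (IsOpenQuotientMap.isQuotientMap ⟨hsurj, Points.continuous_map q, hopen⟩).isCoinducing
  exact ENat.card_congr (hcoind.connectedComponentsHomeomorph fun x =>
    ⟨let ⟨z, hz⟩ := hsurj x; ⟨z, hz⟩, hfib x⟩).toEquiv

/-- Fibres over two algebraically closed field-valued points with the same image have the same number of
components. -/
theorem encard_fibre_eq {X Y : Sp S} (f : X ⟶ Y) (k k' : FieldPt Y) (hk : k.IsGeometric) (hk' : k'.IsGeometric)
    (hkk : Points.mk k = Points.mk k') {P P' : Sp S} {a : P ⟶ X} {b : P ⟶ (yon S).obj k.pt}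
    (h : IsPullback a b f k.toHom) {a' : P' ⟶ X} {b' : P' ⟶ (yon S).obj k'.pt}
    (h' : IsPullback a' b' f k'.toHom) :
    ENat.card (_root_.ConnectedComponents (Points P')) = ENat.card (_root_.ConnectedComponents (Points P)) := by
  obtain ⟨Ω, _, w, c, c', hcc⟩ := Points.mk_eq_mk_iff.1 hkk
  have hcomp : (yon S).map c ≫ k.toHom = (yon S).map c' ≫ k'.toHom := by
    apply (J S).uliftYonedaEquiv.injective
    erw [GrothendieckTopology.uliftYonedaEquiv_comp, GrothendieckTopology.uliftYonedaEquiv_comp]
    change k.toHom.hom.app _ ⟨c⟩ = k'.toHom.hom.app _ ⟨c'⟩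
    rw [FieldPt.toHom_app, FieldPt.toHom_app]
    exact hcc
  have : IsAlgClosed k.K := hk
  have : IsAlgClosed k'.K := hk'
  have sqQ := IsPullback.of_hasPullback f ((yon S).map c ≫ k.toHom)
  obtain ⟨q, hq₁, hq₂⟩ := h.exists_lift (pullback.fst f ((yon S).map c ≫ k.toHom))
    (pullback.snd f _ ≫ (yon S).map c) (by rw [Category.assoc]; exact sqQ.w)
  obtain ⟨q', hq₁', hq₂'⟩ := h'.exists_lift (pullback.fst f ((yon S).map c ≫ k.toHom))
    (pullback.snd f _ ≫ (yon S).map c') (by rw [Category.assoc, ← hcomp]; exact sqQ.w)
  have sq₁ : IsPullback q (pullback.snd f ((yon S).map c ≫ k.toHom)) b ((yon S).map c) :=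
    IsPullback.of_right (by rw [hq₁]; exact sqQ) hq₂ h
  have sq₂ : IsPullback q' (pullback.snd f ((yon S).map c ≫ k.toHom)) b' ((yon S).map c') :=
    IsPullback.of_right (by rw [hq₁', ← hcomp]; exact sqQ) hq₂' h'
  exact (encard_connectedComponents_eq c' sq₂).symm.trans (encard_connectedComponents_eq c sq₁)

end Groth.Agent.AlgSpDec.GeomComponents
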