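import Groth.Agent.S10683
import Groth.Agent.FlatMisc.GeomRedOpen
import Groth.Agent.AlgSpPts.Sep
import Groth.Agent.AlgSpDec.ReducedStalk

/-!
Geometrically reduced fibres generalize along a flat proper morphism of algebraic spaces.
-/

set_option autoImplicit false
set_option backward.isDefEq.respectTransparency false
set_option backward.isDefEq.respectTransparency.types false

universe u

open CategoryTheory CategoryTheory.Limits AlgebraicGeometry AlgSp TopologicalSpace Topology
open Groth.Agent.FlatMisc Groth.Agent.AlgSpLib Groth.Agent.AlgSpPts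
open scoped TensorProduct

namespace Groth.Agent.AlgSpDec.GeomRedGen

/-- Near a reduced special fibre a flat scheme of finite type over a valuation ring is reduced. -/
theorem exists_nbhd_of_closed {R : Type u} [CommRing R] [IsDomain R] [ValuationRing R] {X : Scheme.{u}}
    (f : X ⟶ Spec (CommRingCat.of R)) [LocallyOfFiniteType f] [Flat f]
    (hred : AlgebraicGeometry.IsReduced (f.fiber (IsLocalRing.closedPoint R))) {x : X}
    (hx : f x = IsLocalRing.closedPoint R) :
    ∃ W : X.Opens, x ∈ W ∧ ∀ y ∈ W, _root_.IsReduced (X.presheaf.stalk y) := by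
  obtain ⟨V, hV, hxV, -⟩ := exists_isAffineOpen_mem_and_subset (x := x) (U := ⊤) trivial
  let φ : CommRingCat.of R ⟶ Γ(X, V) := (Scheme.ΓSpecIso (CommRingCat.of R)).inv ≫ f.appLE ⊤ V le_top
  letI := φ.hom.toAlgebra
  have hφ : hV.fromSpec ≫ f = Spec.map φ := by
    rw [Spec.map_comp, ← (isAffineOpen_top _).SpecMap_appLE_fromSpec f hV le_top, IsAffineOpen.fromSpec_top,
      Scheme.isoSpec_Spec_inv]
  haveI : Flat (Spec.map φ) := hφ ▸ inferInstance
  haveI : LocallyOfFiniteType (Spec.map φ) := hφ ▸ inferInstance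
  haveI : Algebra.FiniteType R Γ(X, V) := HasRingHomProperty.Spec_iff.mp ‹LocallyOfFiniteType (Spec.map φ)›
  haveI : Module.Flat R Γ(X, V) := (HasRingHomProperty.Spec_iff (P := @Flat)).mp ‹Flat (Spec.map φ)›
  let P : PrimeSpectrum R := IsLocalRing.closedPoint R
  let g := Spec.map (CommRingCat.ofHom (algebraMap R Γ(X, V)))
  let Φ : g.fiber P ⟶ f.fiber P :=
    pullback.map g ((Spec (CommRingCat.of R)).fromSpecResidueField P) f ((Spec (CommRingCat.of R)).fromSpecResidueField P)
      hV.fromSpec (𝟙 _) (𝟙 _) (by rw [Category.comp_id]; exact hφ.symm) (by simp)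
  haveI : IsOpenImmersion Φ := Scheme.pullback_map_isOpenImmersion _ _ _ _ _ _ _ _ _
  haveI : AlgebraicGeometry.IsReduced (g.fiber P) := @isReduced_of_isOpenImmersion _ _ Φ _ hred
  haveI : AlgebraicGeometry.IsReduced (Spec (CommRingCat.of (P.asIdeal.Fiber Γ(X, V)))) := by
    haveI : IsOpenImmersion (Spec.fiberToSpecResidueFieldIso R Γ(X, V) P).inv.left := inferInstance
    exact @isReduced_of_isOpenImmersion _ _ (Spec.fiberToSpecResidueFieldIso R Γ(X, V) P).inv.left _
      (show AlgebraicGeometry.IsReduced (g.fiber P) from inferInstance)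
  have hF : _root_.IsReduced (P.asIdeal.Fiber Γ(X, V)) :=
    (affine_isReduced_iff (CommRingCat.of (P.asIdeal.Fiber Γ(X, V)))).mp inferInstance
  obtain ⟨t, ht, hta⟩ := ValuationRed.exists_mul_nilradical_eq_zero (R := R) (A := Γ(X, V)) fun a ha => by
    let m := IsLocalRing.maximalIdeal R
    let e := RingEquiv.ofBijective (algebraMap (R ⧸ m) m.ResidueField) m.bijective_algebraMap_quotient_residueField
    let ψ : m.ResidueField →+* Γ(X, V) ⧸ m.map (algebraMap R Γ(X, V)) :=
      (Ideal.quotientMap _ (algebraMap R Γ(X, V)) Ideal.le_comap_map).comp e.symm.toRingHom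
    let ψ' : m.ResidueField →ₐ[R] Γ(X, V) ⧸ m.map (algebraMap R Γ(X, V)) :=
      { toRingHom := ψ, commutes' := fun r => by
          show ψ (algebraMap R m.ResidueField r) = _
          have : e.symm (algebraMap R m.ResidueField r) = Ideal.Quotient.mk m r := by
            rw [RingEquiv.symm_apply_eq]; rfl
          show Ideal.quotientMap (m.map (algebraMap R Γ(X, V))) (algebraMap R Γ(X, V)) Ideal.le_comap_map (e.symm (algebraMap R m.ResidueField r)) = _
          rw [this]; rfl }
    let Ψ : m.ResidueField ⊗[R] Γ(X, V) →ₐ[R] Γ(X, V) ⧸ m.map (algebraMap R Γ(X, V)) :=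
      Algebra.TensorProduct.lift ψ' (Ideal.Quotient.mkₐ R _) (fun _ _ => mul_comm _ _)
    have h0 : (1 : m.ResidueField) ⊗ₜ[R] a = 0 :=
      @IsNilpotent.eq_zero _ _ _ _ hF (ha.map (Algebra.TensorProduct.includeRight : Γ(X, V) →ₐ[R] m.ResidueField ⊗[R] Γ(X, V)))
    have h1 := congrArg Ψ h0
    simp only [Ψ, Algebra.TensorProduct.lift_tmul, map_one, one_mul, map_zero] at h1
    exact Ideal.Quotient.eq_zero_iff_mem.mp h1
  have hmemq : hV.fromSpec (hV.primeIdealOf ⟨x, hxV⟩) = x := hV.fromSpec_primeIdealOf _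
  have hq : (IsLocalRing.maximalIdeal R).map (algebraMap R Γ(X, V)) ≤ (hV.primeIdealOf ⟨x, hxV⟩).asIdeal := by
    rw [Ideal.map_le_iff_le_comap]
    have : PrimeSpectrum.comap (algebraMap R Γ(X, V)) (hV.primeIdealOf ⟨x, hxV⟩) = P := by
      show Spec.map φ (hV.primeIdealOf ⟨x, hxV⟩) = P
      rw [← hφ, Scheme.Hom.comp_apply, hV.fromSpec_primeIdealOf]
      exact hx
    exact (congrArg PrimeSpectrum.asIdeal this).ge
  refine ⟨X.basicOpen t, ?_, fun y hy => ?_⟩
  · have h1 : hV.primeIdealOf ⟨x, hxV⟩ ∈ hV.fromSpec ⁻¹ᵁ X.basicOpen t := by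
      rw [IsAffineOpen.fromSpec_preimage_basicOpen]
      intro htq
      refine (hV.primeIdealOf ⟨x, hxV⟩).2.ne_top ((Ideal.eq_top_iff_one _).mpr ?_)
      simpa using Ideal.sub_mem _ htq (hq ht)
    have h2 : hV.fromSpec (hV.primeIdealOf ⟨x, hxV⟩) ∈ X.basicOpen t := h1
    rwa [hmemq] at h2
  have hyV : y ∈ V := X.basicOpen_le t hy
  letI := X.presheaf.algebra_section_stalk ⟨y, hyV⟩
  haveI := hV.isLocalization_stalk ⟨y, hyV⟩
  let q := hV.primeIdealOf ⟨y, hyV⟩
  have htq : t ∉ q.asIdeal := by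
    have h1 : hV.fromSpec q ∈ X.basicOpen t := by rwa [hV.fromSpec_primeIdealOf]
    have h2 : q ∈ hV.fromSpec ⁻¹ᵁ X.basicOpen t := h1
    rwa [IsAffineOpen.fromSpec_preimage_basicOpen] at h2
  refine ⟨fun z hz => ?_⟩
  obtain ⟨⟨a, s⟩, rfl⟩ := IsLocalization.mk'_surjective q.asIdeal.primeCompl z
  simp only at hz ⊢
  obtain ⟨k, hk⟩ := hz
  rw [← IsLocalization.mk'_pow, IsLocalization.mk'_eq_zero_iff] at hk
  obtain ⟨u, hu⟩ := hk
  have hua : IsNilpotent ((u : Γ(X, V)) * a) := ⟨k + 1, by
    rw [mul_pow, pow_succ (u : Γ(X, V)), pow_succ a]; linear_combination ((u : Γ(X, V)) ^ k * a) * hu⟩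
  rw [IsLocalization.mk'_eq_zero_iff]
  refine ⟨⟨t * u, q.asIdeal.primeCompl.mul_mem htq u.2⟩, ?_⟩
  show t * u * a = 0
  rw [mul_assoc]
  exact hta _ hua

variable {S : Scheme.{u}} {R : Type u} [CommRing R] [IsDomain R] [ValuationRing R]
  {str : Spec (CommRingCat.of R) ⟶ S} {P : Sp S} {p : P ⟶ (yon S).obj (Over.mk str)} {U : Over S}
  {c : (yon S).obj U ⟶ P}

/-- A chart of a flat universally closed space over a valuation ring is reduced if its special fibre is. -/
theorem isReduced_chart (hc : RepWith @Etale c) (hp : IsClosedMap (Points.map p))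
    (g : U ⟶ Over.mk str) (hg : c ≫ p = (yon S).map g) [LocallyOfFiniteType g.left] [Flat g.left]
    (hred : AlgebraicGeometry.IsReduced (g.left.fiber (IsLocalRing.closedPoint R)))
    (hcs : RepWith @Surjective c) : AlgebraicGeometry.IsReduced U.left := by
  haveI : ∀ u : U.left, _root_.IsReduced (U.left.presheaf.stalk u) := fun u => by
    have hcl := hp _ (isClosed_closure (s := ({Points.ofPt c u} : Set (Points P))))
    have hpu : Points.map p (Points.ofPt c u) = Points.schemeHomeo (Over.mk str) (g.left u) := by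
      rw [Points.map_ofPt, hg, Points.ofPt_eq_map_ofScheme]
      exact Points.map_yon_map_apply g u
    have hmem : Points.schemeHomeo (Over.mk str) (IsLocalRing.closedPoint R) ∈
        Points.map p '' closure {Points.ofPt c u} := by
      refine ((IsLocalRing.specializes_closedPoint (g.left u)).map
        (Points.schemeHomeo (Over.mk str)).continuous).mem_closed hcl ?_
      exact hpu ▸ ⟨_, subset_closure rfl, rfl⟩
    obtain ⟨z, hz, hpz⟩ := hmem
    obtain ⟨w, rfl⟩ := surjective_ofPt hcs z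
    have hgw : g.left w = IsLocalRing.closedPoint R := by
      refine (Points.schemeHomeo (Over.mk str)).injective (Eq.trans ?_ hpz)
      rw [Points.map_ofPt, hg, Points.ofPt_eq_map_ofScheme]
      exact (Points.map_yon_map_apply g w).symm
    obtain ⟨W, hwW, hW⟩ := exists_nbhd_of_closed g.left hred hgw
    obtain ⟨_, ⟨u', hu', rfl⟩, he⟩ := mem_closure_iff.1 hz _ (isOpenMap_ofPt hc _ W.2) ⟨w, hwW, rfl⟩
    have he' : Points.ofPt c u' = Points.ofPt c u := he
    have sq := hc.rep.isPullback' c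
    obtain ⟨r, hr₁, hr₂⟩ := exists_ofPt_of_eq sq he'
    haveI : Etale (hc.rep.snd c).left := hc.property_snd c
    haveI : Etale (hc.rep.fst' c).left := hc.property _ _ _ sq.flip
    have h1 := (AlgSpDec.isReduced_stalk_iff_of_etale (hc.rep.fst' c).left r).2 (hr₁.symm ▸ hW u' hu')
    exact hr₂ ▸ (AlgSpDec.isReduced_stalk_iff_of_etale (hc.rep.snd c).left r).1 h1
  exact isReduced_of_isReduced_stalk U.left

end Groth.Agent.AlgSpDec.GeomRedGen
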