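import Groth.Agent.MorLib.WeightDeg
import Groth.Agent.AlgSpDec.BddFibres
import Groth.Agent.AlgSpDec.RedInduced
import Groth.Prelude.Def_AlgSpMor5

/-!
# The stratification by the degree of the fibres
-/

set_option backward.isDefEq.respectTransparency false
set_option backward.isDefEq.respectTransparency.types false

universe u

open CategoryTheory Limits Opposite AlgebraicGeometry AlgSp Groth.Agent.AlgSpLib Groth.Agent.AlgSpPts
open Groth.Agent.MorLib

namespace Groth.Agent.AlgSpDec.DegStrat

theorem deg_baseChange {X S X' T : Scheme.{u}} {f : X ⟶ S} [Flat f] [LocallyOfFinitePresentation f] [IsSeparated f]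
    [LocallyQuasiFinite f] (hfin : ∀ s : S, (f ⁻¹' {s}).Finite) {a : X' ⟶ X} {f' : X' ⟶ T} {g : T ⟶ S}
    (hc : IsPullback a f' f g) [Flat f'] [LocallyOfFinitePresentation f'] [IsSeparated f'] [LocallyQuasiFinite f']
    (t : T) : WT.deg f' t = WT.deg f (g t) := by
  have hfin' : ∀ t : T, (f' ⁻¹' {t}).Finite := fun t => GF.finite_preimage_baseChange hc t (hfin _)
  obtain ⟨Ω, _, _, tb, rfl⟩ := GF.exists_geomPoint t
  let y := IsLocalRing.closedPoint Ω
  have h1 := WT.finrank_fibre_eq_deg hfin' tb y
  have h2 := WT.finrank_fibre_eq_deg hfin (tb ≫ g) y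
  rw [Scheme.Hom.comp_apply] at h2
  refine h1.symm.trans (Eq.trans ?_ h2)
  have hc' := (IsPullback.of_hasPullback f' tb).paste_horiz hc
  haveI := WT.isFinite_fibre hfin (tb ≫ g)
  haveI : Flat (pullback.snd f (tb ≫ g)) := MorphismProperty.pullback_snd _ _ inferInstance
  rw [← hc'.isoPullback_hom_snd, Scheme.Hom.finrank_comp_left_of_isIso]

variable {S : Scheme.{u}} {X : Sp S} {W : Over S} {w : (yon S).obj W ⟶ X}

/-- The four properties of the test maps. -/
theorem props (hfl : RepWith @Flat w) (hfp : RepWith @LocallyOfFinitePresentation w)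
    (hsep : RepWith @IsSeparated w) (hqf : RepWith @LocallyQuasiFinite w) {T P : Over S} {g : (yon S).obj T ⟶ X}
    {a : (yon S).obj P ⟶ (yon S).obj W} {b : P ⟶ T} (sq : IsPullback a ((yon S).map b) w g) :
    Flat b.left ∧ LocallyOfFinitePresentation b.left ∧ IsSeparated b.left ∧ LocallyQuasiFinite b.left :=
  ⟨hfl.property g a b sq, hfp.property g a b sq, hsep.property g a b sq, hqf.property g a b sq⟩

theorem finite_fibre {n : ℕ} (hb : W4dec.DegFibresLE n w) {T P : Over S} {g : (yon S).obj T ⟶ X}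
    {a : (yon S).obj P ⟶ (yon S).obj W} {b : P ⟶ T} (sq : IsPullback a ((yon S).map b) w g) (t : T.left) :
    (b.left ⁻¹' {t}).Finite ∧
      (Flat b.left → LocallyOfFinitePresentation b.left → IsSeparated b.left → LocallyQuasiFinite b.left →
        (∀ s, (b.left ⁻¹' {s}).Finite) → WT.deg b.left t ≤ n) := by
  let z := T.left.fromSpecResidueField t
  let K := T.left.residueField t
  let L : Over S := Over.mk (z ≫ T.hom)
  let zO : L ⟶ T := CategoryTheory.Over.homMk z rfl
  let Q : Over S := Over.mk (pullback.fst b.left z ≫ P.hom)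
  let qP : Q ⟶ P := CategoryTheory.Over.homMk (pullback.fst b.left z) rfl
  let c : Q ⟶ L := CategoryTheory.Over.homMk (pullback.snd b.left z) (by
    change pullback.snd b.left z ≫ z ≫ T.hom = pullback.fst b.left z ≫ P.hom
    rw [← pullback.condition_assoc, CategoryTheory.Over.w])
  have sqL : IsPullback ((yon S).map qP) ((yon S).map c) ((yon S).map b) ((yon S).map zO) :=
    isPullback_yon_of_left qP c b zO (IsPullback.of_hasPullback b.left z)
  have hd : DegLE n c.left := degFibres_apply hb ((yon S).map zO ≫ g) c ((yon S).map qP ≫ a)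
    (sqL.paste_horiz sq).flip
  obtain ⟨hfin, -, -⟩ := DegLE.space hd
  refine ⟨?_, fun _ _ _ _ hf => ?_⟩
  · refine (Set.finite_range qP.left).subset fun p hp => ?_
    obtain ⟨q, hq, -⟩ := Scheme.Pullback.exists_preimage_pullback (f := b.left) (g := z) p
      (IsLocalRing.closedPoint K) ((hp : b.left p = t).trans (Scheme.fromSpecResidueField_apply _ _).symm)
    exact ⟨q, hq⟩
  · have h1 := WT.finrank_fibre_eq_deg hf z (IsLocalRing.closedPoint K)
    have h2 := h1.trans (congrArg (WT.deg b.left) (Scheme.fromSpecResidueField_apply t (IsLocalRing.closedPoint K)))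
    rw [← h2]
    exact hd.2 _

variable (hw : Representable w)

/-- The fibre degree at a point of a scheme mapping to the space. -/
noncomputable def dg {T : Over S} (g : (yon S).obj T ⟶ X) (t : T.left) : ℕ := WT.deg (hw.snd g).left t

theorem deg_eq_dg (hfl : RepWith @Flat w) (hfp : RepWith @LocallyOfFinitePresentation w)
    (hsep : RepWith @IsSeparated w) (hqf : RepWith @LocallyQuasiFinite w) {n : ℕ} (hb : W4dec.DegFibresLE n w)
    {T T' P' : Over S} (g : (yon S).obj T ⟶ X) {g' : (yon S).obj T' ⟶ X} (k : T' ⟶ T)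
    (hk : (yon S).map k ≫ g = g') {a : (yon S).obj P' ⟶ (yon S).obj W} {b : P' ⟶ T'}
    (sq : IsPullback a ((yon S).map b) w g') (t : T'.left) : WT.deg b.left t = dg hw g (k.left t) := by
  have sq₀ : IsPullback (hw.fst g) ((yon S).map (hw.snd g)) w g := hw.isPullback g
  obtain ⟨p1, p2, p3, p4⟩ := props hfl hfp hsep hqf sq₀
  obtain ⟨q1, q2, q3, q4⟩ := props hfl hfp hsep hqf sq
  obtain ⟨m, hm⟩ := (yon S).map_surjective (sq₀.lift a ((yon S).map (b ≫ k))
    (by rw [Functor.map_comp, Category.assoc, hk]; exact sq.w))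
  have hm₂ : m ≫ hw.snd g = b ≫ k := (yon S).map_injective (by rw [Functor.map_comp, hm, sq₀.lift_snd])
  have hsq : IsPullback m.left b.left (hw.snd g).left k.left := isPullback_of_yon
    (IsPullback.of_right (by rw [hm, sq₀.lift_fst, hk]; exact sq)
      (by rw [← Functor.map_comp, ← Functor.map_comp, hm₂]) sq₀)
  exact deg_baseChange (fun s => (finite_fibre hb sq₀ s).1) hsq t

theorem dg_eq_of_points (hfl : RepWith @Flat w) (hfp : RepWith @LocallyOfFinitePresentation w)
    (hsep : RepWith @IsSeparated w) (hqf : RepWith @LocallyQuasiFinite w) {n : ℕ} (hb : W4dec.DegFibresLE n w)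
    {U T : Over S} {a : (yon S).obj U ⟶ X} (ha : Representable a) (g : (yon S).obj T ⟶ X) (u : U.left) (t : T.left)
    (h : Points.ofPt a u = Points.ofPt g t) : dg hw a u = dg hw g t := by
  have sq := ha.isPullback' g
  obtain ⟨r, hr₁, hr₂⟩ := exists_ofPt_of_eq sq h
  let g' := (yon S).map (ha.fst' g) ≫ a
  have sq' := hw.isPullback g'
  rw [← hr₁, ← hr₂, ← deg_eq_dg hw hfl hfp hsep hqf hb a (ha.fst' g) rfl sq' r,
    deg_eq_dg hw hfl hfp hsep hqf hb g (ha.snd g) (show _ = g' from sq.w.symm) sq' r]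

end Groth.Agent.AlgSpDec.DegStrat
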