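import Groth.Agent.AlgSpDec.DecentDense
import Groth.Agent.AlgSpDec.MonoRep
import Groth.Agent.AlgSpDec.Factor
import Groth.Agent.AlgSpDec.Fibres
import Groth.Agent.S10408

/-!
# A dense open subscheme with finitely many components and quasi-compact generic points gives decency
-/

set_option backward.isDefEq.respectTransparency false
set_option backward.isDefEq.respectTransparency.types false

universe u

open CategoryTheory Limits Opposite AlgebraicGeometry AlgSp Groth.Agent.AlgSpLib Groth.Agent.AlgSpPts Topology
  TopologicalSpace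

namespace Groth.Agent.AlgSpDec

variable {S : Scheme.{u}} {X : Sp S} {X' : Over S} {j : (yon S).obj X' ⟶ X}

/-- The generic points of the components of a scheme. -/
def genPts (Y : Scheme.{u}) : Set Y := {y | ∃ T ∈ irreducibleComponents Y, IsGenericPoint y T}

theorem genPts_finite {Y : Scheme.{u}} (h : (irreducibleComponents Y).Finite) : (genPts Y).Finite := by
  refine (h.preimage' (f := fun y : Y => closure {y}) fun T _ => ?_).subset fun y ⟨T, hT, hy⟩ => by
    change closure {y} ∈ irreducibleComponents Y
    exact hy.def.symm ▸ hT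
  exact Set.Subsingleton.finite fun a ha b hb => IsGenericPoint.eq (ha : IsGenericPoint a T) (hb : IsGenericPoint b T)

theorem mem_genPts_of_minimal {Y : Scheme.{u}} {y : Y} (h : ∀ z, z ⤳ y → z = y) : y ∈ genPts Y := by
  have hg := (isIrreducible_irreducibleComponent (x := y)).isGenericPoint_genericPoint isClosed_irreducibleComponent
  refine ⟨_, irreducibleComponent_mem_irreducibleComponents y, ?_⟩
  have e := h _ (hg.specializes mem_irreducibleComponent)
  exact (congrArg (IsGenericPoint · (irreducibleComponent y)) e).mp hg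

/-- Every point has a generalisation which is the generic point of a component. -/
theorem exists_genPt_specializes {Y : Scheme.{u}} (y : Y) : ∃ η ∈ genPts Y, η ⤳ y := by
  have hg := (isIrreducible_irreducibleComponent (x := y)).isGenericPoint_genericPoint isClosed_irreducibleComponent
  exact ⟨_, ⟨_, irreducibleComponent_mem_irreducibleComponents y, hg⟩, hg.specializes mem_irreducibleComponent⟩

/-- For a chart with affine source, every component generic point lies over a generic point of the dense
open subscheme. -/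
theorem genPts_chart_subset (hj : RepWith @IsOpenImmersion j) (hd : Dense (Set.range (Points.ofPt j)))
    (hfinX : (genPts X'.left).Finite)
    (hqc : ∀ x' ∈ genPts X'.left, RepWith @QuasiCompact (FieldPt.ofPt j x').toHom)
    {U : Over S} [CompactSpace ↥U.left] {a : (yon S).obj U ⟶ X} (ha : RepWith @Etale a) :
    genPts U.left ⊆ Points.ofPt a ⁻¹' (Points.ofPt j '' genPts X'.left) := by
  let F := Points.ofPt a ⁻¹' (Points.ofPt j '' genPts X'.left)
  have hF : F.Finite := by
    refine (hfinX.image (Points.ofPt j)).preimage' fun y hy => ?_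
    obtain ⟨x', hx', rfl⟩ := hy
    exact finite_fibre_of_repWith ha (FieldPt.ofPt j x') (hqc x' hx')
  have sq := hj.rep.isPullback' a
  let g := hj.rep.fst' a
  let i := hj.rep.snd a
  have hgE : Etale g.left := ha.property _ _ _ sq.flip
  have : IsOpenImmersion i.left := hj.property_snd a
  have hrange : Points.ofPt a ⁻¹' Set.range (Points.ofPt j) ⊆ Set.range i.left := by
    rintro u ⟨x', hx'⟩
    obtain ⟨w, -, hw⟩ := exists_ofPt_of_eq sq hx'
    exact ⟨w, hw⟩
  have hsub : Set.range i.left ⊆ closure F := by
    rintro _ ⟨w, rfl⟩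
    obtain ⟨η, hη, hηw⟩ := exists_genPt_specializes w
    obtain ⟨x', hx', hxg⟩ := exists_genPt_specializes (g.left η)
    obtain ⟨η', hη', hgη⟩ := Flat.generalizingMap g.left hxg
    obtain ⟨T, hT, hTη⟩ := hη
    have hηη : η' = η := by
      have h1 : closure {η} ⊆ closure {η'} := specializes_iff_closure_subset.1 hη'
      have h2 : closure {η'} ⊆ T := hT.2 isIrreducible_singleton.closure (hTη.def.symm.le.trans h1)
      exact (Specializes.antisymm (hTη.specializes (h2 (subset_closure rfl))) hη').eq.symm
    have hmem : i.left η ∈ F := ⟨x', hx', by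
      rw [← hgη, hηη, ← ofPt_comp, sq.w, ofPt_comp]⟩
    exact closure_mono (Set.singleton_subset_iff.2 hmem)
      (specializes_iff_mem_closure.1 (hηw.map i.left.continuous))
  have hall : closure F = Set.univ := by
    have h1 : closure (Points.ofPt a ⁻¹' Set.range (Points.ofPt j)) = Set.univ :=
      (hd.preimage (isOpenMap_ofPt ha)).closure_eq
    exact Set.eq_univ_of_univ_subset (h1 ▸ isClosed_closure.closure_subset_iff.2 (hrange.trans hsub))
  intro η hη
  obtain ⟨v, hv, hvη⟩ : ∃ v ∈ F, v ⤳ η := by
    have : η ∈ closure F := hall ▸ Set.mem_univ η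
    rw [← Set.biUnion_of_singleton F, hF.closure_biUnion] at this
    obtain ⟨v, hv, hvη⟩ := Set.mem_iUnion₂.1 this
    exact ⟨v, hv, specializes_iff_mem_closure.2 hvη⟩
  obtain ⟨T, hT, hTη⟩ := hη
  have h1 : closure {η} ⊆ closure {v} := specializes_iff_closure_subset.1 hvη
  have h2 : closure {v} ⊆ T := hT.2 isIrreducible_singleton.closure (hTη.def.symm.le.trans h1)
  exact (Specializes.antisymm (hTη.specializes (h2 (subset_closure rfl))) hvη).eq ▸ hv

/-- The decency criterion. -/
theorem isDecent_of_dense_subscheme (hX : IsAlgSpace X) (hj : RepWith @IsOpenImmersion j)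
    (hd : Dense (Set.range (Points.ofPt j))) (hfin : (irreducibleComponents ↥X'.left).Finite)
    (hqc : ∀ x' ∈ genPts X'.left, RepWith @QuasiCompact (FieldPt.ofPt j x').toHom) : IsDecent X := by
  intro x
  refine exists_rep_of_finite hX x fun U a hU ha R s t sq => ?_
  have := hU
  let R₀ := ha.rep.pullback a
  let s₀ := (ha.rep.snd a).left
  let t₀ := (ha.rep.fst' a).left
  have sq₀ := ha.rep.isPullback' a
  have : Etale s₀ := ha.property_snd a
  have : IsSeparated s₀ := isSeparated_snd_of_isAffine ha
  have hgen := genPts_chart_subset hj hd (genPts_finite hfin) hqc ha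
  have hfib : ∀ u, (s₀ ⁻¹' {u}).Finite := by
    intro u
    obtain ⟨η, hη, hηu⟩ := exists_genPt_specializes u
    have hηfin : (s₀ ⁻¹' {η}).Finite := by
      obtain ⟨x', hx', hxη⟩ := hgen hη
      obtain ⟨p, hp, hm, -⟩ := exists_mono_rep hX (FieldPt.ofPt j x') (hqc x' hx')
      have hFx := finite_fibre_of_repWith ha (FieldPt.ofPt j x') (hqc x' hx')
      refine (Set.Finite.biUnion hFx fun b (hb : Points.ofPt a b = _) => Groth.Agent.S10408.result ⟨X, hX⟩
        (Points.ofPt j x') ⟨p, hp, hm⟩ a ha η b hxη.symm hb R₀ (ha.rep.snd a) (ha.rep.fst' a) sq₀).subset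
        fun r hr => ?_
      refine Set.mem_biUnion (x := t₀ r) ?_ ⟨hr, rfl⟩
      change Points.ofPt a (t₀ r) = Points.ofPt j x'
      rw [ofPt_fst_eq_snd ha, show (ha.rep.snd a).left r = η from hr, hxη]
    have hg := finite_geomFiber_of_finite_preimage s₀ hηfin
    have hle : ENat.card ↥(MoreMor.geomFiber s₀ u) ≤ ENat.card ↥(MoreMor.geomFiber s₀ η) := by
      obtain ⟨m, hm⟩ : ∃ m : ℕ, ENat.card ↥(MoreMor.geomFiber s₀ η) = m :=
        ⟨_, ENat.card_eq_coe_natCard _⟩
      refine not_lt.1 fun hlt => ?_
      have hmem := hηu.mem_open (EtCount.isOpen_le_card (m + 1) s₀) (by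
        change ((m + 1 : ℕ) : ℕ∞) ≤ _
        rw [Nat.cast_add, Nat.cast_one, ENat.add_one_le_iff (ENat.coe_ne_top m), ← hm]
        exact hlt)
      change ((m + 1 : ℕ) : ℕ∞) ≤ _ at hmem
      rw [hm] at hmem
      exact absurd (ENat.coe_le_coe.1 hmem) (by omega)
    have : Finite ↥(MoreMor.geomFiber s₀ u) := by
      rw [← ENat.card_lt_top]
      exact lt_of_le_of_lt hle (ENat.card_lt_top.2 hg)
    have : Finite (EtCount.Lifts s₀ (EtCount.geomPt u)) := by
      rw [← ENat.card_lt_top, ← EtCount.card_geomFiber]
      exact ENat.card_lt_top.2 ‹_›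
    refine (Set.finite_range fun l : EtCount.Lifts s₀ (EtCount.geomPt u) => l.1 (IsLocalRing.closedPoint _)).subset
      fun r hr => ?_
    obtain ⟨l, hl⟩ := exists_lift_through s₀ hr
    exact ⟨l, hl⟩
  -- the fibre of the chart over the point
  have hFU : (Points.ofPt a ⁻¹' {x}).Finite := by
    by_cases hne : (Points.ofPt a ⁻¹' {x}).Nonempty
    · obtain ⟨u₀, hu₀⟩ := hne
      refine ((hfib u₀).image t₀).subset fun u hu => ?_
      obtain ⟨r, hr₁, hr₂⟩ := exists_ofPt_of_eq sq₀ ((hu : Points.ofPt a u = x).trans (hu₀ : Points.ofPt a u₀ = x).symm)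
      exact ⟨r, hr₂, hr₁⟩
    · rw [Set.not_nonempty_iff_eq_empty.1 hne]; exact Set.finite_empty
  obtain ⟨e, he⟩ := (yon S).map_surjective (sq.isoIsPullback _ _ sq₀).hom
  have : IsIso e := by
    have : IsIso ((yon S).map e) := by rw [he]; infer_instance
    exact isIso_of_fully_faithful (yon S) e
  have hsnd : e ≫ ha.rep.snd a = s := (yon S).map_injective (by
    rw [Functor.map_comp, he]; exact IsPullback.isoIsPullback_hom_snd _ _ _ _)
  refine ((hFU.preimage' fun u _ => hfib u).preimage e.left.injective.injOn).subset fun r hr => ?_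
  change Points.ofPt a (s₀ (e.left r)) = x
  rw [← Scheme.Hom.comp_apply, ← Over.comp_left, hsnd, ← ofPt_comp, ← sq.w]
  exact hr

end Groth.Agent.AlgSpDec
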