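import Mathlib
import Groth.Agent.FlatLocus.Basic

/-!
# Separation of functions along a flat modification
-/

set_option backward.isDefEq.respectTransparency false
set_option backward.isDefEq.respectTransparency.types false

noncomputable section

universe u

open CategoryTheory Limits AlgebraicGeometry TensorProduct IsLocalRing

namespace Groth.Agent.AlgSpDec

/-- An element killed by a power of a finitely generated ideal which vanishes in a flat algebra through which the
reduction modulo the ideal factors is zero. -/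
theorem eq_zero_of_flat_retraction {A O O' Q : Type u} [CommRing A] [AddCommGroup O] [Module A O]
    [AddCommGroup O'] [Module A O'] [AddCommGroup Q] [Module A Q] [Module.Flat A O] [Module.Flat A O']
    (I : Ideal A) (hI : I.FG) (φ : O →ₗ[A] O') (r : O' →ₗ[A] Q) (mk : O →ₗ[A] Q) (hr : r.comp φ = mk)
    (hmk : Function.Surjective mk) (hker : LinearMap.ker mk ≤ I • ⊤) {x : O} (hφ : φ x = 0)
    (hx : ∀ a ∈ I, a • x = 0) : x = 0 := by
  obtain ⟨t, g, hg⟩ := Submodule.fg_iff_exists_fin_generating_family.1 hI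
  let F : A →ₗ[A] (Fin t → A) := LinearMap.pi fun i => LinearMap.mulLeft A (g i)
  let N := LinearMap.ker F
  have hNI : ∀ (a : A), a ∈ I → ∀ n : N, a • n = 0 := by
    intro a ha n
    refine Subtype.ext ?_
    show a * n.1 = 0
    have hn : ∀ i, g i * n.1 = 0 := fun i => congrFun n.2 i
    rw [← hg] at ha
    induction ha using Submodule.span_induction with
    | mem y hy => obtain ⟨i, rfl⟩ := hy; exact hn i
    | zero => exact zero_mul _
    | add y z _ _ h1 h2 => rw [add_mul, h1, h2, add_zero]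
    | smul c y _ h1 => rw [smul_eq_mul, mul_assoc, h1, mul_zero]
  have hex : Function.Exact (N.subtype.lTensor O) (F.lTensor O) :=
    Module.Flat.lTensor_exact O (LinearMap.exact_subtype_ker_map F)
  obtain ⟨z, hz⟩ : x ⊗ₜ[A] (1 : A) ∈ Set.range (N.subtype.lTensor O) := by
    refine (hex _).1 ((TensorProduct.piScalarRight A A O (Fin t)).injective (funext fun i => ?_))
    rw [LinearMap.lTensor_tmul, map_zero]
    simp only [TensorProduct.piScalarRight_apply, TensorProduct.piScalarRightHom_tmul, F, LinearMap.pi_apply,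
      LinearMap.mulLeft_apply, mul_one, Pi.zero_apply]
    exact hx _ (hg ▸ Submodule.subset_span ⟨i, rfl⟩)
  have h1 : φ.rTensor N z = 0 := by
    have hinj : Function.Injective (N.subtype.lTensor O') :=
      Module.Flat.lTensor_preserves_injective_linearMap N.subtype Subtype.val_injective
    refine hinj ?_
    rw [← LinearMap.comp_apply, LinearMap.lTensor_comp_rTensor, ← LinearMap.rTensor_comp_lTensor,
      LinearMap.comp_apply, hz, map_zero, LinearMap.rTensor_tmul, hφ, TensorProduct.zero_tmul]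
  have h2 : mk.rTensor N z = 0 := by
    rw [← hr, LinearMap.rTensor_comp, LinearMap.comp_apply, h1, map_zero]
  obtain ⟨w, hw⟩ := (rTensor_exact N (LinearMap.exact_subtype_ker_map mk) hmk z).1 h2
  have h0 : ∀ w' : (LinearMap.ker mk) ⊗[A] N, (LinearMap.ker mk).subtype.rTensor N w' = 0 := by
    intro w'
    induction w' using TensorProduct.induction_on with
    | zero => exact map_zero _
    | add y y' hy hy' => rw [map_add, hy, hy', add_zero]
    | tmul o n =>
      rw [LinearMap.rTensor_tmul, Submodule.coe_subtype]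
      have key : ∀ o' ∈ I • (⊤ : Submodule A O), o' ⊗ₜ[A] n = 0 := by
        intro o' ho'
        refine Submodule.smul_induction_on ho' (fun a ha o _ => ?_) (fun y y' hy hy' => ?_)
        · rw [TensorProduct.smul_tmul, hNI a ha, TensorProduct.tmul_zero]
        · rw [TensorProduct.add_tmul, hy, hy', add_zero]
      exact key _ (hker o.2)
  rw [h0] at hw
  rw [← hw, map_zero] at hz
  simpa using (congrArg (TensorProduct.rid A O) hz).symm

theorem eq_zero_of_pow_flat_retraction {A O O' Q : Type u} [CommRing A] [AddCommGroup O] [Module A O]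
    [AddCommGroup O'] [Module A O'] [AddCommGroup Q] [Module A Q] [Module.Flat A O] [Module.Flat A O']
    (I : Ideal A) (hI : I.FG) (φ : O →ₗ[A] O') (r : O' →ₗ[A] Q) (mk : O →ₗ[A] Q) (hr : r.comp φ = mk)
    (hmk : Function.Surjective mk) (hker : LinearMap.ker mk ≤ I • ⊤) (n : ℕ) :
    ∀ x : O, φ x = 0 → (∀ a ∈ I ^ n, a • x = 0) → x = 0 := by
  induction n with
  | zero => exact fun x _ hx => by simpa using hx 1 (by simp)
  | succ n ih =>
    intro x hφ hx
    refine eq_zero_of_flat_retraction I hI φ r mk hr hmk hker hφ fun a ha =>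
      ih (a • x) (by rw [map_smul, hφ, smul_zero]) fun b hb => ?_
    rw [smul_smul]
    exact hx _ (by rw [pow_succ]; exact Ideal.mul_mem_mul hb ha)

theorem isIso_of_modification_Spec {A C : Type u} [CommRing A] [CommRing C] [Algebra A C] (I : Ideal A) (hI : I.FG)
    {E D : Scheme.{u}} (e : E ⟶ Spec (.of C)) [IsClosedImmersion e] (δ : D ⟶ Spec (.of C)) (k : D ⟶ E)
    (hk : k ≫ e = δ)
    (hopen : ∀ a ∈ I, ∃ l : Spec (.of (Localization.Away (algebraMap A C a))) ⟶ E,
      l ≫ e = Spec.map (CommRingCat.ofHom (algebraMap C _)))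
    (hflat : ∀ p : PrimeSpectrum C, I.map (algebraMap A C) ≤ p.asIdeal →
      Module.Flat A (Localization.AtPrime p.asIdeal))
    (hDflat : ∀ z : D, I.map (algebraMap A C) ≤ (δ z).asIdeal →
      ((δ ≫ Spec.map (CommRingCat.ofHom (algebraMap A C))).stalkMap z).hom.Flat)
    (hθ : ∀ (p : PrimeSpectrum C), I.map (algebraMap A C) ≤ p.asIdeal →
      ∃ θ : Spec (.of (Localization.AtPrime p.asIdeal ⧸ I.map (algebraMap A (Localization.AtPrime p.asIdeal)))) ⟶ D,
        θ ≫ δ = Spec.map (CommRingCat.ofHom (algebraMap C _))) : IsIso e := by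
  obtain ⟨K, ee, he⟩ := (IsClosedImmersion.Spec_iff (f := e)).1 inferInstance
  have hker : ∀ (C' : Type u) [CommRing C'] (g : C →+* C') (l : Spec (.of C') ⟶ E),
      l ≫ e = Spec.map (CommRingCat.ofHom g) → ∀ d ∈ K, g d = 0 := by
    intro C' _ g l hl d hd
    obtain ⟨ψ, hψ⟩ := Spec.map_surjective (l ≫ ee.hom)
    rw [he, ← Category.assoc, ← hψ, ← Spec.map_comp] at hl
    have := congrArg (fun m => m.hom d) (Spec.map_injective hl)
    simpa [Ideal.Quotient.eq_zero_iff_mem.2 hd] using this.symm
  have hK : K = ⊥ := by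
    refine (Submodule.eq_bot_iff K).2 fun x hx => ?_
    -- `x` is killed by a power of `I`
    have hle : I ≤ (Ideal.comap (algebraMap A C) (Submodule.colon ⊥ {x})).radical := fun a ha => by
      obtain ⟨l, hl⟩ := hopen a ha
      obtain ⟨⟨_, N, rfl⟩, hN⟩ := (IsLocalization.map_eq_zero_iff (Submonoid.powers (algebraMap A C a)) _ _).1
        (hker _ _ l hl x hx)
      refine ⟨N, ?_⟩
      rw [Ideal.mem_comap, Submodule.mem_colon_singleton, map_pow, Submodule.mem_bot]
      exact hN
    obtain ⟨n, hn⟩ := Ideal.exists_pow_le_of_le_radical_of_fg hle hI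
    have hx' : ∀ a ∈ I ^ n, a • x = 0 := fun a ha => by
      have := hn ha
      rw [Ideal.mem_comap, Submodule.mem_colon_singleton, Submodule.mem_bot] at this
      rw [Algebra.smul_def]
      exact this
    -- local vanishing
    refine eq_zero_of_localization x fun J hJ => ?_
    let p : PrimeSpectrum C := ⟨J, hJ.isPrime⟩
    let L := Localization.AtPrime p.asIdeal
    show algebraMap C L x = 0
    by_cases hp : I.map (algebraMap A C) ≤ p.asIdeal
    swap
    · obtain ⟨a, ha, hap⟩ : ∃ a ∈ I, algebraMap A C a ∉ p.asIdeal := by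
        by_contra h
        push_neg at h
        exact hp (Ideal.map_le_iff_le_comap.2 h)
      have h0 := hx' (a ^ n) (Ideal.pow_mem_pow ha n)
      rw [Algebra.smul_def, map_pow] at h0
      exact (IsLocalization.map_eq_zero_iff p.asIdeal.primeCompl L x).2
        ⟨⟨algebraMap A C a ^ n, fun h => hap (p.isPrime.mem_of_pow_mem n h)⟩, h0⟩
    have := hflat p hp
    let IL : Ideal L := I.map (algebraMap A L)
    have hIL : IL ≤ maximalIdeal L := by
      show I.map (algebraMap A L) ≤ _
      rw [IsScalarTower.algebraMap_eq A C L, ← Ideal.map_map, Ideal.map_le_iff_le_comap]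
      exact hp.trans (IsLocalization.AtPrime.under_maximalIdeal L p.asIdeal).ge
    have : Nontrivial (L ⧸ IL) := Ideal.Quotient.nontrivial_iff.2 fun h => (maximalIdeal.isMaximal L).ne_top (top_le_iff.1 (h ▸ hIL))
    have : IsLocalRing (L ⧸ IL) := IsLocalRing.of_surjective' (Ideal.Quotient.mk IL) Ideal.Quotient.mk_surjective
    obtain ⟨θ, hθ'⟩ := hθ p hp
    let z : D := θ (closedPoint (L ⧸ IL))
    have hδz : δ z = p := by
      show δ (θ (closedPoint (L ⧸ IL))) = p
      rw [← Scheme.Hom.comp_apply, hθ']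
      refine PrimeSpectrum.ext ?_
      show (maximalIdeal (L ⧸ IL)).comap (algebraMap C (L ⧸ IL)) = p.asIdeal
      rw [show algebraMap C (L ⧸ IL) = (Ideal.Quotient.mk IL).comp (algebraMap C L) from rfl, ← Ideal.comap_comap,
        eq_maximalIdeal (Ideal.comap_isMaximal_of_surjective (Ideal.Quotient.mk IL) Ideal.Quotient.mk_surjective
          (K := maximalIdeal (L ⧸ IL)))]
      exact IsLocalization.AtPrime.under_maximalIdeal L p.asIdeal
    let O := D.presheaf.stalk z
    let κ : CommRingCat.of C ⟶ O := Spec.preimage (D.fromSpecStalk z ≫ δ)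
    have hκ : Spec.map κ = D.fromSpecStalk z ≫ δ := Spec.map_preimage _
    have hκp : (maximalIdeal O).comap κ.hom = p.asIdeal := by
      have : (Spec.map κ) (closedPoint O) = p := by
        rw [hκ, Scheme.Hom.comp_apply, Scheme.fromSpecStalk_closedPoint, hδz]
      exact congrArg PrimeSpectrum.asIdeal this
    let α : L →+* O := IsLocalization.lift (M := p.asIdeal.primeCompl) (g := κ.hom) fun y => by
      have hy : κ.hom y.1 ∉ maximalIdeal O := fun h => y.2 (hκp.le h)
      exact notMem_maximalIdeal.1 hy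
    have hα : α.comp (algebraMap C L) = κ.hom := IsLocalization.lift_comp _
    let _ : Algebra A O := (κ.hom.comp (algebraMap A C)).toAlgebra
    have : Module.Flat A O := by
      have hs := hDflat z (hδz ▸ hp)
      let s := δ ≫ Spec.map (CommRingCat.ofHom (algebraMap A C))
      let ts : CommRingCat.of A ⟶ (Spec (.of A)).presheaf.stalk (s z) := StructureSheaf.toStalk (CommRingCat.of A) (s z)
      have e1 : CommRingCat.ofHom (algebraMap A C) ≫ κ = ts ≫ s.stalkMap z := by
        apply Spec.map_injective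
        rw [Spec.map_comp, Spec.map_comp, hκ, ← Spec.fromSpecStalk_eq', Category.assoc,
          Scheme.SpecMap_stalkMap_fromSpecStalk]
      have hloc : ts.hom.Flat := by
        have : Module.Flat A ((AlgebraicGeometry.Spec.structureSheaf A).presheaf.stalk (s z)) :=
          IsLocalization.flat _ (PrimeSpectrum.asIdeal (s z)).primeCompl
        exact RingHom.flat_algebraMap_iff.2 this
      have e2 : (CommRingCat.ofHom (algebraMap A C) ≫ κ).hom.Flat := by
        rw [e1]
        exact RingHom.Flat.comp hloc hs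
      exact e2
    let r : O →+* L ⧸ IL := (Scheme.stalkClosedPointTo θ).hom
    have hr : r.comp κ.hom = algebraMap C (L ⧸ IL) := by
      have : κ ≫ Scheme.stalkClosedPointTo θ = CommRingCat.ofHom (algebraMap C (L ⧸ IL)) := by
        apply Spec.map_injective
        rw [Spec.map_comp, hκ, ← Category.assoc, ← hθ']
        congr 1
        exact Scheme.Spec_stalkClosedPointTo_fromSpecStalk θ
      exact congrArg CommRingCat.Hom.hom this
    have hrα : r.comp α = Ideal.Quotient.mk IL := by
      refine IsLocalization.ringHom_ext p.asIdeal.primeCompl ?_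
      rw [RingHom.comp_assoc, hα, hr]
      rfl
    let αA : L →ₐ[A] O := ⟨α, fun a => by
      rw [IsScalarTower.algebraMap_apply A C L]
      exact DFunLike.congr_fun hα (algebraMap A C a)⟩
    let rA : O →ₐ[A] L ⧸ IL := ⟨r, fun a => (DFunLike.congr_fun hr (algebraMap A C a)).trans
      (IsScalarTower.algebraMap_apply A C (L ⧸ IL) a).symm⟩
    refine eq_zero_of_pow_flat_retraction I hI αA.toLinearMap rA.toLinearMap
      (Ideal.Quotient.mkₐ A IL).toLinearMap (LinearMap.ext fun o => DFunLike.congr_fun hrα o)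
      Ideal.Quotient.mk_surjective (fun o ho => ?_) n (algebraMap C L x) ?_ fun a ha => ?_
    · have : o ∈ IL := Ideal.Quotient.eq_zero_iff_mem.1 ho
      rw [Ideal.smul_top_eq_map]
      exact this
    · have e : (D.fromSpecStalk z ≫ k) ≫ e = Spec.map κ := by rw [Category.assoc, hk, hκ]
      exact (DFunLike.congr_fun hα x).trans (hker O κ.hom (D.fromSpecStalk z ≫ k) e x hx)
    · rw [← IsScalarTower.algebraMap_smul C a (algebraMap C L x), Algebra.smul_def (algebraMap A C a),
        ← map_mul, ← Algebra.smul_def, hx' a ha, map_zero]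
  have : IsIso (CommRingCat.ofHom (Ideal.Quotient.mk K)) :=
    (ConcreteCategory.isIso_iff_bijective _).2
      ⟨(RingHom.injective_iff_ker_eq_bot (Ideal.Quotient.mk K)).2 (Ideal.mk_ker.trans hK), Ideal.Quotient.mk_surjective⟩
  rw [he]
  infer_instance



open Groth.Agent.FlatLocus in
/-- A closed subscheme containing the open complement and the diagonal of a flat modification is everything. -/
theorem isIso_of_modification {W T E D ZT : Scheme.{u}} (ρ : W ⟶ T) (iZ : ZT ⟶ T)
    [IsClosedImmersion iZ] [LocallyOfFinitePresentation iZ] (e : E ⟶ W) [IsClosedImmersion e] (δ : D ⟶ W) (k : D ⟶ E)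
    (hk : k ≫ e = δ)
    (hopen : ∀ {V : Scheme.{u}} (g : V ⟶ W), (∀ v, ρ (g v) ∉ Set.range iZ) → ∃ l, l ≫ e = g)
    (hflat : ∀ w : W, ρ w ∈ Set.range iZ → (ρ.stalkMap w).hom.Flat)
    (hDflat : ∀ z : D, ρ (δ z) ∈ Set.range iZ → ((δ ≫ ρ).stalkMap z).hom.Flat)
    (hθ : ∀ {V : Scheme.{u}} (g : V ⟶ W) (z : V ⟶ ZT), z ≫ iZ = g ≫ ρ → ∃ l, l ≫ δ = g) : IsIso e := by
  let ι := {Us : W.affineOpens × T.affineOpens // Us.1.1 ≤ ρ ⁻¹ᵁ Us.2.1}
  have hcov : ⨆ j : ι, j.1.1.1 = (⊤ : W.Opens) := by
    refine eq_top_iff.2 fun w _ => TopologicalSpace.Opens.mem_iSup.2 ?_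
    obtain ⟨V, hV, hwV, -⟩ := exists_isAffineOpen_mem_and_subset (U := (⊤ : T.Opens)) (x := ρ w) trivial
    obtain ⟨U, hU, hwU, hUV⟩ := exists_isAffineOpen_mem_and_subset (U := ρ ⁻¹ᵁ V) (x := w) hwV
    exact ⟨⟨(⟨U, hU⟩, ⟨V, hV⟩), hUV⟩, hwU⟩
  show MorphismProperty.isomorphisms Scheme e
  rw [IsZariskiLocalAtTarget.iff_of_iSup_eq_top (P := MorphismProperty.isomorphisms Scheme) _ hcov]
  rintro ⟨⟨⟨U, hU⟩, ⟨V, hV⟩⟩, hUV⟩
  replace hUV : U ≤ ρ ⁻¹ᵁ V := hUV
  let φ := ρ.appLE V U hUV
  let _ : Algebra Γ(T, V) Γ(W, U) := φ.hom.toAlgebra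
  have hsq : Spec.map φ ≫ hV.fromSpec = hU.fromSpec ≫ ρ := hV.SpecMap_appLE_fromSpec ρ hU hUV
  suffices IsIso (pullback.snd e hU.fromSpec) by
    have h1 : IsIso (pullback.snd e U.ι) := by
      have sq : IsPullback (pullback.fst e hU.fromSpec) (pullback.snd e hU.fromSpec ≫ hU.isoSpec.inv) e U.ι :=
        (IsPullback.of_hasPullback e hU.fromSpec).of_iso (Iso.refl _) (Iso.refl _) hU.isoSpec.symm (Iso.refl _)
          (by simp) (by simp) (by simp) (by simp)
      rw [← sq.isoPullback_inv_snd]
      infer_instance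
    show IsIso (e ∣_ U)
    rw [← pullbackRestrictIsoRestrict_hom_morphismRestrict] at h1
    exact IsIso.of_isIso_comp_left (pullbackRestrictIsoRestrict e U).hom (e ∣_ U)
  obtain ⟨I, ee, he⟩ := (IsClosedImmersion.Spec_iff (f := pullback.snd iZ hV.fromSpec)).1 inferInstance
  have hfg : I.FG := by
    have h1 : LocallyOfFinitePresentation (Spec.map (CommRingCat.ofHom (Ideal.Quotient.mk I))) := by
      have h : LocallyOfFinitePresentation (pullback.snd iZ hV.fromSpec) := inferInstance
      rwa [he, MorphismProperty.cancel_left_of_respectsIso (P := @LocallyOfFinitePresentation)] at h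
    have h2 : (Ideal.Quotient.mk I).FinitePresentation :=
      (HasRingHomProperty.Spec_iff (P := @LocallyOfFinitePresentation)).1 h1
    have : Algebra.FinitePresentation Γ(T, V) (Γ(T, V) ⧸ I) := h2
    have h3 := Algebra.FinitePresentation.ker_fG_of_surjective (Algebra.ofId Γ(T, V) (Γ(T, V) ⧸ I))
      Ideal.Quotient.mk_surjective
    have h4 : RingHom.ker (Algebra.ofId Γ(T, V) (Γ(T, V) ⧸ I)).toRingHom = I := Ideal.mk_ker
    rwa [h4] at h3
  -- the closed set in coordinates
  have hmem : ∀ q : Spec Γ(W, U), ρ (hU.fromSpec q) ∈ Set.range iZ ↔ I.map φ.hom ≤ q.asIdeal := by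
    intro q
    rw [← Scheme.Hom.comp_apply, ← hsq, Scheme.Hom.comp_apply, Ideal.map_le_iff_le_comap]
    have h1 : hV.fromSpec (Spec.map φ q) ∈ Set.range iZ ↔
        (Spec.map φ q) ∈ Set.range (pullback.snd iZ hV.fromSpec) := by
      constructor
      · rintro ⟨z, hz⟩
        obtain ⟨y, -, hy⟩ := Scheme.Pullback.exists_preimage_pullback z (Spec.map φ q) hz
        exact ⟨y, hy⟩
      · rintro ⟨y, hy⟩
        exact ⟨pullback.fst iZ hV.fromSpec y, by
          rw [← Scheme.Hom.comp_apply, pullback.condition, Scheme.Hom.comp_apply, hy]⟩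
    have h2 : Set.range (pullback.snd iZ hV.fromSpec) = PrimeSpectrum.zeroLocus (I : Set Γ(T, V)) := by
      have h3 : Set.range (pullback.snd iZ hV.fromSpec) =
          Set.range (Spec.map (CommRingCat.ofHom (Ideal.Quotient.mk I))) := by
        refine Set.ext fun y => ⟨?_, ?_⟩
        · rintro ⟨x, rfl⟩
          exact ⟨ee.hom x, by rw [he, Scheme.Hom.comp_apply]; rfl⟩
        · rintro ⟨x, rfl⟩
          exact ⟨ee.inv x, by rw [← Scheme.Hom.comp_apply, he, Iso.inv_hom_id_assoc]; rfl⟩
      rw [h3]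
      exact (range_comap_of_surjective _ _ Ideal.Quotient.mk_surjective).trans (by rw [Ideal.mk_ker])
    rw [h1, h2]
    rfl
  have hstalk : ∀ {X : Scheme.{u}} (g : X ⟶ Spec Γ(W, U)) (h : X ⟶ W), g ≫ hU.fromSpec = h → ∀ x : X,
      (((g ≫ Spec.map φ).stalkMap x).hom.Flat ↔ ((h ≫ ρ).stalkMap x).hom.Flat) := by
    intro X g h hh x
    have h2 : (((g ≫ Spec.map φ) ≫ hV.fromSpec).stalkMap x).hom.Flat ↔ ((g ≫ Spec.map φ).stalkMap x).hom.Flat := by
      rw [Scheme.Hom.stalkMap_comp]
      have hiso : ∀ y : Spec Γ(T, V), IsIso (hV.fromSpec.stalkMap y) := fun y => inferInstance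
      exact @flat_isIso_comp _ _ _ _ (hiso _) _
    rw [← h2, Category.assoc, hsq, ← Category.assoc, hh]
  let δ' := pullback.snd δ hU.fromSpec
  let k' : pullback δ hU.fromSpec ⟶ pullback e hU.fromSpec :=
    pullback.map δ hU.fromSpec e hU.fromSpec k (𝟙 _) (𝟙 _) (by simp [hk]) (by simp)
  refine isIso_of_modification_Spec (A := Γ(T, V)) (C := Γ(W, U)) I hfg (pullback.snd e hU.fromSpec) δ' k'
    (by simp [k', δ']) (fun a ha => ?_) (fun q hq => ?_) (fun z hz => ?_) (fun q hq => ?_)
  · let g : Spec (.of (Localization.Away (algebraMap Γ(T, V) Γ(W, U) a))) ⟶ Spec Γ(W, U) :=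
      Spec.map (CommRingCat.ofHom (algebraMap Γ(W, U) _))
    obtain ⟨l, hl⟩ := hopen (g ≫ hU.fromSpec) fun v hv => by
      rw [Scheme.Hom.comp_apply, hmem] at hv
      exact v.isPrime.ne_top (Ideal.eq_top_of_isUnit_mem _ (hv (Ideal.mem_map_of_mem _ ha))
        (IsLocalization.Away.algebraMap_isUnit _))
    exact ⟨pullback.lift l g hl, pullback.lift_snd _ _ _⟩
  · have hf : (ρ.stalkMap (hU.fromSpec q)).hom.Flat := hflat _ ((hmem q).2 hq)
    have h0 : ((hU.fromSpec ≫ ρ).stalkMap q).hom.Flat := by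
      rw [Scheme.Hom.stalkMap_comp]
      have hiso : ∀ y : Spec Γ(W, U), IsIso (hU.fromSpec.stalkMap y) := fun y => inferInstance
      exact (@flat_comp_isIso _ _ _ _ _ (hiso _)).2 hf
    have h1 := (hstalk (𝟙 _) hU.fromSpec (Category.id_comp _) q).2 h0
    rw [Category.id_comp] at h1
    have := (stalkMap_flat_SpecMap φ q).1 h1
    let e₁ : LocalizedModule q.asIdeal.primeCompl Γ(W, U) ≃ₗ[Γ(W, U)] Localization.AtPrime q.asIdeal :=
      IsLocalizedModule.iso q.asIdeal.primeCompl (Algebra.linearMap Γ(W, U) (Localization.AtPrime q.asIdeal))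
    exact Module.Flat.of_linearEquiv (e₁.restrictScalars Γ(T, V)).symm
  · have hρz : ρ (δ (pullback.fst δ hU.fromSpec z)) ∈ Set.range iZ := by
      rw [← Scheme.Hom.comp_apply _ δ, pullback.condition, Scheme.Hom.comp_apply]
      exact (hmem _).2 hz
    refine (hstalk δ' (pullback.fst δ hU.fromSpec ≫ δ) pullback.condition.symm z).2 ?_
    rw [Category.assoc, Scheme.Hom.stalkMap_comp]
    have hiso : IsIso ((pullback.fst δ hU.fromSpec).stalkMap z) := inferInstance
    exact (@flat_comp_isIso _ _ _ _ _ hiso).2 (hDflat _ hρz)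
  · let Q := Localization.AtPrime q.asIdeal ⧸ I.map (algebraMap Γ(T, V) (Localization.AtPrime q.asIdeal))
    let g : Spec (.of Q) ⟶ Spec Γ(W, U) := Spec.map (CommRingCat.ofHom (algebraMap Γ(W, U) Q))
    let zQ : Γ(T, V) ⧸ I →+* Q := Ideal.Quotient.lift I (algebraMap Γ(T, V) Q) fun a ha => by
      rw [IsScalarTower.algebraMap_apply Γ(T, V) (Localization.AtPrime q.asIdeal) Q]
      exact Ideal.Quotient.eq_zero_iff_mem.2 (Ideal.mem_map_of_mem _ ha)
    obtain ⟨l, hl⟩ := hθ (g ≫ hU.fromSpec)
      (Spec.map (CommRingCat.ofHom zQ) ≫ ee.inv ≫ pullback.fst iZ hV.fromSpec) (by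
        rw [Category.assoc, Category.assoc, pullback.condition, he, Category.assoc, Iso.inv_hom_id_assoc,
          ← Category.assoc, ← Spec.map_comp, Category.assoc, ← hsq, ← Category.assoc, ← Spec.map_comp]
        congr 2)
    exact ⟨pullback.lift l g hl, pullback.lift_snd _ _ _⟩

end Groth.Agent.AlgSpDec
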