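import Groth.Agent.AlgSpPts.SepDescent
import Groth.Agent.AlgSpPts.Imm
import Groth.Agent.AlgSpLib.OpenMor
import Groth.Agent.AlgSpLib.EtaleSmoothLocal
import Groth.Agent.AlgSpDec.AffineProps

/-!
Closedness of the diagonal checked on an etale cover of the self product.
-/

set_option backward.isDefEq.respectTransparency false
set_option backward.isDefEq.respectTransparency.types false

universe u

open CategoryTheory CategoryTheory.Limits AlgebraicGeometry AlgSp Groth.Agent.AlgSpLib Groth.Agent.AlgSpPts Topology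

namespace Groth.Agent.AlgSpDec.DiagPieces

variable {S : Scheme.{u}}

theorem isOpenMap_of_etale {X Y : Sp S} (hX : IsAlgSpace X) (hY : IsAlgSpace Y) {u : X ⟶ Y} (hu : IsEtaleMor u) :
    IsOpenMap (Points.map u) :=
  isOpenMap_map_of_fppf hX hY u
    (locP_mono (fun A B p (_ : Etale p) => inferInstanceAs (Flat p)) (locP_etale_of_isEtaleMor hu))
    (locP_mono (fun A B p (_ : Etale p) => inferInstanceAs (LocallyOfFinitePresentation p)) (locP_etale_of_isEtaleMor hu))

/-- Universal closedness is local for etale covers of the target by spaces. -/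
theorem univClosed_of_cover {F G : Sp S} (hG : IsAlgSpace G) (f : F ⟶ G) {ι : Type*} (Gi : ι → Sp S)
    (hGi : ∀ i, IsAlgSpace (Gi i)) (u : ∀ i, Gi i ⟶ G) (he : ∀ i, IsEtaleMor (u i))
    (hs : ∀ y, ∃ i z, Points.map (u i) z = y) (Fi : ι → Sp S) (a : ∀ i, Fi i ⟶ F) (b : ∀ i, Fi i ⟶ Gi i)
    (hsq : ∀ i, IsPullback (a i) (b i) f (u i)) (h : ∀ i, IsUnivClosedMor (b i)) : IsUnivClosedMor f := by
  intro Z Z' hZ g fst snd sq A hA
  have hT : ∀ i, IsAlgSpace (pullback (u i) g) := fun i => isAlgSpace_pullback (hGi i) hZ hG (u i) g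
  have hei : ∀ i, IsEtaleMor (pullback.snd (u i) g) := fun i =>
    isEtaleMor_of_isPullback (IsPullback.of_hasPullback (u i) g) (hGi i) hG hZ (he i)
  have key : ∀ i, IsClosed (Points.map (pullback.snd (u i) g) ⁻¹' (Points.map snd '' A)) := fun i => by
    let e := pullback.snd (u i) g
    let m : pullback snd e ⟶ pullback (u i) g := pullback.snd snd e
    let n : pullback snd e ⟶ Z' := pullback.fst snd e
    have hbig : IsPullback (n ≫ fst) m f (pullback.fst (u i) g ≫ u i) := by
      rw [pullback.condition]; exact (IsPullback.of_hasPullback snd e).paste_horiz sq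
    obtain ⟨l, hl1, hl2⟩ := (hsq i).exists_lift (n ≫ fst) (m ≫ pullback.fst (u i) g) (by rw [Category.assoc]; exact hbig.w)
    have sq' : IsPullback l m (b i) (pullback.fst (u i) g) := IsPullback.of_right (by rw [hl1]; exact hbig) hl2 (hsq i)
    have hcl := h i (hT i) (pullback.fst (u i) g) l m sq'
    convert hcl _ (hA.preimage (Points.continuous_map n)) using 1
    ext t
    constructor
    · rintro ⟨z, hzA, hz⟩
      obtain ⟨p, hp1, hp2⟩ := exists_point_of_isPullback (IsPullback.of_hasPullback snd e) hz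
      exact ⟨p, show Points.map n p ∈ A from hp1 ▸ hzA, hp2⟩
    · rintro ⟨p, hp, rfl⟩
      exact ⟨Points.map n p, hp, by rw [← Points.map_comp, pullback.condition, Points.map_comp]⟩
  refine isOpen_compl_iff.1 (isOpen_iff_forall_mem_open.2 fun z hz => ?_)
  obtain ⟨i, y, hy⟩ := hs (Points.map g z)
  obtain ⟨t, -, ht⟩ := exists_point_of_isPullback (IsPullback.of_hasPullback (u i) g) hy
  refine ⟨Points.map (pullback.snd (u i) g) '' (Points.map (pullback.snd (u i) g) ⁻¹' (Points.map snd '' A))ᶜ, ?_,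
    isOpenMap_of_etale (hT i) hZ (hei i) _ (key i).isOpen_compl, t, fun h' => hz (ht ▸ h'), ht⟩
  rintro _ ⟨t', ht', rfl⟩
  exact ht'

variable {X Y A B : Sp S} (g : X ⟶ Y) (a : A ⟶ X) (b : B ⟶ X) {PX PY : Sp S} {pA : PX ⟶ A} {pB : PX ⟶ B}
  {qA : PY ⟶ A} {qB : PY ⟶ B}

/-- The piece of the self product. -/
noncomputable def piece (hY : IsPullback qA qB (a ≫ g) (b ≫ g)) : PY ⟶ pullback g g :=
  pullback.lift (qA ≫ a) (qB ≫ b) (by rw [Category.assoc, Category.assoc]; exact hY.w)

theorem isPullback_piece (hX : IsPullback pA pB a b) (hY : IsPullback qA qB (a ≫ g) (b ≫ g)) (c : PX ⟶ PY)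
    (hc1 : c ≫ qA = pA) (hc2 : c ≫ qB = pB) :
    IsPullback (pA ≫ a) c (pullback.diagonal g) (piece g a b hY) := by
  refine IsPullback.mk' ?_ (fun T φ φ' _ h2 => hX.hom_ext ?_ ?_) (fun T x y h => ?_)
  · apply pullback.hom_ext
    · simp [piece, reassoc_of% hc1]
    · simp [piece, reassoc_of% hc2, hX.w]
  · rw [← hc1, reassoc_of% h2]
  · rw [← hc2, reassoc_of% h2]
  · have e1 := h =≫ pullback.fst g g
    have e2 := h =≫ pullback.snd g g
    simp only [piece, Category.assoc, pullback.diagonal_fst, pullback.diagonal_snd, pullback.lift_fst,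
      pullback.lift_snd, Category.comp_id] at e1 e2
    obtain ⟨l, hl1, hl2⟩ := hX.exists_lift (y ≫ qA) (y ≫ qB) (by rw [Category.assoc, Category.assoc, ← e1, ← e2])
    exact ⟨l, by rw [reassoc_of% hl1, ← e1], hY.hom_ext (by rw [Category.assoc, hc1, hl1]) (by rw [Category.assoc, hc2, hl2])⟩

theorem etale_piece (hXs : IsAlgSpace X) (hYs : IsAlgSpace Y) (hAs : IsAlgSpace A) (hBs : IsAlgSpace B)
    (ha : IsEtaleMor a) (hb : IsEtaleMor b) (hY : IsPullback qA qB (a ≫ g) (b ≫ g)) :
    IsEtaleMor (piece g a b hY) := by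
  have s1 := isPullback_map_left a g (b ≫ g)
  have s2 := isPullback_map_right b g g
  have h1 := isEtaleMor_of_isPullback s1 hAs hXs (isAlgSpace_pullback hXs hBs hYs g (b ≫ g)) ha
  have h2 := isEtaleMor_of_isPullback s2 hBs hXs (isAlgSpace_pullback hXs hXs hYs g g) hb
  have hP := isAlgSpace_pullback hAs hBs hYs (a ≫ g) (b ≫ g)
  have h12 := isEtaleMor_comp hP (isAlgSpace_pullback hXs hBs hYs g (b ≫ g))
    (isAlgSpace_pullback hXs hXs hYs g g) h1 h2
  have := isEtaleMor_comp (isAlgSpace_of_isPullback hY hAs hBs hYs) hP (isAlgSpace_pullback hXs hXs hYs g g)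
    (isEtaleMor_of_repWith (repWith_of_isIso @Etale hY.isoPullback.hom)) h12
  convert this using 1
  apply pullback.hom_ext <;> simp [piece]

theorem exists_piece_point (hY : IsPullback qA qB (a ≫ g) (b ≫ g)) (y : Points (pullback g g))
    (h1 : Points.map (pullback.fst g g) y ∈ Set.range (Points.map a))
    (h2 : Points.map (pullback.snd g g) y ∈ Set.range (Points.map b)) :
    ∃ z, Points.map (piece g a b hY) z = y := by
  obtain ⟨u₁, hu⟩ := h1
  obtain ⟨v₁, hv⟩ := h2
  obtain ⟨z1, -, hz1⟩ := exists_point_of_isPullback (isPullback_map_right b g g) hv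
  have e1 : Points.map (pullback.fst g (b ≫ g)) z1 = Points.map (pullback.fst g g) y := by
    rw [← hz1, ← Points.map_comp]
    congr 1; simp
  obtain ⟨z2, -, hz2⟩ := exists_point_of_isPullback (isPullback_map_left a g (b ≫ g)) (hu.trans e1.symm)
  refine ⟨Points.map hY.isoPullback.inv z2, ?_⟩
  rw [← Points.map_comp, ← hz1, ← hz2, ← Points.map_comp]
  congr 1
  apply pullback.hom_ext <;> simp [piece]

/-- A morphism is separated when the pieces of its diagonal over an etale cover are universally closed. -/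
theorem isSeparatedMor_of_univClosed_diag (hXs : IsAlgSpace X) (hYs : IsAlgSpace Y) {g : X ⟶ Y}
    (h : IsUnivClosedMor (pullback.diagonal g)) : IsSeparatedMor g := by
  obtain ⟨hr, hl, -, -, hmono⟩ := diagonal_package hXs hYs g
  have : Mono (pullback.diagonal g) := inferInstance
  exact repWith_isClosedImmersion_of_univClosed hr hl h

/-- Separatedness from a cover of the source by two etale pieces. -/
theorem isSeparatedMor_of_two {U V : Sp S} (hXs : IsAlgSpace X) (hYs : IsAlgSpace Y) (hUs : IsAlgSpace U)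
    (hVs : IsAlgSpace V) (j : U ⟶ X) (f : V ⟶ X) (hj : RepWith @IsOpenImmersion j) (hf : IsEtaleMor f)
    (hcov : ∀ x, x ∈ Set.range (Points.map j) ∨ x ∈ Set.range (Points.map f))
    (hU : IsSeparatedMor (j ≫ g)) (hV : IsSeparatedMor (f ≫ g))
    {pX : PX ⟶ U} {qX : PX ⟶ V} (hPX : IsPullback pX qX j f) {pY : PY ⟶ U} {qY : PY ⟶ V}
    (hPY : IsPullback pY qY (j ≫ g) (f ≫ g)) (c : PX ⟶ PY) (hc₁ : c ≫ pY = pX) (hc₂ : c ≫ qY = qX)
    (hcl : IsClosedMor c) {QX QY : Sp S} {rX₁ rX₂ : QX ⟶ V} (hQX : IsPullback rX₁ rX₂ f f) {rY₁ rY₂ : QY ⟶ V}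
    (hQY : IsPullback rY₁ rY₂ (f ≫ g) (f ≫ g)) (d : QX ⟶ QY) (hd₁ : d ≫ rY₁ = rX₁) (hd₂ : d ≫ rY₂ = rX₂)
    (hd : RepWith @IsClosedImmersion d) : IsSeparatedMor g := by
  have hje := isEtaleMor_of_repWith_isOpenImmersion hj
  have : Mono j := mono_of_repWith (repWith_mono (fun A B p (_ : IsOpenImmersion p) => inferInstanceAs (Mono p)) _ hj)
  have hUU : IsPullback (pullback.fst (j ≫ g) (j ≫ g)) (pullback.snd (j ≫ g) (j ≫ g)) (j ≫ g) (j ≫ g) :=
    IsPullback.of_hasPullback _ _
  have hjj : IsPullback (𝟙 U) (𝟙 U) j j := IsPullback.mk' rfl (fun T φ φ' h _ => by simpa using h)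
    (fun T x y h => ⟨x, by simp, by rw [Category.comp_id]; exact (cancel_mono j).1 h⟩)
  have hcl' : RepWith @IsClosedImmersion c := by
    have hqY : IsSeparatedMor qY := isSeparatedMor_of_isPullback hPY hU
    have h1 : RepWith @IsImmersion (pullback.lift (𝟙 PX) c (by simp) : PX ⟶ pullback (c ≫ qY) qY) :=
      repWith_mono (fun A B p (_ : IsClosedImmersion p) => inferInstanceAs (IsImmersion p)) _ (graph_property hqY)
    have h2 : RepWith @IsImmersion (c ≫ qY) := hc₂ ▸ repWith_mono
      (fun A B p (_ : IsOpenImmersion p) => inferInstanceAs (IsImmersion p)) _ (repWith_of_isPullback hPX hj)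
    have h3 := repWith_comp h1 (repWith_of_isPullback (IsPullback.of_hasPullback (c ≫ qY) qY) h2)
    rw [pullback.lift_snd] at h3
    exact (AlgSpPts.repWith_isClosedImmersion_iff h3).2 (hcl.isClosed_range)
  have hcu : IsUnivClosedMor c := isUnivClosedMor_of_repWith_universallyClosed
    (repWith_mono (fun A B p (_ : IsClosedImmersion p) => inferInstanceAs (UniversallyClosed p)) _ hcl')
  have hdu : IsUnivClosedMor d := isUnivClosedMor_of_repWith_universallyClosed
    (repWith_mono (fun A B p (_ : IsClosedImmersion p) => inferInstanceAs (UniversallyClosed p)) _ hd)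
  have huu : IsUnivClosedMor (pullback.diagonal (j ≫ g)) := isUnivClosedMor_of_repWith_universallyClosed
    (repWith_mono (fun A B p (_ : IsClosedImmersion p) => inferInstanceAs (UniversallyClosed p)) _ hU)
  refine isSeparatedMor_of_univClosed_diag hXs hYs (univClosed_of_cover (ι := Bool × Bool)
    (isAlgSpace_pullback hXs hXs hYs g g) _
    (fun | (true, true) => pullback (j ≫ g) (j ≫ g) | (true, false) => PY | (false, true) => PY | (false, false) => QY)
    ?_ (fun | (true, true) => piece g j j hUU | (true, false) => piece g j f hPY | (false, true) => piece g f j hPY.flip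
            | (false, false) => piece g f f hQY)
    ?_ ?_
    (fun | (true, true) => U | (true, false) => PX | (false, true) => PX | (false, false) => QX)
    (fun | (true, true) => 𝟙 U ≫ j | (true, false) => pX ≫ j | (false, true) => qX ≫ f | (false, false) => rX₁ ≫ f)
    (fun | (true, true) => pullback.diagonal (j ≫ g) | (true, false) => c | (false, true) => c | (false, false) => d)
    ?_ ?_)
  · rintro (_ | _) <;> rename_i i <;> cases i
    all_goals first
      | exact isAlgSpace_pullback hUs hUs hYs (j ≫ g) (j ≫ g)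
      | exact isAlgSpace_of_isPullback hPY hUs hVs hYs
      | exact isAlgSpace_of_isPullback hQY hVs hVs hYs
  · rintro ⟨_ | _, _ | _⟩
    · exact etale_piece g f f hXs hYs hVs hVs hf hf hQY
    · exact etale_piece g f j hXs hYs hVs hUs hf hje hPY.flip
    · exact etale_piece g j f hXs hYs hUs hVs hje hf hPY
    · exact etale_piece g j j hXs hYs hUs hUs hje hje hUU
  · intro y
    rcases hcov (Points.map (pullback.fst g g) y) with h1 | h1 <;>
      rcases hcov (Points.map (pullback.snd g g) y) with h2 | h2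
    · exact ⟨(true, true), exists_piece_point g j j hUU y h1 h2⟩
    · exact ⟨(true, false), exists_piece_point g j f hPY y h1 h2⟩
    · exact ⟨(false, true), exists_piece_point g f j hPY.flip y h1 h2⟩
    · exact ⟨(false, false), exists_piece_point g f f hQY y h1 h2⟩
  · rintro ⟨_ | _, _ | _⟩
    · exact isPullback_piece g f f hQX hQY d hd₁ hd₂
    · exact isPullback_piece g f j hPX.flip hPY.flip c hc₂ hc₁
    · exact isPullback_piece g j f hPX hPY c hc₁ hc₂
    · exact isPullback_piece g j j hjj hUU _ (pullback.diagonal_fst _) (pullback.diagonal_snd _)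
  · rintro ⟨_ | _, _ | _⟩ <;> assumption

end Groth.Agent.AlgSpDec.DiagPieces
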