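import Groth.Agent.AlgSpDec.Fibres
import Groth.Agent.AlgSpDec.EtCompact
import Groth.Agent.AlgSpDec.AffineProps
import Groth.Agent.AlgSpDec.AffineRep

/-!
# Dimension functions descend along finite surjective morphisms
-/

set_option autoImplicit false
set_option backward.isDefEq.respectTransparency false
set_option backward.isDefEq.respectTransparency.types false

universe u

open CategoryTheory Limits Opposite AlgebraicGeometry AlgSp Topology Groth.Agent.AlgSpLib

namespace Groth.Agent.AlgSpDec.DimFunFinite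

variable {S : Scheme.{u}} {X Y : Space S} (f : Y ⟶ X)

theorem eq_of_specializes_fibre (hf : IsFiniteMor f.hom) (hX : IsDecent X.obj) (hY : IsDecent Y.obj)
    {a' c' : Points Y.obj} (hs : a' ⤳ c') (he : Points.map f.hom a' = Points.map f.hom c') : a' = c' := by
  have hr : RepWith @IsFinite f.hom := (isFiniteMor_iff_repWith (f := f.hom)).1 hf
  obtain ⟨U, b, u, -, hb, hu⟩ := exists_affine_chart_at X.property (Points.map f.hom c')
  obtain ⟨W, i, fst, sq⟩ := hr.rep b
  have : IsFinite i.left := hr.2 b fst i sq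
  have hfst : RepWith @Etale fst := repWith_of_isPullback sq.flip hb
  obtain ⟨w, hw, hw'⟩ := exists_point_of_isPullback sq (x := c') (y := Points.ofScheme U u)
    (by rw [← hu, Points.ofPt_eq_map_ofScheme])
  rw [← Points.ofScheme_toScheme W w, ← Points.ofPt_eq_map_ofScheme] at hw
  subst hw
  set wc := Points.toScheme W w with hwc
  obtain ⟨wa, hwa, rfl⟩ := exists_specializes_lift_of_isDecent hY hfst hs
  have hmap : ∀ v : W.left, Points.map f.hom (Points.ofPt fst v) = Points.ofPt b (i.left v) := fun v => by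
    rw [Points.map_ofPt, sq.w, ofPt_comp]
  rw [hmap, hmap] at he
  have hi : i.left wc = i.left wa :=
    eq_of_specializes_of_isDecent hX hb he.symm (hwa.map i.left.continuous)
  rw [eq_of_specializes_of_isIntegralHom i.left hwa hi.symm]

theorem dimensionFunction_descends (hf : IsFiniteMor f.hom) (hs : IsSurjectiveMor f.hom) (hX : IsDecent X.obj)
    (hY : IsDecent Y.obj) (δ : Points X.obj → ℤ)
    (hδ : (∀ a b : AlgSp.Points Y.obj, a ⤳ b → a ≠ b → (δ ∘ AlgSp.Points.map f.hom) b < (δ ∘ AlgSp.Points.map f.hom) a ∧ ((∀ c : AlgSp.Points Y.obj, a ⤳ c → c ⤳ b → c = a ∨ c = b) → (δ ∘ AlgSp.Points.map f.hom) a = (δ ∘ AlgSp.Points.map f.hom) b + 1)))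
    (a b : Points X.obj) (hab : a ⤳ b) (hne : a ≠ b) :
    δ b < δ a ∧ ((∀ c : Points X.obj, a ⤳ c → c ⤳ b → c = a ∨ c = b) → δ a = δ b + 1) := by
  have hc : IsClosedMap (Points.map f.hom) :=
    isUnivClosedMor_of_repWith_universallyClosed (repWith_mono
      (fun _ _ g (_ : IsFinite g) => (inferInstance : UniversallyClosed g)) _
        ((isFiniteMor_iff_repWith (f := f.hom)).1 hf)) X.property (𝟙 _) (𝟙 _) _ (IsPullback.of_horiz_isIso ⟨by simp⟩)
  obtain ⟨a', rfl⟩ := hs a
  obtain ⟨b', hb', rfl⟩ : b ∈ Points.map f.hom '' closure {a'} := by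
    have h1 : IsClosed (Points.map f.hom '' closure {a'}) := hc _ isClosed_closure
    exact h1.closure_subset_iff.2 (Set.singleton_subset_iff.2 ⟨a', subset_closure rfl, rfl⟩)
      (specializes_iff_mem_closure.1 hab)
  have hab' : a' ⤳ b' := specializes_iff_mem_closure.2 hb'
  have hne' : a' ≠ b' := fun h => hne (congrArg _ h)
  refine ⟨(hδ a' b' hab' hne').1, fun him => (hδ a' b' hab' hne').2 fun c h1 h2 => ?_⟩
  rcases him (Points.map f.hom c) (h1.map (Points.continuous_map _)) (h2.map (Points.continuous_map _)) with h | h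
  · exact Or.inl (eq_of_specializes_fibre f hf hX hY h1 h.symm).symm
  · exact Or.inr (eq_of_specializes_fibre f hf hX hY h2 h)

end Groth.Agent.AlgSpDec.DimFunFinite
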