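import Groth.Agent.AlgSpDec.OnePointGeneral
import Groth.Agent.AlgSpDec.IsolatedPoints
import Groth.Agent.AlgSpDec.LqfScheme
import Groth.Agent.AlgSpDec.FreeQuotSep
import Groth.Agent.AlgSpDec.EtField
import Groth.Agent.AlgSpDec.LimOpen
import Mathlib.AlgebraicGeometry.Artinian
import Mathlib.AlgebraicGeometry.Morphisms.QuasiFinite

/-! Zero-dimensional algebraic spaces locally of finite type over a field. -/

set_option autoImplicit false
set_option backward.isDefEq.respectTransparency false
set_option backward.isDefEq.respectTransparency.types false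

open CategoryTheory Limits Opposite AlgebraicGeometry MorphismProperty AlgSp Groth.Agent.AlgSpLib
  Groth.Agent.AlgSpPts

namespace Groth.Agent.AlgSpDec.DimZeroField

universe u

/-- A scheme with discrete space is separated. -/
theorem isSeparated_of_discrete (X : Scheme.{u}) [DiscreteTopology ↥X] : X.IsSeparated := by
  refine ⟨⟨IsClosedImmersion.of_isPreimmersion _ (isOpen_compl_iff.1 (isOpen_iff_forall_mem_open.2 fun z hz => ?_))⟩⟩
  let t := terminal.from X
  let i := pullback.fst t t z
  let j := pullback.snd t t z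
  let V : ↥X → X.Opens := fun x => ⟨{x}, isOpen_discrete _⟩
  by_cases hij : i = j
  · let μ := pullback.map ((V i).ι ≫ t) ((V i).ι ≫ t) t t (V i).ι (V i).ι (𝟙 _) (Category.comp_id _) (Category.comp_id _)
    have hμ : IsOpenImmersion μ := inferInstance
    have : Subsingleton ↥(V i).toScheme := ⟨fun a b => Subtype.ext (a.2.trans b.2.symm)⟩
    have : IsAffine (V i).toScheme := inferInstance
    have : IsSeparated ((V i).ι ≫ t) := inferInstance
    have hc := (pullback.diagonal ((V i).ι ≫ t)).isClosedEmbedding.isClosed_range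
    obtain ⟨w, hw⟩ : z ∈ Set.range μ := by
      rw [Scheme.Pullback.range_map]
      exact ⟨⟨⟨i, rfl⟩, rfl⟩, ⟨⟨i, rfl⟩, hij⟩⟩
    have e : pullback.diagonal ((V i).ι ≫ t) ≫ μ = (V i).ι ≫ pullback.diagonal t := by
      apply pullback.hom_ext <;> simp [μ]
    refine ⟨μ '' (Set.range (pullback.diagonal ((V i).ι ≫ t)))ᶜ, ?_, μ.isOpenEmbedding.isOpenMap _ hc.isOpen_compl,
      w, ?_, hw⟩
    · rintro _ ⟨w', hw', rfl⟩ ⟨x, hx⟩
      have hxi : x ∈ V i := by
        have h1 : pullback.fst t t (pullback.diagonal t x) = x := by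
          rw [← Scheme.Hom.comp_apply, pullback.diagonal_fst]; rfl
        have h2 : pullback.fst t t (μ w') = (V i).ι (pullback.fst ((V i).ι ≫ t) ((V i).ι ≫ t) w') := by
          rw [← Scheme.Hom.comp_apply, pullback.lift_fst, Scheme.Hom.comp_apply]
        rw [hx, h2] at h1
        rw [← h1]
        exact (pullback.fst ((V i).ι ≫ t) ((V i).ι ≫ t) w').2
      refine hw' ⟨⟨x, hxi⟩, μ.isOpenEmbedding.injective ?_⟩
      rw [← Scheme.Hom.comp_apply, e, Scheme.Hom.comp_apply]
      exact hx
    · rintro ⟨x, hx⟩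
      refine hz ⟨(V i).ι x, ?_⟩
      rw [← Scheme.Hom.comp_apply, ← e, Scheme.Hom.comp_apply, hx, hw]
  · refine ⟨pullback.fst t t ⁻¹' {i} ∩ pullback.snd t t ⁻¹' {j}, ?_,
      ((isOpen_discrete _).preimage (Scheme.Hom.continuous _)).inter ((isOpen_discrete _).preimage (Scheme.Hom.continuous _)),
      rfl, rfl⟩
    rintro _ ⟨h1, h2⟩ ⟨x, rfl⟩
    have e1 : pullback.fst t t (pullback.diagonal t x) = x := by rw [← Scheme.Hom.comp_apply, pullback.diagonal_fst]; rfl
    have e2 : pullback.snd t t (pullback.diagonal t x) = x := by rw [← Scheme.Hom.comp_apply, pullback.diagonal_snd]; rfl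
    exact hij ((e1.symm.trans h1).symm.trans (e2.symm.trans h2))

theorem isAffineOpen_of_isCompact {X : Scheme.{u}} [DiscreteTopology ↥X] (V : X.Opens)
    (hV : IsCompact (V : Set ↥X)) : IsAffineOpen V := by
  have : Finite ↥V.toScheme := hV.finite_of_discrete.to_subtype
  have : DiscreteTopology ↥V.toScheme := V.ι.isOpenEmbedding.discreteTopology
  exact (inferInstance : IsAffine V.toScheme)

section Field

variable {k : Type u} [Field k] {X : Sp (Spec (CommRingCat.of k))}
  {p : X ⟶ (yon (Spec (CommRingCat.of k))).obj (Over.mk (𝟙 _))}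

theorem chart_discrete (hp : LocP (@LocallyQuasiFinite ⊓ @LocallyOfFiniteType) p) {U : Over (Spec (CommRingCat.of k))}
    {a : (yon (Spec (CommRingCat.of k))).obj U ⟶ X} (ha : RepWith @Etale a) :
    LocallyQuasiFinite U.hom ∧ LocallyOfFiniteType U.hom ∧ DiscreteTopology ↥U.left := by
  obtain ⟨h, hh⟩ := (yon (Spec (CommRingCat.of k))).map_surjective (a ≫ p)
  obtain ⟨h1, h2⟩ := hp a (𝟙 _) h ha (repWith_id _ _) (by rw [Category.comp_id, hh])
  have e : h.left = U.hom := by simpa using Over.w h
  rw [e] at h1 h2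
  refine ⟨h1, h2, ?_⟩
  have h3 := U.hom.isDiscrete_preimage_singleton (IsLocalRing.closedPoint k)
  rw [show U.hom ⁻¹' {IsLocalRing.closedPoint k} = Set.univ from
    Set.eq_univ_of_forall fun x => Subsingleton.elim (α := PrimeSpectrum k) _ _] at h3
  exact isDiscrete_univ_iff.1 h3

theorem locP_lqf_of_dim_le (hl : LocP @LocallyOfFiniteType p) (hd : AlgSp.dim X ≤ 0) :
    LocP (@LocallyQuasiFinite ⊓ @LocallyOfFiniteType) p := by
  intro U V a b h ha hb w
  have : LocallyOfFiniteType h.left := hl a b h ha hb w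
  refine ⟨?_, this⟩
  obtain ⟨hN, -⟩ := chart_jacobson hl ha
  have hdim : topologicalKrullDim ↥U.left ≤ 0 :=
    le_trans (le_iSup_of_le U (le_iSup_of_le a (le_iSup (fun _ : RepWith @Etale a => topologicalKrullDim ↥U.left) ha))) hd
  have : IsLocallyArtinian U.left := IsLocallyArtinian.of_topologicalKrullDim_le_zero hdim
  exact locallyQuasiFinite_iff_isDiscrete_preimage_singleton.2 fun _ => isDiscrete_iff_discreteTopology.2 inferInstance

theorem dim_le_of_lqf (hp : LocP (@LocallyQuasiFinite ⊓ @LocallyOfFiniteType) p) : AlgSp.dim X ≤ 0 := by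
  refine iSup_le fun U => iSup_le fun a => iSup_le fun ha => ?_
  have := (chart_discrete hp ha).2.2
  exact topologicalKrullDim_zero_of_discreteTopology _

theorem isDecent_of_lqf (hX : IsAlgSpace X) (hp : LocP (@LocallyQuasiFinite ⊓ @LocallyOfFiniteType) p) :
    IsDecent X := by
  intro x
  refine exists_rep_of_finite hX x fun U φ hU hφ R s t sq => ?_
  obtain ⟨hq, hl, hd⟩ := chart_discrete hp hφ
  have : IsAffine U.left := hU
  have : Finite ↥U.left := finite_of_compact_of_discrete
  have : LocallyQuasiFinite U.hom := hq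
  have : LocallyOfFiniteType U.hom := hl
  have : Finite ↥(pullback U.hom U.hom) := by
    have : LocallyQuasiFinite (pullback.fst U.hom U.hom) := MorphismProperty.pullback_fst _ _ hq
    have : IsAffineHom U.hom := inferInstance
    refine Set.finite_univ_iff.1 (Set.Finite.subset
      (s := ⋃ v ∈ (Set.univ : Set ↥U.left), pullback.fst U.hom U.hom ⁻¹' {v})
      (Set.finite_univ.biUnion fun v _ => (pullback.fst U.hom U.hom).finite_preimage_singleton v) fun z _ => ?_)
    exact Set.mem_biUnion (x := pullback.fst U.hom U.hom z) trivial rfl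
  let m : R.left ⟶ pullback U.hom U.hom := pullback.lift t.left s.left (by rw [CategoryTheory.Over.w, CategoryTheory.Over.w])
  have : Mono m := ⟨fun g g' h => rel_ext sq
    (by simpa [m] using congrArg (· ≫ pullback.fst U.hom U.hom) h)
    (by simpa [m] using congrArg (· ≫ pullback.snd U.hom U.hom) h)⟩
  have : Finite ↥R.left := Finite.of_injective _ (show Function.Injective m from Scheme.Hom.injective m)
  exact Set.toFinite _

theorem exists_iso_scheme (hX : IsAlgSpace X) (hp : LocP (@LocallyQuasiFinite ⊓ @LocallyOfFiniteType) p) :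
    ∃ U : Over (Spec (CommRingCat.of k)), Nonempty ((yon (Spec (CommRingCat.of k))).obj U ≅ X) := by
  refine exists_rep_of_points hX fun x => ?_
  have hl : LocP @LocallyOfFiniteType p := fun U V a b h ha hb w => (hp a b h ha hb w).2
  have : DiscreteTopology (Points X) := discrete_of_dim_zero hX hl (dim_le_of_lqf hp)
  obtain ⟨X', j, hX', hj, hr⟩ := exists_open_subspace hX (isOpen_discrete ({x} : Set (Points X)))
  have : Mono j := mono_of_openImmersion hj
  have hje : RepWith @Etale j := repWith_mono (fun _ _ g (hg : IsOpenImmersion g) => (inferInstance : Etale g)) _ hj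
  obtain ⟨z, hz⟩ : x ∈ Set.range (Points.map j) := hr ▸ rfl
  have : Nonempty (Points X') := ⟨z⟩
  have : Subsingleton (Points X') := ⟨fun y y' => injective_points_map_of_mono j
    ((hr ▸ Set.mem_range_self y : Points.map j y ∈ ({x} : Set _)).trans
      (hr ▸ Set.mem_range_self y' : Points.map j y' ∈ ({x} : Set _)).symm)⟩
  obtain ⟨Z, -, ⟨e⟩⟩ := exists_affine_iso_of_subsingleton hX'
    (isDecent_of_isEtaleMor hX' hX j (isEtaleMor_of_repWith hje) (isDecent_of_lqf hX hp))
  refine ⟨Z, e.hom ≫ j, Points.toScheme Z (Points.map e.inv z), MorphismProperty.RespectsIso.precomp _ _ _ hj, ?_⟩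
  rw [Points.ofPt_eq_map_ofScheme, Points.ofScheme_toScheme, ← Points.map_comp, Iso.inv_hom_id_assoc, hz]

theorem exists_separated_scheme (hX : IsAlgSpace X) (hp : LocP (@LocallyQuasiFinite ⊓ @LocallyOfFiniteType) p) :
    ∃ (U : Over (Spec (CommRingCat.of k))) (_ : (yon (Spec (CommRingCat.of k))).obj U ≅ X),
      LocallyQuasiFinite U.hom ∧ LocallyOfFiniteType U.hom ∧ DiscreteTopology ↥U.left ∧ U.left.IsSeparated := by
  obtain ⟨U, ⟨e⟩⟩ := exists_iso_scheme hX hp
  obtain ⟨h1, h2, h3⟩ := chart_discrete hp (repWith_of_isIso @Etale e.hom)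
  exact ⟨U, e, h1, h2, h3, isSeparated_of_discrete _⟩

theorem artinian_local_at {U : Over (Spec (CommRingCat.of k))} [DiscreteTopology ↥U.left]
    (hl : LocallyOfFiniteType U.hom) (u : ↥U.left) :
    ∃ V : U.left.Opens, u ∈ V ∧ IsAffineOpen V ∧ IsArtinianRing ↥Γ(U.left, V) ∧ IsLocalRing ↥Γ(U.left, V) ∧
      IsFinite (V.ι ≫ U.hom) := by
  let V : U.left.Opens := ⟨{u}, isOpen_discrete _⟩
  have : IsLocallyNoetherian U.left := LocallyOfFiniteType.isLocallyNoetherian U.hom
  have : IsLocallyArtinian U.left := IsLocallyArtinian.of_isLocallyNoetherian_of_discreteTopology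
  have hV : IsAffineOpen V := isAffineOpen_of_isCompact V isCompact_singleton
  have : IsArtinianRing ↥Γ(U.left, V) := IsLocallyArtinian.isArtinianRing_presheaf_obj ⟨V, hV⟩
  have hsub : Subsingleton (PrimeSpectrum ↥Γ(U.left, V)) := by
    have : Subsingleton ↥V.toScheme := ⟨fun a b => Subtype.ext (a.2.trans b.2.symm)⟩
    exact hV.isoSpec.inv.isOpenEmbedding.injective.subsingleton
  have : Nontrivial ↥Γ(U.left, V) := PrimeSpectrum.nonempty_iff_nontrivial.1
    ⟨hV.isoSpec.hom ⟨u, rfl⟩⟩
  refine ⟨V, rfl, hV, inferInstance, ?_, ?_⟩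
  · obtain ⟨m, hm⟩ := Ideal.exists_maximal ↥Γ(U.left, V)
    exact IsLocalRing.of_unique_max_ideal ⟨m, hm, fun m' hm' => congrArg PrimeSpectrum.asIdeal
      (Subsingleton.elim (⟨m', hm'.isPrime⟩ : PrimeSpectrum _) ⟨m, hm.isPrime⟩)⟩
  · have : IsAffine V.toScheme := hV
    have : LocallyOfFiniteType (V.ι ≫ U.hom) := inferInstance
    have : IsLocallyArtinian (Spec (CommRingCat.of k)) := Scheme.isLocallyArtinianScheme_Spec.2 inferInstance
    have : LocallyQuasiFinite (V.ι ≫ U.hom) := by
      refine locallyQuasiFinite_iff_isDiscrete_preimage_singleton.2 fun _ => isDiscrete_iff_discreteTopology.2 ?_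
      have : DiscreteTopology ↥V.toScheme := V.ι.isOpenEmbedding.discreteTopology
      infer_instance
    have : CompactSpace ↥V.toScheme := inferInstance
    have : QuasiCompact (V.ι ≫ U.hom) := inferInstance
    exact IsFinite.of_locallyQuasiFinite _

theorem lqf_of_artinian_cover {U : Over (Spec (CommRingCat.of k))} (e : (yon (Spec (CommRingCat.of k))).obj U ≅ X)
    (h : ∀ u : ↥U.left, ∃ V : U.left.Opens, u ∈ V ∧ IsFinite (V.ι ≫ U.hom)) :
    LocP (@LocallyQuasiFinite ⊓ @LocallyOfFiniteType) p := by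
  choose V hV hf using h
  have htop : iSup V = ⊤ := top_unique fun x _ => TopologicalSpace.Opens.mem_iSup.2 ⟨x, hV x⟩
  obtain ⟨h, hh⟩ := (yon (Spec (CommRingCat.of k))).map_surjective (e.hom ≫ p)
  have he : h.left = U.hom := by simpa using Over.w h
  refine locP_of_chart (h := h) (repWith_of_isIso _ e.hom) (repWith_of_isIso _ e.hom) (repWith_id _ _)
    (by rw [Category.comp_id, hh]) ?_
  rw [he]
  exact ⟨IsZariskiLocalAtSource.of_iSup_eq_top (P := @LocallyQuasiFinite) V htop fun i => have := hf i; inferInstance,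
    IsZariskiLocalAtSource.of_iSup_eq_top (P := @LocallyOfFiniteType) V htop fun i => have := hf i; inferInstance⟩

end Field

end Groth.Agent.AlgSpDec.DimZeroField
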