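import Groth.Agent.AlgSpDec.LimDescentDiag
import Groth.Agent.AlgSpDec.LimDescentIso
import Groth.Agent.AlgSpDec.LqfScheme
import Groth.Agent.AlgSpPts.Sep
import Groth.Agent.AlgSpLib.InfCharts
import Groth.Agent.S10322

/-! Monomorphisms locally of finite type of algebraic spaces. -/

set_option autoImplicit false
set_option backward.isDefEq.respectTransparency false
set_option backward.isDefEq.respectTransparency.types false

open CategoryTheory Limits Opposite AlgebraicGeometry MorphismProperty AlgSp Groth.Agent.AlgSpLib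
  Groth.Agent.AlgSpPts

namespace Groth.Agent.AlgSpDec

universe u

variable {S : Scheme.{u}} {X Y : Sp S}

theorem injective_map_of_mono {f : X ⟶ Y} [Mono f] : Function.Injective (Points.map f) := by
  intro x y h
  have sq : IsPullback (𝟙 X) (𝟙 X) f f := IsPullback.of_isLimit' ⟨rfl⟩ (PullbackCone.isLimitMkIdId f)
  obtain ⟨z, h1, h2⟩ := exists_point_of_isPullback sq h
  rw [← h1, ← h2]

theorem isUnivInjectiveMor_of_mono {f : X ⟶ Y} [Mono f] : IsUnivInjectiveMor f := by
  intro Z Z' _ g fst snd sq
  have : Mono snd := MorphismProperty.of_isPullback (P := MorphismProperty.monomorphisms (Sp S)) sq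
    (inferInstanceAs (Mono f))
  exact injective_map_of_mono

theorem isFormallyUnramifiedMor_of_mono {f : X ⟶ Y} [Mono f] : IsFormallyUnramifiedMor f :=
  fun _ _ _ _ h₂ _ h₂' => (cancel_mono f).1 (h₂.trans h₂'.symm)

theorem locP_lft_unramified_iff (hX : IsAlgSpace X) (hY : IsAlgSpace Y) (f : X ⟶ Y) :
    LocP (@LocallyOfFiniteType ⊓ @FormallyUnramified) f ↔
      LocP @LocallyOfFiniteType f ∧ IsFormallyUnramifiedMor f := by
  rw [isFormallyUnramifiedMor_iff_locP hX hY f]
  exact ⟨fun h => ⟨fun U V a b k ha hb w => (h a b k ha hb w).1, fun U V a b k ha hb w => (h a b k ha hb w).2⟩,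
    fun h U V a b k ha hb w => ⟨h.1 a b k ha hb w, h.2 a b k ha hb w⟩⟩

theorem isEtaleMor_diagonal (hX : IsAlgSpace X) (hY : IsAlgSpace Y) (f : X ⟶ Y)
    (hl : LocP @LocallyOfFiniteType f) (hu : IsFormallyUnramifiedMor f) :
    IsEtaleMor (pullback.diagonal f) := by
  have hP := isAlgSpace_pullback hX hX hY f f
  have hfe : IsFormallyEtaleMor (pullback.diagonal f) := by
    intro sq
    have e1 : sq.j = sq.j := rfl
    have hc := sq.comm
    have h1 : (yon S).map sq.j ≫ sq.bot ≫ pullback.fst f f = sq.top := by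
      rw [← Category.assoc, ← hc, Category.assoc, pullback.diagonal_fst, Category.comp_id]
    have h2 : (yon S).map sq.j ≫ sq.bot ≫ pullback.snd f f = sq.top := by
      rw [← Category.assoc, ← hc, Category.assoc, pullback.diagonal_snd, Category.comp_id]
    let sq' : InfSq f :=
      { A := sq.A
        I := sq.I
        sq_zero := sq.sq_zero
        str := sq.str
        top := sq.top
        bot := sq.bot ≫ pullback.fst f f ≫ f
        comm := by
          conv_lhs => rw [← h1]
          simp only [Category.assoc] }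
    have he : sq.bot ≫ pullback.fst f f = sq.bot ≫ pullback.snd f f :=
      hu sq' _ _ h1 (Category.assoc _ _ _) h2 (by
        change (sq.bot ≫ pullback.snd f f) ≫ f = sq.bot ≫ pullback.fst f f ≫ f
        rw [Category.assoc, pullback.condition])
    refine ⟨sq.bot ≫ pullback.fst f f, ⟨h1, ?_⟩, fun l hl => ?_⟩
    · apply pullback.hom_ext
      · simp
      · simpa using he
    · rw [← hl.2, Category.assoc, pullback.diagonal_fst, Category.comp_id]
  refine (isEtaleMor_iff_locP hX hP _).2 fun U V a b k ha hb w => ?_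
  exact (etale_iff_lfp_formallyEtaleHom k.left).2 ⟨locP_lfp_diagonal hX hY f hl a b k ha hb w,
    (isFormallyEtaleMor_iff_locP hX hP _).1 hfe a b k ha hb w⟩

theorem mono_of_unramified_univInjective (hX : IsAlgSpace X) (hY : IsAlgSpace Y) (f : X ⟶ Y)
    (hl : LocP @LocallyOfFiniteType f) (hu : IsFormallyUnramifiedMor f) (hi : IsUnivInjectiveMor f) :
    Mono f := by
  refine mono_of_diagonal hX hY f (isEtaleMor_diagonal hX hY f hl hu) fun z => ?_
  refine ⟨Points.map (pullback.snd f f) z, hi hX f _ _ (IsPullback.of_hasPullback f f) ?_⟩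
  rw [← Points.map_comp, pullback.diagonal_snd, Points.map_id]

theorem lqf_of_mono_lft (hX : IsAlgSpace X) (hY : IsAlgSpace Y) (f : X ⟶ Y) [Mono f]
    (hl : LocP @LocallyOfFiniteType f) : LocP (@LocallyQuasiFinite ⊓ @LocallyOfFiniteType) f :=
  (Groth.Agent.S10322.result (X := ⟨X, hX⟩) (Y := ⟨Y, hY⟩) (ObjectProperty.homMk f)).2
    ((locP_lft_unramified_iff hX hY f).2 ⟨hl, isFormallyUnramifiedMor_of_mono⟩)

theorem representable_of_mono_lft (hX : IsAlgSpace X) (hY : IsAlgSpace Y) (f : X ⟶ Y) [Mono f]
    (hl : LocP @LocallyOfFiniteType f) : Representable f := fun T g => by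
  have hP : IsAlgSpace (pullback f g) := isAlgSpace_pullback hX (IsAlgSpace.yon_obj T) hY f g
  have sq := IsPullback.of_hasPullback f g
  have : Mono (pullback.snd f g) := MorphismProperty.of_isPullback
    (P := MorphismProperty.monomorphisms (Sp S)) sq (inferInstanceAs (Mono f))
  obtain ⟨Q, ⟨e⟩⟩ := exists_iso_of_lqf_separated hP (pullback.snd f g)
    (lqf_of_mono_lft hP (IsAlgSpace.yon_obj T) _ (locP_of_isPullback sq hX hY (IsAlgSpace.yon_obj T) hl))
    (isSeparatedMor_of_mono _)
  obtain ⟨s₂, hs₂⟩ := (yon S).map_surjective (e.hom ≫ pullback.snd f g)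
  exact ⟨Q, s₂, e.hom ≫ pullback.fst f g,
    sq.of_iso e.symm (Iso.refl _) (Iso.refl _) (Iso.refl _) (by simp) (by simp [hs₂]) (by simp) (by simp)⟩

end Groth.Agent.AlgSpDec

namespace Groth.Agent.AlgSpDec

universe u

variable {S : Scheme.{u}} {X Y : Sp S}

theorem repWith_isClosedImmersion_iff (hX : IsAlgSpace X) (hY : IsAlgSpace Y) (f : X ⟶ Y) :
    RepWith @IsClosedImmersion f ↔ IsUnivClosedMor f ∧ LocP @LocallyOfFiniteType f ∧ Mono f := by
  refine ⟨fun h => ⟨?_, ?_, ?_⟩, fun ⟨huc, hl, hm⟩ => ?_⟩
  · exact univSp_of_repWith (P := @IsClosedImmersion) (fun A B g hg => isClosedMap_map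
      (repWith_mono (fun _ _ k (hk : IsClosedImmersion k) => (inferInstance : UniversallyClosed k)) _ hg)) h
  · exact locP_of_repWith (repWith_mono (fun _ _ k (hk : IsClosedImmersion k) =>
      (inferInstance : LocallyOfFiniteType k)) _ h)
  · exact AlgSpPts.mono_of_repWith (repWith_mono (fun _ _ k (hk : IsClosedImmersion k) =>
      inferInstanceAs (Mono k)) _ h)
  · have hr := representable_of_mono_lft hX hY f hl
    have h1 : RepWith @LocallyOfFiniteType f := repWith_of_locP hY hr hl
    have h2 := repWith_monomorphisms_of_mono hr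
    have h3 : RepWith (topologically @IsClosedMap).universally f := repWith_universally_of_univSp
      (P := topologically @IsClosedMap) (Q := IsClosedMor) (fun V U g hg => by
        change IsClosedMap (g.left : ↥V.left → ↥U.left)
        rw [left_eq_conj g]
        exact (Points.schemeHomeo U).symm.isClosedMap.comp (hg.comp (Points.schemeHomeo V).isClosedMap)) hr huc
    refine ⟨hr, fun U V g fst snd sq => ?_⟩
    have : LocallyOfFiniteType snd.left := h1.2 g fst snd sq
    have : Mono snd.left := h2.2 g fst snd sq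
    have : UniversallyClosed snd.left := ⟨h3.2 g fst snd sq⟩
    change IsClosedImmersion snd.left
    rw [IsClosedImmersion.iff_isProper_and_mono]
    exact ⟨⟨⟩, inferInstance⟩

end Groth.Agent.AlgSpDec
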