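import Groth.Agent.AlgSpDec.EtaleFamily
import Groth.Agent.AlgSpDec.MonoTfae
import Groth.Agent.AlgSpDec.RedInduced
import Groth.Agent.AlgSpDec.LimOpen
import Groth.Agent.AlgSpQMod.QcOpen
import Groth.Agent.S10262
import Mathlib.CategoryTheory.Adhesive.Basic
import Mathlib.CategoryTheory.Sites.LeftExact

/-!
# Glueing an algebraic space along an open subspace and an etale morphism
-/

set_option backward.isDefEq.respectTransparency false
set_option backward.isDefEq.respectTransparency.types false
set_option autoImplicit false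

noncomputable section

universe u

open CategoryTheory CategoryTheory.Limits Opposite AlgebraicGeometry AlgSp Groth.Agent.AlgSpLib Groth.Agent.AlgSpPts

namespace Groth.Agent.AlgSpDec

variable {S : Scheme.{u}}

/-- Maps of sheaves agree when they agree on maps from schemes. -/
theorem sp_hom_ext {F G : Sp S} (a b : F ⟶ G)
    (h : ∀ (T : Over S) (v : (yon S).obj T ⟶ F), v ≫ a = v ≫ b) : a = b := by
  refine ObjectProperty.hom_ext _ (NatTrans.ext (funext fun T => ?_))
  ext x
  have := congrArg (J S).uliftYonedaEquiv (h T.unop ((J S).uliftYonedaEquiv.symm x))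
  rwa [GrothendieckTopology.uliftYonedaEquiv_comp, GrothendieckTopology.uliftYonedaEquiv_comp,
    Equiv.apply_symm_apply] at this

/-- The kernel pair of the pushout of an etale morphism along an open immersion is covered by the diagonal and the
glued part. -/
theorem exists_covering_kernelPair {U V V' W : Sp S} {jV : V' ⟶ V} [Mono jV] {f' : V' ⟶ U} {f : V ⟶ W} {j : U ⟶ W}
    (h : IsPushout jV f' f j) {κ : pullback f' f' ⟶ pullback f f}
    (hκ₁ : κ ≫ pullback.fst f f = pullback.fst f' f' ≫ jV) (hκ₂ : κ ≫ pullback.snd f f = pullback.snd f' f' ≫ jV)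
    {T : Over S} (t : (yon S).obj T ⟶ pullback f f) :
    ∃ R ∈ J S T, ∀ ⦃T' : Over S⦄ (φ : T' ⟶ T), R φ →
      (∃ x, x ≫ κ = (yon S).map φ ≫ t) ∨ (∃ y, y ≫ pullback.diagonal f = (yon S).map φ ≫ t) := by
  have hsq : IsPullback jV f' f j := Adhesive.isPullback_of_isPushout_of_mono_left h
  have hmj : Mono j := Adhesive.mono_of_isPushout_of_mono_left h
  have back : IsPullback κ (pullback.fst f' f') (pullback.fst f f) jV := by
    refine IsPullback.of_right ?_ hκ₁ (IsPullback.of_hasPullback f f).flip
    rw [hκ₂, h.w]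
    exact (IsPullback.of_hasPullback f' f').flip.paste_horiz hsq
  have : Mono κ := MorphismProperty.of_isPullback (P := MorphismProperty.monomorphisms _) back.flip
    (MorphismProperty.monomorphisms.infer_property jV)
  let δ := pullback.diagonal f'
  have hS₁ : IsPushout κ (pullback.snd f' f') (pullback.snd f f) jV :=
    ((Adhesive.van_kampen h) κ (pullback.snd f' f') (pullback.snd f f) jV (pullback.fst f' f') (pullback.fst f f)
      f' f back (IsPullback.of_hasPullback f' f').flip ⟨pullback.condition.symm⟩ ⟨h.w⟩ ⟨hκ₂⟩).2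
      ⟨(IsPullback.of_hasPullback f f).flip, hsq⟩
  let P₀ := pushout δ jV
  let inA : pullback f' f' ⟶ P₀ := pushout.inl δ jV
  let inV : V ⟶ P₀ := pushout.inr δ jV
  have hT₀ : IsPushout δ jV inA inV := IsPushout.of_hasPushout δ jV
  have : Mono δ := inferInstanceAs (Mono (pullback.diagonal f'))
  have hδκ : δ ≫ κ = jV ≫ pullback.diagonal f := by
    apply pullback.hom_ext <;> simp [δ, hκ₁, hκ₂]
  let φ : P₀ ⟶ pullback f f := hT₀.desc κ (pullback.diagonal f) hδκ
  have hφA : inA ≫ φ = κ := hT₀.inl_desc _ _ _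
  have hφV : inV ≫ φ = pullback.diagonal f := hT₀.inr_desc _ _ _
  let q : P₀ ⟶ V := φ ≫ pullback.snd f f
  have hS₂ : IsPushout inA (pullback.snd f' f') q jV := by
    refine (IsPushout.of_left ?_ (show pullback.snd f' f' ≫ jV = inA ≫ q by rw [← hκ₂, ← hφA, Category.assoc]) hT₀.flip.flip).flip
    rw [show inV ≫ q = 𝟙 V by rw [← Category.assoc, hφV, pullback.diagonal_snd],
      show δ ≫ pullback.snd f' f' = 𝟙 V' from pullback.diagonal_snd f']
    exact IsPushout.of_horiz_isIso ⟨by simp⟩
  have hA : IsPullback inA (𝟙 _) φ κ := by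
    refine ⟨⟨by rw [hφA, Category.id_comp]⟩, ⟨PullbackCone.IsLimit.mk _ (fun s => s.snd) (fun s => ?_)
      (fun s => Category.comp_id _) (fun s m _ hm => by rw [← hm, Category.comp_id])⟩⟩
    refine sp_hom_ext _ _ fun T x => ?_
    obtain ⟨R, hR, hlift⟩ := exists_covering_of_isPushout hT₀ (x ≫ s.fst)
    refine hom_ext_of_covering _ _ hR fun T' ψ hψ => ?_
    rcases hlift ψ hψ with ⟨a, ha⟩ | ⟨y, hy⟩
    · have : a = (yon S).map ψ ≫ x ≫ s.snd := by
        refine (cancel_mono κ).1 ?_
        rw [Category.assoc, Category.assoc, ← s.condition]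
        refine (congrArg (a ≫ ·) hφA.symm).trans ?_
        simp only [reassoc_of% ha]
      rw [← ha, this]
      simp only [Category.assoc]
    · have hy' : y = (yon S).map ψ ≫ x ≫ s.snd ≫ pullback.fst f' f' ≫ jV := by
        have e := congrArg (· ≫ φ ≫ pullback.fst f f) hy
        simp only [Category.assoc, reassoc_of% hφV, pullback.diagonal_fst, Category.comp_id] at e
        rw [e, ← hκ₁]
        simp only [Category.assoc, reassoc_of% s.condition]
      let z : (yon S).obj T' ⟶ V' := (yon S).map ψ ≫ x ≫ s.snd ≫ pullback.fst f' f'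
      have hz : z ≫ jV = y := by rw [hy']; simp [z]
      have hzs : z ≫ δ = (yon S).map ψ ≫ x ≫ s.snd := by
        rw [← cancel_mono κ, Category.assoc, hδκ, reassoc_of% hz]
        have e := congrArg (· ≫ φ) hy
        simp only [Category.assoc, hφV] at e
        rw [e]
        simp only [Category.assoc, s.condition]
      rw [← hy, ← hz, Category.assoc, ← hT₀.w, reassoc_of% hzs]
  have hiso : IsIso φ := by
    have h' := ((Adhesive.van_kampen hS₁) inA (pullback.snd f' f') q jV (𝟙 _) φ (𝟙 _) (𝟙 _) hA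
      (IsPullback.of_vert_isIso ⟨by simp⟩) ⟨by rw [Category.comp_id]⟩ ⟨by simp⟩ ⟨hS₂.w⟩).1 hS₂ |>.1
    exact MorphismProperty.of_isPullback (P := MorphismProperty.isomorphisms _)
      (show IsPullback q φ (𝟙 V) (pullback.snd f f) from h') (MorphismProperty.isomorphisms.infer_property _)
  obtain ⟨R, hR, hlift⟩ := exists_covering_of_isPushout hT₀ (t ≫ inv φ)
  refine ⟨R, hR, fun T' ψ hψ => ?_⟩
  rcases hlift ψ hψ with ⟨a, ha⟩ | ⟨y, hy⟩
  · exact Or.inl ⟨a, by rw [← hφA, reassoc_of% ha]; simp⟩
  · exact Or.inr ⟨y, by rw [← hφV, reassoc_of% hy]; simp⟩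

end Groth.Agent.AlgSpDec
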