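import Groth.Agent.AlgSpDec.Glue
import Groth.Agent.AlgSpNorm.Basic
import Groth.Agent.AlgSpQMod.QcOpen
import Groth.Agent.AlgSpLib.LocP
import Groth.Agent.S10262
import Mathlib.CategoryTheory.Sites.LeftExact

/-!
Elementary distinguished squares are pushouts of sheaves.
-/

set_option autoImplicit false
set_option maxHeartbeats 800000
set_option backward.isDefEq.respectTransparency false
set_option backward.isDefEq.respectTransparency.types false

universe u

open CategoryTheory CategoryTheory.Limits AlgebraicGeometry AlgSp Groth.Agent.AlgSpLib Groth.Agent.AlgSpPts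

namespace Groth.Agent.AlgSpDec.DistPushout

variable {S : Scheme.{u}}

/-- Maps out of a scheme agreeing on two jointly surjective open pieces agree. -/
theorem hom_ext_pair {F : Sp S} {R R₁ R₂ : Over S} (e₁ : R₁ ⟶ R) (e₂ : R₂ ⟶ R) [IsOpenImmersion e₁.left]
    [IsOpenImmersion e₂.left] (hsurj : ∀ r : R.left, r ∈ Set.range e₁.left ∨ r ∈ Set.range e₂.left)
    (a b : (yon S).obj R ⟶ F) (h₁ : (yon S).map e₁ ≫ a = (yon S).map e₁ ≫ b)
    (h₂ : (yon S).map e₂ ≫ a = (yon S).map e₂ ≫ b) : a = b := by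
  let O₁ := e₁.left.opensRange
  let O₂ := e₂.left.opensRange
  let 𝒰 : R.left.OpenCover := Scheme.openCoverOfIsOpenCover R.left
    (fun i : ULift.{u} Bool => bif i.down then O₁ else O₂) (TopologicalSpace.Opens.ext (Set.eq_univ_of_forall fun r => by
      simp only [TopologicalSpace.Opens.coe_iSup, Set.mem_iUnion]
      rcases hsurj r with h | h
      · exact ⟨⟨true⟩, h⟩
      · exact ⟨⟨false⟩, h⟩))
  have key : ∀ {R' : Over S} (e : R' ⟶ R) [IsOpenImmersion e.left] {Y : Scheme.{u}} (ι : Y ⟶ R.left),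
      Set.range ι ⊆ Set.range e.left → (yon S).map e ≫ a = (yon S).map e ≫ b →
        (yon S).map (Over.homMk (U := Over.mk (ι ≫ R.hom)) ι rfl) ≫ a =
          (yon S).map (Over.homMk (U := Over.mk (ι ≫ R.hom)) ι rfl) ≫ b := fun {R'} e _ {Y} ι hr he => by
    let l : Over.mk (ι ≫ R.hom) ⟶ R' := Over.homMk (IsOpenImmersion.lift e.left ι hr) (by
      show _ ≫ R'.hom = ι ≫ R.hom
      rw [← Over.w e, IsOpenImmersion.lift_fac_assoc])
    have hl : Over.homMk (U := Over.mk (ι ≫ R.hom)) ι rfl = l ≫ e :=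
      Over.OverMorphism.ext (IsOpenImmersion.lift_fac e.left ι hr).symm
    rw [hl, Functor.map_comp, Category.assoc, Category.assoc, he]
  refine hom_ext_of_openCover 𝒰 a b fun i => ?_
  obtain ⟨_ | _⟩ := i
  · exact key e₂ _ (by rintro _ ⟨x, rfl⟩; exact x.2) h₂
  · exact key e₁ _ (by rintro _ ⟨x, rfl⟩; exact x.2) h₁

variable {U V W P T Q : Sp S} {j : U ⟶ W} {f : V ⟶ W} {p : P ⟶ U} {q : P ⟶ V} {i : T ⟶ W} {p₁ : Q ⟶ T} {p₂ : Q ⟶ V}

/-- A field point with image in a closed subspace factors through it. -/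
theorem exists_lift_field (hi : RepWith @IsClosedImmersion i) {K : Type u} [Field K] {str : Spec (CommRingCat.of K) ⟶ S}
    (x : (yon S).obj (Over.mk str) ⟶ W) (t : ↥(Over.mk str).left)
    (ht : Points.ofPt x t ∈ Set.range (Points.map i)) : ∃ y, y ≫ i = x := by
  have hsq := hi.rep.isPullback x
  let e := hi.rep.snd x
  haveI : Subsingleton ↥(Over.mk str).left := inferInstanceAs (Subsingleton (PrimeSpectrum K))
  haveI : IsReduced (Over.mk str).left := inferInstanceAs (IsReduced (Spec (CommRingCat.of K)))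
  haveI : IsClosedImmersion e.left := hi.property_snd x
  haveI : Surjective e.left := ⟨fun s => by
    obtain ⟨w, hw⟩ := (AlgSpQMod.ofPt_mem_range_iff hi x t).1 ht
    exact ⟨w, Subsingleton.elim _ _⟩⟩
  haveI : IsIso e.left := isIso_of_isClosedImmersion_of_surjective _
  haveI : IsIso ((Over.forget S).map e) := ‹IsIso e.left›
  haveI : IsIso e := isIso_of_reflects_iso e (Over.forget S)
  exact ⟨inv ((yon S).map e) ≫ hi.rep.fst x, by rw [Category.assoc, hsq.w]; exact IsIso.inv_hom_id_assoc _ _⟩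

variable (hW : IsAlgSpace W) (hV : IsAlgSpace V) (hj : RepWith @IsOpenImmersion j) (hf : IsEtaleMor f)
  (sq : IsPullback p q j f) (hi : RepWith @IsClosedImmersion i) (hrange : Set.range (Points.map i) = (Set.range (Points.map j))ᶜ)
  (sqT : IsPullback p₁ p₂ i f) (hp₁ : IsIso p₁) {Z : Sp S} {hU : U ⟶ Z} {hV' : V ⟶ Z} (w : p ≫ hU = q ≫ hV')

include hW hV hj hf sq hi hrange sqT hp₁ w

theorem agree_scheme {R : Over S} (c₁ c₂ : (yon S).obj R ⟶ V) (h : c₁ ≫ f = c₂ ≫ f) : c₁ ≫ hV' = c₂ ≫ hV' := by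
  have hd : RepWith @IsOpenImmersion (pullback.diagonal f) :=
    (Groth.Agent.S10262.result (X := ⟨V, hV⟩) (Y := ⟨W, hW⟩) (ObjectProperty.homMk f)).1
      (locP_mono (P := @Etale) (Q := @LocallyOfFiniteType ⊓ @FormallyUnramified)
        (fun _ _ g hg => by haveI : Etale g := hg; exact ⟨inferInstance, inferInstance⟩)
        ((isEtaleMor_iff_locP hV hW f).1 hf))
  let ξ : (yon S).obj R ⟶ pullback f f := pullback.lift c₁ c₂ h
  let e₁ := hd.rep.snd ξ
  let e₂ := hj.rep.snd (c₁ ≫ f)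
  haveI : IsOpenImmersion e₁.left := hd.property_snd ξ
  haveI : IsOpenImmersion e₂.left := hj.property_snd _
  have h₁ : hd.rep.fst ξ = (yon S).map e₁ ≫ c₁ := by
    have := (hd.rep.isPullback ξ).w =≫ pullback.fst f f
    simpa [ξ, e₁] using this
  have h₂ : hd.rep.fst ξ = (yon S).map e₁ ≫ c₂ := by
    have := (hd.rep.isPullback ξ).w =≫ pullback.snd f f
    simpa [ξ, e₁] using this
  refine hom_ext_pair e₁ e₂ (fun r => ?_) _ _ ?_ ?_
  · by_cases hr : Points.ofPt (c₁ ≫ f) r ∈ Set.range (Points.map j)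
    · exact Or.inr ((AlgSpQMod.ofPt_mem_range_iff hj (c₁ ≫ f) r).1 hr)
    left
    let K := R.left.residueField r
    let k : Over.mk (R.left.fromSpecResidueField r ≫ R.hom) ⟶ R := Over.homMk (R.left.fromSpecResidueField r) rfl
    have hk : k.left (IsLocalRing.closedPoint K) = r := Scheme.fromSpecResidueField_apply _ _
    obtain ⟨y, hy⟩ := exists_lift_field hi ((yon S).map k ≫ c₁ ≫ f) (IsLocalRing.closedPoint K) (by
      rw [ofPt_comp, hk, hrange]; exact hr)
    let l₁ := sqT.lift y ((yon S).map k ≫ c₁) (by rw [hy, Category.assoc])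
    let l₂ := sqT.lift y ((yon S).map k ≫ c₂) (by rw [hy, h, Category.assoc])
    have hl : l₁ = l₂ := by rw [← cancel_mono p₁, sqT.lift_fst, sqT.lift_fst]
    have hk12 : (yon S).map k ≫ c₁ = (yon S).map k ≫ c₂ := by
      rw [← sqT.lift_snd y ((yon S).map k ≫ c₁) (by rw [hy, Category.assoc]),
        ← sqT.lift_snd y ((yon S).map k ≫ c₂) (by rw [hy, h, Category.assoc])]
      exact congrArg (· ≫ p₂) hl
    obtain ⟨m, hm⟩ := (yon S).map_surjective ((hd.rep.isPullback ξ).lift ((yon S).map k ≫ c₁) ((yon S).map k) (by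
      refine pullback.hom_ext ?_ ?_
      · simp [ξ]
      · simp [ξ, hk12]))
    have hmk : m ≫ e₁ = k := (yon S).map_injective (by
      rw [Functor.map_comp, hm]; exact (hd.rep.isPullback ξ).lift_snd _ _ _)
    exact ⟨m.left (IsLocalRing.closedPoint K), by rw [← Scheme.Hom.comp_apply, ← Over.comp_left, hmk, hk]⟩
  · rw [← Category.assoc, ← Category.assoc, ← h₁, ← h₂]
  · have hu : hj.rep.fst (c₁ ≫ f) ≫ j = ((yon S).map e₂ ≫ c₁) ≫ f := by
      rw [(hj.rep.isPullback (c₁ ≫ f)).w, Category.assoc]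
    have hu' : hj.rep.fst (c₁ ≫ f) ≫ j = ((yon S).map e₂ ≫ c₂) ≫ f :=
      hu.trans ((Category.assoc _ _ _).trans ((congrArg ((yon S).map e₂ ≫ ·) h).trans (Category.assoc _ _ _).symm))
    rw [← Category.assoc, ← Category.assoc, ← sq.lift_snd _ _ hu, ← sq.lift_snd _ _ hu']
    simp only [Category.assoc, ← w]
    rw [← Category.assoc, sq.lift_fst, ← Category.assoc, sq.lift_fst]

omit w in
theorem hom_ext_pieces {Z' : Sp S} (a b : W ⟶ Z') (h₁ : j ≫ a = j ≫ b) (h₂ : f ≫ a = f ≫ b) : a = b := by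
  obtain ⟨W₀, e, he, hes⟩ := hW.atlas
  obtain ⟨V₀, c, hc, hcs⟩ := hV.atlas
  haveI := Groth.Agent.AlgSpLib.epi_of_etale_surjective he hes
  refine (cancel_epi e).1 ?_
  let t := c ≫ f
  have ht : RepWith @Etale t := hf c hc
  let g := ht.rep.snd e
  haveI : Etale g.left := ht.property_snd e
  let I : W₀.left.Opens := ⟨Set.range g.left, g.left.isOpenMap.isOpen_range⟩
  let ιI : Over.mk (I.ι ≫ W₀.hom) ⟶ W₀ := Over.homMk I.ι rfl
  haveI : IsOpenImmersion ιI.left := inferInstanceAs (IsOpenImmersion I.ι)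
  let eO := hj.rep.snd e
  haveI : IsOpenImmersion eO.left := hj.property_snd e
  refine hom_ext_pair eO ιI (fun r => ?_) _ _ ?_ ?_
  · by_cases hr : Points.ofPt e r ∈ Set.range (Points.map j)
    · exact Or.inl ((AlgSpQMod.ofPt_mem_range_iff hj e r).1 hr)
    right
    obtain ⟨z, hz⟩ : Points.ofPt e r ∈ Set.range (Points.map i) := by rw [hrange]; exact hr
    obtain ⟨v, hv⟩ := surjective_ofPt hcs (Points.map p₂ (Points.map (inv p₁) z))
    have hvr : Points.ofPt t v = Points.ofPt e r := by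
      rw [← hz, ← Points.map_ofPt, hv, ← Points.map_comp, ← sqT.w, ← Points.map_comp, IsIso.inv_hom_id_assoc]
    obtain ⟨u, hu₁, hu₂⟩ := exists_ofPt_of_eq (ht.rep.isPullback' e) hvr
    show r ∈ Set.range I.ι
    rw [Scheme.Opens.range_ι]
    exact ⟨u, hu₂⟩
  · rw [← reassoc_of% (hj.rep.isPullback e).w, ← reassoc_of% (hj.rep.isPullback e).w, h₁]
  · let g' : ht.rep.pullback e ⟶ Over.mk (I.ι ≫ W₀.hom) :=
      Over.homMk (IsOpenImmersion.lift I.ι g.left fun x hx => ⟨⟨x, hx⟩, rfl⟩) (by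
        show _ ≫ I.ι ≫ W₀.hom = _
        rw [IsOpenImmersion.lift_fac_assoc, Over.w g])
    have hg' : g' ≫ ιI = g := Over.OverMorphism.ext (IsOpenImmersion.lift_fac _ _ _)
    haveI : Etale (g'.left ≫ I.ι) := by
      rw [show g'.left ≫ I.ι = g.left from congrArg (fun m => m.left) hg']; infer_instance
    haveI : Etale g'.left := Etale.of_comp _ I.ι
    haveI : Surjective g'.left := ⟨fun x => by
      obtain ⟨u, hu⟩ := x.2
      refine ⟨u, Subtype.ext ?_⟩
      rw [← hu]
      have hl : g'.left ≫ I.ι = g.left := IsOpenImmersion.lift_fac _ _ _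
      exact congr($hl u)⟩
    refine hom_ext_of_fppf g' (fppf_of_etale g'.left) _ _ ?_
    rw [← Functor.map_comp_assoc, ← Functor.map_comp_assoc, hg', ← reassoc_of% (ht.rep.isPullback e).w,
      ← reassoc_of% (ht.rep.isPullback e).w]
    show _ ≫ (c ≫ f) ≫ a = _ ≫ (c ≫ f) ≫ b
    rw [Category.assoc, h₂, ← Category.assoc c f b]

omit w in
theorem isPushout : IsPushout p q j f := by
  haveI := mono_of_repWith (repWith_mono (fun _ _ g (_ : IsOpenImmersion g) =>
    (show (MorphismProperty.monomorphisms Scheme) g from inferInstanceAs (Mono g))) _ hj)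
  let φ : U ⨿ V ⟶ W := coprod.desc j f
  haveI : Epi φ := ⟨fun a b hab => hom_ext_pieces hW hV hj hf sq hi hrange sqT hp₁ a b
    (by simpa [φ] using coprod.inl ≫= hab) (by simpa [φ] using coprod.inr ≫= hab)⟩
  have : EffectiveEpi φ := by
    have := IsRegularEpiCategory.regularEpiOfEpi φ
    infer_instance
  have hvk : IsVanKampenColimit (BinaryCofan.mk (coprod.inl : U ⟶ U ⨿ V) coprod.inr) :=
    FinitaryExtensive.vanKampen _ (coprodIsCoprod U V)
  -- decompose along a map to the coproduct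
  have hdec : ∀ {Y : Sp S} (g : Y ⟶ U ⨿ V) {Z : Sp S} (a b : Y ⟶ Z),
      (∀ {Y' : Sp S} (k : Y' ⟶ Y), (∃ x, k ≫ g = x ≫ coprod.inl) ∨ (∃ x, k ≫ g = x ≫ coprod.inr) → k ≫ a = k ≫ b) →
        a = b := fun {Y} g {Z} a b hk => by
    have := (((BinaryCofan.isVanKampen_iff _).1 hvk
      (BinaryCofan.mk (pullback.fst g coprod.inl) (pullback.fst g coprod.inr)) (pullback.snd g coprod.inl)
      (pullback.snd g coprod.inr) g pullback.condition.symm pullback.condition.symm).2
      ⟨IsPullback.of_hasPullback _ _, IsPullback.of_hasPullback _ _⟩).some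
    exact BinaryCofan.IsColimit.hom_ext this (hk _ (Or.inl ⟨_, pullback.condition⟩)) (hk _ (Or.inr ⟨_, pullback.condition⟩))
  refine ⟨⟨sq.w⟩, ⟨PushoutCocone.IsColimit.mk sq.w (fun s => EffectiveEpi.desc φ (coprod.desc s.inl s.inr) ?_)
    (fun s => ?_) (fun s => ?_) (fun s m hm₁ hm₂ => ?_)⟩⟩
  · intro Y g₁ g₂ hg
    let H := coprod.desc s.inl s.inr
    have hw : p ≫ s.inl = q ≫ s.inr := s.condition
    have hUV : ∀ {Y : Sp S} (x : Y ⟶ U) (y : Y ⟶ V), x ≫ j = y ≫ f → x ≫ s.inl = y ≫ s.inr := fun x y hxy => by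
      rw [← sq.lift_fst x y hxy, Category.assoc, hw, ← Category.assoc, sq.lift_snd]
    refine hdec g₁ _ _ fun {Y'} k hk => hdec (k ≫ g₂) _ _ fun {Y''} l hl => ?_
    have he : l ≫ (k ≫ g₁) ≫ φ = (l ≫ k ≫ g₂) ≫ φ := by simp only [Category.assoc, hg]
    show l ≫ k ≫ g₁ ≫ H = l ≫ k ≫ g₂ ≫ H
    rw [← Category.assoc k g₁ H, ← Category.assoc k g₂ H, ← Category.assoc l (k ≫ g₂) H]
    rcases hk with ⟨x, hx⟩ | ⟨x, hx⟩ <;> rcases hl with ⟨y, hy⟩ | ⟨y, hy⟩
    all_goals
      rw [hx, hy] at he ⊢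
      simp only [φ, H, Category.assoc, coprod.inl_desc, coprod.inr_desc] at he ⊢
    · rw [← Category.assoc, (cancel_mono j).1 ((Category.assoc _ _ _).trans he)]
    · exact (Category.assoc _ _ _).symm.trans (hUV _ _ ((Category.assoc _ _ _).trans he))
    · exact ((hUV _ _ (he.symm.trans (Category.assoc _ _ _).symm)).trans (Category.assoc _ _ _)).symm
    · rw [← Category.assoc]
      refine AlgSpNorm.hom_ext_yon _ _ fun R t => ?_
      rw [← Category.assoc, ← Category.assoc t y]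
      exact agree_scheme hW hV hj hf sq hi hrange sqT hp₁ hw _ _
        (by simp only [Category.assoc]; exact congrArg (t ≫ ·) he)
  · simpa [φ] using coprod.inl ≫= EffectiveEpi.fac φ (coprod.desc s.inl s.inr) _
  · simpa [φ] using coprod.inr ≫= EffectiveEpi.fac φ (coprod.desc s.inl s.inr) _
  · refine EffectiveEpi.uniq φ (coprod.desc s.inl s.inr) _ m ?_
    exact coprod.hom_ext (by simpa [φ] using hm₁) (by simpa [φ] using hm₂)

end Groth.Agent.AlgSpDec.DistPushout
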