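import Groth.Agent.AlgSpDec.DistTuples
import Groth.Agent.AlgSpDec.FreeQuotSep
import Groth.Agent.AlgSpDec.AffineClassQuot
import Groth.Agent.AlgSpDec.FinsetAffine
import Groth.Agent.AlgSpDec.LqfScheme
import Groth.Agent.DescLib.SepSurj
import Groth.Agent.SGA1Q.SigmaFinite

/-! Separated schemes of unordered tuples of distinct lifts along an affine etale chart. -/

set_option autoImplicit false
set_option backward.isDefEq.respectTransparency false
set_option backward.isDefEq.respectTransparency.types false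

open CategoryTheory Limits Opposite AlgebraicGeometry MorphismProperty AlgSp Groth.Agent.AlgSpLib
  Groth.Agent.AlgSpPts

namespace Groth.Agent.AlgSpDec.DistTuples

universe u

variable {S : Scheme.{u}} {X : Sp S} {U : Over S} {a : (yon S).obj U ⟶ X}

theorem exists_unordered (hX : IsAlgSpace X) [IsAffine U.left] (ha : RepWith @Etale a) {n : ℕ} {W : Over S}
    {π : Fin (n + 1) → (W ⟶ U)} (hw : ∀ i j, (yon S).map (π i) ≫ a = (yon S).map (π j) ≫ a)
    (hlift : ∀ {T : Over S} (g : Fin (n + 1) → (T ⟶ U)), (∀ i j, (yon S).map (g i) ≫ a = (yon S).map (g j) ≫ a) →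
        IsDist g → ∃ h : T ⟶ W, ∀ i, h ≫ π i = g i)
    (hext : ∀ {T : Over S} (h h' : T ⟶ W), (∀ i, h ≫ π i = h' ≫ π i) → h = h')
    (het : ∀ i, Etale (π i).left) (hsep : IsSeparated (π 0).left) (hqc : RepWith @QuasiCompact a → QuasiCompact (π 0).left)
    (hd : IsDist π) :
    ∃ (V : Over S) (v : (yon S).obj V ⟶ X) (q : W ⟶ V), V.left.IsSeparated ∧ (RepWith @QuasiCompact a → CompactSpace ↥V.left) ∧
      RepWith @Etale v ∧ Etale q.left ∧ Surjective q.left ∧ (yon S).map q ≫ v = (yon S).map (π 0) ≫ a ∧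
      ∀ {T : Over S} (h h' : T ⟶ W) (σ : Equiv.Perm (Fin (n + 1))),
        (∀ i, h' ≫ π i = h ≫ π (σ i)) → h ≫ q = h' ≫ q := by
  let G := Equiv.Perm (ULift.{u} (Fin (n + 1)))
  let idx : G → Fin (n + 1) → Fin (n + 1) := fun g i => (g.symm ⟨i⟩).down
  have hinj : ∀ g, Function.Injective (idx g) := fun g i j h =>
    congrArg ULift.down (g.symm.injective (ULift.ext _ _ h))
  choose r hr using fun g : G => hlift (fun i => π (idx g i)) (fun i j => hw _ _)
    (fun z => (hd z).comp (hinj g))
  have hr1 : r 1 = 𝟙 W := hext _ _ fun i => by rw [hr, Category.id_comp]; rfl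
  have hrmul : ∀ g h, r (g * h) = r h ≫ r g := fun g h => hext _ _ fun i => by
    rw [hr, Category.assoc, hr, hr]; rfl
  let ρ : G →* Aut W :=
    { toFun := fun g => ⟨r g, r g⁻¹, by rw [← hrmul, inv_mul_cancel, hr1], by rw [← hrmul, mul_inv_cancel, hr1]⟩
      map_one' := Iso.ext hr1
      map_mul' := fun g h => Iso.ext (hrmul g h) }
  have hfree : ∀ (g : G) (x : W.left), g ≠ 1 →
      W.left.fromSpecResidueField x ≫ (ρ g).hom.left ≠ W.left.fromSpecResidueField x := by
    intro g x hg e
    refine hg (Equiv.ext fun k => ?_)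
    have e' : ptHom x ≫ r g = ptHom x := Over.OverMorphism.ext e
    have : idx g (g k).down = (g k).down := hd x (show ptHom x ≫ π _ = ptHom x ≫ π _ from by
      rw [← hr g, ← Category.assoc, e'])
    refine ULift.ext _ _ ?_
    have h2 : g.symm (g k) = k := g.symm_apply_apply k
    change (g.symm (g k)).down = (g k).down at this
    rw [h2] at this
    exact this.symm
  let c : Cofan (fun _ : G => W) := Cofan.mk (∐ fun _ : G => W) (Sigma.ι fun _ : G => W)
  have hc : IsColimit c := coproductIsCoproduct _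
  let s : c.pt ⟶ W := Sigma.desc fun _ => 𝟙 W
  let t : c.pt ⟶ W := Sigma.desc fun g => (ρ g).hom
  have hs : ∀ g, c.inj g ≫ s = 𝟙 W := fun g => Sigma.ι_desc _ _
  have ht : ∀ g, c.inj g ≫ t = (ρ g).hom := fun g => Sigma.ι_desc _ _
  have H := FreeAction.isEtaleEqvRel hfree hc hs ht
  haveI := H.etale_left
  haveI := H.etale_right
  haveI : Surjective s.left := ⟨fun u => ⟨(c.inj 1).left u, by rw [← Scheme.Hom.comp_apply, ← Over.comp_left, hs]; rfl⟩⟩
  haveI : IsFinite s.left := by
    obtain ⟨e, he⟩ := FreeAction.exists_iso hc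
    have : e.hom ≫ s.left = Sigma.desc fun _ : G => 𝟙 W.left := by
      refine Sigma.hom_ext _ _ fun g => ?_
      rw [← Category.assoc, he, Sigma.ι_desc, ← Over.comp_left, hs]; rfl
    haveI : IsFinite (Sigma.desc fun _ : G => 𝟙 W.left) := SGA1Q.isFinite_sigmaDesc _ fun _ => inferInstance
    have h3 : s.left = e.inv ≫ Sigma.desc fun _ : G => 𝟙 W.left := e.eq_inv_comp.2 (by assumption)
    rw [h3]
    infer_instance
  haveI : Sheaf.IsLocallySurjective (quotMap s t) := by
    have : Epi (QuotSh.quotπ Scheme.fppfPrecoverage s t) := by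
      unfold QuotSh.quotπ
      infer_instance
    exact (CategoryTheory.Sheaf.isLocallySurjective_iff_epi (quotMap s t)).2 (epi_comp _ _)
  have sq := isPullback_quotMap H.toIsEqvRel
  have hrep : Representable (quotMap s t) := representable_of_kernelPair sq
  have hQ := isAlgSpace_of_etale_kernelPair sq
  haveI := isLocalAtTarget_fppf (@Etale : MorphismProperty Scheme.{u})
  haveI := isLocalAtTarget_fppf (@Surjective : MorphismProperty Scheme.{u})
  have he : RepWith @Etale (quotMap s t) :=
    repWith_of_locallySurjective hrep _ sq @Etale ((repWith_yon_map_iff _ _).2 ‹Etale s.left›)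
  have hsj : RepWith @Surjective (quotMap s t) :=
    repWith_of_locallySurjective hrep _ sq @Surjective ((repWith_yon_map_iff _ _).2 ‹Surjective s.left›)
  haveI := EtFound.fpqc_isFinite.{u}
  have hf : RepWith @IsFinite (quotMap s t) :=
    repWith_of_etale_cover (fun _ _ e (_ : IsFinite e) => inferInstanceAs (IsAffineHom e)) he hsj sq
      ((repWith_yon_map_iff _ _).2 ‹IsFinite s.left›)
  -- the quotient is a scheme
  haveI := het 0
  obtain ⟨V, ⟨e⟩⟩ := exists_rep_of_points hQ fun x => by
    obtain ⟨w, rfl⟩ := surjective_ofPt hsj x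
    have hfin : (Points.ofPt (quotMap s t) ⁻¹' {Points.ofPt (quotMap s t) w}).Finite := by
      refine (((s.left.finite_preimage_singleton w)).image t.left).subset fun w' hw' => ?_
      obtain ⟨z, hz₁, hz₂⟩ := exists_ofPt_of_eq sq (u := w') (v := w) hw'
      exact ⟨z, hz₂, hz₁⟩
    haveI := hsep
    haveI : LocallyQuasiFinite (π 0).left := AlgSpLib.locallyQuasiFinite_of_formallyUnramified _
    obtain ⟨A, hA, hsub⟩ := exists_affineOpen_of_finite (π 0).left hfin
    obtain ⟨T, j, hj, z, hz⟩ := exists_open_subscheme_of_affine_class hQ (quotMap s t) he hf hsj hA w hsub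
    exact ⟨T, j, Points.toScheme T z, hj, by
      rw [Points.ofPt_eq_map_ofScheme, Points.ofScheme_toScheme, hz]⟩
  obtain ⟨q, hq⟩ := (yon S).map_surjective (quotMap s t ≫ e.inv)
  have hqe : Etale q.left := (repWith_yon_map_iff _ q).1 (hq ▸ repWith_comp he (repWith_of_isIso _ e.inv))
  have hqs : Surjective q.left := (repWith_yon_map_iff _ q).1 (hq ▸ repWith_comp hsj (repWith_of_isIso _ e.inv))
  have hqf : IsFinite q.left := (repWith_yon_map_iff _ q).1 (hq ▸ repWith_comp hf (repWith_of_isIso _ e.inv))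
  have hst : t ≫ q = s ≫ q := (yon S).map_injective (by
    rw [Functor.map_comp, Functor.map_comp, hq]
    simp only [← Category.assoc]
    exact congrArg (· ≫ e.inv) sq.w)
  haveI : Epi (quotMap s t) := (Sheaf.isLocallySurjective_iff_epi _).1 inferInstance
  haveI : IsRegularEpi (quotMap s t) := IsRegularEpiCategory.regularEpiOfEpi _
  haveI : EffectiveEpi (quotMap s t) := inferInstance
  have hinv : (yon S).map t ≫ (yon S).map (π 0) ≫ a = (yon S).map s ≫ (yon S).map (π 0) ≫ a := by
    rw [← Functor.map_comp_assoc, ← Functor.map_comp_assoc]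
    have sqU := ha.rep.isPullback' a
    choose l hl₁ hl₂ using fun g : G => sqU.exists_lift ((yon S).map (r g ≫ π 0)) ((yon S).map (π 0))
      (by rw [hr]; exact hw _ _)
    choose l' hl' using fun g => (yon S).map_surjective (l g)
    have e₁ : Sigma.desc l' ≫ ha.rep.fst' a = t ≫ π 0 := Sigma.hom_ext _ _ fun g => by
      change _ = Sigma.ι _ g ≫ t ≫ π 0
      rw [Sigma.ι_desc_assoc, ← Category.assoc, show Sigma.ι (fun _ : G => W) g ≫ t = r g from ht g]
      exact (yon S).map_injective (by rw [Functor.map_comp, hl', hl₁])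
    have e₂ : Sigma.desc l' ≫ ha.rep.snd a = s ≫ π 0 := Sigma.hom_ext _ _ fun g => by
      change _ = Sigma.ι _ g ≫ s ≫ π 0
      rw [Sigma.ι_desc_assoc, ← Category.assoc, show Sigma.ι (fun _ : G => W) g ≫ s = 𝟙 W from hs g, Category.id_comp]
      exact (yon S).map_injective (by rw [Functor.map_comp, hl', hl₂])
    rw [← e₁, ← e₂, Functor.map_comp, Functor.map_comp, Category.assoc, Category.assoc, sqU.w]
  let v : (yon S).obj V ⟶ X := e.hom ≫ EffectiveEpi.desc (quotMap s t) ((yon S).map (π 0) ≫ a) fun g₁ g₂ h => by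
    rw [← sq.lift_fst g₁ g₂ h]
    conv_rhs => rw [← sq.lift_snd g₁ g₂ h]
    rw [Category.assoc, Category.assoc, hinv]
  have hv : (yon S).map q ≫ v = (yon S).map (π 0) ≫ a := by
    rw [hq, Category.assoc, e.inv_hom_id_assoc, EffectiveEpi.fac]
  haveI := hsep
  haveI : IsSeparated ((π 0).left ≫ terminal.from U.left) := inferInstance
  haveI : IsSeparated (q.left ≫ terminal.from V.left) := by
    rw [terminal.comp_from, ← terminal.comp_from (π 0).left]; infer_instance
  refine ⟨V, v, q, ⟨DescLib.isSeparated_of_comp_surjective q.left _⟩,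
    (fun h => ?_), ?_, hqe, hqs, hv, fun {T} h h' σ hσ => ?_⟩
  · haveI := hqc h
    haveI : CompactSpace ↥W.left := QuasiCompact.compactSpace_of_compactSpace (π 0).left
    exact ⟨hqs.surj.range_eq ▸ isCompact_range q.left.continuous⟩
  · exact repWith_of_locP hX (hX.representable_from_yon _)
      (locP_of_chart ((repWith_yon_map_iff _ q).2 hqe) ((repWith_yon_map_iff _ q).2 hqs) ha hv (het 0))
  · let g : G := (Equiv.ulift.trans (σ.trans Equiv.ulift.symm)).symm
    have e' : h' = h ≫ r g := hext _ _ fun i => by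
      rw [hσ, Category.assoc, hr]; rfl
    have : r g ≫ q = q := by
      have := congrArg (c.inj g ≫ ·) hst
      simp only [← Category.assoc, ht, hs, Category.id_comp] at this
      exact this
    rw [e', Category.assoc, this]

end Groth.Agent.AlgSpDec.DistTuples
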