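import Groth.Agent.AlgSpDec.DecentDense
import Groth.Agent.AlgSpDec.MonoPoint
import Groth.Agent.EtFound.SectionUnr

/-! Tuples of pairwise distinct lifts along an etale chart. -/

set_option autoImplicit false
set_option backward.isDefEq.respectTransparency false
set_option backward.isDefEq.respectTransparency.types false

open CategoryTheory Limits Opposite AlgebraicGeometry MorphismProperty AlgSp Groth.Agent.AlgSpLib
  Groth.Agent.AlgSpPts

namespace Groth.Agent.AlgSpDec.DistTuples

universe u

variable {S : Scheme.{u}} {X : Sp S} {U : Over S} {a : (yon S).obj U ⟶ X}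

/-- `M` is the `n + 1`-fold fibre power of the chart `a`. -/
structure IsTuples (a : (yon S).obj U ⟶ X) {n : ℕ} (M : Over S) (π : Fin (n + 1) → (M ⟶ U)) : Prop where
  w : ∀ i j, (yon S).map (π i) ≫ a = (yon S).map (π j) ≫ a
  exists_lift : ∀ {T : Over S} (g : Fin (n + 1) → (T ⟶ U)),
    (∀ i j, (yon S).map (g i) ≫ a = (yon S).map (g j) ≫ a) → ∃ h : T ⟶ M, ∀ i, h ≫ π i = g i
  hom_ext : ∀ {T : Over S} (h h' : T ⟶ M), (∀ i, h ≫ π i = h' ≫ π i) → h = h'
  etale : ∀ i, Etale (π i).left
  sep : IsSeparated (π 0).left
  qc : RepWith @QuasiCompact a → QuasiCompact (π 0).left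

theorem exists_isTuples (ha : RepWith @Etale a) (hs : IsSeparated (ha.rep.snd a).left) :
    ∀ n : ℕ, ∃ (M : Over S) (π : Fin (n + 1) → (M ⟶ U)), IsTuples a M π := by
  intro n
  induction n with
  | zero =>
    refine ⟨U, fun _ => 𝟙 U, fun i j => rfl, fun g _ => ⟨g 0, fun i => ?_⟩, fun h h' e => ?_,
      fun _ => inferInstanceAs (Etale (𝟙 U.left)), inferInstanceAs (IsSeparated (𝟙 U.left)),
      fun _ => inferInstanceAs (QuasiCompact (𝟙 U.left))⟩
    · rw [Category.comp_id, Subsingleton.elim (α := Fin 1) i 0]
    · simpa using e 0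
  | succ n ih =>
    obtain ⟨M, π, hM⟩ := ih
    let R := ha.rep.pullback a
    let s : R ⟶ U := ha.rep.snd a
    let t : R ⟶ U := ha.rep.fst' a
    have sq : IsPullback ((yon S).map t) ((yon S).map s) a a := ha.rep.isPullback' a
    have hse : Etale s.left := ha.property_snd a
    have hte : Etale t.left := ha.property a _ _ sq.flip
    let M' : Over S := pullback (π 0) s
    let p : M' ⟶ M := pullback.fst _ _
    let r : M' ⟶ R := pullback.snd _ _
    have sl : IsPullback p.left r.left (π 0).left s.left :=
      (IsPullback.of_hasPullback (π 0) s).map (Over.forget S)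
    have : Etale (π 0).left := hM.etale 0
    have : IsSeparated (π 0).left := hM.sep
    have : Etale p.left := MorphismProperty.of_isPullback sl.flip hse
    have : IsSeparated p.left := MorphismProperty.of_isPullback sl.flip hs
    have : Etale r.left := MorphismProperty.of_isPullback sl (hM.etale 0)
    let π' : Fin (n + 2) → (M' ⟶ U) := Fin.lastCases (r ≫ t) (fun i => p ≫ π i)
    have hlast : π' (Fin.last _) = r ≫ t := Fin.lastCases_last
    have hcast : ∀ i, π' (Fin.castSucc i) = p ≫ π i := fun i => Fin.lastCases_castSucc i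
    have h0 : π' 0 = p ≫ π 0 := hcast 0
    have hbase : ∀ i, (yon S).map (π' i) ≫ a = (yon S).map (p ≫ π 0) ≫ a := by
      intro i
      induction i using Fin.lastCases with
      | last =>
        rw [hlast, Functor.map_comp, Category.assoc, sq.w, ← Functor.map_comp_assoc, ← pullback.condition]
      | cast i =>
        rw [hcast, Functor.map_comp, Functor.map_comp, Category.assoc, Category.assoc, hM.w i 0]
    refine ⟨M', π', fun i j => (hbase i).trans (hbase j).symm, fun {T} g hg => ?_, fun {T} h h' e => ?_,
      fun i => ?_, ?_, ?_⟩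
    · obtain ⟨h, hh⟩ := hM.exists_lift (fun i => g (Fin.castSucc i)) (fun i j => hg _ _)
      obtain ⟨l, hl⟩ := (yon S).map_surjective (sq.lift ((yon S).map (g (Fin.last _))) ((yon S).map (g 0)) (hg _ _))
      have hl₁ : l ≫ t = g (Fin.last _) := (yon S).map_injective (by rw [Functor.map_comp, hl, sq.lift_fst])
      have hl₂ : l ≫ s = g 0 := (yon S).map_injective (by rw [Functor.map_comp, hl, sq.lift_snd])
      refine ⟨pullback.lift h l (by rw [hl₂, hh 0]; rfl), fun i => ?_⟩
      induction i using Fin.lastCases with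
      | last => rw [hlast, pullback.lift_snd_assoc, hl₁]
      | cast i => rw [hcast, pullback.lift_fst_assoc, hh i]
    · have ep : h ≫ p = h' ≫ p := hM.hom_ext _ _ fun i => by
        simpa [hcast] using e (Fin.castSucc i)
      refine pullback.hom_ext ep ((yon S).map_injective (sq.hom_ext ?_ ?_))
      · have := congrArg ((yon S).map) (e (Fin.last _))
        rw [hlast] at this
        simpa using this
      · rw [← Functor.map_comp, ← Functor.map_comp]
        congr 1
        rw [Category.assoc, Category.assoc, ← pullback.condition, ← Category.assoc, ← Category.assoc]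
        exact congrArg (· ≫ π 0) ep
    · induction i using Fin.lastCases with
      | last => rw [hlast]; exact inferInstanceAs (Etale (r.left ≫ t.left))
      | cast i =>
        rw [hcast]
        have : Etale (π i).left := hM.etale i
        exact inferInstanceAs (Etale (p.left ≫ (π i).left))
    · rw [h0]; exact inferInstanceAs (IsSeparated (p.left ≫ (π 0).left))
    · intro hqa
      rw [h0]
      have : QuasiCompact (π 0).left := hM.qc hqa
      have : QuasiCompact p.left := MorphismProperty.of_isPullback sl.flip (hqa.property_snd a)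
      exact inferInstanceAs (QuasiCompact (p.left ≫ (π 0).left))

/-- The field-valued point of `M` at `z`. -/
noncomputable abbrev ptHom {M : Over S} (z : ↥M.left) : Over.mk (M.left.fromSpecResidueField z ≫ M.hom) ⟶ M :=
  Over.homMk (M.left.fromSpecResidueField z) rfl

/-- A tuple of points of the chart over one point of the space, distinct at every point. -/
def IsDist {n : ℕ} {T : Over S} (g : Fin n → (T ⟶ U)) : Prop :=
  ∀ z : ↥T.left, Function.Injective fun i => ptHom z ≫ g i

/-- Distinctness of tuples of field-valued maps. -/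
theorem isDist_of_injective {n : ℕ} {K : Type u} [Field K] {str : Spec (CommRingCat.of K) ⟶ S}
    {g : Fin n → (Over.mk str ⟶ U)} (h : Function.Injective g) : IsDist g := by
  intro z i j e
  obtain ⟨l, hl⟩ := exists_factor_residueField (𝟙 (Spec (CommRingCat.of K))) z
    (fun t => Subsingleton.elim (α := PrimeSpectrum K) _ _)
  refine h (Over.OverMorphism.ext ?_)
  have e' : (Spec (CommRingCat.of K)).fromSpecResidueField z ≫ (g i).left =
      (Spec (CommRingCat.of K)).fromSpecResidueField z ≫ (g j).left := congrArg (fun f => f.left) e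
  have := congrArg (l ≫ ·) e'
  simpa [← Category.assoc, hl] using this

theorem injective_comp_of_isDist {n : ℕ} {K : Type u} [Field K] {str : Spec (CommRingCat.of K) ⟶ S} {M : Over S}
    {g : Fin n → (M ⟶ U)} (x : Over.mk str ⟶ M)
    (h : Function.Injective fun i => ptHom (x.left (IsLocalRing.closedPoint K)) ≫ g i) :
    Function.Injective fun i => x ≫ g i := by
  intro i j e
  have : IsReduced (Over.mk str).left := inferInstanceAs (IsReduced (Spec (CommRingCat.of K)))
  obtain ⟨l, hl⟩ := exists_factor_residueField x.left (x.left (IsLocalRing.closedPoint K))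
    (fun t => congrArg x.left (Subsingleton.elim (α := PrimeSpectrum K) _ _))
  refine h (Over.OverMorphism.ext ?_)
  have hd : Surjective l := ⟨fun y => ⟨IsLocalRing.closedPoint K,
    Subsingleton.elim (α := PrimeSpectrum (M.left.residueField _)) _ _⟩⟩
  have : Epi l := Flat.epi_of_flat_of_surjective l
  rw [← cancel_epi l]
  have e' : x.left ≫ (g i).left = x.left ≫ (g j).left := congrArg (fun f => f.left) e
  simp only [Over.comp_left, ptHom, Over.homMk_left]
  rw [← Category.assoc, ← Category.assoc, hl, e']

theorem exists_distinct (ha : RepWith @Etale a) (hs : IsSeparated (ha.rep.snd a).left) (n : ℕ) :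
    ∃ (W : Over S) (π : Fin (n + 1) → (W ⟶ U)),
      (∀ i j, (yon S).map (π i) ≫ a = (yon S).map (π j) ≫ a) ∧
      (∀ {T : Over S} (g : Fin (n + 1) → (T ⟶ U)), (∀ i j, (yon S).map (g i) ≫ a = (yon S).map (g j) ≫ a) →
        IsDist g → ∃ h : T ⟶ W, ∀ i, h ≫ π i = g i) ∧
      (∀ {T : Over S} (h h' : T ⟶ W), (∀ i, h ≫ π i = h' ≫ π i) → h = h') ∧
      (∀ i, Etale (π i).left) ∧ IsSeparated (π 0).left ∧ (RepWith @QuasiCompact a → QuasiCompact (π 0).left) ∧ IsDist π := by
  obtain ⟨M, π, hM⟩ := exists_isTuples ha hs n
  let R := ha.rep.pullback a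
  let s : R ⟶ U := ha.rep.snd a
  let t : R ⟶ U := ha.rep.fst' a
  have sq : IsPullback ((yon S).map t) ((yon S).map s) a a := ha.rep.isPullback' a
  have hse : Etale s.left := ha.property_snd a
  obtain ⟨δ, hδ⟩ := (yon S).map_surjective (sq.lift (𝟙 _) (𝟙 _) rfl)
  have hδt : δ ≫ t = 𝟙 U := (yon S).map_injective (by rw [Functor.map_comp, hδ, sq.lift_fst, CategoryTheory.Functor.map_id])
  have hδs : δ ≫ s = 𝟙 U := (yon S).map_injective (by rw [Functor.map_comp, hδ, sq.lift_snd, CategoryTheory.Functor.map_id])
  have : IsSeparated s.left := hs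
  have hid : δ.left ≫ s.left = 𝟙 U.left := congrArg (fun f => f.left) hδs
  have : IsIso (δ.left ≫ s.left) := by rw [hid]; infer_instance
  have : IsClosedImmersion δ.left := IsClosedImmersion.of_comp δ.left s.left
  have : IsOpenImmersion δ.left := EtFound.isOpenImmersion_section s.left δ.left hid
  have key : ∀ i j, ∃ E : Set ↥M.left, IsClopen E ∧ ∀ z, z ∈ E ↔ ptHom z ≫ π i = ptHom z ≫ π j := by
    intro i j
    obtain ⟨μ, hμ⟩ := (yon S).map_surjective (sq.lift ((yon S).map (π i)) ((yon S).map (π j)) (hM.w i j))
    have hμt : μ ≫ t = π i := (yon S).map_injective (by rw [Functor.map_comp, hμ, sq.lift_fst])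
    have hμs : μ ≫ s = π j := (yon S).map_injective (by rw [Functor.map_comp, hμ, sq.lift_snd])
    refine ⟨μ.left ⁻¹' Set.range δ.left, ⟨δ.left.isClosedEmbedding.isClosed_range.preimage μ.left.continuous,
      δ.left.isOpenEmbedding.isOpen_range.preimage μ.left.continuous⟩, fun z => ⟨fun hz => ?_, fun e => ?_⟩⟩
    · have hr : Set.range (ptHom z ≫ μ).left ⊆ Set.range δ.left := by
        rintro _ ⟨y, rfl⟩
        have : (ptHom z ≫ μ).left y = μ.left z := by
          rw [Over.comp_left, Scheme.Hom.comp_apply]
          exact congrArg μ.left (Scheme.fromSpecResidueField_apply z y)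
        rw [this]; exact hz
      let l : Over.mk (M.left.fromSpecResidueField z ≫ M.hom) ⟶ U :=
        Over.homMk (IsOpenImmersion.lift δ.left (ptHom z ≫ μ).left hr) (by
          rw [← CategoryTheory.Over.w δ, IsOpenImmersion.lift_fac_assoc]
          exact CategoryTheory.Over.w (ptHom z ≫ μ))
      have hl : l ≫ δ = ptHom z ≫ μ := Over.OverMorphism.ext (IsOpenImmersion.lift_fac _ _ _)
      have h1 := congrArg (· ≫ t) hl
      have h2 := congrArg (· ≫ s) hl
      simp only [Category.assoc, hδt, hδs, hμt, hμs] at h1 h2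
      exact h1.symm.trans h2
    · have hfac : ptHom z ≫ μ = (ptHom z ≫ π i) ≫ δ := by
        refine (yon S).map_injective (sq.hom_ext ?_ ?_)
        · rw [← Functor.map_comp, ← Functor.map_comp, Category.assoc, Category.assoc, hμt, hδt, Category.comp_id]
        · rw [← Functor.map_comp, ← Functor.map_comp, Category.assoc, Category.assoc, hμs, hδs, Category.comp_id, e]
      refine ⟨(ptHom z ≫ π i).left (IsLocalRing.closedPoint (M.left.residueField z)), ?_⟩
      rw [← Scheme.Hom.comp_apply, ← Over.comp_left, ← hfac, Over.comp_left, Scheme.Hom.comp_apply]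
      exact congrArg μ.left (Scheme.fromSpecResidueField_apply z _)
  choose E hE hEz using key
  let O : M.left.Opens := ⟨⋂ i, ⋂ j, ⋂ (_ : i ≠ j), (E i j)ᶜ,
    isOpen_iInter_of_finite fun i => isOpen_iInter_of_finite fun j => isOpen_iInter_of_finite fun _ =>
      (hE i j).1.isOpen_compl⟩
  have hO : IsClosed (O : Set ↥M.left) := isClosed_iInter fun i => isClosed_iInter fun j =>
    isClosed_iInter fun _ => (hE i j).2.isClosed_compl
  have hOz : ∀ z, z ∈ O ↔ Function.Injective fun i => ptHom z ≫ π i := fun z => by
    change z ∈ (⋂ i, ⋂ j, ⋂ (_ : i ≠ j), (E i j)ᶜ) ↔ _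
    simp only [Set.mem_iInter, Set.mem_compl_iff, hEz]
    exact ⟨fun h i j e => by_contra fun hij => h i j hij e, fun h i j hij e => hij (h e)⟩
  let W : Over S := Over.mk (O.ι ≫ M.hom)
  let ι : W ⟶ M := Over.homMk O.ι rfl
  have : IsClosedImmersion ι.left := IsClosedImmersion.of_isPreimmersion O.ι
    (by rw [Scheme.Opens.range_ι]; exact hO)
  have : IsOpenImmersion ι.left := inferInstanceAs (IsOpenImmersion O.ι)
  have : IsSeparated (π 0).left := hM.sep
  have hdist : IsDist fun i => ι ≫ π i := by
    intro w
    have := injective_comp_of_isDist (g := π) (ptHom w ≫ ι) ((hOz _).1 ((O.range_ι.subset ⟨_, rfl⟩)))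
    simpa [Category.assoc] using this
  refine ⟨W, fun i => ι ≫ π i, fun i j => by simp [hM.w i j], fun {T} g hg hd => ?_, fun {T} h h' e => ?_,
    fun i => ?_, inferInstanceAs (IsSeparated (ι.left ≫ (π 0).left)),
    (fun hqa => have : QuasiCompact (π 0).left := hM.qc hqa; inferInstanceAs (QuasiCompact (ι.left ≫ (π 0).left))), hdist⟩
  · obtain ⟨h, hh⟩ := hM.exists_lift g hg
    have hr : Set.range h.left ⊆ Set.range O.ι := by
      rw [Scheme.Opens.range_ι]
      rintro _ ⟨z, rfl⟩
      refine (hOz _).2 fun i j e => ?_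
      refine hd z ?_
      let k : Over.mk (T.left.fromSpecResidueField z ≫ T.hom) ⟶ Over.mk (M.left.fromSpecResidueField (h.left z) ≫ M.hom) :=
        Over.homMk (Spec.map (h.left.residueFieldMap z)) (by
          change Spec.map _ ≫ M.left.fromSpecResidueField _ ≫ M.hom = T.left.fromSpecResidueField z ≫ T.hom
          rw [Scheme.Hom.SpecMap_residueFieldMap_fromSpecResidueField_assoc, CategoryTheory.Over.w])
      have hk : k ≫ ptHom (h.left z) = ptHom z ≫ h :=
        Over.OverMorphism.ext (Scheme.Hom.SpecMap_residueFieldMap_fromSpecResidueField _ _)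
      change ptHom z ≫ g i = ptHom z ≫ g j
      rw [← hh i, ← hh j, ← reassoc_of% hk, ← reassoc_of% hk]
      exact congrArg (k ≫ ·) e
    exact ⟨Over.homMk (IsOpenImmersion.lift O.ι h.left hr) (by
      change _ ≫ O.ι ≫ M.hom = _
      rw [IsOpenImmersion.lift_fac_assoc, CategoryTheory.Over.w]), fun i => by
      rw [← hh i, ← Category.assoc]
      exact congrArg (· ≫ π i) (Over.OverMorphism.ext (IsOpenImmersion.lift_fac _ _ _))⟩
  · have e' : h ≫ ι = h' ≫ ι := hM.hom_ext _ _ fun i => by simpa using e i
    exact Over.OverMorphism.ext ((cancel_mono O.ι).1 (congrArg (fun f => f.left) e'))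
  · have : Etale (π i).left := hM.etale i
    exact inferInstanceAs (Etale (ι.left ≫ (π i).left))

end Groth.Agent.AlgSpDec.DistTuples
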