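import Groth.Agent.AlgSpDec.ElemDistInduction
import Groth.Agent.AlgSpDec.Fibres
import Groth.Agent.AlgSpDec.LqfQuot

/-!
# Enlarging an open subspace by an affine elementary distinguished square
-/

set_option autoImplicit false
set_option backward.isDefEq.respectTransparency false
set_option backward.isDefEq.respectTransparency.types false

universe u

open CategoryTheory CategoryTheory.Limits AlgebraicGeometry AlgSp Topology TopologicalSpace
  Groth.Agent.AlgSpLib Groth.Agent.AlgSpPts Groth.Agent.AlgSpDec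

namespace Groth.Agent.AlgSpDec.Neat

variable {S : Scheme.{u}}

theorem range_yon_map_comp {F : Sp S} {U V : Over S} (i : U ⟶ V) (φ : (yon S).obj V ⟶ F)
    (u : Points ((yon S).obj U)) :
    Points.map ((yon S).map i ≫ φ) u = Points.ofPt φ (i.left ((Points.schemeHomeo U).symm u)) := by
  obtain ⟨z, rfl⟩ := (Points.schemeHomeo U).surjective u
  rw [Homeomorph.symm_apply_apply]
  exact (Points.ofPt_eq_map_ofScheme _ _).symm.trans (ofPt_comp i φ z)

/-- In a quasi-compact locally Noetherian space every open set is compact. -/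
theorem isCompact_of_isOpen {X : Sp S} (hqc : IsQuasiCompactSp X) (hN : IsLocNoethSp X)
    {O : Set (Points X)} : IsCompact O := by
  obtain ⟨U, a, hU, ha, has⟩ := exists_affine_atlas hqc
  haveI := hU
  haveI := isLocallyNoetherian_chart ha hN
  haveI : IsNoetherian U.left := ⟨⟩
  rw [← Set.image_preimage_eq O (surjective_ofPt has)]
  exact (TopologicalSpace.NoetherianSpace.isCompact _).image (Points.continuous_ofPt a)

theorem exists_enlarge [QuasiSeparatedSpace ↥S] {X U : Space S}
    (hqc : IsQuasiCompactSp X.obj) (hqs : IsQuasiSeparatedSp X.obj) (hN : IsLocNoethSp X.obj)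
    (j : U ⟶ X) (hj : RepWith @IsOpenImmersion j.hom)
    (hne : Set.range (Points.map j.hom) ≠ Set.univ) :
    ∃ (V : Over S) (_ : IsAffine V.left) (W : Space S) (jW : W ⟶ X) (jU : U ⟶ W)
      (φ : (ofScheme S).obj V ⟶ W) (P : Space S) (p : P ⟶ U) (q : P ⟶ (ofScheme S).obj V),
      RepWith @Etale (φ ≫ jW).hom ∧ RepWith @IsOpenImmersion jW.hom ∧ jU ≫ jW = j ∧
        Set.range (Points.map jW.hom) =
          Set.range (Points.map j.hom) ∪ Set.range (Points.map (φ ≫ jW).hom) ∧
        Set.range (Points.map jW.hom) ≠ Set.range (Points.map j.hom) ∧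
        IsElemDistSq jU.hom φ.hom ∧ IsPullback p.hom q.hom jU.hom φ.hom ∧ IsDominantMor p.hom := by
  have hO := isOpen_range_openImm X.property hj
  have hOc : IsCompact (Set.range (Points.map j.hom)) := isCompact_of_isOpen hqc hN
  obtain ⟨V₁, φ₁, hV₁, hφ₁, hn, hgt⟩ : ∃ (V₁ : Over S) (φ₁ : (yon S).obj V₁ ⟶ X.obj),
      IsAffine V₁.left ∧ RepWith @Etale φ₁ ∧
      NeatOn φ₁ (Set.range (Points.map φ₁) \ Set.range (Points.map j.hom)) ∧
      ¬ Set.range (Points.map φ₁) ⊆ Set.range (Points.map j.hom) := by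
    have h := induction_open X hqc hqs (fun O => O = Set.range (Points.map j.hom) ∨
      ∃ (V₁ : Over S) (φ₁ : (yon S).obj V₁ ⟶ X.obj), IsAffine V₁.left ∧ RepWith @Etale φ₁ ∧
        NeatOn φ₁ (Set.range (Points.map φ₁) \ Set.range (Points.map j.hom)) ∧
        ¬ Set.range (Points.map φ₁) ⊆ Set.range (Points.map j.hom)) _ hO hOc (Or.inl rfl)
      (fun O V φ hV _ _ _ hφ hn hQ => ?_)
    · exact h.resolve_left fun h => hne h.symm
    · rcases hQ with rfl | h
      · by_cases hs : Set.range (Points.map φ) ⊆ Set.range (Points.map j.hom)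
        · exact Or.inl (Set.union_eq_left.2 hs)
        · exact Or.inr ⟨V, φ, hV, hφ, hn, hs⟩
      · exact Or.inr h
  obtain ⟨V₀, a₀, hV₀, ha₀, has₀⟩ := exists_affine_atlas (compactSpace_of_range hj hOc)
  haveI := hV₁
  haveI := hV₀
  let T : ULift.{u} Bool → Over S := fun b => if b.down then V₁ else V₀
  let i₁ : V₁ ⟶ sigmaOver T := sigmaι T ⟨true⟩
  let i₀ : V₀ ⟶ sigmaOver T := sigmaι T ⟨false⟩
  have hi₁ : IsOpenImmersion i₁.left := inferInstanceAs (IsOpenImmersion (sigmaι T ⟨true⟩).left)
  let comps : ∀ b, (yon S).obj (T b) ⟶ X.obj := fun b => match b with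
    | ⟨true⟩ => φ₁
    | ⟨false⟩ => a₀ ≫ j.hom
  obtain ⟨φ, hφc⟩ := exists_hom_sigma T comps
  have hφ₁' : (yon S).map i₁ ≫ φ = φ₁ := hφc ⟨true⟩
  have hφ₀' : (yon S).map i₀ ≫ φ = a₀ ≫ j.hom := hφc ⟨false⟩
  have hφe : RepWith @Etale φ := repWith_etale_sigma (representable_from_yon' X.property φ) fun b => by
    rw [hφc b]
    obtain ⟨⟨⟩⟩ := b
    · exact repWith_comp ha₀ (BiratSp.repWith_etale hj)
    · exact hφ₁
  haveI hTaff : ∀ b, IsAffine (T b).left := fun b => by
    obtain ⟨⟨⟩⟩ := b
    · exact hV₀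
    · exact hV₁
  haveI hVaff : IsAffine (sigmaOver T).left := inferInstanceAs (IsAffine (∐ fun b => (T b).left))
  have hpt : ∀ p, (∃ v, Points.map ((yon S).map i₁ ≫ φ) v = Points.map φ p) ∨
      Points.map φ p ∈ Set.range (Points.map j.hom) := fun p => by
    obtain ⟨w, rfl⟩ := (Points.schemeHomeo (sigmaOver T)).surjective p
    obtain ⟨⟨_ | _⟩, v, rfl⟩ := exists_sigmaι T w
    · refine Or.inr ⟨Points.map a₀ (Points.schemeHomeo V₀ v), ?_⟩
      rw [← Points.map_comp, ← hφ₀', range_yon_map_comp, Homeomorph.symm_apply_apply]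
      exact Points.ofPt_eq_map_ofScheme φ _
    · refine Or.inl ⟨Points.schemeHomeo V₁ v, ?_⟩
      rw [range_yon_map_comp, Homeomorph.symm_apply_apply]
      exact Points.ofPt_eq_map_ofScheme φ _
  -- neatness of the enlarged neighbourhood
  have hn' : NeatOn φ (Set.range (Points.map φ) \ Set.range (Points.map j.hom)) := by
    intro Z t hZ ht
    have ht' : Set.range (Points.map t) ⊆ Set.range (Points.map φ₁) \ Set.range (Points.map j.hom) := by
      intro x hx
      obtain ⟨⟨p, rfl⟩, hxn⟩ := ht hx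
      rcases hpt p with ⟨v, hv⟩ | h
      · exact ⟨⟨v, hφ₁' ▸ hv⟩, hxn⟩
      · exact absurd h hxn
    have := hn Z t hZ ht'
    let l : pullback t φ₁ ⟶ pullback t φ :=
      pullback.lift (pullback.fst t φ₁) (pullback.snd t φ₁ ≫ (yon S).map i₁) (by
        rw [pullback.condition, Category.assoc, hφ₁'])
    have sq : IsPullback (pullback.snd t φ₁) l ((yon S).map i₁) (pullback.snd t φ) := by
      refine IsPullback.of_bot ?_ (pullback.lift_snd _ _ _).symm (IsPullback.of_hasPullback t φ).flip
      rw [pullback.lift_fst, hφ₁']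
      exact (IsPullback.of_hasPullback t φ₁).flip
    have hsurj : IsIso l := by
      refine isIso_of_openImm_surjective (isAlgSpace_pullback Z.property (IsAlgSpace.yon_obj _) X.property t φ)
        (repWith_of_isPullback sq ((repWith_yon_map_iff @IsOpenImmersion i₁).2 hi₁)) fun p => ?_
      obtain ⟨w, hw⟩ := (Points.schemeHomeo (sigmaOver T)).surjective (Points.map (pullback.snd t φ) p)
      obtain ⟨⟨_ | _⟩, v, rfl⟩ := exists_sigmaι T w
      · refine absurd ⟨Points.map a₀ (Points.schemeHomeo V₀ v), ?_⟩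
          (ht ⟨Points.map (pullback.fst t φ) p, rfl⟩).2
        rw [← Points.map_comp (pullback.fst t φ), pullback.condition, Points.map_comp, ← hw,
          ← Points.map_comp, ← hφ₀', range_yon_map_comp, Homeomorph.symm_apply_apply]
        exact Points.ofPt_eq_map_ofScheme φ _
      · obtain ⟨z, -, hz⟩ := exists_point_of_isPullback sq (x := Points.schemeHomeo V₁ v) (y := p)
          ((Points.map_yon_map_apply _ _).trans hw)
        exact ⟨z, hz⟩
    rw [show pullback.fst t φ = inv l ≫ pullback.fst t φ₁ from by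
      rw [IsIso.eq_inv_comp, pullback.lift_fst]]
    infer_instance
  have hφo : IsOpen (Set.range (Points.map φ)) :=
    (isOpenMap_map (repWith_mono
      (fun _ _ e (_ : Etale e) => inferInstanceAs (UniversallyOpen e)) _ hφe)).isOpen_range
  obtain ⟨W, jW, hjW, hrW⟩ := exists_open X (hO.union hφo)
  obtain ⟨jU, f, hjU, hf, hfe, hsq⟩ := exists_square X hφe hn' hj hjW rfl hrW
  have hfφ : (f ≫ jW).hom = φ := hf
  let P : Space S := ⟨pullback jU.hom f.hom,
    isAlgSpace_pullback U.property (IsAlgSpace.yon_obj _) W.property jU.hom f.hom⟩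
  refine ⟨sigmaOver T, hVaff, W, jW, jU, f, P, ObjectProperty.homMk (pullback.fst jU.hom f.hom),
    ObjectProperty.homMk (pullback.snd jU.hom f.hom), hfφ.symm ▸ hφe, hjW, hjU, by rw [hrW, hfφ], ?_,
    hsq, IsPullback.of_hasPullback jU.hom f.hom, ?_⟩
  · intro he
    refine hgt fun x hx => ?_
    rw [← he, hrW]
    obtain ⟨v, rfl⟩ := hx
    refine Or.inr ⟨Points.map ((yon S).map i₁) v, ?_⟩
    rw [← Points.map_comp, hφ₁']
  · refine Function.Surjective.denseRange fun u => ?_
    obtain ⟨v, rfl⟩ := surjective_map_of_repWith has₀ u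
    have hm : Mono jW.hom := mono_of_openImm hjW
    obtain ⟨z, hz, -⟩ := exists_point_of_isPullback (IsPullback.of_hasPullback jU.hom f.hom)
      (x := Points.map a₀ v) (y := Points.map ((yon S).map i₀) v)
      (injective_points_map_of_mono jW.hom (by
        rw [← Points.map_comp, ← Points.map_comp, ← Points.map_comp, ← Points.map_comp]
        congr 1
        rw [show f.hom ≫ jW.hom = φ from hf, hφ₀',
          show jU.hom ≫ jW.hom = j.hom from congrArg (fun m => m.hom) hjU]))
    exact ⟨z, hz⟩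

end Groth.Agent.AlgSpDec.Neat
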