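import Groth.Agent.AlgSpDec.DistQuot
import Groth.Agent.AlgSpDec.MonoTfae
import Groth.Agent.AlgSpDec.LimDescent
import Groth.Agent.AlgSpDec.RedInduced
import Groth.Agent.AlgSpDec.AffineProps
import Groth.Agent.AlgSpLib.LargestOpen
import Groth.Agent.AlgSpPts.Geom
import Groth.Agent.MorLib.WeightBdd
import Groth.Agent.AlgSpDec.LimOpen
import Groth.Agent.AlgSpPts.SepDescent

/-! The stratification of a quasi-compact algebraic space by schemes. -/

set_option autoImplicit false
set_option backward.isDefEq.respectTransparency false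
set_option backward.isDefEq.respectTransparency.types false

open CategoryTheory Limits Opposite AlgebraicGeometry MorphismProperty AlgSp Groth.Agent.AlgSpLib
  Groth.Agent.AlgSpPts

namespace Groth.Agent.AlgSpDec.Stratify

universe u

open DistTuples

variable {S : Scheme.{u}}

theorem exists_closure_pt {T : Over S} (K : Type u) [Field K] {str : Spec (CommRingCat.of K) ⟶ S} (x : Over.mk str ⟶ T) :
    ∃ (Ω : Type u) (_ : Field Ω) (_ : IsAlgClosed Ω) (str' : Spec (CommRingCat.of Ω) ⟶ S) (y : Over.mk str' ⟶ Over.mk str),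
      (y ≫ x).left (IsLocalRing.closedPoint Ω) = x.left (IsLocalRing.closedPoint K) := by
  refine ⟨AlgebraicClosure K, inferInstance, inferInstance,
    Spec.map (CommRingCat.ofHom (algebraMap K (AlgebraicClosure K))) ≫ str,
    Over.homMk (Spec.map (CommRingCat.ofHom (algebraMap K (AlgebraicClosure K)))) rfl, ?_⟩
  rw [Over.comp_left, Scheme.Hom.comp_apply]
  exact congrArg x.left (Subsingleton.elim (α := PrimeSpectrum K) _ _)

variable {X : Sp S} {U : Over S} {a : (yon S).obj U ⟶ X}

/-- A bound for the number of distinct lifts of geometric points of a scheme with quasi-compact chart pullback. -/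
theorem exists_bound (ha : RepWith @Etale a) {T : Over S} (g : (yon S).obj T ⟶ X)
    [CompactSpace ↥(ha.rep.pullback g).left] :
    ∃ N : ℕ, ∀ {K : Type u} [Field K] [IsAlgClosed K] {str : Spec (CommRingCat.of K) ⟶ S} (t : Over.mk str ⟶ T)
      {m : ℕ} (h : Fin m → (Over.mk str ⟶ U)), Function.Injective h →
      (∀ i, (yon S).map (h i) ≫ a = (yon S).map t ≫ g) → m ≤ N := by
  have : Etale (ha.rep.snd g).left := ha.property_snd g
  haveI := AlgSpLib.locallyQuasiFinite_of_formallyUnramified (ha.rep.snd g).left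
  obtain ⟨N, hN⟩ := MorLib.GP.exists_cardLE (ha.rep.snd g).left
  refine ⟨N, fun {K} _ _ {str} t {m} h hinj hh => ?_⟩
  obtain ⟨hfin, hcard⟩ := MorLib.WT.finite_card_lifts (ha.rep.snd g).left hN t.left
  choose l hl₁ hl₂ using fun i => (ha.rep.isPullback' g).exists_lift ((yon S).map (h i)) ((yon S).map t) (hh i)
  choose l' hl' using fun i => (yon S).map_surjective (l i)
  have e₂ : ∀ i, l' i ≫ ha.rep.snd g = t := fun i => (yon S).map_injective (by rw [Functor.map_comp, hl', hl₂])
  have e₁ : ∀ i, l' i ≫ ha.rep.fst' g = h i := fun i => (yon S).map_injective (by rw [Functor.map_comp, hl', hl₁])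
  haveI := hfin
  refine le_trans ?_ hcard
  rw [← Nat.card_fin m]
  refine Nat.card_le_card_of_injective (fun i => ⟨(l' i).left, congrArg (fun f => f.left) (e₂ i)⟩) fun i j e => hinj ?_
  rw [← e₁ i, ← e₁ j, show l' i = l' j from Over.OverMorphism.ext (congrArg Subtype.val e)]

variable {W : ℕ → Over S} (π : ∀ n, Fin (n + 1) → (W n ⟶ U))

/-- The set of points with at least `n + 1` distinct geometric lifts. -/
def img (a : (yon S).obj U ⟶ X) (n : ℕ) : Set (Points X) := Set.range (Points.ofPt ((yon S).map (π n 0) ≫ a))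

/-- The open sets of the stratification. -/
def lvl (a : (yon S).obj U ⟶ X) : ℕ → Set (Points X)
  | 0 => Set.univ
  | n + 1 => img π a n

variable {π} (hw : ∀ n i j, (yon S).map (π n i) ≫ a = (yon S).map (π n j) ≫ a)
  (hlift : ∀ n {T : Over S} (g : Fin (n + 1) → (T ⟶ U)), (∀ i j, (yon S).map (g i) ≫ a = (yon S).map (g j) ≫ a) →
    IsDist g → ∃ h : T ⟶ W n, ∀ i, h ≫ π n i = g i)
  (hd : ∀ n, IsDist (π n))

include hlift in
theorem mem_img {n : ℕ} {K : Type u} [Field K] {str : Spec (CommRingCat.of K) ⟶ S}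
    (g : Fin (n + 1) → (Over.mk str ⟶ U)) (hinj : Function.Injective g)
    (hg : ∀ i j, (yon S).map (g i) ≫ a = (yon S).map (g j) ≫ a) :
    Points.ofPt ((yon S).map (g 0) ≫ a) (IsLocalRing.closedPoint K) ∈ img π a n := by
  obtain ⟨h, hh⟩ := hlift n g hg (isDist_of_injective hinj)
  refine ⟨h.left (IsLocalRing.closedPoint K), ?_⟩
  rw [← ofPt_comp, ← Functor.map_comp_assoc, hh]

include hw hlift hd in
theorem img_succ_subset (n : ℕ) : img π a (n + 1) ⊆ img π a n := by
  rintro _ ⟨w, rfl⟩
  have hinj : Function.Injective fun i : Fin (n + 1) => ptHom w ≫ π (n + 1) (Fin.castSucc i) :=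
    (hd (n + 1) w).comp (Fin.castSucc_injective _)
  have := mem_img hlift _ hinj fun i j => by simp [hw (n + 1) (Fin.castSucc i) (Fin.castSucc j)]
  rw [Functor.map_comp, Category.assoc, ofPt_comp, Fin.castSucc_zero] at this
  convert this using 2
  exact (Scheme.fromSpecResidueField_apply _ _).symm

include hlift in
theorem img_zero (has : RepWith @Surjective a) : img π a 0 = Set.univ := by
  refine Set.eq_univ_of_forall fun x => ?_
  obtain ⟨u, rfl⟩ := surjective_ofPt has x
  obtain ⟨h, hh⟩ := hlift 0 (fun _ => 𝟙 U) (fun _ _ => rfl) (fun z i j _ => Subsingleton.elim (α := Fin 1) _ _)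
  refine ⟨h.left u, ?_⟩
  rw [← ofPt_comp, ← Functor.map_comp_assoc, hh, CategoryTheory.Functor.map_id, Category.id_comp]

include hw hd in
theorem img_eq_empty (ha : RepWith @Etale a) [CompactSpace ↥(ha.rep.pullback a).left] :
    ∃ N, img π a N = ∅ := by
  obtain ⟨N, hN⟩ := exists_bound ha a
  refine ⟨N, Set.eq_empty_of_forall_notMem ?_⟩
  rintro _ ⟨w, rfl⟩
  obtain ⟨Ω, _, _, str', y, -⟩ := exists_closure_pt ((W N).left.residueField w) (ptHom w)
  have := hN (y ≫ ptHom w ≫ π N 0) _
    (injective_comp_of_isDist (g := π N) (y ≫ ptHom w) (hd N _)) fun i => by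
    simp only [Functor.map_comp, Category.assoc]
    rw [hw N i 0]
  omega

include hw hd in
theorem exists_notMem_img (ha : RepWith @Etale a) (het : ∀ n, Etale (π n 0).left) (hX : IsAlgSpace X)
    (p : FieldPt X) (hp : RepWith @QuasiCompact p.toHom) [IsAffine U.left] :
    ∃ N, Points.mk p ∉ img π a N := by
  haveI : QuasiCompact (ha.rep.fst' p.toHom).left := hp.property _ _ _ (ha.rep.isPullback' p.toHom).flip
  haveI : CompactSpace ↥(ha.rep.pullback p.toHom).left :=
    QuasiCompact.compactSpace_of_compactSpace (ha.rep.fst' p.toHom).left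
  obtain ⟨N, hN⟩ := exists_bound ha p.toHom
  refine ⟨N, fun ⟨w, hw'⟩ => ?_⟩
  obtain ⟨Ω, _, _, str', y, -⟩ := exists_closure_pt p.K (𝟙 p.pt)
  have hc : RepWith @Etale ((yon S).map (π N 0) ≫ a) := repWith_comp ((repWith_yon_map_iff _ _).2 (het N)) ha
  obtain ⟨l, hl, -⟩ := exists_lift_geometric (IsAlgSpace.yon_obj (W N)) hX (locP_of_repWith hc)
    ((yon S).map y ≫ p.toHom) (u := Points.ofScheme (W N) w) (by
      rw [← Points.ofPt_eq_map_ofScheme, hw', ofPt_comp, Points.ofPt_toHom])
  obtain ⟨l', rfl⟩ := (yon S).map_surjective l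
  have := hN y _ (injective_comp_of_isDist (g := π N) l' (hd N _)) fun i => by
    rw [Functor.map_comp, Category.assoc, hw N i 0, hl]
  omega

include hw hlift hd in
/-- Two tuples of distinct lifts of a point outside the next level agree up to order. -/
theorem exists_perm {n : ℕ} {K : Type u} [Field K] {str : Spec (CommRingCat.of K) ⟶ S} (w₁ w₂ : Over.mk str ⟶ W n)
    (he : (yon S).map (w₁ ≫ π n 0) ≫ a = (yon S).map (w₂ ≫ π n 0) ≫ a)
    (hx : Points.ofPt ((yon S).map (w₁ ≫ π n 0) ≫ a) (IsLocalRing.closedPoint K) ∉ img π a (n + 1)) :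
    ∃ σ : Equiv.Perm (Fin (n + 1)), ∀ i, w₂ ≫ π n i = w₁ ≫ π n (σ i) := by
  classical
  have h₁ := injective_comp_of_isDist (g := π n) w₁ (hd n _)
  have h₂ := injective_comp_of_isDist (g := π n) w₂ (hd n _)
  have key : ∀ i, ∃ j, w₂ ≫ π n i = w₁ ≫ π n j := by
    by_contra hne
    push Not at hne
    obtain ⟨i, hi⟩ := hne
    let g : Fin (n + 2) → (Over.mk str ⟶ U) := Fin.snoc (fun j => w₁ ≫ π n j) (w₂ ≫ π n i)
    have hginj : Function.Injective g := Fin.snoc_injective_iff.2 ⟨h₁, fun ⟨j, hj⟩ => hi j hj.symm⟩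
    have hsame : ∀ k, (yon S).map (g k) ≫ a = (yon S).map (w₁ ≫ π n 0) ≫ a := by
      intro k
      induction k using Fin.lastCases with
      | last =>
        rw [show g (Fin.last _) = w₂ ≫ π n i from Fin.snoc_last .., he, Functor.map_comp, Functor.map_comp,
          Category.assoc, Category.assoc, hw n i 0]
      | cast j =>
        rw [show g (Fin.castSucc j) = w₁ ≫ π n j from Fin.snoc_castSucc .., Functor.map_comp, Functor.map_comp,
          Category.assoc, Category.assoc, hw n j 0]
    refine hx ?_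
    rw [← hsame 0]
    exact mem_img hlift g hginj fun i j => (hsame i).trans (hsame j).symm
  choose σ hσ using key
  have hσi : Function.Injective σ := fun i j e => h₂ (by
    change w₂ ≫ π n i = w₂ ≫ π n j
    rw [hσ i, hσ j, e])
  exact ⟨Equiv.ofBijective σ (Finite.injective_iff_bijective.1 hσi), hσ⟩

end Groth.Agent.AlgSpDec.Stratify

namespace Groth.Agent.AlgSpDec.Stratify

universe u

open DistTuples

variable {S : Scheme.{u}}

theorem isIso_of_openImmersion_range {F G : Sp S} (hF : IsAlgSpace F) (hG : IsAlgSpace G) {j : F ⟶ G}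
    (hj : RepWith @IsOpenImmersion j) (h : Set.range (Points.map j) = Set.univ) : IsIso j := by
  obtain ⟨g, hg⟩ := exists_lift_openImmersion hG hF hG hj (𝟙 G) (by rw [h]; exact Set.subset_univ _)
  have : Mono j := mono_of_openImmersion hj
  have : IsSplitEpi j := ⟨⟨⟨g, hg⟩⟩⟩
  exact isIso_of_mono_of_isSplitEpi j

/-- The stratification by the number of geometric lifts along an affine etale chart. -/
theorem exists_stratification (X : Space S) (hX : IsQuasiCompactSp X.obj) :
    ∃ (Uo : ℕ → Space S) (j : ∀ p, Uo p ⟶ X) (k : ∀ p, Uo (p + 1) ⟶ Uo p)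
      (T : ℕ → Space S) (i : ∀ p, T p ⟶ Uo p),
      (∀ p, RepWith @IsOpenImmersion (j p).hom) ∧ (∀ p, k p ≫ j p = j (p + 1)) ∧ IsIso (j 1) ∧
      (∀ p, IsRedInduced (Set.range (Points.map (k p).hom))ᶜ (i p).hom) ∧
      (∀ p, 1 ≤ p → ∃ (V : Over S) (f : (yon S).obj V ⟶ (Uo p).obj), V.left.IsSeparated ∧
        (QuasiSeparatedSpace ↥S → IsQuasiSeparatedSp X.obj → CompactSpace ↥V.left) ∧
        RepWith @Etale f ∧ RepWith @Surjective f ∧
        ∀ (P : Sp S) (fst : P ⟶ (T p).obj) (snd : P ⟶ (yon S).obj V),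
          IsPullback fst snd (i p).hom f → IsIso fst) ∧
      (∀ x : Points X.obj, (∃ q : FieldPt X.obj, Points.mk q = x ∧ RepWith @QuasiCompact q.toHom) →
        ∃ p, 1 ≤ p ∧ x ∈ Set.range (Points.map ((i p) ≫ (j p)).hom)) ∧
      (QuasiSeparatedSpace ↥S → IsQuasiSeparatedSp X.obj → ∃ n, IsEmpty (Points (Uo (n + 1)).obj)) := by
  obtain ⟨U, a, hU, ha, has⟩ := exists_affine_atlas hX
  haveI := hU
  choose W π hw hlift hext het hsep hqc hd using
    fun n => exists_distinct ha (isSeparated_snd_of_isAffine ha) n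
  have hc : ∀ n, RepWith @Etale ((yon S).map (π n 0) ≫ a) :=
    fun n => repWith_comp ((repWith_yon_map_iff _ _).2 (het n 0)) ha
  have hopen : ∀ p, IsOpen (lvl π a p)
    | 0 => isOpen_univ
    | n + 1 => by
      show IsOpen (img π a n)
      rw [img, ← Set.image_univ]
      exact isOpenMap_ofPt (hc n) _ isOpen_univ
  have hsub : ∀ p, lvl π a (p + 1) ⊆ lvl π a p
    | 0 => Set.subset_univ _
    | n + 1 => img_succ_subset hw hlift hd n
  choose Us js hUs hjs hrs using fun p => exists_open_subspace X.property (hopen p)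
  let Uo : ℕ → Space S := fun p => ⟨Us p, hUs p⟩
  choose ks hks using fun p => exists_lift_openImmersion (hUs (p + 1)) (hUs p) X.property (hjs p) (js (p + 1))
    (by rw [hrs, hrs]; exact hsub p)
  have hinj : ∀ p, Function.Injective (Points.map (js p)) := fun p => by
    haveI : Mono (js p) := mono_of_openImmersion (hjs p)
    exact injective_points_map_of_mono _
  have hrk : ∀ p, Set.range (Points.map (ks p)) = Points.map (js p) ⁻¹' lvl π a (p + 1) := fun p => by
    ext z
    constructor
    · rintro ⟨y, rfl⟩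
      show Points.map (js p) (Points.map (ks p) y) ∈ lvl π a (p + 1)
      rw [← Points.map_comp, hks, ← hrs]
      exact ⟨y, rfl⟩
    · intro hz
      obtain ⟨y, hy⟩ := (hrs (p + 1)).symm.subset hz
      exact ⟨y, hinj p (by rw [← Points.map_comp, hks, hy])⟩
  have hcl : ∀ p, IsClosed (Set.range (Points.map (ks p)))ᶜ := fun p => by
    rw [hrk, isClosed_compl_iff]
    exact (hopen _).preimage (Points.continuous_map _)
  choose T i hi using fun p => exists_reduced_induced (hUs p) (hcl p)
  refine ⟨Uo, fun p => ObjectProperty.homMk (js p), fun p => ObjectProperty.homMk (ks p), T,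
    fun p => ObjectProperty.homMk (i p), hjs, fun p => ObjectProperty.hom_ext _ (hks p), ?_, hi, ?_, ?_, ?_⟩
  · have h1 : Set.range (Points.map (js 1)) = Set.univ := by rw [hrs]; exact img_zero hlift has
    haveI := isIso_of_openImmersion_range (hUs 1) X.property (hjs 1) h1
    exact ⟨⟨ObjectProperty.homMk (inv (js 1)), ObjectProperty.hom_ext _ (IsIso.hom_inv_id (js 1)),
      ObjectProperty.hom_ext _ (IsIso.inv_hom_id (js 1))⟩⟩
  · intro p hp
    obtain ⟨n, rfl⟩ : ∃ n, p = n + 1 := ⟨p - 1, by omega⟩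
    obtain ⟨V, v, q, hVs, hVc, hve, hqe, hqs, hqv, hperm⟩ := exists_unordered X.property ha (hw n) (hlift n)
      (hext n) (het n) (hsep n) (hqc n) (hd n)
    have hrv : Set.range (Points.ofPt v) = img π a n := by
      ext x
      constructor
      · rintro ⟨y, rfl⟩
        obtain ⟨w, rfl⟩ := hqs.surj y
        exact ⟨w, by rw [← hqv, ofPt_comp]⟩
      · rintro ⟨w, rfl⟩
        exact ⟨q.left w, by rw [← hqv, ofPt_comp]⟩
    obtain ⟨f, hf⟩ := exists_factor_open (hjs (n + 1)) v fun y => by
      rw [hrs]; exact hrv.subset ⟨y, rfl⟩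
    haveI : Mono (js (n + 1)) := mono_of_openImmersion (hjs _)
    haveI := isIso_diagonal_of_mono (js (n + 1))
    have hfe : RepWith @Etale f := repWith_of_postcomp (repWith_of_isIso _ _) (by rw [hf]; exact hve)
    have hfs : RepWith @Surjective f := repWith_surjective_of_surjective hfe.rep fun z => by
      obtain ⟨y, hy⟩ := hrv.symm.subset ((hrs (n + 1)).subset ⟨z, rfl⟩)
      refine ⟨Points.ofScheme V y, hinj (n + 1) ?_⟩
      rw [← Points.map_comp, hf, ← Points.ofPt_eq_map_ofScheme, hy]
    refine ⟨V, f, hVs, fun hS hqsX => hVc ?_, hfe, hfs, fun P fst snd sq₀ => ?_⟩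
    · haveI := hS
      exact repWith_quasiCompact ha.rep (isQuasiCompactMor_of_qc_qs (IsAlgSpace.yon_obj U) X.property
        ⟨U, 𝟙 _, repWith_of_isIso _ _, repWith_of_isIso _ _, inferInstance⟩ hqsX a)
    have sq : IsPullback fst snd (i (n + 1)) f := sq₀
    have hP : IsAlgSpace P := isAlgSpace_of_isPullback sq (T (n + 1)).property (IsAlgSpace.yon_obj V) (hUs _)
    have he : RepWith @Etale fst := repWith_of_isPullback sq.flip hfe
    have hlu : LocP (@LocallyOfFiniteType ⊓ @FormallyUnramified) fst :=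
      locP_of_repWith (repWith_mono (fun _ _ g (_ : Etale g) =>
        ⟨(inferInstance : LocallyOfFiniteType g), (inferInstance : FormallyUnramified g)⟩) _ he)
    obtain ⟨h1, h2⟩ := (locP_lft_unramified_iff hP (T (n + 1)).property fst).1 hlu
    have hsur : Function.Surjective (Points.map fst) := by
      intro t
      obtain ⟨y, hy⟩ := surjective_map_of_repWith hfs (Points.map (i (n + 1)) t)
      obtain ⟨z, hz, -⟩ := exists_point_of_isPullback sq (x := t) (y := y) hy.symm
      exact ⟨z, hz⟩
    haveI : Mono fst := by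
      refine mono_of_diagonal hP (T (n + 1)).property fst (isEtaleMor_diagonal hP (T (n + 1)).property fst h1 h2)
        fun ζ => ?_
      induction ζ using Points.ind with
      | h r =>
      obtain ⟨Ω, _, _, str', y, -⟩ := exists_closure_pt r.K (𝟙 r.pt)
      obtain ⟨g, hgdef⟩ : ∃ g, g = (yon S).map y ≫ r.toHom := ⟨_, rfl⟩
      have hg : Points.ofPt g (IsLocalRing.closedPoint Ω) = Points.mk r := by
        rw [hgdef, ofPt_comp, Points.ofPt_toHom]
      obtain ⟨v₁, hv₁⟩ := (yon S).map_surjective (g ≫ pullback.fst fst fst ≫ snd)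
      obtain ⟨v₂, hv₂⟩ := (yon S).map_surjective (g ≫ pullback.snd fst fst ≫ snd)
      have hlift' : ∀ v' : Over.mk str' ⟶ V, ∃ w : Over.mk str' ⟶ W n, w ≫ q = v' := fun v' => by
        haveI := hqe
        obtain ⟨w₀, hw₀⟩ := hqs.surj (v'.left (IsLocalRing.closedPoint Ω))
        obtain ⟨l, hl, -⟩ := Scheme.exists_fac_of_etale_of_isSepClosed q.left v'.left w₀
          (hw₀.trans (congrArg v'.left (Subsingleton.elim (α := PrimeSpectrum Ω) _ _)))
        exact ⟨Over.homMk l (by rw [← CategoryTheory.Over.w q, ← Category.assoc, hl]; exact CategoryTheory.Over.w v'),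
          Over.OverMorphism.ext hl⟩
      obtain ⟨w₁, hw₁⟩ := hlift' v₁
      obtain ⟨w₂, hw₂⟩ := hlift' v₂
      have hX₁ : (yon S).map (w₁ ≫ π n 0) ≫ a = g ≫ pullback.fst fst fst ≫ fst ≫ i (n + 1) ≫ js (n + 1) := by
        rw [Functor.map_comp, Category.assoc, ← hqv, ← Functor.map_comp_assoc, hw₁, hv₁]
        simp only [Category.assoc]
        rw [← hf, reassoc_of% sq.w]
      have hX₂ : (yon S).map (w₂ ≫ π n 0) ≫ a = g ≫ pullback.fst fst fst ≫ fst ≫ i (n + 1) ≫ js (n + 1) := by
        rw [Functor.map_comp, Category.assoc, ← hqv, ← Functor.map_comp_assoc, hw₂, hv₂]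
        simp only [Category.assoc]
        rw [← hf, ← reassoc_of% sq.w, pullback.condition_assoc]
      obtain ⟨σ, hσ⟩ := exists_perm hw hlift hd w₁ w₂ (hX₁.trans hX₂.symm) fun hmem => by
        rw [hX₁] at hmem
        have : Points.map (i (n + 1)) (Points.ofPt (g ≫ pullback.fst fst fst ≫ fst) (IsLocalRing.closedPoint Ω)) ∈
            Set.range (Points.map (ks (n + 1))) := by
          rw [hrk, Set.mem_preimage, ← Points.map_comp, Points.map_ofPt]
          simpa only [lvl, Category.assoc] using hmem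
        exact ((hi (n + 1)).2.1.subset ⟨_, rfl⟩) this
      have hv12 : v₁ = v₂ := by rw [← hw₁, ← hw₂]; exact hperm w₁ w₂ σ hσ
      have heq : g ≫ pullback.fst fst fst = g ≫ pullback.snd fst fst := by
        apply sq.hom_ext
        · rw [Category.assoc, Category.assoc, pullback.condition]
        · rw [Category.assoc, Category.assoc, ← hv₁, ← hv₂, hv12]
      have hg' : (g ≫ pullback.fst fst fst) ≫ pullback.diagonal fst = g := by
        apply pullback.hom_ext <;> simp [heq]
      refine ⟨Points.ofPt (g ≫ pullback.fst fst fst) (IsLocalRing.closedPoint Ω), ?_⟩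
      rw [Points.map_ofPt, hg', hg]
    exact isIso_of_mono_of_etale_surjective hP (T (n + 1)).property fst
      (locP_of_repWith he) hsur
  · rintro x ⟨r, rfl, hr⟩
    classical
    obtain ⟨N, hN⟩ := exists_notMem_img hw hd ha (fun n => het n 0) X.property r hr
    have hex : ∃ p, Points.mk r ∉ lvl π a (p + 1) := ⟨N, hN⟩
    let p := Nat.find hex
    have hp : Points.mk r ∉ lvl π a (p + 1) := Nat.find_spec hex
    have hp1 : 1 ≤ p := by
      by_contra hlt
      have h0 : p = 0 := by omega
      rw [h0] at hp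
      exact hp (by show _ ∈ img π a 0; rw [img_zero hlift has]; trivial)
    have hmem : Points.mk r ∈ lvl π a p := by
      have := Nat.find_min hex (m := p - 1) (by omega)
      rw [not_not, Nat.sub_add_cancel hp1] at this
      exact this
    obtain ⟨z, hz⟩ := (hrs p).symm.subset hmem
    obtain ⟨t, ht⟩ := (hi p).2.1.symm.subset (show z ∈ (Set.range (Points.map (ks p)))ᶜ by
      rw [hrk]; intro h; exact hp (hz ▸ h))
    exact ⟨p, hp1, t, (Points.map_comp _ _ _).trans ((congrArg _ ht).trans hz)⟩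
  · intro hS hqsX
    haveI := hS
    haveI hqa : RepWith @QuasiCompact a := repWith_quasiCompact ha.rep (isQuasiCompactMor_of_qc_qs (IsAlgSpace.yon_obj U) X.property
      ⟨U, 𝟙 _, repWith_of_isIso _ _, repWith_of_isIso _ _, inferInstance⟩ hqsX a)
    haveI : QuasiCompact (ha.rep.snd a).left := hqa.property_snd a
    haveI : CompactSpace ↥(ha.rep.pullback a).left := QuasiCompact.compactSpace_of_compactSpace (ha.rep.snd a).left
    obtain ⟨N, hN⟩ := img_eq_empty hw hd ha
    exact ⟨N, ⟨fun z => (hN.subset ((hrs (N + 1)).subset ⟨z, rfl⟩) : Points.map (js (N + 1)) z ∈ (∅ : Set _))⟩⟩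

end Groth.Agent.AlgSpDec.Stratify
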