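import Groth.Agent.AlgSpDec.RedInduced
import Groth.Agent.AlgSpDec.BiratSp2
import Groth.Agent.AlgStLib.ClosedSubReduced
import Groth.Agent.S10419
import Groth.Agent.AlgSpDec.PushoutChart

/-!
# Elementary distinguished squares inside a fixed space and induction along them
-/

set_option autoImplicit false
set_option backward.isDefEq.respectTransparency false
set_option backward.isDefEq.respectTransparency.types false

universe u

open CategoryTheory CategoryTheory.Limits AlgebraicGeometry AlgSp Topology TopologicalSpace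
  Groth.Agent.AlgSpLib Groth.Agent.AlgSpPts Groth.Agent.AlgSpDec

namespace Groth.Agent.AlgSpDec.Neat

variable {S : Scheme.{u}}

/-- A reduced space mapping into the points of a closed subspace factors through it. -/
theorem exists_factor_closed {P F G : Sp S} (hP : IsAlgSpace P) (hPr : IsReducedSp P) {i : F ⟶ G}
    (hi : RepWith @IsClosedImmersion i) (m : P ⟶ G)
    (h : ∀ p, Points.map m p ∈ Set.range (Points.map i)) : ∃ k, k ≫ i = m := by
  obtain ⟨U, a, ha, has, hU⟩ := hPr
  haveI : IsReduced U.left := hU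
  have hs : RepWith @IsClosedImmersion (pullback.snd i m) := repWith_snd m hi
  have : IsIso (pullback.snd i m) := by
    have := isLocallySurjective_of_etale_surjective ha has
    have sq := IsPullback.of_hasPullback (pullback.snd i m) a
    have : IsIso (pullback.snd (pullback.snd i m) a) :=
      AlgStLib.isIso_of_closedImm_surjective (repWith_of_isPullback sq hs) fun v => by
        obtain ⟨x, hx⟩ := h (Points.map a v)
        obtain ⟨z, -, hz⟩ := exists_point_of_isPullback (IsPullback.of_hasPullback i m) hx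
        obtain ⟨w, -, hw⟩ := exists_point_of_isPullback sq hz
        exact ⟨w, hw⟩
    exact isIso_of_isPullback_locallySurjective sq
  exact ⟨inv (pullback.snd i m) ≫ pullback.fst i m, by
    rw [Category.assoc, pullback.condition, IsIso.inv_hom_id_assoc]⟩

variable {X V : Sp S}

/-- `φ` is an isomorphism over every reduced space with points in `C`. -/
def NeatOn (φ : V ⟶ X) (C : Set (Points X)) : Prop :=
  ∀ (T : Space S) (t : T.obj ⟶ X), IsReducedSp T.obj → Set.range (Points.map t) ⊆ C →
    IsIso (pullback.fst t φ)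

theorem neatOn_of_openImm {φ : V ⟶ X} (hφ : RepWith @IsOpenImmersion φ)
    {C : Set (Points X)} (hC : C ⊆ Set.range (Points.map φ)) : NeatOn φ C := by
  intro T t _ ht
  refine isIso_of_openImm_surjective T.property (repWith_fst t hφ) fun p => ?_
  obtain ⟨v, hv⟩ := hC (ht ⟨p, rfl⟩)
  obtain ⟨z, hz, -⟩ := exists_point_of_isPullback (IsPullback.of_hasPullback t φ) hv.symm
  exact ⟨z, hz⟩

theorem NeatOn.restrict {φ : V ⟶ X} {C : Set (Points X)} (h : NeatOn φ C) {A : Sp S} {g : A ⟶ V}
    (hg : RepWith @IsOpenImmersion g) {C' : Set (Points X)} (hC : C' ⊆ C)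
    (hA : C' ⊆ Set.range (Points.map (g ≫ φ))) : NeatOn (g ≫ φ) C' := by
  intro T t hT ht
  have := h T t hT (ht.trans hC)
  let l : pullback t (g ≫ φ) ⟶ pullback t φ :=
    pullback.lift (pullback.fst t (g ≫ φ)) (pullback.snd t (g ≫ φ) ≫ g) (by
      rw [pullback.condition, Category.assoc])
  have sq : IsPullback (pullback.snd t (g ≫ φ)) l g (pullback.snd t φ) := by
    refine IsPullback.of_bot ?_ (pullback.lift_snd _ _ _).symm (IsPullback.of_hasPullback t φ).flip
    rw [pullback.lift_fst]
    exact (IsPullback.of_hasPullback t (g ≫ φ)).flip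
  have hl : RepWith @IsOpenImmersion (pullback.fst t (g ≫ φ)) := by
    rw [show pullback.fst t (g ≫ φ) = l ≫ pullback.fst t φ from (pullback.lift_fst _ _ _).symm]
    exact repWith_comp (repWith_of_isPullback sq hg) (repWith_of_isIso _ _)
  refine isIso_of_openImm_surjective T.property hl fun p => ?_
  obtain ⟨v, hv⟩ := hA (ht ⟨p, rfl⟩)
  obtain ⟨z, hz, -⟩ := exists_point_of_isPullback (IsPullback.of_hasPullback t (g ≫ φ)) hv.symm
  exact ⟨z, hz⟩

/-- From an elementary distinguished square on an open subspace. -/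
theorem neatOn_of_square {W T₀ : Sp S} {jW : W ⟶ X} (hjW : RepWith @IsOpenImmersion jW) {f : V ⟶ W}
    {i : T₀ ⟶ W} (hi : RepWith @IsClosedImmersion i)
    (hiso : ∀ (P : Sp S) (fst : P ⟶ T₀) (snd : P ⟶ V), IsPullback fst snd i f → IsIso fst) :
    NeatOn (f ≫ jW) (Points.map jW '' Set.range (Points.map i)) := by
  intro T t hT ht
  have := mono_of_openImm hjW
  obtain ⟨t₀, rfl⟩ := BiratSp.exists_factor_space T.property hjW t fun p => by
    obtain ⟨w, -, hw⟩ := ht ⟨p, rfl⟩
    exact ⟨w, hw⟩
  obtain ⟨t₁, rfl⟩ := exists_factor_closed T.property hT hi t₀ fun p => by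
    obtain ⟨w, hw, hw'⟩ := ht ⟨p, rfl⟩
    rw [Points.map_comp] at hw'
    rw [← injective_points_map_of_mono jW hw']
    exact hw
  have := hiso _ _ _ (IsPullback.of_hasPullback i f)
  have h1 : IsIso (pullback.fst (t₁ ≫ i) f) := by
    rw [← pullbackRightPullbackFstIso_inv_fst i f t₁]
    infer_instance
  have sq1 : IsPullback (pullback.fst ((t₁ ≫ i) ≫ jW) (f ≫ jW))
      (pullback.snd ((t₁ ≫ i) ≫ jW) (f ≫ jW)) (t₁ ≫ i) f := by
    have hw : pullback.fst ((t₁ ≫ i) ≫ jW) (f ≫ jW) ≫ t₁ ≫ i =
        pullback.snd ((t₁ ≫ i) ≫ jW) (f ≫ jW) ≫ f := by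
      refine (cancel_mono jW).1 ?_
      simpa only [Category.assoc] using pullback.condition (f := (t₁ ≫ i) ≫ jW) (g := f ≫ jW)
    refine ⟨⟨hw⟩, ⟨PullbackCone.IsLimit.mk _ (fun c => pullback.lift c.fst c.snd ?_)
      (fun c => pullback.lift_fst _ _ _) (fun c => pullback.lift_snd _ _ _)
      (fun c m h₁ h₂ => pullback.hom_ext (by rw [h₁, pullback.lift_fst]) (by rw [h₂, pullback.lift_snd]))⟩⟩
    simpa only [Category.assoc] using congrArg (· ≫ jW) c.condition
  rw [← sq1.isoPullback_hom_fst]
  infer_instance

/-- Back to an elementary distinguished square. -/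
theorem isElemDistSq {U W : Sp S} (hW : IsAlgSpace W) {k : U ⟶ W} (hk : RepWith @IsOpenImmersion k)
    {f : V ⟶ W} (hf : IsEtaleMor f) {jW : W ⟶ X} [Mono jW]
    (hn : NeatOn (f ≫ jW) (Points.map jW '' (Set.range (Points.map k))ᶜ)) : IsElemDistSq k f := by
  obtain ⟨Z, i, hi⟩ := exists_reduced_induced hW
    (isOpen_range_openImm hW hk).isClosed_compl
  have := hn Z (i ≫ jW) hi.2.2 (by
    rintro _ ⟨z, rfl⟩
    rw [Points.map_comp]
    exact ⟨_, hi.2.1 ▸ ⟨z, rfl⟩, rfl⟩)
  have sq : IsPullback (pullback.fst (i ≫ jW) (f ≫ jW)) (pullback.snd (i ≫ jW) (f ≫ jW)) i f := by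
    have hw : pullback.fst (i ≫ jW) (f ≫ jW) ≫ i = pullback.snd (i ≫ jW) (f ≫ jW) ≫ f := by
      refine (cancel_mono jW).1 ?_
      simpa only [Category.assoc] using pullback.condition (f := i ≫ jW) (g := f ≫ jW)
    refine ⟨⟨hw⟩, ⟨PullbackCone.IsLimit.mk _ (fun c => pullback.lift c.fst c.snd ?_)
      (fun c => pullback.lift_fst _ _ _) (fun c => pullback.lift_snd _ _ _)
      (fun c m h₁ h₂ => pullback.hom_ext (by rw [h₁, pullback.lift_fst]) (by rw [h₂, pullback.lift_snd]))⟩⟩
    simpa only [Category.assoc] using congrArg (· ≫ jW) c.condition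
  exact ⟨hk, hf, Z.obj, _, i, _, _, hi, sq, this⟩

/-- Induction over quasi-compact open sets containing a given one, along elementary distinguished
squares with affine etale neighbourhoods. -/
theorem induction_open [QuasiSeparatedSpace ↥S] (X : Space S) (hqc : IsQuasiCompactSp X.obj)
    (hqs : IsQuasiSeparatedSp X.obj) (Q : Set (Points X.obj) → Prop) (O₀ : Set (Points X.obj))
    (hO₀ : IsOpen O₀) (hO₀c : IsCompact O₀) (h0 : Q O₀)
    (hstep : ∀ (O : Set (Points X.obj)) (V : Over S) (φ : (yon S).obj V ⟶ X.obj),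
      IsAffine V.left → IsOpen O → IsCompact O → O₀ ⊆ O → RepWith @Etale φ →
        NeatOn φ (Set.range (Points.map φ) \ O) → Q O → Q (O ∪ Set.range (Points.map φ))) :
    Q Set.univ := by
  classical
  obtain ⟨n, Uo, j, k, T, i, hj, hkj, hj1, hlast, hred, hch⟩ := Groth.Agent.S10419.result X hqc hqs
  have hopen : ∀ p, IsOpen (Set.range (Points.map (j p).hom)) := fun p =>
    isOpen_range_openImm X.property (hj p)
  have main : ∀ d p, 1 ≤ p → p + d = n + 1 →
      IsCompact (Set.range (Points.map (j p).hom)) ∧ Q (O₀ ∪ Set.range (Points.map (j p).hom)) := by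
    intro d
    induction d with
    | zero =>
      intro p _ hp
      obtain rfl : p = n + 1 := hp
      haveI := hlast
      rw [Set.range_eq_empty, Set.union_empty]
      exact ⟨isCompact_empty, h0⟩
    | succ d ih =>
      intro p hp1 hp
      obtain ⟨hc, hQ⟩ := ih (p + 1) (by omega) (by omega)
      obtain ⟨V, f, -, hVc, hfe, hfs, hiso⟩ := hch p hp1
      haveI := hVc
      let φ : (yon S).obj V ⟶ X.obj := f ≫ (j p).hom
      have hφr : Set.range (Points.map φ) = Set.range (Points.map (j p).hom) := by
        refine Set.Subset.antisymm ?_ ?_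
        · rintro _ ⟨v, rfl⟩
          exact ⟨_, (Points.map_comp _ _ _).symm⟩
        · rintro _ ⟨w, rfl⟩
          obtain ⟨v, rfl⟩ := surjective_map_of_repWith hfs w
          exact ⟨v, Points.map_comp _ _ _⟩
      haveI : CompactSpace (Points ((yon S).obj V)) := (Points.schemeHomeo V).compactSpace
      have hpc : IsCompact (Set.range (Points.map (j p).hom)) :=
        hφr ▸ isCompact_range (Points.continuous_map φ)
      refine ⟨hpc, ?_⟩
      have hsub : Set.range (Points.map (j (p + 1)).hom) ⊆ Set.range (Points.map (j p).hom) := by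
        rw [← hkj p]
        rintro _ ⟨z, rfl⟩
        exact ⟨_, (Points.map_comp _ _ _).symm⟩
      have hneat : NeatOn φ (Points.map (j p).hom '' Set.range (Points.map (i p).hom)) :=
        neatOn_of_square (hj p) (hred p).1 hiso
      have hC : Set.range (Points.map (j p).hom) \ Set.range (Points.map (j (p + 1)).hom) ⊆
          Points.map (j p).hom '' Set.range (Points.map (i p).hom) := by
        rintro _ ⟨⟨w, rfl⟩, hw⟩
        refine ⟨w, (hred p).2.1.symm ▸ ?_, rfl⟩
        rintro ⟨z, rfl⟩
        refine hw ⟨z, ?_⟩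
        rw [← hkj p]
        exact Points.map_comp _ _ _
      -- add affine opens of `V` one at a time
      let img : V.left.affineOpens → Set (Points X.obj) := fun A => Points.ofPt φ '' (A.1 : Set V.left)
      have hie : RepWith @Etale φ := repWith_comp hfe (BiratSp.repWith_etale (hj p))
      have key : ∀ s : Finset V.left.affineOpens,
          Q ((O₀ ∪ Set.range (Points.map (j (p + 1)).hom)) ∪ ⋃ A ∈ s, img A) := by
        intro s
        induction s using Finset.induction with
        | empty => simpa using hQ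
        | @insert A s hA ihs =>
          let ι : Over.mk (A.1.ι ≫ V.hom) ⟶ V := Over.homMk A.1.ι rfl
          have hι : IsOpenImmersion ι.left := inferInstanceAs (IsOpenImmersion A.1.ι)
          have hrA : Set.range (Points.map ((yon S).map ι ≫ φ)) = img A := by
            ext x
            constructor
            · rintro ⟨z, rfl⟩
              obtain ⟨z, rfl⟩ := (Points.schemeHomeo _).surjective z
              refine ⟨z.1, z.2, ?_⟩
              exact (ofPt_comp ι φ z).symm.trans (Points.ofPt_eq_map_ofScheme _ _)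
            · rintro ⟨v, hv, rfl⟩
              exact ⟨Points.schemeHomeo _ ⟨v, hv⟩,
                (Points.ofPt_eq_map_ofScheme _ _).symm.trans (ofPt_comp ι φ ⟨v, hv⟩)⟩
          have h := hstep ((O₀ ∪ Set.range (Points.map (j (p + 1)).hom)) ∪ ⋃ A ∈ s, img A) _
            ((yon S).map ι ≫ φ) A.2
            ((hO₀.union (hopen _)).union (isOpen_biUnion fun A _ => isOpenMap_ofPt hie _ A.1.2))
            ((hO₀c.union hc).union (s.finite_toSet.isCompact_biUnion fun A _ =>
              A.2.isCompact.image (Points.continuous_ofPt φ)))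
            (Set.subset_union_left.trans Set.subset_union_left)
            (repWith_comp ((repWith_yon_map_iff @Etale ι).2 inferInstance) hie)
            (hneat.restrict ((repWith_yon_map_iff @IsOpenImmersion ι).2 hι) ?_ Set.sdiff_subset) ihs
          · rw [hrA] at h
            rwa [Finset.set_biUnion_insert, Set.union_comm (img A), ← Set.union_assoc]
          · rintro x ⟨hx, hxn⟩
            refine hC ⟨?_, fun hx' => hxn (Or.inl (Or.inr hx'))⟩
            rw [← hφr]
            obtain ⟨z, rfl⟩ := hx
            exact ⟨_, (Points.map_comp _ _ _).symm⟩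
      obtain ⟨s, hs⟩ := (isCompact_univ (X := ↥V.left)).elim_finite_subcover
        (fun A : V.left.affineOpens => (A.1 : Set V.left)) (fun A => A.1.2) fun v _ => by
          obtain ⟨A, hA, hv, -⟩ := exists_isAffineOpen_mem_and_subset (x := v) (U := ⊤) trivial
          exact Set.mem_iUnion.2 ⟨⟨A, hA⟩, hv⟩
      have heq : (O₀ ∪ Set.range (Points.map (j (p + 1)).hom)) ∪ (⋃ A ∈ s, img A) =
          O₀ ∪ Set.range (Points.map (j p).hom) := by
        refine Set.Subset.antisymm ?_ ?_
        · refine Set.union_subset (Set.union_subset_union_right _ hsub) (Set.iUnion₂_subset ?_)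
          rintro A _ _ ⟨v, -, rfl⟩
          exact Or.inr (hφr ▸ ⟨_, (Points.ofPt_eq_map_ofScheme φ v).symm⟩)
        · refine Set.union_subset (Set.subset_union_left.trans Set.subset_union_left) ?_
          rw [← hφr]
          rintro _ ⟨v, rfl⟩
          obtain ⟨v, rfl⟩ := (Points.schemeHomeo V).surjective v
          obtain ⟨A, hA, hv⟩ := Set.mem_iUnion₂.1 (hs (Set.mem_univ v))
          exact Or.inr (Set.mem_iUnion₂.2 ⟨A, hA, v, hv, Points.ofPt_eq_map_ofScheme φ v⟩)
      exact heq ▸ key s
  have h1 := (main n 1 le_rfl (by omega)).2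
  have : IsIso (j 1).hom := by
    have := hj1
    exact inferInstanceAs (IsIso ((ObjectProperty.ι _).map (j 1)))
  rwa [Set.range_eq_univ.2 fun x => ⟨Points.map (inv (j 1).hom) x, by
    rw [← Points.map_comp, IsIso.inv_hom_id, Points.map_id]⟩, Set.union_univ] at h1

end Groth.Agent.AlgSpDec.Neat
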