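import Groth.Prelude.Def_AlgSpEt
import Groth.Agent.AlgSpDec.NeatOn
import Groth.Agent.AlgSpPts.OpenSub
import Groth.Agent.AlgSpDec.DistGlue

/-!
# Induction principles along elementary distinguished squares
-/

set_option autoImplicit false
set_option backward.isDefEq.respectTransparency false
set_option backward.isDefEq.respectTransparency.types false

universe u

open CategoryTheory CategoryTheory.Limits AlgebraicGeometry AlgSp Topology TopologicalSpace
  Groth.Agent.AlgSpLib Groth.Agent.AlgSpPts Groth.Agent.AlgSpDec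

namespace Groth.Agent.AlgSpDec.Neat

variable {S : Scheme.{u}}

theorem repWith_of_comp_mono {P : MorphismProperty Scheme.{u}} {A B C : Sp S} {s : A ⟶ B} {j : B ⟶ C}
    [Mono j] (h : RepWith P (s ≫ j)) : RepWith P s :=
  repWith_of_isPullback (g := j) (fst := 𝟙 A)
    ⟨⟨by rw [Category.id_comp]⟩, ⟨PullbackCone.IsLimit.mk _ (fun c => c.fst)
      (fun c => Category.comp_id _)
      (fun c => (cancel_mono j).1 (by rw [Category.assoc]; exact c.condition))
      (fun c m h₁ _ => by simpa using h₁)⟩⟩ h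

theorem isEmpty_points {T : Over S} [IsEmpty ↥T.left] : IsEmpty (Points ((yon S).obj T)) :=
  ⟨fun p => IsEmpty.false ((Points.schemeHomeo T).symm p)⟩

theorem repWith_openImm_of_isEmpty {F : Sp S} (hF : IsAlgSpace F) {T : Over S} [IsEmpty ↥T.left]
    (a : (yon S).obj T ⟶ F) : RepWith @IsOpenImmersion a := by
  refine ⟨representable_from_yon' hF a, fun U W g fst snd sq => ?_⟩
  have : IsEmpty ↥W.left := ⟨fun w => IsEmpty.false ((Points.schemeHomeo T).symm
    (Points.map fst (Points.schemeHomeo W w)))⟩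
  show IsOpenImmersion snd.left
  infer_instance

/-- Every sheaf has a point with values in the empty scheme. -/
theorem nonempty_hom_of_isEmpty' {F : Sp S} {T : Over S} [IsEmpty ↥T.left] :
    Nonempty ((yon S).obj T ⟶ F) := by
  obtain ⟨z, -⟩ := exists_hom_sigma (F := F) (fun i : PEmpty.{u + 1} => i.elim) (fun i => i.elim)
  let k : T ⟶ sigmaOver (fun i : PEmpty.{u + 1} => (i.elim : Over S)) :=
    CategoryTheory.Over.homMk (isInitialOfIsEmpty.to _) (isInitialOfIsEmpty.hom_ext _ _)
  exact ⟨(yon S).map k ≫ z⟩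

/-- The empty scheme over `S`. -/
noncomputable def emptyOver : Over S := Over.mk (Scheme.emptyTo S)

instance : IsEmpty ↥(emptyOver (S := S)).left := inferInstanceAs (IsEmpty ↥(∅ : Scheme.{u}))

theorem isAffine_emptyOver : IsAffine (emptyOver (S := S)).left := by
  exact isAffine_of_isEmpty

theorem exists_open (X : Space S) {O : Set (Points X.obj)} (hO : IsOpen O) :
    ∃ (U : Space S) (j : U ⟶ X), RepWith @IsOpenImmersion j.hom ∧ Set.range (Points.map j.hom) = O := by
  obtain ⟨U, j, hU, hj, hr⟩ := exists_open_subspace X.property hO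
  exact ⟨⟨U, hU⟩, ObjectProperty.homMk j, hj, hr⟩

theorem exists_hom_open {X U U' : Space S} {j : U ⟶ X} (hj : RepWith @IsOpenImmersion j.hom)
    {j' : U' ⟶ X} (hj' : RepWith @IsOpenImmersion j'.hom)
    (h : Set.range (Points.map j.hom) ⊆ Set.range (Points.map j'.hom)) :
    ∃ k : U ⟶ U', k ≫ j' = j ∧ RepWith @IsOpenImmersion k.hom := by
  obtain ⟨k, hk⟩ := BiratSp.exists_factor_space U.property hj' j.hom fun p => h ⟨p, rfl⟩
  have := mono_of_openImm hj'
  exact ⟨ObjectProperty.homMk k, ObjectProperty.hom_ext _ hk, repWith_of_comp_mono (hk ▸ hj)⟩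

theorem compactSpace_of_range {X U : Space S} {j : U ⟶ X} (hj : RepWith @IsOpenImmersion j.hom)
    (h : IsCompact (Set.range (Points.map j.hom))) : IsQuasiCompactSp U.obj := by
  have : CompactSpace (Points U.obj) :=
    ⟨(isOpenEmbedding_map' X.property hj).toIsEmbedding.isCompact_iff.2 (by rwa [Set.image_univ])⟩
  exact isQuasiCompactSp_of_compactSpace U.property

theorem isQuasiSeparatedSp_of_openImm {F G : Sp S} {j : F ⟶ G} (hj : RepWith @IsOpenImmersion j)
    (hG : IsQuasiSeparatedSp G) : IsQuasiSeparatedSp F := by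
  have := mono_of_openImm hj
  rw [isQuasiSeparatedSp_iff_mor] at hG ⊢
  rw [← (isTerminalYon S).hom_ext (j ≫ (isTerminalYon S).from G) ((isTerminalYon S).from F)]
  exact isQuasiSeparatedMor_comp (isQuasiSeparatedMor_of_isSeparatedMor (isSeparatedMor_of_mono j)) hG

/-- The square obtained by adding the image of an etale affine neighbourhood. -/
theorem exists_square (X : Space S) {O : Set (Points X.obj)} {V : Over S}
    {φ : (yon S).obj V ⟶ X.obj} (hφ : RepWith @Etale φ)
    (hn : NeatOn φ (Set.range (Points.map φ) \ O)) {U₁ U₂ : Space S} {j₁ : U₁ ⟶ X} {j₂ : U₂ ⟶ X}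
    (hj₁ : RepWith @IsOpenImmersion j₁.hom) (hj₂ : RepWith @IsOpenImmersion j₂.hom)
    (h₁ : Set.range (Points.map j₁.hom) = O)
    (h₂ : Set.range (Points.map j₂.hom) = O ∪ Set.range (Points.map φ)) :
    ∃ (k : U₁ ⟶ U₂) (f : (⟨_, IsAlgSpace.yon_obj V⟩ : Space S) ⟶ U₂), k ≫ j₂ = j₁ ∧
      f.hom ≫ j₂.hom = φ ∧ RepWith @Etale f.hom ∧ IsElemDistSq k.hom f.hom := by
  obtain ⟨k, hk, hko⟩ := exists_hom_open hj₁ hj₂ (by rw [h₁, h₂]; exact Set.subset_union_left)
  obtain ⟨f, hf⟩ := BiratSp.exists_factor_space (IsAlgSpace.yon_obj V) hj₂ φ fun p => by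
    rw [h₂]; exact Or.inr ⟨p, rfl⟩
  have := mono_of_openImm hj₂
  have hfe : RepWith @Etale f := repWith_of_comp_mono (hf ▸ hφ)
  refine ⟨k, ObjectProperty.homMk f, hk, hf, hfe, isElemDistSq U₂.property hko (jW := j₂.hom)
    (Groth.Agent.AlgSpLib.isEtaleMor_of_repWith hfe) ?_⟩
  show NeatOn (f ≫ j₂.hom) _
  rw [hf]
  intro T t hT ht
  refine hn T t hT (ht.trans ?_)
  rintro _ ⟨w, hw, rfl⟩
  have h3 : Points.map j₂.hom w ∉ O := fun hmem => by
    obtain ⟨u, hu⟩ := h₁.symm ▸ hmem
    refine hw ⟨u, injective_points_map_of_mono j₂.hom ?_⟩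
    rw [← Points.map_comp]
    exact (congrArg (fun m => Points.map m.hom u) hk).trans hu
  exact ⟨((h₂ ▸ ⟨w, rfl⟩ : Points.map j₂.hom w ∈ O ∪ _)).resolve_left h3, h3⟩

/-- Induction for open subspaces containing a given one. -/
theorem induction_enlarge [QuasiSeparatedSpace ↥S] (X : Space S) (hXc : IsQuasiCompactSp X.obj)
    (hXs : IsQuasiSeparatedSp X.obj) (P : ∀ U : Space S, (U ⟶ X) → Prop)
    (W : Space S) (jW : W ⟶ X) (hjW : RepWith @IsOpenImmersion jW.hom)
    (hWc : IsQuasiCompactSp W.obj) (h1 : P W jW)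
    (h2 : ∀ (W₁ W₂ V : Space S) (j₁ : W₁ ⟶ X) (j₂ : W₂ ⟶ X) (k : W₁ ⟶ W₂) (m : W ⟶ W₁) (f : V ⟶ W₂),
      RepWith @IsOpenImmersion j₁.hom → RepWith @IsOpenImmersion j₂.hom →
      k ≫ j₂ = j₁ → m ≫ j₁ = jW →
      IsQuasiCompactSp W₁.obj → IsQuasiCompactSp W₂.obj →
      (∃ T : Over S, IsAffine T.left ∧ Nonempty ((yon S).obj T ≅ V.obj)) →
      IsElemDistSq k.hom f.hom → P W₁ j₁ → P W₂ j₂) :
    P X (𝟙 X) := by
  haveI : CompactSpace (Points W.obj) := compactSpace_points hWc
  have hO₀ := isOpen_range_openImm X.property hjW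
  let Q : Set (Points X.obj) → Prop := fun O => IsOpen O ∧ IsCompact O ∧
    Set.range (Points.map jW.hom) ⊆ O ∧
    ∀ (U : Space S) (j : U ⟶ X), RepWith @IsOpenImmersion j.hom → Set.range (Points.map j.hom) = O → P U j
  suffices hQ : Q Set.univ from hQ.2.2.2 X (𝟙 X) (repWith_of_isIso _ (𝟙 X.obj))
    (Set.range_eq_univ.2 fun x => ⟨x, Points.map_id x⟩)
  refine induction_open X hXc hXs Q _ hO₀ (isCompact_range (Points.continuous_map _)) ?_ ?_
  · refine ⟨hO₀, isCompact_range (Points.continuous_map _), subset_rfl, fun U j hj hr => ?_⟩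
    obtain ⟨z⟩ := nonempty_hom_of_isEmpty' (F := X.obj) (T := emptyOver)
    have hz := repWith_openImm_of_isEmpty X.property z
    haveI := isEmpty_points (T := emptyOver (S := S))
    obtain ⟨k, f, hk, -, -, hsq⟩ := exists_square X (O := Set.range (Points.map jW.hom))
      (BiratSp.repWith_etale hz) (neatOn_of_openImm hz Set.sdiff_subset) hjW hj rfl
      (by rw [hr, Set.range_eq_empty (Points.map z), Set.union_empty])
    exact h2 W U _ jW j k (𝟙 W) f hjW hj hk (Category.id_comp _) hWc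
      (compactSpace_of_range hj (hr ▸ isCompact_range (Points.continuous_map _)))
      ⟨emptyOver, isAffine_emptyOver, ⟨Iso.refl _⟩⟩ hsq h1
  · intro O V φ hV hO hOc hsub hφ hn hQ
    have : IsAffine V.left := hV
    haveI : CompactSpace (Points ((yon S).obj V)) := (Points.schemeHomeo V).compactSpace
    have hφo : IsOpen (Set.range (Points.map φ)) :=
      (isOpenMap_map (repWith_mono
        (fun _ _ e (_ : Etale e) => inferInstanceAs (UniversallyOpen e)) _ hφ)).isOpen_range
    have hc := hOc.union (isCompact_range (Points.continuous_map φ))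
    refine ⟨hO.union hφo, hc, hsub.trans Set.subset_union_left, fun U₂ j₂ hj₂ hr₂ => ?_⟩
    obtain ⟨U₁, j₁, hj₁, hr₁⟩ := exists_open X hO
    obtain ⟨k, f, hk, -, -, hsq⟩ := exists_square X hφ hn hj₁ hj₂ hr₁ hr₂
    obtain ⟨m, hm, -⟩ := exists_hom_open hjW hj₁ (hr₁.symm ▸ hsub)
    exact h2 U₁ U₂ _ j₁ j₂ k m f hj₁ hj₂ hk hm (compactSpace_of_range hj₁ (hr₁.symm ▸ hOc))
      (compactSpace_of_range hj₂ (hr₂.symm ▸ hc)) ⟨V, hV, ⟨Iso.refl _⟩⟩ hsq (hQ.2.2.2 U₁ j₁ hj₁ hr₁)

section Et

variable {X : Space S}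

/-- An open subspace of an object etale over `X`. -/
noncomputable abbrev openObj (W : EtSpOver X) {U : Space S} (j : U ⟶ W.obj.left)
    (hj : RepWith @Etale j.hom) : EtSpOver X :=
  ⟨Over.mk (j ≫ W.obj.hom),
    isEtaleMor_comp U.property W.obj.left.property X.property (Groth.Agent.AlgSpLib.isEtaleMor_of_repWith hj) W.property⟩

/-- The morphism of objects etale over `X`. -/
noncomputable abbrev openHom (W : EtSpOver X) {U : Space S} (j : U ⟶ W.obj.left)
    (hj : RepWith @Etale j.hom) : openObj W j hj ⟶ W :=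
  ObjectProperty.homMk (CategoryTheory.Over.homMk j rfl)

variable [QuasiSeparatedSpace ↥S] (B P : EtSpOver X → Prop)
  (h1 : ∀ W, B W → IsQuasiCompactSp W.obj.left.obj ∧ IsQuasiSeparatedSp W.obj.left.obj)
  (h2 : ∀ (W U : EtSpOver X) (j : U ⟶ W), B W → RepWith @IsOpenImmersion j.hom.left.hom →
    IsQuasiCompactSp U.obj.left.obj → B U)
  (h3 : ∀ (V : EtSpOver X) (T : Over S), IsAffine T.left →
    Nonempty ((yon S).obj T ≅ V.obj.left.obj) → B V ∧ P V)
  (h4 : ∀ (W U V UV : EtSpOver X) (j : U ⟶ W) (f : V ⟶ W) (p : UV ⟶ U) (q : UV ⟶ V),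
    B W → IsQuasiCompactSp U.obj.left.obj →
    (∃ T : Over S, IsAffine T.left ∧ Nonempty ((yon S).obj T ≅ V.obj.left.obj)) →
    IsElemDistSq j.hom.left.hom f.hom.left.hom →
    IsPullback p.hom.left.hom q.hom.left.hom j.hom.left.hom f.hom.left.hom →
    P U → P V → P UV → P W)

include h1 h2 h3 h4

/-- The gluing step, with the open `O` and the neighbourhood `φ` inside an ambient object. -/
theorem glue_step (W U₂ : EtSpOver X) (j₂ : U₂ ⟶ W) (hj₂ : RepWith @IsOpenImmersion j₂.hom.left.hom)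
    (hB : B U₂) {O : Set (Points W.obj.left.obj)} (hO : IsOpen O) (hOc : IsCompact O) {V : Over S}
    (hV : IsAffine V.left) {φ : (yon S).obj V ⟶ W.obj.left.obj} (hφ : RepWith @Etale φ)
    (hn : NeatOn φ (Set.range (Points.map φ) \ O))
    (hr₂ : Set.range (Points.map j₂.hom.left.hom) = O ∪ Set.range (Points.map φ))
    (hU₁ : ∀ (U₁ : EtSpOver X) (j₁ : U₁ ⟶ W), RepWith @IsOpenImmersion j₁.hom.left.hom →
      Set.range (Points.map j₁.hom.left.hom) = O → P U₁)
    (hUV : ∀ (Vo UV : EtSpOver X) (e : (yon S).obj V ≅ Vo.obj.left.obj) (q : UV ⟶ Vo),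
      RepWith @IsOpenImmersion q.hom.left.hom → IsQuasiCompactSp UV.obj.left.obj →
      Set.range (Points.map q.hom.left.hom) = Points.map (e.inv ≫ φ) ⁻¹' O → P UV) : P U₂ := by
  obtain ⟨U₁, i₁, hi₁, hr₁⟩ := exists_open W.obj.left hO
  obtain ⟨k, f, hk, hfφ, hfe, hsq⟩ := exists_square W.obj.left (U₂ := U₂.obj.left) hφ hn hi₁ hj₂ hr₁ hr₂
  have hk1 := hsq.1
  let Uo := openObj U₂ k (BiratSp.repWith_etale hk1)
  let Vo := openObj U₂ f hfe
  have hUc : IsQuasiCompactSp U₁.obj := compactSpace_of_range hi₁ (hr₁.symm ▸ hOc)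
  let Ps : Space S := ⟨pullback k.hom f.hom,
    isAlgSpace_pullback U₁.property (IsAlgSpace.yon_obj V) U₂.obj.left.property k.hom f.hom⟩
  let q : Ps ⟶ Vo.obj.left := ObjectProperty.homMk (pullback.snd k.hom f.hom)
  let p : Ps ⟶ Uo.obj.left := ObjectProperty.homMk (pullback.fst k.hom f.hom)
  have hq : RepWith @IsOpenImmersion q.hom := repWith_snd f.hom hk1
  let UV := openObj Vo q (BiratSp.repWith_etale hq)
  let p' : UV ⟶ Uo := ObjectProperty.homMk (CategoryTheory.Over.homMk p (by
    show p ≫ k ≫ U₂.obj.hom = q ≫ f ≫ U₂.obj.hom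
    rw [← Category.assoc, ← Category.assoc, show p ≫ k = q ≫ f from ObjectProperty.hom_ext _ pullback.condition]))
  have hUVc : IsQuasiCompactSp Ps.obj := by
    refine isQuasiCompactMor_of_qc_qs (IsAlgSpace.yon_obj V) U₂.obj.left.property
      (isQuasiCompactSp_yon V) (h1 U₂ hB).2 f.hom U₁.property hUc k.hom q.hom p.hom ?_
    exact (IsPullback.of_hasPullback k.hom f.hom).flip
  refine h4 U₂ Uo Vo UV (openHom U₂ k _) (openHom U₂ f hfe) p' (openHom Vo q _) hB hUc
    ⟨V, hV, ⟨Iso.refl _⟩⟩ hsq (IsPullback.of_hasPullback k.hom f.hom) ?_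
    (h3 Vo V hV ⟨Iso.refl _⟩).2 (hUV Vo UV (Iso.refl _) (openHom Vo q _) hq hUVc ?_)
  · refine hU₁ Uo (openHom U₂ k _ ≫ j₂) ?_ ?_
    · show RepWith _ (k ≫ j₂.hom.left).hom
      rw [hk]
      exact hi₁
    · show Set.range (Points.map (k ≫ j₂.hom.left).hom) = O
      rw [hk, hr₁]
  · show Set.range (Points.map q.hom) = Points.map (𝟙 _ ≫ φ) ⁻¹' O
    rw [Category.id_comp]
    ext v
    constructor
    · rintro ⟨z, rfl⟩
      show Points.map φ (Points.map q.hom z) ∈ O
      have e : q.hom ≫ φ = pullback.fst k.hom f.hom ≫ i₁.hom := by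
        rw [← hfφ, ← congrArg (fun m => m.hom) hk]
        show pullback.snd k.hom f.hom ≫ f.hom ≫ j₂.hom.left.hom =
          pullback.fst k.hom f.hom ≫ k.hom ≫ j₂.hom.left.hom
        rw [pullback.condition_assoc]
      rw [← Points.map_comp, e, Points.map_comp, ← hr₁]
      exact ⟨_, rfl⟩
    · intro hv
      obtain ⟨u, hu⟩ := hr₁.symm ▸ (hv : Points.map φ v ∈ O)
      have hm : Mono j₂.hom.left.hom := mono_of_openImm hj₂
      obtain ⟨z, -, hz⟩ := exists_point_of_isPullback (IsPullback.of_hasPullback k.hom f.hom) (x := u)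
        (y := v) (injective_points_map_of_mono j₂.hom.left.hom (by
          rw [← Points.map_comp, ← Points.map_comp, hfφ, show k.hom ≫ j₂.hom.left.hom = i₁.hom from
            congrArg (fun m => m.hom) hk, hu]))
      exact ⟨z, hz⟩

theorem P_of_isEmpty (U : EtSpOver X) [IsEmpty (Points U.obj.left.obj)] : P U := by
  obtain ⟨z⟩ := nonempty_hom_of_isEmpty' (F := U.obj.left.obj) (T := emptyOver)
  have := isIso_of_openImm_surjective U.obj.left.property
    (repWith_openImm_of_isEmpty U.obj.left.property z) fun x => isEmptyElim x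
  exact (h3 U emptyOver isAffine_emptyOver ⟨asIso z⟩).2

theorem P_of_iUnion_basicOpen :
    ∀ (n : ℕ) (Vo : EtSpOver X) (V : Over S) (_ : IsAffine V.left) (e : (yon S).obj V ≅ Vo.obj.left.obj)
      (g : Fin n → Γ(V.left, ⊤)) (U : EtSpOver X) (q : U ⟶ Vo),
      RepWith @IsOpenImmersion q.hom.left.hom →
      Set.range (Points.map q.hom.left.hom) =
        ⋃ i, Points.ofPt e.hom '' (V.left.basicOpen (g i) : Set ↥V.left) → P U := by
  intro n
  induction n with
  | zero =>
    intro Vo V _ e g U q _ hr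
    rw [Set.iUnion_of_empty, Set.range_eq_empty_iff] at hr
    exact P_of_isEmpty B P h1 h2 h3 h4 U
  | succ n ih =>
    intro Vo V hV e g U q hq hr
    have := hV
    have hBV := (h3 Vo V hV ⟨e⟩).1
    let D : Γ(V.left, ⊤) → Set (Points Vo.obj.left.obj) := fun g =>
      Points.ofPt e.hom '' (V.left.basicOpen g : Set ↥V.left)
    have he : RepWith @IsOpenImmersion e.hom := repWith_of_isIso _ _
    have eV := BiratSp.isOpenEmbedding_ofPt Vo.obj.left.property he
    have hDo : ∀ g, IsOpen (D g) := fun g => eV.isOpenMap _ (V.left.basicOpen g).2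
    have hDc : ∀ g, IsCompact (D g) := fun g =>
      ((isAffineOpen_top V.left).basicOpen g).isCompact.image eV.continuous
    let a := g (Fin.last n)
    let g' : Fin n → Γ(V.left, ⊤) := fun i => g i.castSucc
    let ι : Over.mk ((V.left.basicOpen a).ι ≫ V.hom) ⟶ V := Over.homMk (V.left.basicOpen a).ι rfl
    have hι : IsOpenImmersion ι.left := inferInstanceAs (IsOpenImmersion (V.left.basicOpen a).ι)
    let φ := (yon S).map ι ≫ e.hom
    have hφ : RepWith @IsOpenImmersion φ :=
      repWith_comp ((repWith_yon_map_iff @IsOpenImmersion ι).2 hι) he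
    have hφz : ∀ z, Points.map φ (Points.schemeHomeo _ z) = Points.ofPt e.hom (ι.left z) := fun z =>
      (Points.ofPt_eq_map_ofScheme _ _).symm.trans (ofPt_comp ι e.hom z)
    have hφr : Set.range (Points.map φ) = D a := by
      ext x
      constructor
      · rintro ⟨z, rfl⟩
        obtain ⟨z, rfl⟩ := (Points.schemeHomeo _).surjective z
        exact ⟨z.1, z.2, (hφz z).symm⟩
      · rintro ⟨v, hv, rfl⟩
        exact ⟨Points.schemeHomeo _ ⟨v, hv⟩, hφz ⟨v, hv⟩⟩
    have hsplit : (⋃ i, D (g i)) = (⋃ i, D (g' i)) ∪ Set.range (Points.map φ) := by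
      rw [hφr]
      ext x
      simp only [Set.mem_iUnion, Set.mem_union]
      constructor
      · rintro ⟨i, hi⟩
        induction i using Fin.lastCases with
        | last => exact Or.inr hi
        | cast i => exact Or.inl ⟨i, hi⟩
      · rintro (⟨i, hi⟩ | hi)
        · exact ⟨_, hi⟩
        · exact ⟨_, hi⟩
    have hUq : IsQuasiCompactSp U.obj.left.obj :=
      compactSpace_of_range hq (hr ▸ isCompact_iUnion fun i => hDc _)
    refine glue_step (V := Over.mk ((V.left.basicOpen a).ι ≫ V.hom)) B P h1 h2 h3 h4 Vo U q hq (h2 Vo U q hBV hq hUq)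
      (isOpen_iUnion fun i => hDo (g' i)) (isCompact_iUnion fun i => hDc _)
      ((isAffineOpen_top V.left).basicOpen a) (BiratSp.repWith_etale hφ)
      (neatOn_of_openImm hφ Set.sdiff_subset) (hr.trans hsplit)
      (fun U₁ j₁ hj₁ hr₁ => ih Vo V hV e g' U₁ j₁ hj₁ hr₁) fun Vo' UV e' q' hq' _ hr' => ?_
    let t : Vo'.obj.left ⟶ Vo.obj.left := ObjectProperty.homMk (e'.inv ≫ φ)
    have ht : RepWith @IsOpenImmersion t.hom := repWith_comp (repWith_of_isIso _ _) hφ
    let UV' := openObj Vo (q'.hom.left ≫ t) (BiratSp.repWith_etale (repWith_comp hq' ht))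
    -- `UV` itself lies over `X` through `Vo'`; rebuild it as an open of `Vo`
    have : IsAffine (Over.mk ((V.left.basicOpen a).ι ≫ V.hom)).left :=
      (isAffineOpen_top V.left).basicOpen a
    exact ih Vo' _ this e' (fun i => (V.left.basicOpen a).ι.appTop (g' i)) UV q' hq' (by
        rw [hr']
        ext x
        obtain ⟨z, rfl⟩ : ∃ z, Points.ofPt e'.hom z = x :=
          ⟨(Points.schemeHomeo _).symm (Points.map e'.inv x), by
            rw [Points.ofPt_eq_map_ofScheme]
            show Points.map _ (Points.schemeHomeo _ _) = x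
            rw [Homeomorph.apply_symm_apply, ← Points.map_comp, Iso.inv_hom_id, Points.map_id]⟩
        have h5 : Points.map (e'.inv ≫ φ) (Points.ofPt e'.hom z) = Points.ofPt e.hom (ι.left z) := by
          rw [Points.map_ofPt, Iso.hom_inv_id_assoc, Points.ofPt_eq_map_ofScheme]
          exact hφz z
        simp only [Set.mem_preimage, h5, Set.mem_iUnion]
        refine exists_congr fun i => ?_
        rw [eV.injective.mem_set_image, (BiratSp.isOpenEmbedding_ofPt Vo'.obj.left.property
          (repWith_of_isIso @IsOpenImmersion e'.hom)).injective.mem_set_image]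
        exact SetLike.ext_iff.1
          (Scheme.preimage_basicOpen_top (V.left.basicOpen a).ι (g' i)) z)

/-- Quasi-compact opens of affine objects. -/
theorem P_of_open_affine (Vo U : EtSpOver X) {V : Over S} (hV : IsAffine V.left)
    (e : (yon S).obj V ≅ Vo.obj.left.obj) (q : U ⟶ Vo) (hq : RepWith @IsOpenImmersion q.hom.left.hom)
    (hUc : IsQuasiCompactSp U.obj.left.obj) : P U := by
  have := hV
  have he : RepWith @IsOpenImmersion e.hom := repWith_of_isIso _ _
  have eV := BiratSp.isOpenEmbedding_ofPt Vo.obj.left.property he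
  haveI : CompactSpace (Points U.obj.left.obj) := compactSpace_points hUc
  have hO : IsOpen (Set.range (Points.map q.hom.left.hom)) := isOpen_range_openImm Vo.obj.left.property hq
  have hOc : IsCompact (Points.ofPt e.hom ⁻¹' Set.range (Points.map q.hom.left.hom)) :=
    eV.toIsEmbedding.isCompact_preimage' (isCompact_range (Points.continuous_map _)) fun x _ => by
      refine ⟨(Points.schemeHomeo V).symm (Points.map e.inv x), ?_⟩
      rw [Points.ofPt_eq_map_ofScheme]
      show Points.map _ (Points.schemeHomeo _ _) = x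
      rw [Homeomorph.apply_symm_apply, ← Points.map_comp, Iso.inv_hom_id, Points.map_id]
  obtain ⟨s, hs, hsU⟩ := (isCompact_open_iff_eq_finite_iUnion_of_isTopologicalBasis
    (fun g : Γ(V.left, ⊤) => (V.left.basicOpen g : Set ↥V.left))
    (by
      have h := isBasis_basicOpen V.left
      unfold TopologicalSpace.Opens.IsBasis at h
      rwa [← Set.range_comp] at h)
    (fun g => ((isAffineOpen_top V.left).basicOpen g).isCompact) _).1
      ⟨hOc, hO.preimage eV.continuous⟩
  obtain ⟨n, g, rfl⟩ : ∃ (n : ℕ) (g : Fin n → Γ(V.left, ⊤)), Set.range g = s :=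
    ⟨_, fun i => (hs.toFinset.equivFin.symm i).1, by
      ext z
      exact ⟨fun ⟨i, hi⟩ => hi ▸ hs.mem_toFinset.1 (hs.toFinset.equivFin.symm i).2, fun hz =>
        ⟨hs.toFinset.equivFin ⟨z, hs.mem_toFinset.2 hz⟩, by simp⟩⟩⟩
  refine P_of_iUnion_basicOpen B P h1 h2 h3 h4 n Vo V hV e g U q hq ?_
  rw [← Set.image_preimage_eq (Set.range (Points.map q.hom.left.hom))
    (fun x => ⟨(Points.schemeHomeo V).symm (Points.map e.inv x), by
      rw [Points.ofPt_eq_map_ofScheme]
      show Points.map _ (Points.schemeHomeo _ _) = x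
      rw [Homeomorph.apply_symm_apply, ← Points.map_comp, Iso.inv_hom_id, Points.map_id]⟩ :
      Function.Surjective (Points.ofPt e.hom)), hsU, Set.biUnion_range, Set.image_iUnion]

/-- Induction over a class of objects etale over `X`. -/
theorem induction_et (W : EtSpOver X) (hW : B W) : P W := by
  let Q : Set (Points W.obj.left.obj) → Prop := fun O => IsOpen O ∧ IsCompact O ∧
    ∀ (U : EtSpOver X) (j : U ⟶ W), RepWith @IsOpenImmersion j.hom.left.hom →
      Set.range (Points.map j.hom.left.hom) = O → P U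
  suffices hQ : Q Set.univ from hQ.2.2 W (𝟙 W) (repWith_of_isIso _ (𝟙 W.obj.left.obj))
    (Set.range_eq_univ.2 fun x => ⟨x, Points.map_id x⟩)
  refine induction_open W.obj.left (h1 W hW).1 (h1 W hW).2 Q ∅ isOpen_empty isCompact_empty
    ⟨isOpen_empty, isCompact_empty, fun U j _ hr => ?_⟩ fun O V φ hV hO hOc _ hφ hn hQ => ?_
  · rw [Set.range_eq_empty_iff] at hr
    exact P_of_isEmpty B P h1 h2 h3 h4 U
  have : IsAffine V.left := hV
  haveI : CompactSpace (Points ((yon S).obj V)) := (Points.schemeHomeo V).compactSpace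
  have hφo : IsOpen (Set.range (Points.map φ)) :=
    (isOpenMap_map (repWith_mono
      (fun _ _ e (_ : Etale e) => inferInstanceAs (UniversallyOpen e)) _ hφ)).isOpen_range
  have hc := hOc.union (isCompact_range (Points.continuous_map φ))
  refine ⟨hO.union hφo, hc, fun U₂ j₂ hj₂ hr₂ => ?_⟩
  exact glue_step B P h1 h2 h3 h4 W U₂ j₂ hj₂
    (h2 W U₂ j₂ hW hj₂ (compactSpace_of_range hj₂ (hr₂.symm ▸ hc))) hO hOc hV hφ hn hr₂ hQ.2.2
    fun Vo UV e q hq hqc _ => P_of_open_affine B P h1 h2 h3 h4 Vo UV hV e q hq hqc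

end Et

end Groth.Agent.AlgSpDec.Neat
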