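import Groth.Agent.AlgSpDec.EtNbhdCofiltered
import Groth.Agent.EtFound.LiftEtale
import Groth.Prelude.Def_AlgSpOX2
import Mathlib.CategoryTheory.Filtered.Final

/-!
# Stalks of direct images along closed immersions
-/

set_option backward.isDefEq.respectTransparency false
set_option backward.isDefEq.respectTransparency.types false
set_option autoImplicit false

universe v' u' u

open CategoryTheory CategoryTheory.Limits AlgebraicGeometry Opposite AlgSp Groth.Agent.AlgSpLib

namespace Groth.Agent.AlgSpDec.PushClosed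

variable {S : Scheme.{u}} {Z X : Sp S} {i : Z ⟶ X} (hi : RepWith @IsClosedImmersion i) (z : FieldPt Z)

/-- The base change of the lift of a neighbourhood. -/
noncomputable def nbhdPt (N : EtNbhd (z.map i)) : (FieldPt.liftsTo z).obj ((EtOver.bc hi.1).obj N.1) :=
  ⟨hi.1.lift z.toHom N.2.1 ((N.2.2.trans (FieldPt.toHom_map i z)).symm), hi.1.lift_fst _ _ _⟩

/-- Base change of étale neighbourhoods along a closed immersion. -/
noncomputable def bcNbhd : EtNbhd (z.map i) ⥤ EtNbhd z where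
  obj N := ⟨(EtOver.bc hi.1).obj N.1, nbhdPt hi z N⟩
  map {N M} g := CategoryOfElements.homMk _ _ ((EtOver.bc hi.1).map g.1) (Subtype.ext (hi.1.hom_ext
    (by
      show (yon S).map ((nbhdPt hi z N).1 ≫ (EtOver.bcMap hi.1 g.1).hom.left) ≫ hi.1.fst M.1.obj.hom = _
      rw [Functor.map_comp, Category.assoc, EtOver.map_bcMap_fst]
      exact (hi.1.lift_fst _ _ _).trans (hi.1.lift_fst z.toHom M.2.1 _).symm)
    (by
      show ((nbhdPt hi z N).1 ≫ (EtOver.bcMap hi.1 g.1).hom.left) ≫ EtOver.bcπ hi.1 M.1 =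
        (nbhdPt hi z M).1 ≫ EtOver.bcπ hi.1 M.1
      rw [Category.assoc, EtOver.bcMap_snd]
      refine ((Category.assoc _ _ _).symm.trans (congrArg (· ≫ g.1.hom.left) (hi.1.lift_snd _ _ _))).trans ?_
      exact (congrArg Subtype.val g.2).trans (hi.1.lift_snd z.toHom M.2.1 _).symm)))
  map_id N := CategoryOfElements.ext _ _ _ ((EtOver.bc hi.1).map_id N.1)
  map_comp f g := CategoryOfElements.ext _ _ _ ((EtOver.bc hi.1).map_comp f.1 g.1)

/-- A neighbourhood over a base changed neighbourhood is refined by a base changed one. -/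
theorem exists_lift (N : EtNbhd (z.map i)) {W : EtNbhd z} (g : W ⟶ (bcNbhd hi z).obj N) :
    ∃ (N' : EtNbhd (z.map i)) (t : N' ⟶ N) (m : (bcNbhd hi z).obj N' ⟶ W), m ≫ g = (bcNbhd hi z).map t := by
  let U := N.1.obj.left
  let P := hi.1.pullback N.1.obj.hom
  let π : P ⟶ U := hi.1.snd N.1.obj.hom
  have : IsClosedImmersion π.left := hi.property_snd N.1.obj.hom
  let gl : W.1.obj.left ⟶ P := g.1.hom.left
  have : Etale gl.left := EtOver.etale_left g.1
  have hg : W.2.1 ≫ gl = (nbhdPt hi z N).1 := congrArg Subtype.val g.2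
  have : Nonempty z.pt.left := inferInstanceAs (Nonempty (Spec (CommRingCat.of z.K)))
  have : Subsingleton z.pt.left := inferInstanceAs (Subsingleton (Spec (CommRingCat.of z.K)))
  obtain ⟨V, h, hh, hopen, hw⟩ := Groth.Agent.EtFound.exists_etale_lift π.left gl.left (W.2.1.left (Classical.arbitrary z.pt.left))
  let l : z.pt.left ⟶ pullback V.hom π.left := IsOpenImmersion.lift h W.2.1.left (by
    rintro _ ⟨y, rfl⟩
    rw [Subsingleton.elim y (Classical.arbitrary z.pt.left)]
    exact hw)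
  have hl : l ≫ h = W.2.1.left := IsOpenImmersion.lift_fac _ _ _
  have hl₂ : l ≫ pullback.snd V.hom π.left = (nbhdPt hi z N).1.left := by
    rw [← hh, ← Category.assoc, hl, ← Over.comp_left, hg]
  have hl₁ : (l ≫ pullback.fst V.hom π.left) ≫ V.hom = N.2.1.left := by
    rw [Category.assoc, pullback.condition, ← Category.assoc, hl₂, ← Over.comp_left]
    exact congrArg CommaMorphism.left (hi.1.lift_snd z.toHom N.2.1 _)
  let vpt : z.pt ⟶ EtOver.overOfEtale V := Over.homMk (l ≫ pullback.fst V.hom π.left) (by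
    show (l ≫ pullback.fst V.hom π.left) ≫ V.hom ≫ U.hom = z.pt.hom
    rw [← Category.assoc, hl₁]
    exact Over.w N.2.1)
  have hv : vpt ≫ EtOver.homOfEtale V = N.2.1 := Over.OverMorphism.ext hl₁
  let E : EtOver X := (EtOver.ofChart N.1.obj.hom N.1.property).obj V
  let N' : EtNbhd (z.map i) := ⟨E, ⟨vpt, by
    show (yon S).map vpt ≫ (yon S).map (EtOver.homOfEtale V) ≫ N.1.obj.hom = (z.map i).toHom
    rw [← Functor.map_comp_assoc, hv]
    exact N.2.2⟩⟩
  let t₀ : E ⟶ N.1 := EtOver.homMk (EtOver.homOfEtale V) rfl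
  let t : N' ⟶ N := CategoryOfElements.homMk _ _ t₀ (Subtype.ext hv)
  let b : (hi.1.pullback E.obj.hom) ⟶ P := (EtOver.bcMap hi.1 t₀).hom.left
  let π' : hi.1.pullback E.obj.hom ⟶ EtOver.overOfEtale V := hi.1.snd E.obj.hom
  have hb : b ≫ π = π' ≫ EtOver.homOfEtale V := EtOver.bcMap_snd hi.1 t₀
  let k : (hi.1.pullback E.obj.hom).left ⟶ pullback V.hom π.left :=
    pullback.lift π'.left b.left (congrArg CommaMorphism.left hb).symm
  have hk : k ≫ h ≫ gl.left = b.left := by rw [hh]; exact pullback.lift_snd _ _ _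
  let m₀ : hi.1.pullback E.obj.hom ⟶ W.1.obj.left := Over.homMk (k ≫ h) (by
    show (k ≫ h) ≫ W.1.obj.left.hom = _
    rw [← Over.w gl, ← Category.assoc, Category.assoc k h, hk]
    exact Over.w b)
  have hm₀ : m₀ ≫ gl = b := Over.OverMorphism.ext ((Category.assoc _ _ _).trans hk)
  let m₁ : (EtOver.bc hi.1).obj E ⟶ W.1 := EtOver.homMk m₀ (by
    show (yon S).map m₀ ≫ W.1.obj.hom = hi.1.fst E.obj.hom
    rw [← show (yon S).map gl ≫ hi.1.fst N.1.obj.hom = W.1.obj.hom from EtOver.w g.1, ← Category.assoc,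
      ← Functor.map_comp, hm₀]
    exact EtOver.map_bcMap_fst hi.1 t₀)
  have hpt : (nbhdPt hi z N').1 ≫ b = (nbhdPt hi z N).1 := congrArg Subtype.val ((bcNbhd hi z).map t).2
  refine ⟨N', t, CategoryOfElements.homMk _ _ m₁ (Subtype.ext (Over.OverMorphism.ext ?_)),
    CategoryOfElements.ext _ _ _ (EtOver.hom_ext _ _ hm₀)⟩
  show (nbhdPt hi z N').1.left ≫ k ≫ h = W.2.1.left
  rw [← Category.assoc, ← hl]
  congr 1
  apply pullback.hom_ext
  · rw [Category.assoc, pullback.lift_fst]
    exact congrArg CommaMorphism.left (hi.1.lift_snd z.toHom vpt _)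
  · rw [Category.assoc, pullback.lift_snd, hl₂, ← Over.comp_left, hpt]

theorem initial_bcNbhd (hZ : IsAlgSpace Z) (hX : IsAlgSpace X) (hz : z.IsGeometric) :
    (bcNbhd hi z).Initial := by
  have : IsCofiltered (EtNbhd (z.map i)) := isCofiltered_etNbhd (z.map i) hX hz
  have : IsCofiltered (EtNbhd z) := isCofiltered_etNbhd z hZ hz
  refine Functor.initial_of_exists_of_isCofiltered _ (fun W => ?_) (fun {W N} s s' => ?_)
  · obtain ⟨N₀⟩ := exists_etNbhd (z.map i) hX hz
    obtain ⟨W', a, b, -⟩ := exists_cone_obj z W ((bcNbhd hi z).obj N₀)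
    obtain ⟨N', t, m, -⟩ := exists_lift hi z N₀ b
    exact ⟨N', ⟨m ≫ a⟩⟩
  · obtain ⟨W', e, he⟩ := exists_cone_map z s s'
    obtain ⟨N', t, m, hm⟩ := exists_lift hi z N e
    exact ⟨N', t, by rw [← hm, Category.assoc, Category.assoc, he]⟩

end Groth.Agent.AlgSpDec.PushClosed

namespace Groth.Agent.AlgSpDec.PushClosed

variable {S : Scheme.{u}} {Z X : Sp S} {i : Z ⟶ X} (hi : RepWith @IsClosedImmersion i) (z : FieldPt Z)
  {A : Type u'} [Category.{v'} A] [HasColimitsOfShape (EtNbhd z)ᵒᵖ A] [HasColimitsOfShape (EtNbhd (z.map i))ᵒᵖ A]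

/-- The stalk of a direct image along a closed immersion. -/
theorem exists_stalkIso (hZ : IsAlgSpace Z) (hX : IsAlgSpace X) (hz : z.IsGeometric) (F : EtSh Z A) :
    ∃ e : stalkEt (z.map i) ((pushEt hi.1 A).obj F) ≅ stalkEt z F,
      ∀ N : EtNbhd (z.map i), stalkEtι (z.map i) ((pushEt hi.1 A).obj F) N ≫ e.hom =
        stalkEtι z F ((bcNbhd hi z).obj N) := by
  have := initial_bcNbhd hi z hZ hX hz
  refine ⟨Functor.Final.colimitIso (bcNbhd hi z).op (stalkEtDiagram z F), fun N => ?_⟩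
  exact colimit.ι_pre (stalkEtDiagram z F) (bcNbhd hi z).op (op N)

end Groth.Agent.AlgSpDec.PushClosed
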