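import Groth.Agent.AlgSpDec.EtPushClosed
import Groth.Agent.AlgSpPts.Geom
import Groth.Agent.EtFound.UnivInjPush
import Mathlib.AlgebraicGeometry.Morphisms.FlatMono
import Mathlib.CategoryTheory.Sites.DenseSubsite.Basic

/-!
# Base change of etale sites along universal embeddings is cover dense and locally full

The morphisms in question are representable, their base changes to etale schemes are topological
embeddings and have the lifting property for etale neighbourhoods; this covers closed immersions and
integral universally injective morphisms.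
-/

set_option backward.isDefEq.respectTransparency false
set_option backward.isDefEq.respectTransparency.types false
set_option autoImplicit false

universe u

open CategoryTheory CategoryTheory.Limits AlgebraicGeometry Opposite AlgSp Groth.Agent.AlgSpLib

namespace Groth.Agent.AlgSpDec.PushEmb

variable {S : Scheme.{u}} {Z X : Sp S} {i : Z ⟶ X} (hf : Representable i)
  (hL : ∀ E : EtOver X, EtFound.Liftable (hf.snd E.obj.hom).left)
  (hE : ∀ E : EtOver X, Topology.IsEmbedding (hf.snd E.obj.hom).left)

include hL in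
/-- A point of an object over a base change is reached from a base change. -/
theorem exists_bc_through {E : EtOver X} {W : EtOver Z} (g : W ⟶ (EtOver.bc hf).obj E) (w : ↥W.obj.left.left) :
    ∃ (E' : EtOver X) (m : (EtOver.bc hf).obj E' ⟶ W), w ∈ Set.range m.hom.left.left := by
  let U := E.obj.left
  let P := hf.pullback E.obj.hom
  let π : P ⟶ U := hf.snd E.obj.hom
  let gl : W.obj.left ⟶ P := g.hom.left
  have : Etale gl.left := EtOver.etale_left g
  obtain ⟨V, hm', hw'⟩ := hL E (Scheme.Etale.mk gl.left) w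
  obtain ⟨h, hh, hw⟩ : ∃ h : pullback V.hom π.left ⟶ W.obj.left.left,
      h ≫ gl.left = pullback.snd V.hom π.left ∧ w ∈ Set.range h := ⟨hm'.left, MorphismProperty.Over.w hm', hw'⟩
  obtain ⟨q, rfl⟩ := hw
  let E' : EtOver X := (EtOver.ofChart E.obj.hom E.property).obj V
  let t : E' ⟶ E := EtOver.homMk (EtOver.homOfEtale V) rfl
  let b : (hf.pullback E'.obj.hom) ⟶ P := (EtOver.bcMap hf t).hom.left
  let π' : hf.pullback E'.obj.hom ⟶ EtOver.overOfEtale V := hf.snd E'.obj.hom
  have sq : IsPullback π'.left b.left V.hom π.left := (EtOver.isPullback_bcMap_left hf t).flip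
  let k := sq.isoPullback
  have hk : k.hom ≫ h ≫ gl.left = b.left := by rw [hh]; exact sq.isoPullback_hom_snd
  let m₀ : hf.pullback E'.obj.hom ⟶ W.obj.left := Over.homMk (k.hom ≫ h) (by
    show (k.hom ≫ h) ≫ W.obj.left.hom = _
    rw [← Over.w gl, ← Category.assoc, Category.assoc k.hom h, hk]
    exact Over.w b)
  have hm₀ : m₀ ≫ gl = b := Over.OverMorphism.ext ((Category.assoc _ _ _).trans hk)
  let m₁ : (EtOver.bc hf).obj E' ⟶ W := EtOver.homMk m₀ (by
    show (yon S).map m₀ ≫ W.obj.hom = hf.fst E'.obj.hom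
    rw [← show (yon S).map gl ≫ hf.fst E.obj.hom = W.obj.hom from EtOver.w g, ← Category.assoc,
      ← Functor.map_comp, hm₀]
    exact EtOver.map_bcMap_fst hf t)
  refine ⟨E', m₁, k.inv q, ?_⟩
  show (k.hom ≫ h) (k.inv q) = h q
  rw [← Scheme.Hom.comp_apply, k.inv_hom_id_assoc]

include hL in
theorem isCoverDense (hX : IsAlgSpace X) : (EtOver.bc hf).IsCoverDense (etTop Z) where
  is_cover W := by
    obtain ⟨U, a, ha, has⟩ := hX.atlas
    let E : EtOver X := EtOver.mk a ha
    have sqE : IsPullback (hf.fst a) ((yon S).map (hf.snd a)) i a := hf.isPullback a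
    have hp : RepWith @Etale (hf.fst a) := ((EtOver.bc hf).obj E).property
    have hps : RepWith @Surjective (hf.fst a) := repWith_of_isPullback sqE.flip has
    let Q := hp.rep.pullback W.obj.hom
    let qW : Q ⟶ W.obj.left := hp.rep.snd W.obj.hom
    obtain ⟨qE, hqE⟩ := (yon S).map_surjective (hp.rep.fst W.obj.hom)
    let W'' : EtOver Z := EtOver.mk ((yon S).map qW ≫ W.obj.hom)
      (repWith_comp ((repWith_yon_map_iff _ _).2 (hp.property_snd W.obj.hom)) W.property)
    let toW : W'' ⟶ W := EtOver.homMk qW rfl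
    let g : W'' ⟶ (EtOver.bc hf).obj E := EtOver.homMk qE (by
      show (yon S).map qE ≫ hf.fst a = (yon S).map qW ≫ W.obj.hom
      rw [hqE]
      exact hp.rep.w _)
    have : Surjective qW.left := hps.property _ _ _ (hp.rep.isPullback W.obj.hom)
    choose E' m hm using fun w : ↥W''.obj.left.left => exists_bc_through hf hL g w
    refine GrothendieckTopology.superset_covering _ ?_
      (ofArrows_mem_etTop (fun w => (EtOver.bc hf).obj (E' w)) (fun w => m w ≫ toW) fun x => ?_)
    · rintro Y f hf
      obtain ⟨w, k, rfl⟩ := (Sieve.mem_ofArrows_iff _ _ f).1 hf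
      exact (Sieve.coverByImage _ W).downward_closed (Presieve.in_coverByImage _ _) k
    · obtain ⟨w, rfl⟩ := Surjective.surj (f := qW.left) x
      obtain ⟨v, hv⟩ := hm w
      refine ⟨w, v, ?_⟩
      show qW.left ((m w).hom.left.left v) = qW.left w
      rw [hv]

include hE in
theorem isLocallyFull : (EtOver.bc hf).IsLocallyFull (etTop Z) where
  functorPushforward_imageSieve_mem {U V} f := by
    have sq := U.property.rep.isPullback' V.obj.hom
    let p₀ := U.property.rep.fst' V.obj.hom
    let q₀ := U.property.rep.snd V.obj.hom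
    let P : EtOver X := EtOver.mk ((yon S).map p₀ ≫ U.obj.hom)
      (repWith_comp ((repWith_yon_map_iff _ _).2 (V.property.property _ _ _ sq.flip)) U.property)
    let p : P ⟶ U := EtOver.homMk p₀ rfl
    let q : P ⟶ V := EtOver.homMk q₀ sq.w.symm
    let fU := hf.fst U.obj.hom
    let πU := hf.snd U.obj.hom
    let fl : hf.pullback U.obj.hom ⟶ hf.pullback V.obj.hom := f.hom.left
    have hfl : (yon S).map fl ≫ hf.fst V.obj.hom = fU := EtOver.w f
    obtain ⟨l₀, hl₁, hl₂⟩ := sq.exists_lift ((yon S).map πU) ((yon S).map (fl ≫ hf.snd V.obj.hom)) (by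
      rw [Functor.map_comp, Category.assoc, ← hf.w, ← hf.w, ← Category.assoc _ _ i, hfl])
    obtain ⟨l, rfl⟩ := (yon S).map_surjective l₀
    rw [← Functor.map_comp] at hl₁ hl₂
    let γ : (EtOver.bc hf).obj U ⟶ (EtOver.bc hf).obj P := EtOver.homMk
      (hf.lift fU l (by
        show fU ≫ i = (yon S).map l ≫ (yon S).map p₀ ≫ U.obj.hom
        rw [← Functor.map_comp_assoc, (yon S).map_injective hl₁]
        exact hf.w _))
      (hf.lift_fst _ _ _)
    have hγ₁ : γ ≫ (EtOver.bc hf).map p = 𝟙 _ := EtOver.hom_ext _ _ (hf.hom_ext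
      (by
        show (yon S).map (hf.lift fU l _ ≫ (EtOver.bcMap hf p).hom.left) ≫ fU =
          (yon S).map (𝟙 (hf.pullback U.obj.hom)) ≫ fU
        rw [Functor.map_comp, Category.assoc, EtOver.map_bcMap_fst]
        refine (hf.lift_fst _ _ _).trans ?_
        erw [(yon S).map_id, Category.id_comp])
      (by
        show (hf.lift fU l _ ≫ (EtOver.bcMap hf p).hom.left) ≫ πU = 𝟙 _ ≫ πU
        rw [Category.assoc, EtOver.bcMap_snd, Category.id_comp, ← Category.assoc, hf.lift_snd]
        exact (yon S).map_injective hl₁))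
    have hγ₂ : γ ≫ (EtOver.bc hf).map q = f := EtOver.hom_ext _ _ (hf.hom_ext
      (by
        show (yon S).map (hf.lift fU l _ ≫ (EtOver.bcMap hf q).hom.left) ≫ hf.fst V.obj.hom = _
        rw [Functor.map_comp, Category.assoc, EtOver.map_bcMap_fst]
        exact (hf.lift_fst _ _ _).trans hfl.symm)
      (by
        show (hf.lift fU l _ ≫ (EtOver.bcMap hf q).hom.left) ≫ hf.snd V.obj.hom = fl ≫ hf.snd V.obj.hom
        rw [Category.assoc, EtOver.bcMap_snd, ← Category.assoc, hf.lift_snd]
        exact (yon S).map_injective hl₂))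
    let gl := γ.hom.left.left
    have : Etale gl := EtOver.etale_left γ
    have hgp : gl ≫ ((EtOver.bc hf).map p).hom.left.left = 𝟙 _ :=
      congrArg (fun k : (EtOver.bc hf).obj U ⟶ _ => k.hom.left.left) hγ₁
    have : IsSplitMono gl := ⟨⟨⟨_, hgp⟩⟩⟩
    have : IsOpenImmersion gl := IsOpenImmersion.of_flat_of_mono gl
    let πP := (hf.snd P.obj.hom).left
    obtain ⟨O₀, hO₀, hO⟩ := (hE P).isInducing.isOpen_iff.1 gl.opensRange.2
    let O : P.obj.left.left.Opens := ⟨O₀, hO₀⟩
    let o : etOpen P O ⟶ P := etOpenι P O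
    let b := ((EtOver.bc hf).map o).hom.left.left
    have hsq : IsPullback b (hf.snd (etOpen P O).obj.hom).left πP o.hom.left.left :=
      EtOver.isPullback_bcMap_left hf o
    have hsub : Set.range b ⊆ Set.range gl := by
      rintro _ ⟨y, rfl⟩
      have : πP (b y) ∈ Set.range o.hom.left.left :=
        ⟨(hf.snd (etOpen P O).obj.hom).left y, (congrArg (fun k => k y) hsq.w).symm⟩
      rw [range_etOpenι] at this
      have h' : b y ∈ πP ⁻¹' O₀ := this
      rwa [hO] at h'
    have hb : (EtOver.bc hf).map o ≫ (EtOver.bc hf).map p ≫ γ = (EtOver.bc hf).map o := by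
      refine EtOver.hom_ext _ _ (Over.OverMorphism.ext ?_)
      show b ≫ ((EtOver.bc hf).map p).hom.left.left ≫ gl = b
      rw [← IsOpenImmersion.lift_fac gl b hsub, Category.assoc, reassoc_of% hgp]
    have hfac : (EtOver.bc hf).map (o ≫ p) ≫ f = (EtOver.bc hf).map (o ≫ q) := by
      rw [← hγ₂, Functor.map_comp, Functor.map_comp, Category.assoc]
      conv_rhs => rw [← hb]
      simp only [Category.assoc]
    have hmem : (Sieve.functorPushforward (EtOver.bc hf) ((EtOver.bc hf).imageSieve f))
        ((EtOver.bc hf).map (o ≫ p)) :=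
      Sieve.image_mem_functorPushforward _ _ ⟨o ≫ q, hfac.symm⟩
    refine GrothendieckTopology.superset_covering _ ?_
      (ofArrows_mem_etTop (fun _ : PUnit.{u + 1} => (EtOver.bc hf).obj (etOpen P O))
        (fun _ => (EtOver.bc hf).map (o ≫ p)) fun x => ?_)
    · rintro Y k hk
      obtain ⟨_, k', rfl⟩ := (Sieve.mem_ofArrows_iff _ _ k).1 hk
      exact Sieve.downward_closed _ hmem k'
    · have hx : gl x ∈ πP ⁻¹' O₀ := by rw [hO]; exact ⟨x, rfl⟩
      obtain ⟨z, hz⟩ : πP (gl x) ∈ Set.range o.hom.left.left := by rw [range_etOpenι]; exact hx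
      obtain ⟨y, hy, -⟩ := Scheme.exists_preimage_of_isPullback hsq (gl x) z hz.symm
      refine ⟨⟨⟩, y, ?_⟩
      rw [Functor.map_comp]
      show ((EtOver.bc hf).map p).hom.left.left (b y) = x
      rw [hy, ← Scheme.Hom.comp_apply, hgp]
      rfl

end Groth.Agent.AlgSpDec.PushEmb

namespace Groth.Agent.AlgSpDec.PushEmb

variable {S : Scheme.{u}} {Z X : Sp S} {i : Z ⟶ X}

theorem liftable_of_closed (hi : RepWith @IsClosedImmersion i) (E : EtOver X) :
    EtFound.Liftable (hi.1.snd E.obj.hom).left := by
  intro U x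
  have : IsClosedImmersion (hi.1.snd E.obj.hom).left := hi.property_snd E.obj.hom
  have : AlgebraicGeometry.Etale U.hom := U.prop
  obtain ⟨V, h, hh, -, hx⟩ := EtFound.exists_etale_lift (hi.1.snd E.obj.hom).left U.hom x
  exact ⟨V, MorphismProperty.Over.homMk h hh, hx⟩

theorem isEmbedding_of_closed (hi : RepWith @IsClosedImmersion i) (E : EtOver X) :
    Topology.IsEmbedding (hi.1.snd E.obj.hom).left :=
  have : IsClosedImmersion (hi.1.snd E.obj.hom).left := hi.property_snd E.obj.hom
  Scheme.Hom.isEmbedding _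

theorem universallyInjective_snd (hi : Representable i) (hu : IsUnivInjectiveMor i) {U : Over S}
    (a : (yon S).obj U ⟶ X) : UniversallyInjective (hi.snd a).left := by
  refine ⟨fun {P₁ T₁} f₁ g₁ p₁ sq => ?_⟩
  let T : Over S := Over.mk (g₁ ≫ U.hom)
  let P : Over S := Over.mk (p₁ ≫ T.hom)
  let b : T ⟶ U := Over.homMk g₁ rfl
  let pT : P ⟶ T := Over.homMk p₁ rfl
  let pP : P ⟶ hi.pullback a := Over.homMk f₁ (by
    show f₁ ≫ (hi.pullback a).hom = p₁ ≫ g₁ ≫ U.hom
    rw [← Over.w (hi.snd a), ← Category.assoc, ← sq.w, Category.assoc])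
  have sqO : IsPullback pP pT (hi.snd a) b :=
    IsPullback.of_map (Over.forget S) (Over.OverMorphism.ext sq.w.symm) sq.flip
  have sqS := (sqO.map (yon S)).paste_horiz (hi.isPullback a)
  have hinj := hu (IsAlgSpace.yon_obj T) _ _ _ sqS
  intro x y hxy
  refine (Points.schemeEquiv P).injective (hinj ?_)
  exact (Points.map_yon_map_apply pT x).trans ((congrArg (Points.schemeEquiv T) hxy).trans
    (Points.map_yon_map_apply pT y).symm)

theorem liftable_of_integral (hi : RepWith @IsIntegralHom i) (hu : IsUnivInjectiveMor i) (E : EtOver X) :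
    EtFound.Liftable (hi.1.snd E.obj.hom).left :=
  have : IsIntegralHom (hi.1.snd E.obj.hom).left := hi.property_snd E.obj.hom
  have := universallyInjective_snd hi.1 hu E.obj.hom
  EtFound.liftable_of_integral_univInj _

theorem isEmbedding_of_integral (hi : RepWith @IsIntegralHom i) (hu : IsUnivInjectiveMor i) (E : EtOver X) :
    Topology.IsEmbedding (hi.1.snd E.obj.hom).left :=
  have : IsIntegralHom (hi.1.snd E.obj.hom).left := hi.property_snd E.obj.hom
  have := universallyInjective_snd hi.1 hu E.obj.hom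
  (Topology.IsClosedEmbedding.of_continuous_injective_isClosedMap (hi.1.snd E.obj.hom).left.continuous
    (hi.1.snd E.obj.hom).left.injective (hi.1.snd E.obj.hom).left.isClosedMap).isEmbedding

end Groth.Agent.AlgSpDec.PushEmb
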