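import Groth.Agent.AlgSpDec.EtSite
import Groth.Agent.EtFound.IntegralProps
import Groth.Prelude.Def_AlgSpOX2
import Mathlib.CategoryTheory.Sites.EpiMono
import Mathlib.Algebra.Homology.ShortComplex.ExactFunctor
import Mathlib.CategoryTheory.Abelian.RightDerived

/-!
# Direct images of abelian sheaves along representable integral morphisms are exact
-/

set_option backward.isDefEq.respectTransparency false
set_option backward.isDefEq.respectTransparency.types false
set_option autoImplicit false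

universe v' u' v u

open CategoryTheory CategoryTheory.Limits AlgebraicGeometry Opposite AlgSp Groth.Agent.AlgSpLib

namespace Groth.Agent.AlgSpDec.PushIntegral

variable {S : Scheme.{u}} {Z X : Sp S} {i : Z ⟶ X}

/-- Higher derived functors of an exact functor vanish. -/
theorem isZero_rightDerived_succ {C : Type u'} [Category.{v'} C] [Abelian C] [HasInjectiveResolutions C]
    {D : Type v} [Category.{v'} D] [Abelian D] (F : C ⥤ D) [F.Additive] [PreservesFiniteLimits F]
    [PreservesFiniteColimits F] (n : ℕ) (A : C) : IsZero ((F.rightDerived (n + 1)).obj A) := by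
  let I := injectiveResolution A
  refine IsZero.of_iso ?_ (I.isoRightDerivedObj F (n + 1))
  erw [← HomologicalComplex.exactAt_iff_isZero_homology]
  rw [HomologicalComplex.exactAt_iff' _ n (n + 1) (n + 2) (by simp) (by simp)]
  exact (I.exact_succ n).map F

/-- Sections glue along a disjoint covering by opens. -/
theorem exists_glue_disjoint (F : AbEt Z) (B : EtOver Z) {μ : Type u} (O : μ → B.obj.left.left.Opens)
    (hd : ∀ a b, a ≠ b → Disjoint (O a) (O b)) (hO : ∀ x, ∃ a, x ∈ O a)
    (t : ∀ a, F.obj.obj (op (etOpen B (O a)))) :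
    ∃ s : F.obj.obj (op B), ∀ a, F.obj.map (etOpenι B (O a)).op s = t a := by
  have h := ((isSheaf_iff_isSheaf_of_type _ _).1
    ((sheafCompose (etTop Z) (CategoryTheory.forget AddCommGrpCat.{u + 1})).obj F).property)
  have hF := h (Sieve.ofArrows _ (fun a => etOpenι B (O a))) (ofArrows_mem_etTop _ _ fun x => by
    obtain ⟨a, ha⟩ := hO x
    exact ⟨a, (range_etOpenι B (O a)).ge ha⟩)
  rw [← Presieve.isSheafFor_iff_generate, Presieve.isSheafFor_arrows_iff] at hF
  refine (hF t fun a b W ga gb e => ?_).exists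
  by_cases hab : a = b
  · subst hab
    have : ga = gb := EtOver.hom_ext _ _ (Over.OverMorphism.ext
      ((cancel_mono (O a).ι).1 (congrArg (fun k => k.hom.left.left) e)))
    rw [this]
  · have hW : IsEmpty ↥W.obj.left.left := ⟨fun w => by
      have e' : (O a).ι (ga.hom.left.left w) = (O b).ι (gb.hom.left.left w) :=
        (congrArg (fun k : W ⟶ B => k.hom.left.left w) e)
      refine Set.disjoint_left.1 (TopologicalSpace.Opens.coe_disjoint.2 (hd a b hab))
        (ga.hom.left.left w).2 ?_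
      exact (congrArg (· ∈ O b) e').mpr (gb.hom.left.left w).2⟩
    have hb : (⊥ : Sieve W) ∈ etTop Z W := by
      refine GrothendieckTopology.superset_covering _ ?_
        (ofArrows_mem_etTop (fun i : PEmpty.{u + 1} => W) (fun i => i.elim) fun x => hW.elim x)
      intro Y k hk
      obtain ⟨j, -⟩ := (Sieve.mem_ofArrows_iff _ _ k).1 hk
      exact j.elim
    exact (h ⊥ hb).isSeparatedFor.ext fun Y f hf => False.elim hf

theorem isLocallySurjective_push (hf : Representable i)
    (hint : ∀ E : EtOver X, IsIntegralHom (hf.snd E.obj.hom).left) {F G : AbEt Z} (φ : F ⟶ G)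
    [Sheaf.IsLocallySurjective φ] :
    Sheaf.IsLocallySurjective ((pushEt hf AddCommGrpCat.{u + 1}).map φ) := by
  constructor
  intro E s
  let B : EtOver Z := (EtOver.bc hf).obj E
  have hR := Presheaf.imageSieve_mem (etTop Z) φ.hom (U := op B) s
  obtain ⟨P, hP, hPR⟩ := (etPre Z).mem_toGrothendieck_iff_of_isStableUnderComposition.1 hR
  obtain ⟨ι₀, W₀, g₀, rfl⟩ := P.exists_eq_ofArrows
  choose k hk using (ofArrows_mem_etPre_iff W₀ g₀).1 hP
  let W : ↥B.obj.left.left → EtOver Z := fun x => W₀ (k x)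
  let g : ∀ x, W x ⟶ B := fun x => g₀ (k x)
  choose t ht using fun x => hPR _ _ (Presieve.ofArrows.mk (k x))
  let π : B.obj.left.left ⟶ E.obj.left.left := (hf.snd E.obj.hom).left
  have : IsIntegralHom π := hint E
  let gs : ∀ x, (W x).obj.left.left ⟶ B.obj.left.left := fun x => (g x).hom.left.left
  have : ∀ x, Etale (gs x) := fun x => EtOver.etale_left (g x)
  have := EtFound.etale_sigmaDesc gs
  have hcov : ∀ (y : ↥E.obj.left.left) (x : ↥B.obj.left.left), π x = y → ∃ u, Sigma.desc gs u = x :=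
    fun y x _ => by
      obtain ⟨w, hw⟩ := hk x
      exact ⟨Sigma.ι (fun x => (W x).obj.left.left) x w, by
        rw [← Scheme.Hom.comp_apply, Sigma.ι_desc]; exact hw⟩
  refine GrothendieckTopology.superset_covering _ ?_
    (ofArrows_mem_etTop (E := E) (fun j : {j : (Σ V : EtOver X, V ⟶ E) //
        (Presheaf.imageSieve ((pushEt hf AddCommGrpCat.{u + 1}).map φ).hom s) j.2} => j.1.1)
      (fun j => j.1.2) fun y => ?_)
  · intro Y q hq
    obtain ⟨j, q', rfl⟩ := (Sieve.mem_ofArrows_iff _ _ q).1 hq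
    exact Sieve.downward_closed _ j.2 q'
  obtain ⟨V, v, hv, ⟨z, hz⟩, h, hh⟩ := EtFound.exists_split' π (Sigma.desc gs) y (hcov y)
  let V' : E.obj.left.left.Etale := Scheme.Etale.mk v
  let E' : EtOver X := (EtOver.ofChart E.obj.hom E.property).obj V'
  let o : E' ⟶ E := EtOver.homMk (EtOver.homOfEtale V') rfl
  let B' : EtOver Z := (EtOver.bc hf).obj E'
  let b : B' ⟶ B := (EtOver.bc hf).map o
  have sq : IsPullback b.hom.left.left (hf.snd E'.obj.hom).left π v := EtOver.isPullback_bcMap_left hf o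
  let e := sq.isoPullback
  have hb : e.hom ≫ h ≫ Sigma.desc gs = b.hom.left.left := by
    rw [hh]
    exact sq.isoPullback_hom_fst
  let O : ↥B.obj.left.left → B'.obj.left.left.Opens := fun x =>
    (e.hom ≫ h) ⁻¹ᵁ (Sigma.ι (fun x => (W x).obj.left.left) x).opensRange
  have hle : ∀ x, Set.range ((O x).ι ≫ e.hom ≫ h) ⊆ Set.range (Sigma.ι (fun x => (W x).obj.left.left) x) := by
    rintro x _ ⟨a, rfl⟩
    exact a.2
  let l : ∀ x, (O x : Scheme.{u}) ⟶ (W x).obj.left.left := fun x =>
    IsOpenImmersion.lift (Sigma.ι (fun x => (W x).obj.left.left) x) ((O x).ι ≫ e.hom ≫ h) (hle x)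
  have hl : ∀ x, l x ≫ gs x = (O x).ι ≫ b.hom.left.left := fun x => by
    have h2 := congrArg (· ≫ Sigma.desc gs)
      (IsOpenImmersion.lift_fac (Sigma.ι (fun x => (W x).obj.left.left) x) ((O x).ι ≫ e.hom ≫ h) (hle x))
    simp only [Category.assoc, Sigma.ι_desc, hb] at h2
    exact h2
  let lO : ∀ x, (etOpen B' (O x)).obj.left ⟶ (W x).obj.left := fun x => Over.homMk (l x) (by
    show l x ≫ (W x).obj.left.hom = (O x).ι ≫ B'.obj.left.hom
    rw [← Over.w (g x).hom.left, ← Category.assoc]
    refine (congrArg (· ≫ B.obj.left.hom) (hl x)).trans ?_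
    rw [Category.assoc]
    exact congrArg ((O x).ι ≫ ·) (Over.w b.hom.left))
  have hlO : ∀ x, lO x ≫ (g x).hom.left = (etOpenι B' (O x) ≫ b).hom.left := fun x =>
    Over.OverMorphism.ext (hl x)
  let m : ∀ x, etOpen B' (O x) ⟶ W x := fun x => EtOver.homMk (lO x) (by
    show (yon S).map (lO x) ≫ (W x).obj.hom = (etOpen B' (O x)).obj.hom
    rw [← EtOver.w (g x), ← EtOver.w (etOpenι B' (O x) ≫ b), ← Category.assoc, ← Functor.map_comp, hlO])
  have hm : ∀ x, m x ≫ g x = etOpenι B' (O x) ≫ b := fun x => EtOver.hom_ext _ _ (hlO x)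
  have hd : ∀ a b, a ≠ b → Disjoint (O a) (O b) := fun a b hab => by
    rw [← TopologicalSpace.Opens.coe_disjoint, Set.disjoint_left]
    rintro w ⟨c, hc⟩ ⟨d, hd⟩
    obtain ⟨rfl⟩ := (sigmaι_eq_iff _ _ _ _ _).mp (hc.trans hd.symm)
    exact hab rfl
  have hO : ∀ w, ∃ x, w ∈ O x := fun w => by
    obtain ⟨x, a, ha⟩ := (sigmaOpenCover _).exists_eq ((e.hom ≫ h) w)
    exact ⟨x, a, ha⟩
  obtain ⟨T, hT⟩ := exists_glue_disjoint F B' O hd hO (fun x => F.obj.map (m x).op (t x))
  refine ⟨⟨⟨E', o⟩, ⟨T, ?_⟩⟩, z, hz⟩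
  show φ.hom.app (op B') T = G.obj.map b.op s
  refine Presieve.IsSeparatedFor.ext ((((isSheaf_iff_isSheaf_of_type _ _).1
    ((sheafCompose (etTop Z) (CategoryTheory.forget AddCommGrpCat.{u + 1})).obj G).property)
      (Sieve.ofArrows _ (fun x => etOpenι B' (O x))) (ofArrows_mem_etTop _ _ fun w => by
        obtain ⟨a, ha⟩ := hO w
        exact ⟨a, (range_etOpenι B' (O a)).ge ha⟩)).isSeparatedFor) ?_
  intro Y q hq
  obtain ⟨x, q', rfl⟩ := (Sieve.mem_ofArrows_iff _ _ q).1 hq
  have key : G.obj.map (etOpenι B' (O x)).op (φ.hom.app (op B') T) =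
      G.obj.map (etOpenι B' (O x)).op (G.obj.map b.op s) := by
    rw [← NatTrans.naturality_apply, hT, NatTrans.naturality_apply, ht, ← ConcreteCategory.comp_apply,
      ← G.obj.map_comp, ← op_comp, hm, op_comp, G.obj.map_comp, ConcreteCategory.comp_apply]
  show G.obj.map (q' ≫ etOpenι B' (O x)).op _ = G.obj.map (q' ≫ etOpenι B' (O x)).op _
  rw [op_comp, G.obj.map_comp, ConcreteCategory.comp_apply, ConcreteCategory.comp_apply, key]

theorem preservesFiniteColimits_pushEt (hf : Representable i)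
    (hint : ∀ E : EtOver X, IsIntegralHom (hf.snd E.obj.hom).left) :
    PreservesFiniteColimits (pushEt hf AddCommGrpCat.{u + 1}) := by
  have : (pushEt hf AddCommGrpCat.{u + 1}).PreservesEpimorphisms := ⟨fun {F G} φ _ => by
    have := (Sheaf.isLocallySurjective_iff_epi' _ φ).2 inferInstance
    exact (Sheaf.isLocallySurjective_iff_epi' _ _).1 (isLocallySurjective_push hf hint φ)⟩
  have : (pushEt hf AddCommGrpCat.{u + 1}).IsRightAdjoint := (pullPushAdjEt hf AddCommGrpCat.{u + 1}).isRightAdjoint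
  rw [Functor.preservesFiniteColimits_iff_forall_exact_map_and_epi]
  intro T hT
  have := hT.epi_g
  refine ⟨?_, inferInstance⟩
  have h := ((Functor.preservesFiniteLimits_tfae (pushEt hf AddCommGrpCat.{u + 1})).out 3 0 rfl rfl).1 inferInstance
  exact (h T hT).1

end Groth.Agent.AlgSpDec.PushIntegral
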