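import Groth.Agent.AlgSpDec.QuotRep
import Groth.Agent.AlgSpDec.OpenCoverSpace
import Groth.Agent.AlgSpDec.FppfFamily
import Groth.Agent.AlgSpDec.LqfScheme
import Groth.Agent.AlgSpDec.FppfLqf

/-!
# Sheaves glued from algebraic spaces along etale relations
-/

set_option backward.isDefEq.respectTransparency false
set_option backward.isDefEq.respectTransparency.types false
set_option autoImplicit false

noncomputable section

universe u

open CategoryTheory CategoryTheory.Limits Opposite AlgebraicGeometry AlgSp Groth.Agent.AlgSpLib Groth.Agent.AlgSpPts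

namespace Groth.Agent.AlgSpDec

variable {S : Scheme.{u}}

/-- Maps to a pushout of sheaves lift locally to one of the pieces. -/
theorem exists_covering_of_isPushout {A B C P : Sp S} {a : A ⟶ B} {b : A ⟶ C} {c : B ⟶ P} {d : C ⟶ P}
    (h : IsPushout a b c d) {T : Over S} (t : (yon S).obj T ⟶ P) :
    ∃ R ∈ J S T, ∀ ⦃T' : Over S⦄ (φ : T' ⟶ T), R φ →
      (∃ x : (yon S).obj T' ⟶ B, x ≫ c = (yon S).map φ ≫ t) ∨
      (∃ y : (yon S).obj T' ⟶ C, y ≫ d = (yon S).map φ ≫ t) := by
  let F : ULift.{u} Bool → Sp S := fun k => match k with | ⟨true⟩ => B | ⟨false⟩ => C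
  let m : ∀ k, F k ⟶ P := fun k => match k with | ⟨true⟩ => c | ⟨false⟩ => d
  let co := colimit.cocone (Discrete.functor F)
  have hco : IsColimit (co : Cofan F) := colimit.isColimit _
  let g := Cofan.IsColimit.desc hco m
  have : Epi g := ⟨fun {Z} u v huv => h.hom_ext
    (by
      have hk : Cofan.inj co ⟨true⟩ ≫ g = c := Cofan.IsColimit.fac hco m ⟨true⟩
      rw [← hk]; exact congrArg (_ ≫ ·) huv |> fun e => (Category.assoc _ _ _).trans (e.trans (Category.assoc _ _ _).symm))
    (by
      have hk : Cofan.inj co ⟨false⟩ ≫ g = d := Cofan.IsColimit.fac hco m ⟨false⟩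
      rw [← hk]; exact congrArg (_ ≫ ·) huv |> fun e => (Category.assoc _ _ _).trans (e.trans (Category.assoc _ _ _).symm))⟩
  have : Sheaf.IsLocallySurjective g := (Sheaf.isLocallySurjective_iff_epi g).2 inferInstance
  obtain ⟨R, hR, hlift⟩ := exists_covering_lifts g t
  choose l hl using hlift
  choose R' hR' hlift' using fun ⦃T' : Over S⦄ (φ : T' ⟶ T) (hφ : R φ) => exists_covering_inj co hco (l φ hφ)
  refine ⟨Sieve.bind R.arrows R', (J S).bind_covering hR hR', ?_⟩
  rintro T'' _ ⟨T', ψ, φ, hφ, hψ, rfl⟩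
  obtain ⟨k, s, hs⟩ := hlift' φ hφ ψ hψ
  have key : s ≫ m k = (yon S).map (ψ ≫ φ) ≫ t := by
    rw [show m k = Cofan.inj co k ≫ g from (Cofan.IsColimit.fac hco m k).symm, ← Category.assoc, hs,
      Category.assoc, hl, Functor.map_comp, Category.assoc]
  rcases k with ⟨k⟩
  cases k
  · exact Or.inr ⟨s, key⟩
  · exact Or.inl ⟨s, key⟩

/-- An fppf local property of a representable morphism may be checked after lifting maps from schemes
locally. -/
theorem repWith_of_local_lifts {F G : Sp S} {a : F ⟶ G} (ha : Representable a)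
    (P : MorphismProperty Scheme.{u}) [P.IsStableUnderBaseChange] [P.IsLocalAtTarget Scheme.fppfPrecoverage]
    (h : ∀ (T : Over S) (t : (yon S).obj T ⟶ G), ∃ R ∈ J S T, ∀ ⦃T' : Over S⦄ (φ : T' ⟶ T), R φ →
      ∃ (W : Over S) (fst : (yon S).obj W ⟶ F) (snd : W ⟶ T'),
        IsPullback fst ((yon S).map snd) a ((yon S).map φ ≫ t) ∧ P snd.left) : RepWith P a := by
  refine ⟨ha, fun T W t fst snd sqW => ?_⟩
  obtain ⟨R, hR, hlift⟩ := h T t
  rw [GrothendieckTopology.mem_over_iff] at hR
  have : (@Flat ⊓ @LocallyOfFinitePresentation : MorphismProperty Scheme.{u}).ContainsIdentities :=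
    ⟨fun X => ⟨inferInstanceAs (Flat (𝟙 X)), inferInstanceAs (LocallyOfFinitePresentation (𝟙 X))⟩⟩
  have : Scheme.fppfPrecoverage.HasIsos := inferInstanceAs (Scheme.precoverage (@Flat ⊓ @LocallyOfFinitePresentation)).HasIsos
  have : Scheme.fppfPrecoverage.HasPullbacks := ⟨fun {X} R f hR => inferInstance⟩
  obtain ⟨Rp, hRp, hle⟩ := Precoverage.mem_toGrothendieck_iff_of_isStableUnderComposition.1 hR
  refine MorphismProperty.IsLocalAtTarget.of_forall_pullbackSnd (K := Scheme.fppfPrecoverage) hRp ?_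
  intro U g _ hg
  let T' : Over S := Over.mk (g ≫ T.hom)
  let φ : T' ⟶ T := Over.homMk g rfl
  have hφ : R φ := (Sieve.overEquiv_iff R g).1 (hle _ _ hg)
  obtain ⟨W', fst', snd', sq1, h1⟩ := hlift φ hφ
  obtain ⟨m, hm₀⟩ := (yon S).map_surjective (sqW.lift fst' ((yon S).map (snd' ≫ φ))
    (by rw [Functor.map_comp, Category.assoc]; exact sq1.w))
  have hm : (yon S).map m ≫ fst = fst' ∧ m ≫ snd = snd' ≫ φ :=
    ⟨by rw [hm₀, sqW.lift_fst],
      (yon S).map_injective (by rw [Functor.map_comp, hm₀, sqW.lift_snd])⟩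
  have sq2 : IsPullback m snd' snd φ := by
    refine IsPullback.of_map (yon S) hm.2 ?_
    refine IsPullback.of_right ?_ (by rw [← Functor.map_comp, ← Functor.map_comp, hm.2]) sqW
    rw [hm.1]
    exact sq1
  have sq3 : IsPullback m.left snd'.left snd.left g := sq2.map (Over.forget S)
  change P (pullback.snd snd.left g)
  rw [← sq3.isoPullback_hom_snd] at h1
  exact (P.cancel_left_of_respectsIso sq3.isoPullback.hom _).1 h1

set_option maxHeartbeats 1000000 in
/-- A sheaf covered by algebraic spaces with etale overlaps is an algebraic space and the covering maps are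
etale. -/
theorem isAlgSpace_of_etale_family {ι : Type u} {W : Sp S} {Y : ι → Sp S} (f : ∀ i, Y i ⟶ W)
    (hY : ∀ i, IsAlgSpace (Y i))
    (hcov : ∀ ⦃T : Over S⦄ (t : (yon S).obj T ⟶ W), ∃ R ∈ J S T, ∀ ⦃T' : Over S⦄ (φ : T' ⟶ T), R φ →
      ∃ i, ∃ s : (yon S).obj T' ⟶ Y i, s ≫ f i = (yon S).map φ ≫ t)
    (hQ : ∀ i k, IsAlgSpace (pullback (f i) (f k)) ∧ LocP @Etale (pullback.fst (f i) (f k))) :
    IsAlgSpace W ∧ ∀ i, IsEtaleMor (f i) := by
  choose Z b hb hbs using fun i => (hY i).atlas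
  obtain ⟨a, ha⟩ := exists_hom_sigma Z fun i => b i ≫ f i
  have hloc : Sheaf.IsLocallySurjective a := by
    refine ⟨fun {T} s => ?_⟩
    obtain ⟨R, hR, hl⟩ := hcov ((J S).uliftYonedaEquiv.symm s)
    choose i l hl using hl
    refine (J S).superset_covering ?_ ((J S).bind_covering hR fun T' φ hφ =>
      mem_J_of_fppf ((hb (i φ hφ)).rep.snd (l φ hφ))
        (by
          have : Etale ((hb (i φ hφ)).rep.snd (l φ hφ)).left := (hb (i φ hφ)).property_snd _
          have : Surjective ((hb (i φ hφ)).rep.snd (l φ hφ)).left := (hbs (i φ hφ)).property _ _ _ ((hb (i φ hφ)).rep.isPullback _)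
          exact fppf_of_etale _) (Sieve.generate (Presieve.singleton ((hb (i φ hφ)).rep.snd (l φ hφ))))
        ⟨_, 𝟙 _, _, Presieve.singleton_self _, Category.id_comp _⟩)
    rintro T'' _ ⟨T', ψ, φ, hφ, ⟨_, g, _, ⟨⟩, rfl⟩, rfl⟩
    refine ⟨(J S).uliftYonedaEquiv ((yon S).map (g ≫ (hb (i φ hφ)).rep.fst' (l φ hφ) ≫ sigmaι Z (i φ hφ))), ?_⟩
    have h1 := uliftYonedaEquiv_precomp ((g ≫ (hb (i φ hφ)).rep.snd (l φ hφ)) ≫ φ) ((J S).uliftYonedaEquiv.symm s)
    rw [Equiv.apply_symm_apply] at h1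
    refine Eq.trans ?_ h1.symm
    rw [← GrothendieckTopology.uliftYonedaEquiv_comp]
    refine congrArg _ ?_
    simp only [Functor.map_comp, Category.assoc, ha]
    rw [← hl φ hφ]
    exact congrArg (_ ≫ ·) (((hb (i φ hφ)).rep.isPullback' (l φ hφ)).w_assoc _)
  let K := pullback a a
  let A : ∀ i, (yon S).obj (Z i) ⟶ W := fun i => b i ≫ f i
  let P : ι × ι → Sp S := fun p => pullback (A p.1) (A p.2)
  let jK : ∀ p, P p ⟶ K := fun p => pullback.map _ _ _ _ ((yon S).map (sigmaι Z p.1)) ((yon S).map (sigmaι Z p.2))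
    (𝟙 W) (by rw [ha, Category.comp_id]) (by rw [ha, Category.comp_id])
  have hopen : ∀ p, RepWith @IsOpenImmersion (jK p) := by
    rintro ⟨i, k⟩
    let M := pullback (A i) a
    let m₁ : P (i, k) ⟶ M := pullback.map _ _ _ _ (𝟙 _) ((yon S).map (sigmaι Z k)) (𝟙 W) (by simp [A]) (by rw [ha, Category.comp_id])
    let m₂ : M ⟶ K := pullback.map _ _ _ _ ((yon S).map (sigmaι Z i)) (𝟙 _) (𝟙 W) (by rw [ha, Category.comp_id]) (by simp)
    have e : jK (i, k) = m₁ ≫ m₂ := by apply pullback.hom_ext <;> simp [jK, m₁, m₂]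
    have sq₁ : IsPullback m₁ (pullback.snd (A i) (A k)) (pullback.snd (A i) a) ((yon S).map (sigmaι Z k)) := by
      refine IsPullback.of_right ?_ (pullback.lift_snd _ _ _) (IsPullback.of_hasPullback (A i) a)
      rw [pullback.lift_fst, Category.comp_id, ha]
      exact IsPullback.of_hasPullback (A i) (A k)
    have sq₂ : IsPullback m₂ (pullback.fst (A i) a) (pullback.fst a a) ((yon S).map (sigmaι Z i)) := by
      refine IsPullback.of_right ?_ (pullback.lift_fst _ _ _) (IsPullback.of_hasPullback a a).flip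
      rw [pullback.lift_snd, Category.comp_id, ha]
      exact (IsPullback.of_hasPullback (A i) a).flip
    have hsι : ∀ i, RepWith @IsOpenImmersion ((yon S).map (sigmaι Z i)) := fun i =>
      (repWith_yon_map_iff _ _).2 (inferInstanceAs (IsOpenImmersion (sigmaι Z i).left))
    rw [e]
    exact repWith_comp (repWith_of_isPullback sq₁.flip (hsι k)) (repWith_of_isPullback sq₂.flip (hsι i))
  have hP : ∀ p, IsAlgSpace (P p) ∧ LocP @Etale (pullback.fst (A p.1) (A p.2)) := by
    rintro ⟨i, k⟩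
    obtain ⟨hQa, hQe⟩ := hQ i k
    let M := pullback (A i) (f k)
    let m₁ : P (i, k) ⟶ M := pullback.map _ _ _ _ (𝟙 _) (b k) (𝟙 W) (by simp [A]) (by simp [A])
    let m₂ : M ⟶ pullback (f i) (f k) := pullback.map _ _ _ _ (b i) (𝟙 _) (𝟙 W) (by simp [A]) (by simp)
    have sq₁ : IsPullback m₁ (pullback.snd (A i) (A k)) (pullback.snd (A i) (f k)) (b k) := by
      refine IsPullback.of_right ?_ (pullback.lift_snd _ _ _) (IsPullback.of_hasPullback (A i) (f k))
      rw [pullback.lift_fst, Category.comp_id]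
      exact IsPullback.of_hasPullback (A i) (A k)
    have sq₂ : IsPullback m₂ (pullback.fst (A i) (f k)) (pullback.fst (f i) (f k)) (b i) := by
      refine IsPullback.of_right ?_ (pullback.lift_fst _ _ _) (IsPullback.of_hasPullback (f i) (f k)).flip
      rw [pullback.lift_snd, Category.comp_id]
      exact (IsPullback.of_hasPullback (A i) (f k)).flip
    have h₁ : RepWith @Etale m₁ := repWith_of_isPullback sq₁.flip (hb k)
    have h₂ : RepWith @Etale m₂ := repWith_of_isPullback sq₂.flip (hb i)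
    have hM : IsAlgSpace M := isAlgSpace_of_representable hQa m₂ h₂.rep
    have hP' : IsAlgSpace (P (i, k)) := isAlgSpace_of_representable hM m₁ h₁.rep
    refine ⟨hP', ?_⟩
    have h₃ : LocP @Etale (pullback.fst (A i) (f k)) :=
      locP_of_isPullback sq₂ hQa (hY i) (IsAlgSpace.yon_obj (Z i)) hQe
    have := locP_comp hP' hM (IsAlgSpace.yon_obj (Z i)) (locP_of_repWith h₁) h₃
    rwa [show m₁ ≫ pullback.fst (A i) (f k) = pullback.fst (A i) (A k) from
      (pullback.lift_fst _ _ _).trans (Category.comp_id _)] at this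
  have hzar : IsZarCover P jK := ⟨hopen, fun x => by
    obtain ⟨V, g, w, -, rfl⟩ := exists_ofPt_eq x
    obtain ⟨x₁, hx₁⟩ := (yon S).map_surjective (g ≫ pullback.fst a a)
    obtain ⟨x₂, hx₂⟩ := (yon S).map_surjective (g ≫ pullback.snd a a)
    obtain ⟨i, v, hv⟩ := exists_sigmaι Z (x₁.left w)
    obtain ⟨k, v', hv'⟩ := exists_sigmaι Z (x₂.left w)
    obtain ⟨ω, hω, -⟩ := Scheme.exists_preimage_of_isPullback
      ((IsPullback.of_hasPullback x₁ (sigmaι Z i)).map (Over.forget S)) w v hv.symm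
    let x₂' := pullback.fst x₁ (sigmaι Z i) ≫ x₂
    have hx₂' : x₂'.left ω = (sigmaι Z k).left v' := by
      show x₂.left ((pullback.fst x₁ (sigmaι Z i)).left ω) = _
      rw [show (pullback.fst x₁ (sigmaι Z i)).left ω = w from hω, hv']
    obtain ⟨ν, hν, -⟩ := Scheme.exists_preimage_of_isPullback
      ((IsPullback.of_hasPullback x₂' (sigmaι Z k)).map (Over.forget S)) ω v' hx₂'
    let q₁ : pullback x₂' (sigmaι Z k) ⟶ Z i := pullback.fst _ _ ≫ pullback.snd _ _
    let q₂ : pullback x₂' (sigmaι Z k) ⟶ Z k := pullback.snd _ _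
    let π : pullback x₂' (sigmaι Z k) ⟶ V := pullback.fst _ _ ≫ pullback.fst _ _
    have e₁ : q₁ ≫ sigmaι Z i = π ≫ x₁ := by simp only [q₁, π, Category.assoc, pullback.condition]
    have e₂ : q₂ ≫ sigmaι Z k = π ≫ x₂ := by
      simp only [q₂, π, ← pullback.condition]
      simp [x₂']
    let l : (yon S).obj (pullback x₂' (sigmaι Z k)) ⟶ P (i, k) :=
      pullback.lift ((yon S).map q₁) ((yon S).map q₂) (by
        show _ ≫ b i ≫ f i = _ ≫ b k ≫ f k
        rw [← ha, ← ha, ← Functor.map_comp_assoc, ← Functor.map_comp_assoc, e₁, e₂,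
          Functor.map_comp _ π x₁, Functor.map_comp _ π x₂, Category.assoc, Category.assoc, hx₁, hx₂, Category.assoc, Category.assoc,
          pullback.condition])
    refine ⟨(i, k), Points.ofPt l ν, ?_⟩
    have hl : l ≫ jK (i, k) = (yon S).map π ≫ g := by
      refine pullback.hom_ext ?_ ?_
      · simp only [Category.assoc, l, jK, pullback.lift_fst, pullback.lift_fst_assoc, ← hx₁, ← Functor.map_comp]
        rw [e₁]
      · simp only [Category.assoc, l, jK, pullback.lift_snd, pullback.lift_snd_assoc, ← hx₂, ← Functor.map_comp]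
        rw [e₂]
    rw [Points.map_ofPt, hl, ofPt_comp]
    congr 1
    show (pullback.fst x₁ _).left ((pullback.fst x₂' _).left ν) = w
    rw [show (pullback.fst x₂' (sigmaι Z k)).left ν = ω from hν]
    exact hω⟩
  have hK : IsAlgSpace K := isAlgSpace_of_zarCover hzar fun p => (hP p).1
  have hfst : LocP @Etale (pullback.fst a a) := by
    refine locP_of_zarCover hzar (fun p => (hP p).1) _ fun p => ?_
    rw [show jK p ≫ pullback.fst a a = pullback.fst (A p.1) (A p.2) ≫ (yon S).map (sigmaι Z p.1) from pullback.lift_fst _ _ _]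
    exact locP_comp (hP p).1 (IsAlgSpace.yon_obj _) (IsAlgSpace.yon_obj _) (hP p).2
      (locP_of_repWith ((repWith_yon_map_iff _ _).2 (inferInstanceAs (Etale (sigmaι Z p.1).left))))
  let σ : K ≅ K := pullbackSymmetry a a
  have hsnd : LocP @Etale (pullback.snd a a) := by
    rw [← pullbackSymmetry_hom_comp_fst a a]
    exact locP_comp hK hK (IsAlgSpace.yon_obj _) (locP_of_repWith (repWith_of_isIso _ _)) hfst
  let m : K ⟶ (yon S).obj (sigmaOver Z ⨯ sigmaOver Z) :=
    prod.lift (pullback.fst a a) (pullback.snd a a) ≫ inv (prodComparison (yon S) _ _)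
  have hm₁ : m ≫ (yon S).map prod.fst = pullback.fst a a := by
    rw [Category.assoc, inv_prodComparison_map_fst, prod.lift_fst]
  have hm₂ : m ≫ (yon S).map prod.snd = pullback.snd a a := by
    rw [Category.assoc, inv_prodComparison_map_snd, prod.lift_snd]
  have : Mono m := ⟨fun {T} u v h => pullback.hom_ext
    (by rw [← hm₁, reassoc_of% h]) (by rw [← hm₂, reassoc_of% h])⟩
  have hml : LocP @LocallyOfFiniteType m := by
    intro A' B' u v h hu hv hw
    obtain ⟨v', rfl⟩ := (yon S).map_surjective v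
    have h0 : Etale (h ≫ v' ≫ prod.fst).left := hfst u (𝟙 _) (h ≫ v' ≫ prod.fst) hu (repWith_id _ _) (by
      rw [Category.comp_id, Functor.map_comp, Functor.map_comp, ← reassoc_of% hw, hm₁])
    have h1 : LocallyOfFiniteType (h.left ≫ (v' ≫ prod.fst).left) := inferInstanceAs
      (LocallyOfFiniteType (h ≫ v' ≫ prod.fst).left)
    exact locallyOfFiniteType_of_comp h.left (v' ≫ prod.fst).left
  obtain ⟨R, ⟨e⟩⟩ := exists_iso_of_lqf_separated hK m (locP_lqf_of_mono m hml) (isSeparatedMor_of_mono m)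
  obtain ⟨t, ht⟩ := (yon S).map_surjective (e.hom ≫ pullback.fst a a)
  obtain ⟨s, hs⟩ := (yon S).map_surjective (e.hom ≫ pullback.snd a a)
  have : Etale s.left := hsnd e.hom (𝟙 _) s (repWith_of_isIso _ _) (repWith_id _ _) (by rw [Category.comp_id, hs])
  have : Etale t.left := hfst e.hom (𝟙 _) t (repWith_of_isIso _ _) (repWith_id _ _) (by rw [Category.comp_id, ht])
  have sq : IsPullback ((yon S).map t) ((yon S).map s) a a :=
    (IsPullback.of_hasPullback a a).of_iso e.symm (Iso.refl _) (Iso.refl _) (Iso.refl _)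
      (by simp [ht]) (by simp [hs]) (by simp) (by simp)
  have : Surjective s.left := ⟨fun x => by
    obtain ⟨d, -, hd⟩ := exists_rel_lift sq (𝟙 _) (𝟙 _) rfl
    exact ⟨d.left x, by rw [← Scheme.Hom.comp_apply, ← Over.comp_left, hd, Over.id_left]; rfl⟩⟩
  have hW : IsAlgSpace W := isAlgSpace_of_etale_kernelPair sq
  have := isLocalAtTarget_fppf (@Etale : MorphismProperty Scheme.{u})
  have hae : RepWith @Etale a :=
    repWith_of_locallySurjective (representable_of_kernelPair sq) a sq @Etale ((repWith_yon_map_iff _ _).2 ‹Etale s.left›)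
  refine ⟨hW, fun i => (isEtaleMor_iff_locP (hY i) hW (f i)).2 ?_⟩
  exact locP_of_chart (h := sigmaι Z i) (hb i) (hbs i) hae (ha i).symm
    (inferInstanceAs (Etale (sigmaι Z i).left))

end Groth.Agent.AlgSpDec
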