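import Groth.Agent.AlgSpDec.SchDenseSp
import Groth.Agent.AlgSpDec.SchImage
import Groth.Agent.AlgSpLib.LocalSourceInst
import Groth.Agent.AlgSpDec.LimDescentIso

/-!
Factorisation through an fppf cover, checked over a scheme theoretically dense open.
-/

set_option backward.isDefEq.respectTransparency false
set_option backward.isDefEq.respectTransparency.types false

universe u

open CategoryTheory CategoryTheory.Limits AlgebraicGeometry TopologicalSpace AlgSp Groth.Agent.AlgSpLib Groth.Agent.AlgSpPts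

namespace Groth.Agent.AlgSpDec.FactorDense

variable {S : Scheme.{u}}

theorem epi_of_flat_lfp {X Z : Sp S} (hX : IsAlgSpace X) (hZ : IsAlgSpace Z) (g : X ⟶ Z) (hs : IsSurjectiveMor g)
    (hf : LocP @Flat g) (hp : LocP @LocallyOfFinitePresentation g) : Epi g := by
  obtain ⟨U, a, ha, has⟩ := hX.atlas
  have hr := hZ.representable_from_yon (a ≫ g)
  have h1 : RepWith @Surjective (a ≫ g) :=
    repWith_surjective_of_surjective hr fun y => by
      obtain ⟨x, rfl⟩ := hs y
      obtain ⟨u, rfl⟩ := surjective_ofPt has x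
      exact ⟨Points.ofScheme U u, (Points.map_comp _ _ _).trans
        (congrArg (Points.map g) (Points.ofPt_eq_map_ofScheme a u).symm)⟩
  have h2 : RepWith @Flat (a ≫ g) := repWith_of_locP hZ hr (locP_comp (IsAlgSpace.yon_obj U) hX hZ
    (locP_of_repWith (repWith_mono (fun A B p (_ : Etale p) => inferInstanceAs (Flat p)) _ ha)) hf)
  have h3 : RepWith @LocallyOfFinitePresentation (a ≫ g) := repWith_of_locP hZ hr (locP_comp (IsAlgSpace.yon_obj U) hX hZ
    (locP_of_repWith (repWith_mono (fun A B p (_ : Etale p) => inferInstanceAs (LocallyOfFinitePresentation p)) _ ha)) hp)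
  have : Sheaf.IsLocallySurjective (a ≫ g) := isLocallySurjective_of_repWith ⟨hr, fun _ _ t fst snd sq => by
    haveI : Flat snd.left := h2.2 t fst snd sq
    haveI : LocallyOfFinitePresentation snd.left := h3.2 t fst snd sq
    haveI : Surjective snd.left := h1.2 t fst snd sq
    exact fppf_of snd.left⟩
  have : Epi (a ≫ g) := (Sheaf.isLocallySurjective_iff_epi _).1 this
  exact epi_of_epi a g

theorem exists_factor {B X Y Z V : Sp S} (hX : IsAlgSpace X) (hZ : IsAlgSpace Z) (pX : X ⟶ B) (pY : Y ⟶ B)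
    (pZ : Z ⟶ B) (f : X ⟶ Y) (g : X ⟶ Z) (hf : f ≫ pY = pX) (hg : g ≫ pZ = pX) (hY : IsSeparatedMor pY)
    (hgs : IsSurjectiveMor g) (hgf : LocP @Flat g) (hgp : LocP @LocallyOfFinitePresentation g)
    (v : V ⟶ Z) (hv : IsSchDense v) (hvq : IsQuasiCompactMor v)
    (φV : V ⟶ Y) (hfac : pullback.fst g v ≫ f = pullback.snd g v ≫ φV) : ∃ h : Z ⟶ Y, g ≫ h = f := by
  let P := pullback g g
  let a₁ : P ⟶ X := pullback.fst g g
  let a₂ : P ⟶ X := pullback.snd g g
  have he : (a₁ ≫ f) ≫ pY = (a₂ ≫ f) ≫ pY := by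
    rw [Category.assoc, Category.assoc, hf, ← hg, ← Category.assoc, ← Category.assoc]
    exact congrArg (· ≫ pZ) pullback.condition
  suffices h : a₁ ≫ f = a₂ ≫ f by
    have := epi_of_flat_lfp hX hZ g hgs hgf hgp
    have : EffectiveEpi g := by
      have := IsRegularEpiCategory.regularEpiOfEpi g
      infer_instance
    exact ⟨EffectiveEpi.desc g f (fun g₁ g₂ e => by
      have := congrArg (pullback.lift (f := g) (g := g) g₁ g₂ e ≫ ·) h
      simpa [a₁, a₂, pullback.lift_fst_assoc, pullback.lift_snd_assoc] using this), EffectiveEpi.fac g _ _⟩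
  let L : P ⟶ pullback pY pY := pullback.lift (a₁ ≫ f) (a₂ ≫ f) he
  let i₀ : pullback L (pullback.diagonal pY) ⟶ P := pullback.fst _ _
  suffices h : ∃ s, s ≫ i₀ = 𝟙 P by
    obtain ⟨s, hs⟩ := h
    have h0 : L = (s ≫ pullback.snd L (pullback.diagonal pY)) ≫ pullback.diagonal pY := by
      rw [Category.assoc, ← pullback.condition, ← Category.assoc, hs, Category.id_comp]
    have e1 := h0 =≫ pullback.fst pY pY
    have e2 := h0 =≫ pullback.snd pY pY
    simp only [L, pullback.lift_fst, pullback.lift_snd, Category.assoc, pullback.diagonal_fst,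
      pullback.diagonal_snd, Category.comp_id] at e1 e2
    exact e1.trans e2.symm
  have hP : IsAlgSpace P := isAlgSpace_pullback hX hX hZ g g
  have hD : RepWith @IsClosedImmersion i₀ :=
    repWith_of_isPullback (IsPullback.of_hasPullback L (pullback.diagonal pY)).flip hY
  have : Mono i₀ := mono_of_closedImmersion hD
  obtain ⟨R, b, hb, hbs⟩ := hP.atlas
  refine exists_factor_of_cover hb hbs (𝟙 P) ?_
  let c : (yon S).obj R ⟶ Z := b ≫ a₁ ≫ g
  have hc : LocP @Flat c := by
    refine locP_comp (IsAlgSpace.yon_obj R) hP hZ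
      (locP_of_repWith (repWith_mono (fun A B p (_ : Etale p) => inferInstanceAs (Flat p)) _ hb))
      (locP_comp hP hX hZ ?_ hgf)
    exact locP_of_isPullback (IsPullback.of_hasPullback g g).flip hX hZ hX hgf
  have hcp : LocP @LocallyOfFinitePresentation c := by
    refine locP_comp (IsAlgSpace.yon_obj R) hP hZ
      (locP_of_repWith (repWith_mono (fun A B p (_ : Etale p) => inferInstanceAs (LocallyOfFinitePresentation p)) _ hb))
      (locP_comp hP hX hZ ?_ hgp)
    exact locP_of_isPullback (IsPullback.of_hasPullback g g).flip hX hZ hX hgp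
  let W := SchDenseSp.pre hZ hv.1 c
  haveI : QuasiCompact W.ι := SchDenseSp.quasiCompact_pre_ι hZ hv.1 hvq c
  have hdense : CInt.IsSchematicallyDense W := by
    obtain ⟨V₀, φ, hφ, hφs⟩ := hZ.atlas
    let p₁ := hφ.rep.fst' c
    let p₂ := hφ.rep.snd c
    haveI : Etale p₂.left := hφ.property_snd c
    haveI : Surjective p₂.left := hφs.property _ _ _ (hφ.rep.isPullback c)
    haveI : Flat p₁.left := (repWith_of_locP hZ (hZ.representable_from_yon c) hc).property _ _ _
      (hφ.rep.isPullback' c).flip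
    haveI : LocallyOfFinitePresentation p₁.left := (repWith_of_locP hZ (hZ.representable_from_yon c) hcp).property _ _ _
      (hφ.rep.isPullback' c).flip
    refine SchDenseFacts.of_preimage p₂.left _ ?_
    rw [SchDenseSp.preimage_pre, ← (hφ.rep.isPullback' c).w, ← SchDenseSp.preimage_pre]
    exact SchDenseLib.preimage_of_flat_lfp p₁.left _ (SchDenseSp.dense_pre hZ hv hφ)
  let ι : Over.mk (W.ι ≫ R.hom) ⟶ R := Over.homMk W.ι rfl
  obtain ⟨fstW, sqW⟩ := SchDenseSp.exists_isPullback hZ hv.1 c
  let t := (yon S).map ι ≫ b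
  have w1 : (t ≫ a₁) ≫ g = fstW ≫ v := by rw [sqW.w]; simp [t, c, ι, W]
  have w2 : (t ≫ a₂) ≫ g = fstW ≫ v := by
    rw [← w1, Category.assoc, Category.assoc]
    exact congrArg (t ≫ ·) pullback.condition.symm
  have key : ∀ (x : (yon S).obj (Over.mk (W.ι ≫ R.hom)) ⟶ X), x ≫ g = fstW ≫ v → x ≫ f = fstW ≫ φV := fun x hx => by
    rw [← pullback.lift_fst x fstW hx, Category.assoc, hfac, pullback.lift_snd_assoc]
  have ht : t ≫ L = (t ≫ a₁ ≫ f) ≫ pullback.diagonal pY := by
    refine pullback.hom_ext ?_ ?_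
    · simp [L]
    · simp only [L, Category.assoc, pullback.lift_snd, pullback.diagonal_snd, Category.comp_id]
      rw [← Category.assoc, ← Category.assoc, key _ w1, key _ w2]
  let iR := hD.rep.snd b
  haveI : IsClosedImmersion iR.left := hD.property_snd b
  have h1 : ∃ l, l ≫ iR = ι := (factor_iff_of_isPullback (hD.rep.isPullback b) ι).2
    ⟨pullback.lift t (t ≫ a₁ ≫ f) ht, pullback.lift_fst _ _ _⟩
  rw [factor_iff_ker_le] at h1
  obtain ⟨s, hs⟩ := (factor_iff_of_isPullback (hD.rep.isPullback b) (𝟙 R)).1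
    ((factor_iff_ker_le _ _).2 (h1.trans (((SchDenseFacts.iff_ker_eq_bot W).1 hdense).le.trans bot_le)))
  exact ⟨s, by rw [hs, CategoryTheory.Functor.map_id, Category.id_comp, Category.comp_id]⟩

end Groth.Agent.AlgSpDec.FactorDense
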