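import Groth.Agent.AlgSpDec.FibreDimSp
import Groth.Agent.AlgSpLib.OpenMor
import Groth.Agent.S0404

/-!
Lower semicontinuity of the fibre dimension of a flat morphism of algebraic spaces.
-/

set_option autoImplicit false
set_option maxHeartbeats 800000
set_option backward.isDefEq.respectTransparency false
set_option backward.isDefEq.respectTransparency.types false

universe u

open CategoryTheory CategoryTheory.Limits AlgebraicGeometry AlgSp Groth.Agent.AlgSpLib Groth.Agent.AlgSpPts

namespace Groth.Agent.AlgSpDec.FibreDimSp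

variable {S : Scheme.{u}} {X Y : Sp S} {f : X ⟶ Y} (hX : IsAlgSpace X) (hY : IsAlgSpace Y)
  (hf : LocP @LocallyOfFiniteType f) (hfl : LocP @Flat f) (hfp : LocP @LocallyOfFinitePresentation f)

include hX hY hf hfl hfp

/-- For a flat morphism locally of finite presentation the locus of large fibres is open. -/
theorem isOpen_setOf_lt_dim (d : WithBot ℕ∞) :
    IsOpen {y : Points Y | ∀ (k : FieldPt Y), Points.mk k = y →
      ∀ (Xk : Sp S) (fst : Xk ⟶ X) (snd : Xk ⟶ (yon S).obj k.pt),
        IsPullback fst snd f k.toHom → d < dim Xk} := by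
  rw [isOpen_iff_forall_mem_open]
  intro y hy
  induction y using Points.ind with
  | h k₀ =>
  have hpb := IsPullback.of_hasPullback f k₀.toHom
  have h0 := hy k₀ rfl _ _ _ hpb
  rcases d with _ | e
  · refine ⟨Set.range (Points.map f), fun y' hy' k hk Xk fst snd sq => ?_,
      (isOpenMap_map_of_fppf hX hY f hfl hfp).isOpen_range, ?_⟩
    · refine bot_lt_iff_ne_bot.2 fun h => (dim_eq_bot_iff sq hX hY hf).1 h ?_
      exact hk ▸ hy'
    · by_contra hn
      rw [(dim_eq_bot_iff hpb hX hY hf).2 hn] at h0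
      exact lt_irrefl _ h0
  · induction e using ENat.recTopCoe with
    | top => exact absurd h0 (not_lt_of_ge le_top)
    | coe n =>
      by_cases hall : ∀ x : Points X, Points.map f x = Points.mk k₀ →
          HasAtMor (fun _ _ h u => FlatMor.fibreDimAt h u ≤ (n : WithBot ℕ∞)) f x
      · exact absurd ((dim_le_iff hpb hX hY hf n).2 hall) (not_le.2 h0)
      push Not at hall
      obtain ⟨x, hxy, hxn⟩ := hall
      obtain ⟨U₀, V₀, a₀, b₀, h₀, ha₀, ha₀', hb₀, -, w₀⟩ := exists_chart hX hY f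
      obtain ⟨u₀, hu₀⟩ := surjective_ofPt ha₀' x
      obtain ⟨V', hV', hv', -⟩ :=
        exists_isAffineOpen_mem_and_subset (X := V₀.left) (x := h₀.left u₀) (U := ⊤) trivial
      obtain ⟨U', hU', hu', hUV⟩ :=
        exists_isAffineOpen_mem_and_subset (X := U₀.left) (x := u₀) (U := h₀.left ⁻¹ᵁ V') hv'
      let U₁ : Over S := Over.mk (U'.ι ≫ U₀.hom)
      let V₁ : Over S := Over.mk (V'.ι ≫ V₀.hom)
      let jU : U₁ ⟶ U₀ := Over.homMk U'.ι rfl
      let jV : V₁ ⟶ V₀ := Over.homMk V'.ι rfl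
      let g : U₁ ⟶ V₁ := Over.homMk (h₀.left.resLE V' U' hUV) (by
        show _ ≫ V'.ι ≫ V₀.hom = U'.ι ≫ U₀.hom
        rw [Scheme.Hom.resLE_comp_ι_assoc, Over.w h₀])
      have hg : g ≫ jV = jU ≫ h₀ := Over.OverMorphism.ext (Scheme.Hom.resLE_comp_ι _ _)
      have ha₁ : RepWith @Etale ((yon S).map jU ≫ a₀) :=
        repWith_comp ((repWith_yon_map_iff _ _).2 (show Etale U'.ι from inferInstance)) ha₀
      have hb₁ : RepWith @Etale ((yon S).map jV ≫ b₀) :=
        repWith_comp ((repWith_yon_map_iff _ _).2 (show Etale V'.ι from inferInstance)) hb₀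
      have w₁ : ((yon S).map jU ≫ a₀) ≫ f = (yon S).map g ≫ (yon S).map jV ≫ b₀ := by
        rw [← Functor.map_comp_assoc, hg, Functor.map_comp, Category.assoc, Category.assoc, w₀]
      haveI : Flat g.left := hfl _ _ g ha₁ hb₁ w₁
      haveI : LocallyOfFinitePresentation g.left := hfp _ _ g ha₁ hb₁ w₁
      haveI : IsAffine U₁.left := hU'
      haveI : IsAffine V₁.left := hV'
      have hu₁ : Points.ofPt ((yon S).map jU ≫ a₀) (⟨u₀, hu'⟩ : U') = x := by rw [ofPt_comp]; exact hu₀
      let W : Set ↥V₁.left := {v | ((n : WithBot ℕ∞)) < topologicalKrullDim ↥(g.left.fiber v)}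
      refine ⟨Points.ofPt ((yon S).map jV ≫ b₀) '' W, ?_, isOpenMap_ofPt hb₁ _ (Groth.Agent.S0404.result g.left n), ?_⟩
      · rintro y' ⟨v, hv, rfl⟩ k hk Xk fst snd sq
        show (n : WithBot ℕ∞) < dim Xk
        refine not_le.1 fun hle => not_le.2 (show (n : WithBot ℕ∞) < topologicalKrullDim ↥(g.left.fiber v) from hv) ?_
        rw [FibDim.topologicalKrullDim_fiber]
        refine iSup_le fun ⟨z, hz⟩ => (FibDim.rd_le_fibreDimAt g.left specializes_rfl rfl).trans ?_
        obtain ⟨U, V, a, b, h, u, ha, hb, w, hu, he⟩ :=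
          (dim_le_iff sq hX hY hf n).1 hle (Points.ofPt ((yon S).map jU ≫ a₀) z) (by
            rw [Points.map_ofPt, w₁, ofPt_comp, hk, show g.left z = v from hz])
        rw [RelDimSp.fibreDimAt_congr hf ha₁ hb₁ w₁ ha hb w hu.symm]
        exact he
      · refine ⟨g.left (⟨u₀, hu'⟩ : U'), ?_, ?_⟩
        · show (n : WithBot ℕ∞) < topologicalKrullDim ↥(g.left.fiber (g.left (⟨u₀, hu'⟩ : U')))
          refine not_le.1 fun hle => hxn ⟨_, _, _, _, g, _, ha₁, hb₁, w₁, hu₁, ?_⟩
          show FlatMor.fibreDimAt g.left _ ≤ (n : WithBot ℕ∞)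
          rw [FibDim.fibreDimAt_le_iff]
          intro z _ hz
          rw [FibDim.topologicalKrullDim_fiber, iSup_le_iff] at hle
          exact_mod_cast hle ⟨z, hz⟩
        · rw [← ofPt_comp g, ← w₁, ← Points.map_ofPt, hu₁, hxy]

end Groth.Agent.AlgSpDec.FibreDimSp
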