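import Groth.Agent.AlgSpDec.RelDimSp
import Groth.Agent.FibDim.BaseField
import Groth.Agent.AlgSpLib.LargestOpen
import Groth.Agent.AlgSpPts.Univ

/-!
The dimension of a fibre of a morphism of algebraic spaces over a field point.
-/

set_option autoImplicit false
set_option maxHeartbeats 800000
set_option backward.isDefEq.respectTransparency false
set_option backward.isDefEq.respectTransparency.types false

universe u

open CategoryTheory CategoryTheory.Limits AlgebraicGeometry AlgSp Groth.Agent.AlgSpLib Groth.Agent.AlgSpPts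

namespace Groth.Agent.AlgSpDec.FibreDimSp

theorem krullDim_le_iff_fibreDimAt {X Y : Scheme.{u}} [Subsingleton Y] (f : X ⟶ Y) [LocallyOfFiniteType f] (n : ℕ) :
    topologicalKrullDim ↥X ≤ n ↔ ∀ x, FlatMor.fibreDimAt f x ≤ n := by
  rw [FibDim.topologicalKrullDim_eq_iSup_rd (f := f), iSup_le_iff]
  constructor
  · intro h x
    rw [FibDim.fibreDimAt_le_iff]
    exact fun z _ _ => by exact_mod_cast h z
  · intro h x
    have := (FibDim.fibreDimAt_le_iff f x n).1 (h x) x specializes_rfl rfl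
    exact_mod_cast this

variable {S : Scheme.{u}} {X Y Xk : Sp S} {f : X ⟶ Y} {k : FieldPt Y} {fst : Xk ⟶ X}
  {snd : Xk ⟶ (yon S).obj k.pt}

theorem subsingleton_pt (k : FieldPt Y) : Subsingleton ↥k.pt.left :=
  inferInstanceAs (Subsingleton (PrimeSpectrum k.K))

/-- Points of the fibre lie over the point. -/
theorem map_map_fst (sq : IsPullback fst snd f k.toHom) {U : Over S} (a : (yon S).obj U ⟶ Xk) (u : ↥U.left) :
    Points.map f (Points.map fst (Points.ofPt a u)) = Points.mk k := by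
  obtain ⟨h, hh⟩ := (yon S).map_surjective (a ≫ snd)
  rw [← Points.map_comp, sq.w, Points.map_ofPt, ← Category.assoc, ← hh, ofPt_comp]
  exact Points.ofPt_toHom k _

/-- Every point over the point is the image of a point of the fibre. -/
theorem exists_over (sq : IsPullback fst snd f k.toHom) {x : Points X} (hx : Points.map f x = Points.mk k) :
    ∃ z : Points Xk, Points.map fst z = x := by
  obtain ⟨z, hz, -⟩ := exists_point_of_isPullback sq (x := x)
    (y := Points.ofPt (𝟙 ((yon S).obj k.pt)) (IsLocalRing.closedPoint k.K)) (by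
      rw [hx, Points.map_ofPt, Category.id_comp]
      exact mk_eq_ofPt k)
  exact ⟨z, hz⟩

variable (sq : IsPullback fst snd f k.toHom) (hX : IsAlgSpace X) (hY : IsAlgSpace Y)
  (hf : LocP @LocallyOfFiniteType f)

include sq hX hY hf

theorem dim_eq_bot_iff : dim Xk = ⊥ ↔ Points.mk k ∉ Set.range (Points.map f) := by
  have hk := IsAlgSpace.yon_obj k.pt
  have hP := isAlgSpace_of_isPullback sq hX hk hY
  have hl : LocP @LocallyOfFiniteType snd := locP_of_isPullback sq hX hY hk hf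
  haveI := subsingleton_pt k
  constructor
  · rintro h ⟨x, hx⟩
    obtain ⟨z, -⟩ := exists_over sq hx
    obtain ⟨U, a, ha, ha'⟩ := hP.atlas
    obtain ⟨u, -⟩ := surjective_ofPt ha' z
    obtain ⟨g, hg⟩ := (yon S).map_surjective (a ≫ snd)
    haveI : LocallyOfFiniteType g.left :=
      hl a (𝟙 _) g ha (repWith_of_isIso _ _) (by rw [Category.comp_id, hg])
    have h1 : topologicalKrullDim ↥U.left ≤ ⊥ := h ▸ le_iSup_of_le U (le_iSup_of_le a (le_iSup_of_le ha le_rfl))
    rw [FibDim.topologicalKrullDim_eq_iSup_rd (f := g.left), iSup_le_iff] at h1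
    exact absurd (h1 u) (by simp)
  · intro h
    refine le_bot_iff.1 (iSup_le fun U => iSup_le fun a => iSup_le fun ha => ?_)
    obtain ⟨g, hg⟩ := (yon S).map_surjective (a ≫ snd)
    haveI : LocallyOfFiniteType g.left :=
      hl a (𝟙 _) g ha (repWith_of_isIso _ _) (by rw [Category.comp_id, hg])
    rw [FibDim.topologicalKrullDim_eq_iSup_rd (f := g.left)]
    exact iSup_le fun u => (h ⟨_, map_map_fst sq a u⟩).elim

theorem dim_le_iff (d : ℕ) : dim Xk ≤ d ↔ ∀ x : Points X, Points.map f x = Points.mk k →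
    HasAtMor (fun _ _ h u => FlatMor.fibreDimAt h u ≤ (d : WithBot ℕ∞)) f x := by
  have hk := IsAlgSpace.yon_obj k.pt
  have hP := isAlgSpace_of_isPullback sq hX hk hY
  have hl : LocP @LocallyOfFiniteType snd := locP_of_isPullback sq hX hY hk hf
  haveI := subsingleton_pt k
  have hid : RepWith @Etale (𝟙 ((yon S).obj k.pt)) := repWith_of_isIso _ _
  constructor
  · intro h x hx
    obtain ⟨z, rfl⟩ := exists_over sq hx
    obtain ⟨U₀, V₀, a₀, b₀, h₀, ha₀, ha₀', hb₀, -, w₀⟩ := exists_chart hX hY f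
    obtain ⟨u₀, hu₀⟩ := surjective_ofPt ha₀' (Points.map fst z)
    obtain ⟨U, V, a, b, g, u, ha, hb, w, hu, he⟩ := RelDimSp.baseChange sq hX hY hk hf z
      (FlatMor.fibreDimAt h₀.left u₀) ⟨U₀, V₀, a₀, b₀, h₀, u₀, ha₀, hb₀, w₀, hu₀, rfl⟩
    refine ⟨U₀, V₀, a₀, b₀, h₀, u₀, ha₀, hb₀, w₀, hu₀, ?_⟩
    obtain ⟨U', a', ha', ha''⟩ := hP.atlas
    obtain ⟨u', hu'⟩ := surjective_ofPt ha'' z
    obtain ⟨g', hg'⟩ := (yon S).map_surjective (a' ≫ snd)
    have w' : a' ≫ snd = (yon S).map g' ≫ 𝟙 _ := by rw [Category.comp_id, hg']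
    haveI : LocallyOfFiniteType g'.left := hl a' (𝟙 _) g' ha' hid w'
    show FlatMor.fibreDimAt h₀.left u₀ ≤ _
    rw [← he, RelDimSp.fibreDimAt_congr hl ha hb w ha' hid w' (hu.trans hu'.symm)]
    have hle : topologicalKrullDim ↥U'.left ≤ dim Xk := le_iSup_of_le U' (le_iSup_of_le a' (le_iSup_of_le ha' le_rfl))
    exact (krullDim_le_iff_fibreDimAt g'.left d).1 (hle.trans h) u'
  · intro h
    refine iSup_le fun U' => iSup_le fun a' => iSup_le fun ha' => ?_
    obtain ⟨g', hg'⟩ := (yon S).map_surjective (a' ≫ snd)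
    have w' : a' ≫ snd = (yon S).map g' ≫ 𝟙 _ := by rw [Category.comp_id, hg']
    haveI : LocallyOfFiniteType g'.left := hl a' (𝟙 _) g' ha' hid w'
    refine (krullDim_le_iff_fibreDimAt g'.left d).2 fun u' => ?_
    obtain ⟨U₀, V₀, a₀, b₀, h₀, u₀, ha₀, hb₀, w₀, hu₀, hle⟩ := h _ (map_map_fst sq a' u')
    obtain ⟨U, V, a, b, g, u, ha, hb, w, hu, he⟩ := RelDimSp.baseChange sq hX hY hk hf _
      (FlatMor.fibreDimAt h₀.left u₀) ⟨U₀, V₀, a₀, b₀, h₀, u₀, ha₀, hb₀, w₀, hu₀, rfl⟩
    rw [← RelDimSp.fibreDimAt_congr hl ha hb w ha' hid w' hu, he]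
    exact hle

omit sq in
/-- For a proper morphism the locus of small fibres is open. -/
theorem isOpen_setOf_dim_lt (hc : IsClosedMap (Points.map f)) (d : WithBot ℕ∞) :
    IsOpen {y : Points Y | ∀ (k : FieldPt Y), Points.mk k = y →
      ∀ (Xk : Sp S) (fst : Xk ⟶ X) (snd : Xk ⟶ (yon S).obj k.pt),
        IsPullback fst snd f k.toHom → dim Xk < d} := by
  let O : ℕ → Set (Points X) := fun n =>
    {x | HasAtMor (fun _ _ h u => FlatMor.fibreDimAt h u ≤ (n : WithBot ℕ∞)) f x}
  have hW : ∀ n, IsOpen (Points.map f '' (O n)ᶜ)ᶜ := fun n =>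
    (hc _ (RelDimSp.isOpen_le hf n).isClosed_compl).isOpen_compl
  have hmem : ∀ n y, y ∈ (Points.map f '' (O n)ᶜ)ᶜ ↔ ∀ x, Points.map f x = y → x ∈ O n := fun n y =>
    ⟨fun h x hx => by_contra fun hn => h ⟨x, hn, hx⟩, fun h ⟨x, hn, hx⟩ => hn (h x hx)⟩
  have hR : IsOpen (Set.range (Points.map f))ᶜ := by
    rw [← Set.image_univ]; exact (hc _ isClosed_univ).isOpen_compl
  rw [isOpen_iff_forall_mem_open]
  intro y hy
  induction y using Points.ind with
  | h k₀ =>
  have hpb := IsPullback.of_hasPullback f k₀.toHom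
  have h0 := hy k₀ rfl _ _ _ hpb
  rcases hD : dim (pullback f k₀.toHom) with _ | e
  · refine ⟨(Set.range (Points.map f))ᶜ, fun y' hy' k hk Xk fst snd sq => ?_, hR, (dim_eq_bot_iff hpb hX hY hf).1 hD⟩
    rw [(dim_eq_bot_iff sq hX hY hf).2 (hk ▸ hy')]
    exact lt_of_le_of_lt bot_le h0
  · rw [hD] at h0
    induction e using ENat.recTopCoe with
    | top => exact absurd h0 (not_lt_of_ge le_top)
    | coe n =>
      refine ⟨_, fun y' hy' k hk Xk fst snd sq => ?_, hW n, (hmem n _).2 ((dim_le_iff hpb hX hY hf n).1 hD.le)⟩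
      exact lt_of_le_of_lt ((dim_le_iff sq hX hY hf n).2 fun x hx => (hmem n y').1 hy' x (hx.trans hk)) h0

end Groth.Agent.AlgSpDec.FibreDimSp
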