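import Groth.Agent.AlgSpDec.Closed
import Groth.Agent.AlgSpDec.MonoRep
import Groth.Agent.AlgSpDec.MonoPoint
import Groth.Agent.AlgSpDec.LimOpen

/-!
# The fibre over a quasi-compact monomorphism from a point has the induced topology
-/

set_option backward.isDefEq.respectTransparency false
set_option backward.isDefEq.respectTransparency.types false

universe u

open CategoryTheory Limits Opposite AlgebraicGeometry AlgSp Groth.Agent.AlgSpLib Groth.Agent.AlgSpPts Topology Order

namespace Groth.Agent.AlgSpDec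

/-- A monomorphism from a reduced discrete scheme with discrete image is a preimmersion. -/
theorem isPreimmersion_of_mono_discrete {V U : Scheme.{u}} (f : V ⟶ U) [Mono f] [IsReduced V]
    [DiscreteTopology ↥V] (h : ∀ v : ↥V, ∃ O : Set ↥U, IsOpen O ∧ f v ∈ O ∧ O ∩ Set.range f ⊆ {f v}) :
    IsPreimmersion f := by
  refine { toSurjectiveOnStalks := ⟨fun v => ?_⟩, isEmbedding := ?_ }
  · have : Mono (V.fromSpecResidueField v ≫ f) := mono_comp _ _
    have : Mono (Spec.map (f.residueFieldMap v) ≫ U.fromSpecResidueField (f v)) := by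
      rw [Scheme.Hom.SpecMap_residueFieldMap_fromSpecResidueField]; infer_instance
    have : Mono (Spec.map (f.residueFieldMap v)) := mono_of_mono _ (U.fromSpecResidueField (f v))
    have : Nonempty ↥(Spec (V.residueField v)) := inferInstanceAs (Nonempty (PrimeSpectrum _))
    have : IsIso (Spec.map (f.residueFieldMap v)) :=
      isIso_of_mono_to_field (K := ↥(U.residueField (f v))) (Spec.map (f.residueFieldMap v))
    have hbij := isIso_SpecMap_iff.1 this
    intro z
    obtain ⟨y, hy⟩ := hbij.2 (V.residue v z)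
    obtain ⟨y, rfl⟩ := U.residue_surjective (f v) y
    refine ⟨y, ?_⟩
    have hfield : IsField ↥(V.presheaf.stalk v) := by
      have : Ring.KrullDimLE 0 ↥(V.presheaf.stalk v) := by
        refine krullDimLE_of_coheight_le (n := 0) (le_of_eq ?_)
        exact (coheight_eq_zero (α := ↥V)).2 fun w hw => le_of_eq (Specializes.eq hw)
      exact Ring.KrullDimLE.isField_of_isReduced
    let _ := hfield.toField
    have h2 : V.residue v (f.stalkMap v y) = V.residue v z := by
      rw [← hy]
      exact (congrArg (fun m => m.hom y) (Scheme.residue_residueFieldMap f v)).symm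
    exact (V.residue v).hom.injective h2
  · refine ⟨⟨TopologicalSpace.ext ?_⟩, f.injective⟩
    funext s
    refine propext ⟨fun _ => ?_, fun _ => isOpen_discrete s⟩
    choose O hO hvO hOi using h
    refine isOpen_induced_iff.2 ⟨⋃ v ∈ s, O v, isOpen_biUnion fun v _ => hO v, ?_⟩
    ext w
    simp only [Set.mem_preimage, Set.mem_iUnion]
    refine ⟨fun ⟨v, hv, hw⟩ => ?_, fun hw => ⟨w, hw, hvO w⟩⟩
    rwa [f.injective (hOi v ⟨hw, w, rfl⟩ : f w = f v)]

variable {S : Scheme.{u}} {X Y : Sp S}

/-- The fibre of a chart over a quasi-compact monomorphism from a point is embedded in the chart. -/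
theorem isPreimmersion_chart_fibre {p : FieldPt Y} [Mono p.toHom] (hq : RepWith @QuasiCompact p.toHom)
    {V : Over S} {b : (yon S).obj V ⟶ Y} (hb : RepWith @Etale b) : IsPreimmersion (hq.rep.snd b).left := by
  let v₁ := hq.rep.fst' b
  let v₂ := hq.rep.snd b
  have sq : IsPullback ((yon S).map v₁) ((yon S).map v₂) p.toHom b := hq.rep.isPullback' b
  have : Etale v₁.left := hb.property _ _ _ sq.flip
  have : Mono v₂ := (yon S).mono_of_mono_map (PullbackCone.mono_snd_of_is_pullback_of_mono sq.isLimit)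
  have : Mono v₂.left := inferInstanceAs (Mono ((Over.forget S).map v₂))
  have hd : DiscreteTopology ↥(hq.rep.pullback b).left := by
    have h1 := v₁.left.isDiscrete_preimage_singleton (IsLocalRing.closedPoint p.K)
    rw [show v₁.left ⁻¹' {IsLocalRing.closedPoint p.K} = Set.univ from
      Set.eq_univ_of_forall fun x => Subsingleton.elim (α := ↥p.pt.left) _ _] at h1
    exact isDiscrete_univ_iff.1 h1
  have : IsReduced (hq.rep.pullback b).left := GrpSchLib.isReduced_of_smooth_field v₁.left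
  refine isPreimmersion_of_mono_discrete v₂.left fun v => ?_
  have hx : ∀ w, Points.ofPt b (v₂.left w) = Points.mk p := fun w => by
    rw [← ofPt_comp, ← sq.w, ofPt_comp]
    exact Points.ofPt_toHom p _
  obtain ⟨A, hA, hvA, -⟩ := exists_isAffineOpen_mem_and_subset (U := (⊤ : V.left.Opens)) (x := v₂.left v) trivial
  have hfinx : ∀ (V' : Over S) (c : (yon S).obj V' ⟶ Y), IsAffine V'.left → RepWith @Etale c →
      (Points.ofPt c ⁻¹' {Points.mk p}).Finite := fun V' c _ hc => finite_fibre_of_repWith hc p hq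
  have hF : ((A : Set ↥V.left) ∩ Points.ofPt b ⁻¹' {Points.mk p}).Finite := by
    let j : Over.mk (A.ι ≫ V.hom) ⟶ V := Over.homMk A.ι rfl
    have : IsAffine (Over.mk (A.ι ≫ V.hom)).left := hA
    have h1 := hfinx _ ((yon S).map j ≫ b) this
      (repWith_comp ((repWith_yon_map_iff _ j).2 (inferInstanceAs (Etale A.ι))) hb)
    refine (h1.image A.ι).subset ?_
    rintro w ⟨hwA, hw⟩
    refine ⟨⟨w, hwA⟩, ?_, rfl⟩
    change Points.ofPt ((yon S).map j ≫ b) ⟨w, hwA⟩ = _
    rw [ofPt_comp]
    exact hw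
  obtain ⟨O, hO, hvO, hOF⟩ := isOpen_singleton_fibre hF (u := v₂.left v) ⟨hvA, hx v⟩
    fun w hw hwv => (eq_of_specializes _ hfinx hb (hx v) hw.2 hwv).symm
  refine ⟨O ∩ A, hO.inter A.2, ⟨hvO, hvA⟩, ?_⟩
  rintro _ ⟨⟨hwO, hwA⟩, w, rfl⟩
  exact hOF ⟨hwO, hwA, hx w⟩

/-- The fibre over a quasi-compact monomorphism from a point has the induced topology. -/
theorem isEmbedding_points_fibre (hX : IsAlgSpace X) (hY : IsAlgSpace Y) (f : X ⟶ Y) (p : FieldPt Y)
    [Mono p.toHom] (hq : RepWith @QuasiCompact p.toHom) {Xk : Sp S} {fst : Xk ⟶ X}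
    {snd : Xk ⟶ (yon S).obj p.pt} (hsq : IsPullback fst snd f p.toHom) :
    IsEmbedding (Points.map fst) ∧ Set.range (Points.map fst) = Points.map f ⁻¹' {Points.mk p} := by
  have hrange : Set.range (Points.map fst) = Points.map f ⁻¹' {Points.mk p} := by
    refine Set.Subset.antisymm ?_ fun x hx => ?_
    · rintro _ ⟨z, rfl⟩
      obtain ⟨t, ht⟩ := (Points.schemeHomeo p.pt).surjective (Points.map snd z)
      change Points.map f (Points.map fst z) = _
      rw [← Points.map_comp, hsq.w, Points.map_comp, ← ht]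
      exact (Points.ofPt_eq_map_ofScheme p.toHom t).symm.trans (Points.ofPt_toHom p t)
    · obtain ⟨z, hz, -⟩ := exists_point_of_isPullback hsq (x := x)
        (y := Points.ofScheme p.pt (IsLocalRing.closedPoint p.K))
        (Eq.trans hx ((Points.ofPt_toHom p _).symm.trans (Points.ofPt_eq_map_ofScheme p.toHom _)))
      exact ⟨z, hz⟩
  refine ⟨?_, hrange⟩
  have : Mono fst := MorphismProperty.of_isPullback (P := MorphismProperty.monomorphisms (Sp S)) hsq.flip ‹Mono p.toHom›
  have hinj := injective_points_map_of_mono fst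
  refine ⟨⟨TopologicalSpace.ext ?_⟩, hinj⟩
  funext W
  refine propext ⟨fun hW => ?_, fun ⟨W', hW', h⟩ => h ▸ hW'.preimage (Points.continuous_map fst)⟩
  obtain ⟨U, V, a, b, h, ha, ha', hb, -, w⟩ := exists_chart hX hY f
  let v₁ := hq.rep.fst' b
  let v₂ := hq.rep.snd b
  have sqV : IsPullback ((yon S).map v₁) ((yon S).map v₂) p.toHom b := hq.rep.isPullback' b
  have := isPreimmersion_chart_fibre hq hb
  let g := (yon S).map h ≫ b
  let e₁ := hq.rep.fst' g
  let e₂ := hq.rep.snd g
  have sqU : IsPullback ((yon S).map e₁) ((yon S).map e₂) p.toHom g := hq.rep.isPullback' g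
  obtain ⟨m, hm⟩ := (yon S).map_surjective (sqV.lift ((yon S).map e₁) ((yon S).map (e₂ ≫ h))
    (by rw [Functor.map_comp, Category.assoc]; exact sqU.w))
  have hm₁ : m ≫ v₁ = e₁ := (yon S).map_injective (by rw [Functor.map_comp, hm, sqV.lift_fst])
  have hm₂ : m ≫ v₂ = e₂ ≫ h := (yon S).map_injective (by rw [Functor.map_comp, hm, sqV.lift_snd])
  have sq : IsPullback m.left e₂.left v₂.left h.left := isPullback_of_yon
    (IsPullback.of_right (by rw [← Functor.map_comp, hm₁]; exact sqU)
      (by rw [← Functor.map_comp, hm₂, Functor.map_comp]) sqV)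
  have : IsPreimmersion e₂.left := MorphismProperty.of_isPullback sq ‹_›
  obtain ⟨c, hc₁, -⟩ : ∃ c, c ≫ fst = (yon S).map e₂ ≫ a ∧ c ≫ snd = (yon S).map e₁ :=
    ⟨hsq.lift ((yon S).map e₂ ≫ a) ((yon S).map e₁) (by rw [Category.assoc, w]; exact sqU.w.symm),
      hsq.lift_fst _ _ _, hsq.lift_snd _ _ _⟩
  have hW₀ : IsOpen (Points.ofPt c ⁻¹' W) := hW.preimage (Points.continuous_ofPt c)
  obtain ⟨O, hO, hOW⟩ := e₂.left.isEmbedding.isInducing.isOpen_iff.1 hW₀
  refine ⟨Points.ofPt a '' O, isOpenMap_ofPt ha O hO, ?_⟩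
  have hfac : ∀ o z, Points.ofPt a o = Points.map fst z → ∃ t, e₂.left t = o ∧ Points.ofPt c t = z := by
    intro o z hoz
    have hx : Points.map f (Points.map fst z) = Points.mk p := hrange.subset ⟨z, rfl⟩
    obtain ⟨t, -, ht⟩ := exists_ofPt_of_eq (u := IsLocalRing.closedPoint p.K) (v := o) sqU
      ((Points.ofPt_toHom p _).trans (by rw [← hx, ← hoz, Points.map_ofPt, w]))
    refine ⟨t, ht, hinj ?_⟩
    rw [Points.map_ofPt, hc₁, ofPt_comp, ht, hoz]
  ext z
  refine ⟨fun ⟨o, ho, hoz⟩ => ?_, fun hz => ?_⟩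
  · obtain ⟨t, ht, htz⟩ := hfac o z hoz
    rw [← htz]
    exact hOW.le (show e₂.left t ∈ O from ht.symm ▸ ho)
  · obtain ⟨o, ho⟩ := surjective_ofPt ha' (Points.map fst z)
    obtain ⟨t, ht, htz⟩ := hfac o z ho
    refine ⟨o, ?_, ho⟩
    rw [← ht]
    exact hOW.ge (show Points.ofPt c t ∈ W from htz.symm ▸ hz)

end Groth.Agent.AlgSpDec
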