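import Groth.Agent.AlgSpDec.SplitOff
import Groth.Agent.AlgSpDec.FieldFibre
import Groth.Agent.AlgSpDec.AffineClassQuot
import Groth.Agent.AlgSpDec.AffineLocal
import Groth.Agent.AlgSpDec.Factor
import Groth.Agent.AlgSpDec.LimDescent
import Groth.Agent.EtFound.Descent
import Groth.Agent.MorLib.GenFinite

/-!
# Finiteness over a neighbourhood of a generic point
-/

set_option backward.isDefEq.respectTransparency false
set_option backward.isDefEq.respectTransparency.types false

universe u

open CategoryTheory Limits Opposite AlgebraicGeometry AlgSp Groth.Agent.AlgSpLib Groth.Agent.AlgSpPts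

namespace Groth.Agent.AlgSpDec.FiniteOverGeneric

attribute [local instance] Groth.Agent.EtFound.fpqc_isFinite

variable {S : Scheme.{u}}

/-- A fibre product over a sheaf is the pullback of a relative diagonal. -/
theorem isPullback_rel_diag {C : Type*} [Category C] [HasPullbacks C] {F G A B W P : C} (f : F ⟶ G)
    {a : A ⟶ F} {b : B ⟶ F} {fst : W ⟶ A} {snd : W ⟶ B} (sq : IsPullback fst snd a b) {q₁ : P ⟶ A}
    {q₂ : P ⟶ B} (hP : IsPullback q₁ q₂ (a ≫ f) (b ≫ f)) (l : W ⟶ P) (hl₁ : l ≫ q₁ = fst) (hl₂ : l ≫ q₂ = snd) :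
    IsPullback (fst ≫ a) l (pullback.diagonal f)
      (pullback.lift (q₁ ≫ a) (q₂ ≫ b) (by rw [Category.assoc, Category.assoc, hP.w])) := by
  refine ⟨⟨?_⟩, ⟨PullbackCone.IsLimit.mk _ (fun s => sq.lift (s.snd ≫ q₁) (s.snd ≫ q₂) ?_) ?_ ?_ ?_⟩⟩
  · apply pullback.hom_ext
    · simp [← hl₁]
    · simp [sq.w, ← hl₂]
  · have h1 := s.condition =≫ pullback.fst f f
    have h2 := s.condition =≫ pullback.snd f f
    simp only [Category.assoc, pullback.lift_fst, pullback.lift_snd, pullback.diagonal_fst, pullback.diagonal_snd,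
      Category.comp_id] at h1 h2
    exact (Category.assoc _ _ _).trans (h1.symm.trans (h2.trans (Category.assoc _ _ _).symm))
  · intro s
    have h1 := s.condition =≫ pullback.fst f f
    simp only [Category.assoc, pullback.lift_fst, pullback.diagonal_fst, Category.comp_id] at h1
    exact (sq.lift_fst_assoc _ _ _ _).trans ((Category.assoc _ _ _).trans h1.symm)
  · intro s
    refine hP.hom_ext ?_ ?_
    · exact (Category.assoc _ _ _).trans ((congrArg (_ ≫ ·) hl₁).trans (sq.lift_fst _ _ _))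
    · exact (Category.assoc _ _ _).trans ((congrArg (_ ≫ ·) hl₂).trans (sq.lift_snd _ _ _))
  · intro s m hm₁ hm₂
    refine sq.hom_ext ?_ ?_
    · exact ((congrArg (m ≫ ·) hl₁.symm).trans ((Category.assoc _ _ _).symm.trans
        (congrArg (· ≫ q₁) hm₂))).trans (sq.lift_fst _ _ _).symm
    · exact ((congrArg (m ≫ ·) hl₂.symm).trans ((Category.assoc _ _ _).symm.trans
        (congrArg (· ≫ q₂) hm₂))).trans (sq.lift_snd _ _ _).symm

/-- A space with an affine finite etale chart, finite over an affine base, is finite over it. -/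
theorem repWith_isFinite_of_chart {V : Over S} {X : Sp S} {q : X ⟶ (yon S).obj V} {W : Over S} [IsAffine W.left]
    {c : (yon S).obj W ⟶ X} (hc : RepWith @Etale c) (hcf : RepWith @IsFinite c) (hcs : RepWith @Surjective c)
    (k : W ⟶ V) (hk : (yon S).map k = c ≫ q) [IsFinite k.left] (hl : LocP @LocallyOfFiniteType q) :
    RepWith @IsFinite q := by
  obtain ⟨Z, ⟨eZ⟩⟩ := exists_iso_of_affine_finite_etale c hc hcf hcs
  obtain ⟨qZ, hqZ⟩ := (yon S).map_surjective (eZ.hom ≫ q)
  obtain ⟨π, hπ⟩ := (yon S).map_surjective (c ≫ eZ.inv)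
  have : Surjective π.left := (repWith_yon_map_iff _ π).1 (hπ ▸ repWith_comp hcs (repWith_of_isIso _ _))
  have hπf : IsFinite π.left := (repWith_yon_map_iff _ π).1 (hπ ▸ repWith_comp hcf (repWith_of_isIso _ _))
  have hπq : π.left ≫ qZ.left = k.left := by
    rw [← Over.comp_left]
    exact congrArg CommaMorphism.left ((yon S).map_injective (by
      rw [Functor.map_comp, hπ, hqZ, Category.assoc, Iso.inv_hom_id_assoc, hk]))
  have : LocallyOfFiniteType qZ.left := hl eZ.hom (𝟙 _) qZ (repWith_of_isIso _ _)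
    (repWith_id _ V) (by rw [Category.comp_id, hqZ])
  have : UniversallyClosed (π.left ≫ qZ.left) := hπq ▸ inferInstance
  have : UniversallyClosed qZ.left := .of_comp_surjective π.left _
  have : IsSeparated qZ.left := by
    constructor
    let D := pullback.diagonal qZ.left
    let cc := pullback.map k.left k.left qZ.left qZ.left π.left π.left (𝟙 V.left)
      (by rw [Category.comp_id, hπq]) (by rw [Category.comp_id, hπq])
    have : IsFinite cc := MorphismProperty.pullbackMap (P := @IsFinite) hπf hπf hπq.symm hπq.symm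
    have e : pullback.diagonal k.left ≫ cc = π.left ≫ D := by
      apply pullback.hom_ext <;> simp [cc, D]
    have hcl : IsClosed (Set.range D) := by
      have h1 : Set.range D = cc '' Set.range (pullback.diagonal k.left) := by
        rw [← π.left.surjective.range_comp D, ← Set.range_comp]
        exact congrArg Set.range (funext fun x => by
          change D (π.left x) = cc (pullback.diagonal k.left x)
          rw [← Scheme.Hom.comp_apply, ← Scheme.Hom.comp_apply, e])
      rw [h1]
      exact cc.isClosedMap _ (pullback.diagonal k.left).isClosedMap.isClosed_range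
    exact .of_isPreimmersion D hcl
  have : IsProper qZ.left := ⟨⟩
  have : CompactSpace ↥Z.left := ⟨by rw [← π.left.surjective.range_eq]; exact isCompact_range π.left.continuous⟩
  have : LocallyQuasiFinite qZ.left := locallyQuasiFinite_iff_finite_preimage_singleton.2 fun v => by
    refine ((k.left.finite_preimage_singleton v).image π.left).subset fun z hz => ?_
    obtain ⟨r, rfl⟩ := π.left.surjective z
    exact ⟨r, by rw [← hπq]; exact (Scheme.Hom.comp_apply _ _ _).trans hz, rfl⟩
  have hf : IsFinite qZ.left := IsFinite.of_isProper_of_locallyQuasiFinite _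
  have hq : q = eZ.inv ≫ (yon S).map qZ := by rw [hqZ, Iso.inv_hom_id_assoc]
  rw [hq]
  exact repWith_comp (repWith_of_isIso _ _) ((repWith_yon_map_iff _ qZ).2 hf)

theorem mem_genericPoints_of_minimal {X : Scheme.{u}} {η : X} (h : ∀ z : X, z ⤳ η → z = η) :
    η ∈ genericPoints X := by
  refine ⟨isIrreducible_singleton.closure, fun T hT hle => ?_⟩
  have hg := hT.isGenericPoint_genericPoint_closure
  have h1 : hT.genericPoint = η := h _ (hg.specializes (subset_closure (hle (subset_closure rfl))))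
  exact fun x hx => by
    rw [← h1]
    exact (hg.specializes (subset_closure hx)).mem_closed isClosed_closure (subset_closure rfl)

/-- A finite type quasi-separated morphism to an affine scheme, quasi-finite over a generic point,
is finite over a neighbourhood of it. -/
theorem exists_finite_nbhd {X Y : Sp S} (hX : IsAlgSpace X) (hY : IsAlgSpace Y) {f : X ⟶ Y}
    (hft : IsFiniteTypeMor f) (hqs : IsQuasiSeparatedMor f) {V : Over S} [IsAffine V.left]
    {b : (yon S).obj V ⟶ Y} (hb : RepWith @Etale b) (v : V.left) (hv : v ∈ genericPoints V.left)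
    (hqf : ∀ x : Points X, Points.map f x = Points.ofPt b v → HasAtMor SplitOff.QfAt f x) :
    ∃ V₁ : V.left.Opens, v ∈ V₁ ∧ ∀ {P : Sp S} (fst : P ⟶ X)
      (snd : P ⟶ (yon S).obj (Over.mk (V₁.ι ≫ V.hom))),
      IsPullback fst snd f ((yon S).map (CategoryTheory.Over.homMk V₁.ι rfl : Over.mk (V₁.ι ≫ V.hom) ⟶ V) ≫ b) →
        RepWith @IsFinite snd := by
  have sqV := IsPullback.of_hasPullback f b
  let q₁ := pullback.fst f b
  let q₂ := pullback.snd f b
  have hXV : IsAlgSpace (pullback f b) := isAlgSpace_of_isPullback sqV hX (IsAlgSpace.yon_obj V) hY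
  obtain ⟨W, c, hW, hc, hcs⟩ := AlgSpDec.exists_affine_atlas
    (hft.2 (IsAlgSpace.yon_obj V) (AlgSpLib.isQuasiCompactSp_yon V) b _ _ sqV)
  haveI := hW
  obtain ⟨k, hk⟩ := (yon S).map_surjective (c ≫ q₂)
  let a := c ≫ q₁
  have ha : RepWith @Etale a := repWith_comp hc (repWith_fst f hb)
  have w : a ≫ f = (yon S).map k ≫ b := by rw [hk, Category.assoc, Category.assoc, pullback.condition]
  haveI : LocallyOfFiniteType k.left := hft.1 a b k ha hb w
  haveI : QuasiCompact k.left := HasAffineProperty.iff_of_isAffine.2 (inferInstanceAs (CompactSpace ↥W.left))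
  have hkfin : (k.left ⁻¹' {v}).Finite := by
    refine (FieldFibre.finite_qf_points k.left v).subset fun t ht => ⟨ht, ?_⟩
    have hx : Points.map f (Points.ofPt a t) = Points.ofPt b v := by
      rw [Points.map_ofPt, w, ofPt_comp, show k.left t = v from ht]
    obtain ⟨U', V', a', b', h', u', ha', hb', w', hx', O, huO, hOq, hOl⟩ := hqf _ hx
    rw [RelDimSp.fibreDimAt_congr hft.1 ha hb w ha' hb' w' hx'.symm]
    haveI : LocallyOfFiniteType h'.left := hft.1 a' b' h' ha' hb' w'
    have h1 := fibreDimAt_etale_comp O.ι h'.left (⟨u', huO⟩ : O.toScheme)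
    rw [fibreDimAt_eq_zero_of_lqf (O.ι ≫ h'.left)] at h1
    exact h1.symm
  -- the relation
  let R := hc.rep.pullback c
  let t : R ⟶ W := hc.rep.fst' c
  let s : R ⟶ W := hc.rep.snd c
  have sqR : IsPullback ((yon S).map t) ((yon S).map s) c c := hc.rep.isPullback' c
  haveI : Etale s.left := hc.property_snd c
  let P₀ : Over S := Over.mk (pullback.fst k.left k.left ≫ W.hom)
  let p₁ : P₀ ⟶ W := CategoryTheory.Over.homMk (pullback.fst k.left k.left) rfl
  let p₂ : P₀ ⟶ W := CategoryTheory.Over.homMk (pullback.snd k.left k.left) (by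
    change pullback.snd k.left k.left ≫ W.hom = pullback.fst k.left k.left ≫ W.hom
    rw [← Over.w k, pullback.condition_assoc])
  have sqP : IsPullback ((yon S).map p₁) ((yon S).map p₂) (c ≫ q₂) (c ≫ q₂) :=
    hk ▸ isPullback_yon_of_left p₁ p₂ k k (IsPullback.of_hasPullback k.left k.left)
  obtain ⟨m, hm⟩ := (yon S).map_surjective (sqP.lift ((yon S).map t) ((yon S).map s)
    (by rw [reassoc_of% sqR.w]))
  have hm₁ : (yon S).map m ≫ (yon S).map p₁ = (yon S).map t := by rw [hm, sqP.lift_fst]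
  have hm₂ : (yon S).map m ≫ (yon S).map p₂ = (yon S).map s := by rw [hm, sqP.lift_snd]
  have sqd := isPullback_rel_diag q₂ sqR sqP ((yon S).map m) hm₁ hm₂
  haveI : QuasiCompact m.left := (AlgSpPts.isQuasiSeparatedMor_of_isPullback sqV hqs).property _ _ _ sqd
  haveI : Mono ((yon S).map m) := PullbackCone.mono_snd_of_is_pullback_of_mono sqd.isLimit
  haveI : Mono m := (yon S).mono_of_mono_map inferInstance
  haveI : Mono m.left := inferInstanceAs (Mono ((Over.forget S).map m))
  have hms : m.left ≫ p₂.left = s.left := by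
    rw [← Over.comp_left]
    exact congrArg CommaMorphism.left ((yon S).map_injective (by rw [Functor.map_comp, hm₂]))
  haveI : IsAffine P₀.left := inferInstanceAs (IsAffine (pullback k.left k.left))
  haveI : CompactSpace ↥R.left := QuasiCompact.compactSpace_of_compactSpace m.left
  haveI : IsSeparated p₂.left := inferInstanceAs (IsSeparated (pullback.snd k.left k.left))
  haveI : IsSeparated s.left := hms ▸ inferInstance
  haveI : QuasiCompact s.left := HasAffineProperty.iff_of_isAffine.2 (inferInstanceAs (CompactSpace ↥R.left))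
  let ρ := s.left ≫ k.left
  have hρfin : (ρ ⁻¹' {v}).Finite := by
    refine (hkfin.biUnion fun t _ => s.left.finite_preimage_singleton t).subset fun r hr => ?_
    exact Set.mem_biUnion ((Scheme.Hom.comp_apply _ _ _).symm.trans hr) rfl
  obtain ⟨Va, hVa, hvVa, -, hfW⟩ := MorLib.GenFinite.exists_isFinite k.left hv hkfin
    (fun x hx => MorLib.GenFinite.exists_open_of_finite_fibre k.left hkfin x hx)
    (fun V₀ hV₀ hη₀ U₁ U₂ h₁ h₂ e₁ e₂ hne => MorLib.GenFinite.exists_avoid_inf k.left hv hV₀ hη₀ h₁ h₂ e₁ e₂ hne)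
    ⊤ trivial
  obtain ⟨V₁, hV₁, hvV₁, hle, hfR⟩ := MorLib.GenFinite.exists_isFinite ρ hv hρfin
    (fun x hx => MorLib.GenFinite.exists_open_of_finite_fibre ρ hρfin x hx)
    (fun V₀ hV₀ hη₀ U₁ U₂ h₁ h₂ e₁ e₂ hne => MorLib.GenFinite.exists_avoid_inf ρ hv hV₀ hη₀ h₁ h₂ e₁ e₂ hne)
    Va hvVa
  haveI hfW₁ : IsFinite (k.left ∣_ V₁) := by
    have h1 : IsFinite (k.left ∣_ Va ∣_ Va.ι ⁻¹ᵁ V₁) := IsZariskiLocalAtTarget.restrict hfW _
    rw [MorphismProperty.arrow_mk_iso_iff @IsFinite (morphismRestrictRestrict k.left _ _),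
      Scheme.Hom.image_preimage_eq_opensRange_inf, Scheme.Opens.opensRange_ι, inf_eq_right.mpr hle] at h1
    exact h1
  refine ⟨V₁, hvV₁, fun {P} fst snd sq => ?_⟩
  let V₁o : Over S := Over.mk (V₁.ι ≫ V.hom)
  let jv : V₁o ⟶ V := CategoryTheory.Over.homMk V₁.ι rfl
  obtain ⟨g, hg₁, hg₂⟩ := sqV.exists_lift fst (snd ≫ (yon S).map jv) (by rw [Category.assoc]; exact sq.w)
  have sq₁ : IsPullback g snd q₂ ((yon S).map jv) := IsPullback.of_right (by rw [hg₁]; exact sq) hg₂ sqV
  let W₁ : Over S := Over.mk ((k.left ⁻¹ᵁ V₁).ι ≫ W.hom)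
  let wι : W₁ ⟶ W := CategoryTheory.Over.homMk (k.left ⁻¹ᵁ V₁).ι rfl
  let k₁ : W₁ ⟶ V₁o := CategoryTheory.Over.homMk (k.left ∣_ V₁) (by
    change (k.left ∣_ V₁) ≫ V₁.ι ≫ V.hom = (k.left ⁻¹ᵁ V₁).ι ≫ W.hom
    rw [morphismRestrict_ι_assoc, Over.w k])
  have sqW : IsPullback ((yon S).map wι) ((yon S).map k₁) ((yon S).map k) ((yon S).map jv) :=
    isPullback_yon_of_left wι k₁ k jv (isPullback_morphismRestrict k.left V₁).flip
  obtain ⟨c₁, hc₁, hc₁'⟩ := sq₁.exists_lift ((yon S).map wι ≫ c) ((yon S).map k₁)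
    (by rw [Category.assoc, ← hk]; exact sqW.w)
  have sqc : IsPullback ((yon S).map wι) c₁ c g := (IsPullback.of_right (h₁₁ := c₁) (v₁₁ := (yon S).map wι)
    (by rw [hc₁', ← hk]; exact sqW.flip) hc₁ sq₁.flip).flip
  have hce : RepWith @Etale c₁ := repWith_of_isPullback sqc hc
  have hcS : RepWith @Surjective c₁ := repWith_of_isPullback sqc hcs
  haveI : IsAffine W₁.left := hV₁.preimage k.left
  -- the restricted relation
  let R' := hc.rep.pullback ((yon S).map wι ≫ c)
  let t' : R' ⟶ W := hc.rep.fst' ((yon S).map wι ≫ c)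
  let s' : R' ⟶ W₁ := hc.rep.snd ((yon S).map wι ≫ c)
  have sqR' : IsPullback ((yon S).map t') ((yon S).map s') c ((yon S).map wι ≫ c) := hc.rep.isPullback' _
  obtain ⟨t₁, ht₁, ht₁'⟩ := sqc.exists_lift ((yon S).map t') ((yon S).map s' ≫ c₁)
    (by rw [sqR'.w, Category.assoc, hc₁])
  have sqK : IsPullback t₁ ((yon S).map s') c₁ c₁ := IsPullback.of_right (by rw [ht₁, hc₁]; exact sqR') ht₁' sqc
  obtain ⟨r, hr₁, hr₂⟩ := sqR.exists_lift ((yon S).map t') ((yon S).map s' ≫ (yon S).map wι)
    (by rw [Category.assoc]; exact sqR'.w)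
  obtain ⟨r, rfl⟩ := (yon S).map_surjective r
  have sqr : IsPullback r.left s'.left s.left (k.left ⁻¹ᵁ V₁).ι :=
    isPullback_of_yon (IsPullback.of_right (by rw [hr₁]; exact sqR') hr₂ sqR)
  have hfs : IsFinite s'.left := by
    have h1 : IsFinite ((s.left ∣_ k.left ⁻¹ᵁ V₁) ≫ k.left ∣_ V₁) := by
      rw [← morphismRestrict_comp]; exact hfR
    have h2 : IsFinite (s.left ∣_ k.left ⁻¹ᵁ V₁) := IsFinite.of_comp _ (k.left ∣_ V₁)
    have sq₀ := (isPullback_morphismRestrict s.left (k.left ⁻¹ᵁ V₁)).flip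
    rw [← sqr.isoIsPullback_hom_snd _ _ sq₀]
    exact MorphismProperty.RespectsIso.precomp _ _ _ h2
  have hcf : RepWith @IsFinite c₁ := repWith_of_etale_cover (P := @IsFinite)
    (fun _ _ e (_ : IsFinite e) => inferInstanceAs (IsAffineHom e)) hce hcS sqK ((repWith_yon_map_iff _ _).2 hfs)
  have : IsFinite k₁.left := hfW₁
  exact repWith_isFinite_of_chart hce hcf hcS k₁ hc₁'.symm
    (locP_of_isPullback sq₁ hXV (IsAlgSpace.yon_obj V) (IsAlgSpace.yon_obj V₁o)
      (locP_of_isPullback sqV hX hY (IsAlgSpace.yon_obj V) hft.1))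

end Groth.Agent.AlgSpDec.FiniteOverGeneric
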