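import Groth.Agent.AlgSpDec.SplitOff
import Groth.Agent.AlgSpDec.FieldFibre
import Groth.Agent.AlgSpDec.AffineProps
import Groth.Agent.AlgSpDec.FiniteOverGeneric
import Groth.Agent.AlgSpDec.SpQuot
import Groth.Agent.AlgSpPts.SepDescent

/-!
# The quasi-finite locus and finiteness of proper quasi-finite morphisms
-/

set_option backward.isDefEq.respectTransparency false
set_option backward.isDefEq.respectTransparency.types false

universe u

open CategoryTheory Limits Opposite AlgebraicGeometry AlgSp Groth.Agent.AlgSpLib Groth.Agent.AlgSpPts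

namespace Groth.Agent.AlgSpDec.QfLocus

variable {S : Scheme.{u}} {X Y : Sp S} {f : X ⟶ Y}

theorem isOpen_qf : IsOpen {x : Points X | HasAtMor SplitOff.QfAt f x} := by
  rw [isOpen_iff_forall_mem_open]
  rintro x ⟨U, V, a, b, h, u, ha, hb, hw, hu, O, huO, hO₁, hO₂⟩
  refine ⟨Points.ofPt a '' (O : Set U.left), ?_, isOpenMap_ofPt ha _ O.2, ⟨u, huO, hu⟩⟩
  rintro _ ⟨t, ht, rfl⟩
  exact ⟨U, V, a, b, h, t, ha, hb, hw, rfl, O, ht, hO₁, hO₂⟩

/-- Quasi-finiteness at a point is vanishing of the fibre dimension on any chart. -/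
theorem quasiFiniteAt_of_qf (hf : LocP @LocallyOfFiniteType f) {U V : Over S} {a : (yon S).obj U ⟶ X}
    {b : (yon S).obj V ⟶ Y} {h : U ⟶ V} (ha : RepWith @Etale a) (hb : RepWith @Etale b)
    (w : a ≫ f = (yon S).map h ≫ b) [LocallyOfFiniteType h.left] (u : U.left)
    (hx : HasAtMor SplitOff.QfAt f (Points.ofPt a u)) : h.left.QuasiFiniteAt u := by
  obtain ⟨U', V', a', b', h', u', ha', hb', w', hx', O, huO, hOq, hOl⟩ := hx
  refine Scheme.Hom.quasiFiniteAt_iff_isOpen_singleton_asFiber.mpr ((fibreDimAt_eq_zero_iff h.left u).1 ?_)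
  rw [RelDimSp.fibreDimAt_congr hf ha hb w ha' hb' w' hx'.symm]
  haveI : LocallyOfFiniteType h'.left := hf a' b' h' ha' hb' w'
  have h1 := fibreDimAt_etale_comp O.ι h'.left (⟨u', huO⟩ : O.toScheme)
  rw [fibreDimAt_eq_zero_of_lqf (O.ι ≫ h'.left)] at h1
  exact h1.symm

/-- Fibre dimension zero at a point gives quasi-finiteness there. -/
theorem qf_of_fibreDim_zero (hf : LocP @LocallyOfFiniteType f) {x : Points X}
    (hx : HasAtMor (fun _ _ h u => FlatMor.fibreDimAt h u = 0) f x) : HasAtMor SplitOff.QfAt f x := by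
  obtain ⟨U, V, a, b, h, u, ha, hb, w, hu, h0⟩ := hx
  haveI : LocallyOfFiniteType h.left := hf a b h ha hb w
  exact ⟨U, V, a, b, h, u, ha, hb, w, hu, h.left.quasiFiniteLocus,
    Scheme.Hom.quasiFiniteAt_iff_isOpen_singleton_asFiber.mpr ((fibreDimAt_eq_zero_iff h.left u).1 h0),
    inferInstance, inferInstance⟩

theorem locP_lqf_of_forall (hf : LocP @LocallyOfFiniteType f) (h : ∀ x, HasAtMor SplitOff.QfAt f x) :
    LocP (@LocallyQuasiFinite ⊓ @LocallyOfFiniteType : MorphismProperty Scheme.{u}) f := by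
  intro U V a b k ha hb w
  haveI : LocallyOfFiniteType k.left := hf a b k ha hb w
  refine ⟨(Scheme.Hom.quasiFiniteLocus_eq_top_iff k.left).1 (top_le_iff.1 fun u _ => ?_), inferInstance⟩
  exact quasiFiniteAt_of_qf hf ha hb w u (h _)

/-- A proper morphism which is quasi-finite everywhere is finite. -/
theorem repWith_isFinite_of_proper_qf (hX : IsAlgSpace X) (hY : IsAlgSpace Y) (hf : IsProperMor f)
    (h : ∀ x, HasAtMor SplitOff.QfAt f x) : RepWith @IsFinite f := by
  have hq := locP_lqf_of_forall hf.2.1.1 h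
  have hr := representable_of_lqf_separated hX hY f hq hf.1
  refine ⟨hr, fun T W g fst snd sq => ?_⟩
  have : UniversallyClosed snd.left := (repWith_universallyClosed_of_univClosed hr hf.2.2).property g fst snd sq
  have : QuasiCompact snd.left := (AlgSpPts.repWith_quasiCompact hr hf.2.1.2).property g fst snd sq
  have : IsSeparated snd.left := (isSeparatedMor_yon_map_iff snd).1 (isSeparatedMor_of_isPullback sq hf.1)
  obtain ⟨h1, h2⟩ := locP_of_isPullback sq hX hY (IsAlgSpace.yon_obj T) hq (𝟙 _) (𝟙 _) snd (repWith_id _ W)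
    (repWith_id _ T) (by rw [Category.id_comp, Category.comp_id])
  have : LocallyQuasiFinite snd.left := h1
  have : LocallyOfFiniteType snd.left := h2
  have : IsProper snd.left := ⟨⟩
  change IsFinite snd.left
  exact IsFinite.of_isProper_of_locallyQuasiFinite _

/-- A proper morphism is finite over a neighbourhood of a point with quasi-finite fibre. -/
theorem exists_finite_nbhd_of_proper (hX : IsAlgSpace X) (hY : IsAlgSpace Y) (hf : IsProperMor f) (y : Points Y)
    (hq : ∀ x, Points.map f x = y → HasAtMor SplitOff.QfAt f x) :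
    ∃ (V : Sp S) (j : V ⟶ Y), IsAlgSpace V ∧ RepWith @IsOpenImmersion j ∧ y ∈ Set.range (Points.map j) ∧
      ∀ (P : Sp S) (fst : P ⟶ X) (snd : P ⟶ V), IsPullback fst snd f j → RepWith @IsFinite snd := by
  have hc : IsClosedMap (Points.map f) :=
    hf.2.2 hY (𝟙 Y) (𝟙 X) f (IsPullback.of_horiz_isIso ⟨by rw [Category.id_comp, Category.comp_id]⟩)
  let C := {x : Points X | HasAtMor SplitOff.QfAt f x}ᶜ
  obtain ⟨V, j, hV, hj, hrange⟩ := exists_open_subspace hY
    (W := (Points.map f '' C)ᶜ) (hc _ isOpen_qf.isClosed_compl).isOpen_compl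
  refine ⟨V, j, hV, hj, ?_, fun P fst snd sq => ?_⟩
  · rw [hrange]
    rintro ⟨x, hx, hxy⟩
    exact hx (hq x hxy)
  have hP : IsAlgSpace P := isAlgSpace_of_isPullback sq hX hV hY
  refine repWith_isFinite_of_proper_qf hP hV (AlgSpPts.isProperMor_of_isPullback sq hX hY hV hf) fun w => ?_
  obtain ⟨U, a, u, -, ha, rfl⟩ := exists_affine_chart_at hP w
  obtain ⟨A, b, t, -, hb, ht⟩ := exists_affine_chart_at hV (Points.map snd (Points.ofPt a u))
  have hqx : HasAtMor SplitOff.QfAt f (Points.map fst (Points.ofPt a u)) := by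
    by_contra hC
    have hh : Points.map j (Points.map snd (Points.ofPt a u)) ∈ (Points.map f '' C)ᶜ := hrange ▸ ⟨_, rfl⟩
    exact hh ⟨_, hC, by rw [← Points.map_comp, sq.w, Points.map_comp]⟩
  have hbj : RepWith @Etale (b ≫ j) := repWith_comp hb
    (repWith_mono (fun _ _ g (_ : IsOpenImmersion g) => (inferInstance : Etale g)) _ hj)
  have sqA := IsPullback.of_hasPullback snd b
  obtain ⟨z, hz₁, hz₂⟩ := exists_point_of_isPullback sqA (x := Points.ofPt a u) (y := Points.ofScheme A t)
    (by rw [← Points.ofPt_eq_map_ofScheme, ht])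
  have sqZ : IsPullback (pullback.fst snd b ≫ fst) (pullback.snd snd b) f (b ≫ j) := sqA.paste_horiz sq
  obtain ⟨B, c, z', ρ, -, hc', hz', hρ, hρ₁, hρ₂⟩ := SplitOff.exists_qf_chart hbj sqZ z
    (by rw [Points.map_comp, hz₁]; exact hqx)
  refine ⟨B, A, c ≫ pullback.fst snd b, b, ρ, z', repWith_comp hc' (repWith_fst snd hb), hb, ?_, ?_,
    ⊤, trivial, inferInstance, inferInstance⟩
  · rw [Category.assoc, pullback.condition, ← Category.assoc, ← hρ]
  · rw [← Points.map_ofPt, hz', hz₁]

end Groth.Agent.AlgSpDec.QfLocus
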