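import Groth.Agent.AlgSpDec.IsolatedPoints
import Groth.Agent.AlgSpDec.FibreEmbedding
import Groth.Agent.AlgSpDec.FibreDimSp
import Groth.Agent.AlgSpDec.FieldFibre
import Groth.Agent.AlgSpDec.QfLocus
import Groth.Agent.AlgSpDec.ElemDistInduction
import Groth.Agent.AlgSpDec.Basic

/-!
Isolated points of fibres of morphisms locally of finite type, over an arbitrary base.
-/

set_option autoImplicit false
set_option maxHeartbeats 800000
set_option backward.isDefEq.respectTransparency false
set_option backward.isDefEq.respectTransparency.types false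

universe u

open CategoryTheory Limits Opposite AlgebraicGeometry AlgSp Groth.Agent.AlgSpLib Groth.Agent.AlgSpPts Topology
  TopologicalSpace

namespace Groth.Agent.AlgSpDec.FibrePoints

variable {S : Scheme.{u}} {k : Type u} [Field k] {str : Spec (CommRingCat.of k) ⟶ S} {X : Sp S}
  {p : X ⟶ (yon S).obj (Over.mk str)}

theorem chart_jacobson (hp : LocP @LocallyOfFiniteType p) {U : Over S}
    {a : (yon S).obj U ⟶ X} (ha : RepWith @Etale a) :
    IsLocallyNoetherian U.left ∧ JacobsonSpace ↥U.left := by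
  obtain ⟨h, hh⟩ := (yon S).map_surjective (a ≫ p)
  have hl : LocallyOfFiniteType h.left := hp a (𝟙 _) h ha (repWith_id _ _) (by rw [Category.comp_id, hh])
  have : IsLocallyNoetherian (Over.mk str).left :=
    inferInstanceAs (IsLocallyNoetherian (Spec (CommRingCat.of k)))
  have : JacobsonSpace ↥(Over.mk str).left :=
    inferInstanceAs (JacobsonSpace (PrimeSpectrum k))
  exact ⟨LocallyOfFiniteType.isLocallyNoetherian h.left, LocallyOfFiniteType.jacobsonSpace h.left⟩



/-- Over an isolated point, the points of a chart are isolated and closed. -/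
theorem isolated_of_isOpen (hp : LocP @LocallyOfFiniteType p) {U : Over S}
    {a : (yon S).obj U ⟶ X} (ha : RepWith @Etale a) {x : Points X}
    (hx : IsOpen ({x} : Set (Points X))) {w : ↥U.left} (hw : Points.ofPt a w = x) :
    IsOpen ({w} : Set ↥U.left) ∧ IsClosed ({w} : Set ↥U.left) := by
  obtain ⟨hN, hJ⟩ := chart_jacobson hp ha
  have hF : IsOpen (Points.ofPt a ⁻¹' {x}) := hx.preimage (Points.continuous_ofPt a)
  have hlc : IsLocallyClosed ({w} : Set ↥U.left) := by
    refine ⟨Points.ofPt a ⁻¹' {x}, closure {w}, hF, isClosed_closure, ?_⟩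
    ext v
    constructor
    · rintro rfl; exact ⟨hw, subset_closure rfl⟩
    · rintro ⟨hv, hvw⟩
      exact eq_of_specializes_of_isLocallyNoetherian ha ((hv : Points.ofPt a v = x).trans hw.symm)
        (specializes_iff_mem_closure.2 hvw)
  have hc := isClosed_of_isLocallyClosed_point hlc
  exact ⟨isOpen_singleton_of_closed_minimal hc fun v hv => (eq_of_specializes_of_isLocallyNoetherian ha
    (hw.trans (hv.mem_open hF hw : Points.ofPt a v = x).symm) hv).symm, hc⟩

theorem isClosed_of_isOpen_point (hX : IsAlgSpace X) (hp : LocP @LocallyOfFiniteType p) {x : Points X}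
    (hx : IsOpen ({x} : Set (Points X))) : IsClosed ({x} : Set (Points X)) := by
  obtain ⟨U, a, ha, has⟩ := hX.atlas
  obtain ⟨hN, -⟩ := chart_jacobson hp ha
  refine isOpen_compl_iff.1 ((isOpen_iff_chart ha has).2 ?_)
  rw [Set.preimage_compl, isOpen_compl_iff]
  exact isClosed_of_isolated (fun w hw => (isolated_of_isOpen hp ha hx hw).1)
    fun w hw => (isolated_of_isOpen hp ha hx hw).2

theorem isOpen_of_closed_minimal (hX : IsAlgSpace X) (hp : LocP @LocallyOfFiniteType p) {x : Points X}
    (hc : IsClosed ({x} : Set (Points X))) (hm : ∀ x', x' ⤳ x → x' = x) : IsOpen ({x} : Set (Points X)) := by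
  obtain ⟨U, a, ha, has⟩ := hX.atlas
  obtain ⟨hN, -⟩ := chart_jacobson hp ha
  obtain ⟨w, hw⟩ := surjective_ofPt has x
  have hwc : IsClosed ({w} : Set ↥U.left) := closure_eq_iff_isClosed.1 <| Set.Subset.antisymm (fun v hv => by
    have hv' : Points.ofPt a v = x := by
      have hs : x ⤳ Points.ofPt a v := hw ▸ (specializes_iff_mem_closure.2 hv).map (Points.continuous_ofPt a)
      exact hs.mem_closed hc rfl
    exact eq_of_specializes_of_isLocallyNoetherian ha (hv'.trans hw.symm) (specializes_iff_mem_closure.2 hv))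
    subset_closure
  have hwo := isOpen_singleton_of_closed_minimal hwc fun v hv => (eq_of_specializes_of_isLocallyNoetherian ha
    (hw.trans (hm _ (hw ▸ hv.map (Points.continuous_ofPt a))).symm) hv).symm
  have := isOpenMap_ofPt ha _ hwo
  rwa [Set.image_singleton, hw] at this

theorem isOpen_iff_hasAt (hX : IsAlgSpace X) (hp : LocP @LocallyOfFiniteType p) (x : Points X) :
    IsOpen ({x} : Set (Points X)) ↔ HasAt (fun U u => FlatMor.localDim ↥U u = 0) X x := by
  constructor
  · intro hx
    obtain ⟨U, a, ha, has⟩ := hX.atlas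
    obtain ⟨hN, -⟩ := chart_jacobson hp ha
    obtain ⟨w, hw⟩ := surjective_ofPt has x
    exact ⟨U, a, w, ha, hw, (S9798.result U.left w).2 (isolated_of_isOpen hp ha hx hw).1⟩
  · rintro ⟨U, a, w, ha, hw, hd⟩
    obtain ⟨hN, -⟩ := chart_jacobson hp ha
    have := isOpenMap_ofPt ha _ ((S9798.result U.left w).1 hd)
    rwa [Set.image_singleton, hw] at this

theorem dim_eq_zero_of_discrete (hX : IsAlgSpace X) (hp : LocP @LocallyOfFiniteType p) [Nonempty (Points X)]
    [DiscreteTopology (Points X)] : AlgSp.dim X = 0 := by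
  refine le_antisymm (iSup_le fun U => iSup_le fun a => iSup_le fun ha => ?_) ?_
  · have : DiscreteTopology ↥U.left := discreteTopology_iff_isOpen_singleton.2 fun w =>
      (isolated_of_isOpen hp ha (isOpen_discrete {Points.ofPt a w}) rfl).1
    exact topologicalKrullDim_zero_of_discreteTopology _
  · obtain ⟨U, a, ha, has⟩ := hX.atlas
    obtain ⟨w, -⟩ := surjective_ofPt has (Classical.arbitrary _)
    have : Nonempty (IrreducibleCloseds ↥U.left) := ⟨⟨closure {w}, isIrreducible_singleton.closure, isClosed_closure⟩⟩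
    refine le_trans ?_ (le_iSup_of_le U (le_iSup_of_le a (le_iSup (fun _ : RepWith @Etale a => topologicalKrullDim ↥U.left) ha)))
    exact Order.krullDim_nonneg

theorem discrete_of_dim_zero (hX : IsAlgSpace X) (hp : LocP @LocallyOfFiniteType p) (hd : AlgSp.dim X ≤ 0) :
    DiscreteTopology (Points X) := by
  refine discreteTopology_iff_isOpen_singleton.2 fun x => ?_
  obtain ⟨U, a, ha, has⟩ := hX.atlas
  obtain ⟨hN, -⟩ := chart_jacobson hp ha
  obtain ⟨w, hw⟩ := surjective_ofPt has x
  refine (isOpen_iff_hasAt hX hp x).2 ⟨U, a, w, ha, hw, ?_⟩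
  have h1 : topologicalKrullDim ↥U.left ≤ 0 :=
    le_trans (le_iSup_of_le U (le_iSup_of_le a (le_iSup (fun _ : RepWith @Etale a => topologicalKrullDim ↥U.left) ha))) hd
  refine le_antisymm (le_trans (iInf_le _ ⟨⊤, trivial⟩) ?_) (le_iInf fun V => ?_)
  · exact le_trans (IsInducing.subtypeVal.topologicalKrullDim_le) h1
  · have : Nonempty (IrreducibleCloseds ↥(V.1 : Set ↥U.left)) :=
      ⟨⟨closure {⟨w, V.2⟩}, isIrreducible_singleton.closure, isClosed_closure⟩⟩
    exact Order.krullDim_nonneg


/-- Isolated points read in any chart. -/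
theorem isOpen_iff_localDim (hp : LocP @LocallyOfFiniteType p) {U : Over S} {a : (yon S).obj U ⟶ X}
    (ha : RepWith @Etale a) (u : ↥U.left) :
    IsOpen ({Points.ofPt a u} : Set (Points X)) ↔ FlatMor.localDim ↥U.left u = 0 := by
  obtain ⟨hN, -⟩ := chart_jacobson hp ha
  refine ⟨fun hx => (S9798.result U.left u).2 (isolated_of_isOpen hp ha hx rfl).1, fun hd => ?_⟩
  have := isOpenMap_ofPt ha _ ((S9798.result U.left u).1 hd)
  rwa [Set.image_singleton] at this

/-- Isolated points are the points of fibre dimension zero. -/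
theorem isOpen_iff_hasAtMor (hX : IsAlgSpace X) (hp : LocP @LocallyOfFiniteType p) (x : Points X) :
    IsOpen ({x} : Set (Points X)) ↔ HasAtMor (fun _ _ h u => FlatMor.fibreDimAt h u = 0) p x := by
  haveI : Subsingleton ↥(Over.mk str).left := inferInstanceAs (Subsingleton (PrimeSpectrum k))
  obtain ⟨U, a, ha, has⟩ := hX.atlas
  obtain ⟨u, rfl⟩ := surjective_ofPt has x
  obtain ⟨h, hh⟩ := (yon S).map_surjective (a ≫ p)
  rw [isOpen_iff_localDim hp ha, FieldFibre.hasAtMor_iff hp ha (repWith_id _ _)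
    (by rw [Category.comp_id, hh]) u, FieldFibre.fibreDimAt_of_subsingleton]

theorem closed_minimal_iff (hX : IsAlgSpace X) (hp : LocP @LocallyOfFiniteType p) (x : Points X) :
    (IsClosed ({x} : Set (Points X)) ∧ ∀ x', x' ⤳ x → x' = x) ↔ IsOpen ({x} : Set (Points X)) :=
  ⟨fun h => isOpen_of_closed_minimal hX hp h.1 h.2,
    fun h => ⟨isClosed_of_isOpen_point hX hp h, fun _ hx' => hx'.mem_open h rfl⟩⟩

theorem localDim_iff (hX : IsAlgSpace X) (hd : IsDecent X) (hp : LocP @LocallyOfFiniteType p) (x : Points X) :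
    FlatMor.localDim (Points X) x = 0 ↔ IsOpen ({x} : Set (Points X)) := by
  have := t0Space_points hX hd
  have := quasiSober_points hX hd
  obtain ⟨U, a, ha, has⟩ := hX.atlas
  obtain ⟨u, rfl⟩ := surjective_ofPt has x
  rw [isOpen_iff_localDim hp ha, localDim_eq hd ha]

theorem discrete_iff_dim (hX : IsAlgSpace X) (hp : LocP @LocallyOfFiniteType p) [Nonempty (Points X)] :
    DiscreteTopology (Points X) ↔ AlgSp.dim X = 0 :=
  ⟨fun _ => dim_eq_zero_of_discrete hX hp, fun h => discrete_of_dim_zero hX hp h.le⟩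

theorem krullDim_of_discrete {α : Type*} [TopologicalSpace α] [Nonempty α] [DiscreteTopology α] :
    topologicalKrullDim α = 0 := by
  refine le_antisymm (topologicalKrullDim_zero_of_discreteTopology _) ?_
  have : Nonempty (IrreducibleCloseds α) :=
    ⟨⟨closure {Classical.arbitrary _}, isIrreducible_singleton.closure, isClosed_closure⟩⟩
  exact Order.krullDim_nonneg

theorem discrete_of_krullDim (hX : IsAlgSpace X) (hd : IsDecent X) (hp : LocP @LocallyOfFiniteType p)
    (h : topologicalKrullDim (Points X) = 0) : DiscreteTopology (Points X) := by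
  have := t0Space_points hX hd
  have := quasiSober_points hX hd
  exact discrete_of_dim_zero hX hp (krullDim_points_eq_dim hX hd ▸ h).le

theorem discrete_of_finite (hX : IsAlgSpace X) (hd : IsDecent X) (hp : LocP @LocallyOfFiniteType p)
    (hfin : Finite (Points X)) : DiscreteTopology (Points X) := by
  refine discreteTopology_iff_isOpen_singleton.2 fun x => ?_
  obtain ⟨U, a, u, hU, ha, rfl⟩ := exists_affine_chart_at hX x
  obtain ⟨hN, hJ⟩ := chart_jacobson hp ha
  have : Finite ↥U.left := Set.finite_univ_iff.1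
    ((Set.toFinite (Set.univ : Set (Points X))).preimage' fun y _ => finite_fibre hX hd ha y)
  have := isOpenMap_ofPt ha _ (isOpen_discrete {u})
  rwa [Set.image_singleton] at this

section fibre

variable {F Y P : Sp S} {f : F ⟶ Y} {r : FieldPt Y} {fst : P ⟶ F} {snd : P ⟶ (yon S).obj r.pt}
  (sq : IsPullback fst snd f r.toHom) (hF : IsAlgSpace F) (hY : IsAlgSpace Y)
  (hf : LocP @LocallyOfFiniteType f)

include sq hF hY hf

theorem space : IsAlgSpace P := isAlgSpace_of_isPullback sq hF (IsAlgSpace.yon_obj _) hY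

theorem lft : LocP @LocallyOfFiniteType snd := locP_of_isPullback sq hF hY (IsAlgSpace.yon_obj _) hf

theorem isOpen_iff_qf (z : Points P) :
    IsOpen ({z} : Set (Points P)) ↔ HasAtMor SplitOff.QfAt f (Points.map fst z) := by
  have hP := space sq hF hY hf
  have hl := lft sq hF hY hf
  rw [isOpen_iff_hasAtMor hP hl]
  constructor
  · intro hz
    obtain ⟨U, a, ha, has⟩ := hP.atlas
    obtain ⟨u, rfl⟩ := surjective_ofPt has z
    obtain ⟨h, hh⟩ := (yon S).map_surjective (a ≫ snd)
    exact QfLocus.qf_of_fibreDim_zero hf (FieldFibre.hasAtMor_zero_of_fibre sq hF hY hf _ a ha h hh.symm u rfl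
      ((FieldFibre.hasAtMor_iff hl ha (repWith_id _ _) (by rw [Category.comp_id, hh]) u 0).1 hz))
  · intro hx
    obtain ⟨U, V, a, b, h, u, ha, hb, w, hu, O, huO, hOq, hOl⟩ := hx
    refine RelDimSp.baseChange sq hF hY (IsAlgSpace.yon_obj _) hf z 0 ⟨U, V, a, b, h, u, ha, hb, w, hu, ?_⟩
    haveI : LocallyOfFiniteType h.left := hf a b h ha hb w
    have h1 := fibreDimAt_etale_comp O.ι h.left (⟨u, huO⟩ : O.toScheme)
    rw [fibreDimAt_eq_zero_of_lqf (O.ι ≫ h.left)] at h1
    exact h1.symm

theorem discrete_iff_qf : DiscreteTopology (Points P) ↔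
    ∀ x : Points F, Points.map f x = Points.mk r → HasAtMor SplitOff.QfAt f x := by
  rw [discreteTopology_iff_isOpen_singleton]
  refine ⟨fun h x hx => ?_, fun h z => (isOpen_iff_qf sq hF hY hf z).2 (h _ ?_)⟩
  · obtain ⟨z, rfl⟩ := FibreDimSp.exists_over sq hx
    exact (isOpen_iff_qf sq hF hY hf z).1 (h z)
  · obtain ⟨T, g, t, -, rfl⟩ := exists_ofPt_eq z
    exact FibreDimSp.map_map_fst sq g t

theorem range_fst : Set.range (Points.map fst) = Points.map f ⁻¹' {Points.mk r} := by
  ext x
  refine ⟨?_, fun hx => FibreDimSp.exists_over sq hx⟩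
  rintro ⟨z, rfl⟩
  obtain ⟨T, g, t, -, rfl⟩ := exists_ofPt_eq z
  exact FibreDimSp.map_map_fst sq g t

end fibre

theorem isDecent_of_pullback {F Y P : Sp S} {f : F ⟶ Y} {r : FieldPt Y} [Mono r.toHom]
    (hq : RepWith @QuasiCompact r.toHom) {fst : P ⟶ F} {snd : P ⟶ (yon S).obj r.pt}
    (sq : IsPullback fst snd f r.toHom) (hd : IsDecent F) : IsDecent P := by
  have : Mono fst := MorphismProperty.of_isPullback (P := MorphismProperty.monomorphisms (Sp S)) sq.flip ‹Mono r.toHom›
  intro z
  obtain ⟨q, hq₁, hqm, hqq⟩ := hd (Points.map fst z)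
  obtain ⟨y, hy, -⟩ := existsUnique_factor (K := r.K) r.toHom hq.rep (L := q.K) (q.toHom ≫ f) (by
    rw [Points.ofPt_toHom, ← Points.map_ofPt, Points.ofPt_toHom, hq₁]
    obtain ⟨T, g, t, -, rfl⟩ := exists_ofPt_eq z
    exact (FibreDimSp.map_map_fst sq g t).symm)
  let q' := sq.lift q.toHom ((yon S).map y) hy.symm
  let qP : FieldPt P := ⟨q.K, q.str, (AlgSp.J S).uliftYonedaEquiv q'⟩
  have hqP : qP.toHom = q' := Equiv.symm_apply_apply _ q'
  refine ⟨qP, injective_points_map_of_mono fst ?_, ?_, ?_⟩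
  · rw [← Points.ofPt_toHom qP (IsLocalRing.closedPoint qP.K), Points.map_ofPt, hqP, sq.lift_fst,
      Points.ofPt_toHom, hq₁]
  · rw [hqP]
    exact mono_of_mono_fac (sq.lift_fst _ _ _)
  · rw [hqP]
    exact Neat.repWith_of_comp_mono (j := fst) (by rw [sq.lift_fst]; exact hqq)

/-- Over a decent target the fibre is the space of points of the fibre over a monomorphic point. -/
theorem exists_fibre_homeo {F Y : Sp S} (hF : IsAlgSpace F) (hY : IsAlgSpace Y) (f : F ⟶ Y)
    (hd : IsDecent Y) (y : Points Y) :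
    ∃ (r : FieldPt Y) (P : Sp S) (fst : P ⟶ F) (snd : P ⟶ (yon S).obj r.pt)
      (_ : IsPullback fst snd f r.toHom) (e : Points P ≃ₜ ↥(Points.map f ⁻¹' {y})),
      Points.mk r = y ∧ (∀ z, (e z).1 = Points.map fst z) ∧ (IsDecent F → IsDecent P) := by
  obtain ⟨r, rfl, hm, hq⟩ := hd y
  have sq := IsPullback.of_hasPullback f r.toHom
  obtain ⟨he, hr⟩ := isEmbedding_points_fibre hF hY f r hq sq
  exact ⟨r, _, _, _, sq, he.toHomeomorph.trans (Homeomorph.setCongr hr), rfl, fun _ => rfl,
    isDecent_of_pullback hq sq⟩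

theorem isOpen_singleton_homeo {α β : Type*} [TopologicalSpace α] [TopologicalSpace β] (e : α ≃ₜ β) (a : α) :
    (IsOpen ({e a} : Set β) ↔ IsOpen ({a} : Set α)) ∧ (IsClosed ({e a} : Set β) ↔ IsClosed ({a} : Set α)) ∧
      ((∀ b : β, b ⤳ e a → b = e a) ↔ ∀ b : α, b ⤳ a → b = a) := by
  refine ⟨?_, ?_, ⟨fun h b hb => e.injective (h _ (hb.map e.continuous)), fun h b hb => ?_⟩⟩
  · rw [← e.isOpen_preimage, ← e.image_symm, Set.image_singleton, e.symm_apply_apply]
  · rw [← e.isClosed_preimage, ← e.image_symm, Set.image_singleton, e.symm_apply_apply]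
  · have := h (e.symm b) (e.symm_apply_apply a ▸ hb.map e.symm.continuous)
    rw [← this, e.apply_symm_apply]

end Groth.Agent.AlgSpDec.FibrePoints
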