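import Groth.Agent.AlgSpDec.BiratSp2
import Groth.Agent.AlgSpDec.CodimOne
import Groth.Agent.S2080

/-!
# Generically finite morphisms of integral algebraic spaces
-/

set_option autoImplicit false
set_option backward.isDefEq.respectTransparency false
set_option backward.isDefEq.respectTransparency.types false

universe u

open CategoryTheory CategoryTheory.Limits AlgebraicGeometry AlgSp Topology TopologicalSpace
  Groth.Agent.AlgSpLib Groth.Agent.AlgSpPts Groth.Agent.AlgSpDec

namespace Groth.Agent.AlgSpDec.FiniteGeneric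

variable {S : Scheme.{u}}

theorem map_generic {X Y : Space S} (hY : IsIntegralSp Y.obj) (f : X ⟶ Y) (hd : IsDominantMor f.hom)
    {x : Points X.obj} (hx : IsGenericPoint x (Set.univ : Set (Points X.obj)))
    {y : Points Y.obj} (hy : IsGenericPoint y (Set.univ : Set (Points Y.obj))) :
    Points.map f.hom x = y := by
  haveI := t0Space_points Y.property hY.2.1
  have h := hx.image (Points.continuous_map f.hom)
  rw [Set.image_univ, hd.closure_range] at h
  exact h.eq hy

/-- A generic point of transcendence degree zero over its image is alone in its fibre. -/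
theorem eq_of_rd_zero {X Y : Sp S} (hX : IsAlgSpace X) (hY : IsAlgSpace Y) (hXd : IsDecent X)
    (hYd : IsDecent Y) {f : X ⟶ Y} (hft : LocP @LocallyOfFiniteType f)
    {x : Points X} (h : HasAtMor (fun _ _ h u => Dual3.resTrdeg h u = 0) f x)
    {x' : Points X} (hsp : x ⤳ x') (he : Points.map f x' = Points.map f x) : x' = x := by
  obtain ⟨U, V, a, b, k, ha, has, hb, -, w⟩ := exists_chart hX hY f
  obtain ⟨t, rfl⟩ := surjective_ofPt has x'
  obtain ⟨t', ht', rfl⟩ := exists_specializes_lift_of_isDecent hXd ha hsp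
  haveI : LocallyOfFiniteType k.left := hft a b k ha hb w
  rw [Points.map_ofPt, Points.map_ofPt, w, ofPt_comp, ofPt_comp] at he
  have hk : k.left t' = k.left t :=
    (eq_of_specializes_of_isDecent hYd hb he (ht'.map k.left.continuous)).symm
  have hint := RingHom.Finite.to_isIntegral
    (CycLib.finite_residueFieldMap_of_rd_eq_zero k.left t' (CodimOne.rd_eq_zero_of_resTrdeg ha hb w t' h))
  rw [BiratSp.eq_of_specializes_of_isIntegral k.left ht' hk hint]

theorem resTrdeg_zero_of_qf {X Y : Sp S} (hX : IsAlgSpace X) (hY : IsAlgSpace Y) {f : X ⟶ Y}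
    (hft : LocP @LocallyOfFiniteType f) {x : Points X} (h : HasAtMor SplitOff.QfAt f x) :
    HasAtMor (fun _ _ h u => Dual3.resTrdeg h u = 0) f x := by
  obtain ⟨U, V, a, b, k, ha, has, hb, -, w⟩ := exists_chart hX hY f
  obtain ⟨t, rfl⟩ := surjective_ofPt has x
  haveI : LocallyOfFiniteType k.left := hft a b k ha hb w
  refine (ResTrdeg.hasAtMor_iff ha hb w t 0).2 ?_
  have := CodimOne.rd_eq_zero_of_qf hft ha hb w t h
  rw [← FibDim.rd_eq_rdeg, this, Nat.cast_zero]

variable {X Y : Space S} (hXi : IsIntegralSp X.obj) (hYi : IsIntegralSp Y.obj) (f : X ⟶ Y)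
  (hft : LocP @LocallyOfFiniteType f.hom) (hd : IsDominantMor f.hom)
  {x : Points X.obj} (hx : IsGenericPoint x (Set.univ : Set (Points X.obj)))
  {y : Points Y.obj} (hy : IsGenericPoint y (Set.univ : Set (Points Y.obj)))

include hXi hYi hft hd hx hy

theorem unique_of_resTrdeg (h : HasAtMor (fun _ _ h u => Dual3.resTrdeg h u = 0) f.hom x) :
    ∀ x', Points.map f.hom x' = y → x' = x := fun x' he =>
  eq_of_rd_zero X.property Y.property hXi.2.1 hYi.2.1 hft h (hx.specializes (Set.mem_univ x'))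
    (he.trans (map_generic hYi f hd hx hy).symm)

theorem qf_of_unique (h : ∀ x', Points.map f.hom x' = y → x' = x) :
    HasAtMor SplitOff.QfAt f.hom x :=
  CodimOne.qf_of_finite_fibre X.property Y.property hXi.2.1 hft y
    ((Set.finite_singleton x).subset h) x (map_generic hYi f hd hx hy)

theorem trdeg_iff : HasAtMor (fun _ _ h u => Dual3.resTrdeg h u = 0) f.hom x ↔
    ∀ x', Points.map f.hom x' = y → x' = x :=
  ⟨unique_of_resTrdeg hXi hYi f hft hd hx hy,
    fun h => resTrdeg_zero_of_qf X.property Y.property hft (qf_of_unique hXi hYi f hft hd hx hy h)⟩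

theorem qf_iff : HasAtMor SplitOff.QfAt f.hom x ↔ ∀ x', Points.map f.hom x' = y → x' = x :=
  ⟨fun h => unique_of_resTrdeg hXi hYi f hft hd hx hy (resTrdeg_zero_of_qf X.property Y.property hft h),
    qf_of_unique hXi hYi f hft hd hx hy⟩

omit hXi hYi hft hd hy in
theorem mem_of_open {O : Set (Points X.obj)} (hO : IsOpen O) (hne : O.Nonempty) : x ∈ O :=
  (hx.specializes (Set.mem_univ hne.some)).mem_open hO hne.some_mem

theorem exists_finite_opens (h : ∀ x', Points.map f.hom x' = y → x' = x) :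
    ∃ (U V : Over S) (a : (yon S).obj U ⟶ X.obj) (b : (yon S).obj V ⟶ Y.obj) (g : U ⟶ V),
      IsAffine U.left ∧ IsAffine V.left ∧ x ∈ Set.range (Points.ofPt a) ∧
        y ∈ Set.range (Points.ofPt b) ∧
        RepWith @IsOpenImmersion a ∧ RepWith @IsOpenImmersion b ∧
          a ≫ f.hom = (yon S).map g ≫ b ∧ IsFinite g.left := by
  obtain ⟨U₀, a₀, ha₀, hda⟩ := BiratSp.exists_dense_scheme X hXi.2.1
  obtain ⟨V₀, b₀, hb₀, hdb⟩ := BiratSp.exists_dense_scheme Y hYi.2.1
  haveI := hXi.2.2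
  haveI := hYi.2.2
  have eA := BiratSp.isOpenEmbedding_ofPt X.property ha₀
  have eB := BiratSp.isOpenEmbedding_ofPt Y.property hb₀
  obtain ⟨u₀, hu₀⟩ : x ∈ Set.range (Points.ofPt a₀) := mem_of_open hx eA.isOpen_range hda.nonempty
  obtain ⟨v₀, hv₀⟩ : y ∈ Set.range (Points.ofPt b₀) :=
    (hy.specializes (Set.mem_univ hdb.nonempty.some)).mem_open eB.isOpen_range hdb.nonempty.some_mem
  obtain ⟨O, hO, hvO, -⟩ := exists_isAffineOpen_mem_and_subset (x := v₀) (U := ⊤) trivial
  let ιV : Over.mk (O.ι ≫ V₀.hom) ⟶ V₀ := Over.homMk O.ι rfl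
  let b₁ := (yon S).map ιV ≫ b₀
  have hιV : IsOpenImmersion ιV.left := inferInstanceAs (IsOpenImmersion O.ι)
  have hb₁ : RepWith @IsOpenImmersion b₁ :=
    repWith_comp ((repWith_yon_map_iff @IsOpenImmersion ιV).2 hιV) hb₀
  have hyb : Points.ofPt b₁ ⟨v₀, hvO⟩ = y := (ofPt_comp ιV b₀ _).trans hv₀
  let T := hb₁.rep.pullback (a₀ ≫ f.hom)
  let i := hb₁.rep.snd (a₀ ≫ f.hom)
  let k := hb₁.rep.fst' (a₀ ≫ f.hom)
  have sq : IsPullback ((yon S).map k) ((yon S).map i) b₁ (a₀ ≫ f.hom) := hb₁.rep.isPullback' _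
  obtain ⟨t, ht1, ht2⟩ := exists_ofPt_of_eq sq (u := ⟨v₀, hvO⟩) (v := u₀) (by
    rw [hyb, ← map_generic hYi f hd hx hy, ← hu₀, Points.map_ofPt])
  obtain ⟨W, hW, htW, -⟩ := exists_isAffineOpen_mem_and_subset (x := t) (U := ⊤) trivial
  let ιW : Over.mk (W.ι ≫ T.hom) ⟶ T := Over.homMk W.ι rfl
  have hιW : IsOpenImmersion ιW.left := inferInstanceAs (IsOpenImmersion W.ι)
  let a₁ := (yon S).map ιW ≫ (yon S).map i ≫ a₀
  have ha₁ : RepWith @IsOpenImmersion a₁ :=
    repWith_comp ((repWith_yon_map_iff @IsOpenImmersion ιW).2 hιW)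
      (repWith_comp (repWith_of_isPullback sq hb₁) ha₀)
  let g₁ := ιW ≫ k
  have w₁ : a₁ ≫ f.hom = (yon S).map g₁ ≫ b₁ := by
    rw [CategoryTheory.Functor.map_comp, Category.assoc, Category.assoc, Category.assoc, sq.w]
  have hxa : Points.ofPt a₁ ⟨t, htW⟩ = x :=
    (ofPt_comp ιW _ _).trans ((ofPt_comp i a₀ t).trans (by rw [ht2, hu₀]))
  haveI : LocallyOfFiniteType g₁.left :=
    hft a₁ b₁ g₁ (BiratSp.repWith_etale ha₁) (BiratSp.repWith_etale hb₁) w₁
  haveI : IsAffine (Over.mk (W.ι ≫ T.hom)).left := hW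
  haveI : IsAffine (Over.mk (O.ι ≫ V₀.hom)).left := hO
  have hη : closure {(⟨v₀, hvO⟩ : ↥(Over.mk (O.ι ≫ V₀.hom)).left)} ∈
      irreducibleComponents ↥(Over.mk (O.ι ≫ V₀.hom)).left := by
    refine (BiratSp.mem_genericPoints_iff (BiratSp.isOpenEmbedding_ofPt Y.property hb₁)).2 ?_
    rw [hyb]
    show closure {y} ∈ irreducibleComponents _
    rw [hy.def, irreducibleComponents_eq_singleton]
    rfl
  have hfin : (g₁.left ⁻¹' {(⟨v₀, hvO⟩ : ↥(Over.mk (O.ι ≫ V₀.hom)).left)}).Finite := by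
    refine (Set.finite_singleton (⟨t, htW⟩ : ↥(Over.mk (W.ι ≫ T.hom)).left)).subset fun z hz => ?_
    refine (BiratSp.isOpenEmbedding_ofPt X.property ha₁).injective ((h _ ?_).trans hxa.symm)
    rw [Points.map_ofPt, w₁, ofPt_comp, show g₁.left z = _ from hz, hyb]
  obtain ⟨V', hV', hvV', hf'⟩ := (Groth.Agent.S2080.result g₁.left _ hη).1 hfin
  have hgt : g₁.left ⟨t, htW⟩ = (⟨v₀, hvO⟩ : ↥(Over.mk (O.ι ≫ V₀.hom)).left) := ht1
  let ι₂ : Over.mk (V'.ι ≫ (Over.mk (O.ι ≫ V₀.hom)).hom) ⟶ Over.mk (O.ι ≫ V₀.hom) := Over.homMk V'.ι rfl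
  let ι₁ : Over.mk ((g₁.left ⁻¹ᵁ V').ι ≫ (Over.mk (W.ι ≫ T.hom)).hom) ⟶ Over.mk (W.ι ≫ T.hom) :=
    Over.homMk (g₁.left ⁻¹ᵁ V').ι rfl
  have hι₁ : IsOpenImmersion ι₁.left := inferInstanceAs (IsOpenImmersion (g₁.left ⁻¹ᵁ V').ι)
  have hι₂ : IsOpenImmersion ι₂.left := inferInstanceAs (IsOpenImmersion V'.ι)
  let g₂ : Over.mk ((g₁.left ⁻¹ᵁ V').ι ≫ (Over.mk (W.ι ≫ T.hom)).hom) ⟶
      Over.mk (V'.ι ≫ (Over.mk (O.ι ≫ V₀.hom)).hom) :=
    Over.homMk (g₁.left ∣_ V') (show (g₁.left ∣_ V') ≫ V'.ι ≫ _ = (g₁.left ⁻¹ᵁ V').ι ≫ _ by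
      rw [morphismRestrict_ι_assoc, Over.w])
  have hg₂ : ι₁ ≫ g₁ = g₂ ≫ ι₂ := Over.OverMorphism.ext (morphismRestrict_ι g₁.left V').symm
  refine ⟨_, _, (yon S).map ι₁ ≫ a₁, (yon S).map ι₂ ≫ b₁, g₂,
    hV'.preimage g₁.left, hV', ⟨⟨⟨t, htW⟩, show g₁.left ⟨t, htW⟩ ∈ V' from hgt ▸ hvV'⟩, ?_⟩,
    ⟨⟨⟨v₀, hvO⟩, hvV'⟩, ?_⟩,
    repWith_comp ((repWith_yon_map_iff @IsOpenImmersion ι₁).2 hι₁) ha₁,
    repWith_comp ((repWith_yon_map_iff @IsOpenImmersion ι₂).2 hι₂) hb₁, ?_, hf'⟩
  · exact (ofPt_comp ι₁ a₁ _).trans hxa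
  · exact (ofPt_comp ι₂ b₁ _).trans hyb
  · rw [Category.assoc, w₁, ← CategoryTheory.Functor.map_comp_assoc,
      ← CategoryTheory.Functor.map_comp_assoc, hg₂]
    simp only [b₁, CategoryTheory.Functor.map_comp, Category.assoc]

theorem qf_of_finite_opens {U V : Over S} {a : (yon S).obj U ⟶ X.obj} {b : (yon S).obj V ⟶ Y.obj}
    {g : U ⟶ V} [Nonempty ↥U.left] (ha : RepWith @IsOpenImmersion a) (hb : RepWith @IsOpenImmersion b)
    (w : a ≫ f.hom = (yon S).map g ≫ b) [IsFinite g.left] : HasAtMor SplitOff.QfAt f.hom x := by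
  obtain ⟨u, hu⟩ : x ∈ Set.range (Points.ofPt a) :=
    mem_of_open hx (BiratSp.isOpenEmbedding_ofPt X.property ha).isOpen_range (Set.range_nonempty _)
  exact ⟨U, V, a, b, g, u, BiratSp.repWith_etale ha, BiratSp.repWith_etale hb, w, hu, ⊤, trivial,
    inferInstance, inferInstance⟩

omit hXi hYi hft hd hx hy in
/-- Over a small open of the target the source lies in a given open subscheme finite over it. -/
theorem exists_open_avoiding {X Y : Space S} (f : X ⟶ Y) [IrreducibleSpace (Points X.obj)]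
    {U V : Over S} [IsAffine V.left] {a : (yon S).obj U ⟶ X.obj} {b : (yon S).obj V ⟶ Y.obj}
    {g : U ⟶ V} (ha : RepWith @IsOpenImmersion a) (hb : RepWith @IsOpenImmersion b)
    (w : a ≫ f.hom = (yon S).map g ≫ b) [IsFinite g.left] [Nonempty ↥U.left]
    {v : ↥V.left} (hv : ∀ z : ↥V.left, z ⤳ v → z = v)
    (key : ∀ x, Points.map f.hom x = Points.ofPt b v → x ∈ Set.range (Points.ofPt a))
    (h₁ : IsSeparatedMor f.hom ∨ IsQuasiCompactMor f.hom) :
    ∃ V' : V.left.Opens, v ∈ V' ∧ IsAffineOpen V' ∧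
      ∀ (x : Points X.obj) (z : ↥V.left), Points.map f.hom x = Points.ofPt b z → z ∈ V' →
        x ∈ Set.range (Points.ofPt a) := by
  have hP : IsAlgSpace (pullback f.hom b) :=
    isAlgSpace_pullback X.property (IsAlgSpace.yon_obj V) Y.property f.hom b
  have hfst : RepWith @IsOpenImmersion (pullback.fst f.hom b) := repWith_fst f.hom hb
  have := mono_of_openImm hfst
  have ej : IsOpenEmbedding (Points.map (pullback.fst f.hom b)) := isOpenEmbedding_map' X.property hfst
  have eA := BiratSp.isOpenEmbedding_ofPt X.property ha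
  rcases h₁ with hsep | hqc
  · refine ⟨⊤, trivial, isAffineOpen_top _, fun x z hxz _ => ?_⟩
    let s : (yon S).obj U ⟶ pullback f.hom b := pullback.lift a ((yon S).map g) w
    have hs : RepWith @IsFinite s := by
      refine AlgSpLib.of_comp_of_diagonal (RepWith (S := S) @IsFinite) s (pullback.snd f.hom b) ?_ ?_
      · rw [pullback.lift_snd]
        exact (repWith_yon_map_iff @IsFinite g).2 inferInstance
      · exact repWith_mono (fun _ _ i (_ : IsClosedImmersion i) => (inferInstance : IsFinite i)) _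
          (isSeparatedMor_of_isPullback (IsPullback.of_hasPullback f.hom b) hsep)
    have hcl : IsClosed (Set.range (Points.map s)) := (AlgSpPts.isClosedMap_map (repWith_mono
      (fun _ _ i (_ : IsFinite i) => (inferInstance : UniversallyClosed i)) _ hs)).isClosed_range
    obtain ⟨p, hp, -⟩ := exists_point_of_isPullback (IsPullback.of_hasPullback f.hom b) (x := x)
      (y := Points.schemeHomeo V z) (hxz.trans (Points.ofPt_eq_map_ofScheme _ _))
    by_contra hn
    have hsa : ∀ q, q ∈ Set.range (Points.map s) →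
        Points.map (pullback.fst f.hom b) q ∈ Set.range (Points.ofPt a) := by
      rintro _ ⟨q, rfl⟩
      obtain ⟨u, rfl⟩ := (Points.schemeHomeo U).surjective q
      exact ⟨u, by
        rw [← Points.map_comp, pullback.lift_fst]; exact Points.ofPt_eq_map_ofScheme _ _⟩
    have hne : (Points.map (pullback.fst f.hom b) '' (Set.range (Points.map s))ᶜ).Nonempty :=
      ⟨x, p, fun hps => hn (hp ▸ hsa p hps), hp⟩
    obtain ⟨_, ⟨q, hq, rfl⟩, u, hu⟩ := nonempty_preirreducible_inter (ej.isOpenMap _ hcl.isOpen_compl)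
      eA.isOpen_range hne (Set.range_nonempty _)
    refine hq ⟨Points.schemeHomeo U u, ej.injective ?_⟩
    rw [← Points.map_comp, pullback.lift_fst, ← hu]
    exact (Points.ofPt_eq_map_ofScheme _ _).symm
  · have hqW : IsQuasiCompactSp (pullback f.hom b) :=
      hqc (IsAlgSpace.yon_obj _) ((isQuasiCompactSp_yon_iff V).2 inferInstance) _ _ _
        (IsPullback.of_hasPullback _ _)
    obtain ⟨T, c, hT, hc, hcs⟩ := exists_affine_atlas hqW
    have := hT
    obtain ⟨h, hh⟩ := (yon S).map_surjective (c ≫ pullback.snd f.hom b)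
    let CT : Set ↥T.left := Points.ofPt (c ≫ pullback.fst f.hom b) ⁻¹' (Set.range (Points.ofPt a))ᶜ
    have hCT : IsClosed CT := eA.isOpen_range.isClosed_compl.preimage (Points.continuous_ofPt _)
    let I := Scheme.IdealSheafData.vanishingIdeal ⟨CT, hCT⟩
    have hr : Set.range I.subschemeι = CT := by
      rw [Scheme.IdealSheafData.range_subschemeι, Scheme.IdealSheafData.coe_support_vanishingIdeal]
      rfl
    have : CompactSpace ↥I.subscheme := QuasiCompact.compactSpace_of_compactSpace I.subschemeι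
    have hproj : ∀ t : ↥T.left, Points.map f.hom (Points.ofPt (c ≫ pullback.fst f.hom b) t) =
        Points.ofPt b (h.left t) := fun t => by
      rw [Points.map_ofPt, Category.assoc, pullback.condition, ← Category.assoc, ← hh, ofPt_comp]
    have hvC : v ∉ closure (Set.range (I.subschemeι ≫ h.left)) := fun hmem => by
      obtain ⟨z, hz⟩ := AlgSpVal.exists_specializes_of_mem_closure_range (I.subschemeι ≫ h.left) hmem
      have hzv : h.left (I.subschemeι z) = v := hv _ hz
      have hzC : I.subschemeι z ∈ CT := hr ▸ ⟨z, rfl⟩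
      exact hzC (key _ ((hproj _).trans (congrArg _ hzv)))
    obtain ⟨V', hV', hvV', hV'C⟩ := exists_isAffineOpen_mem_and_subset (x := v)
      (U := ⟨(closure (Set.range (I.subschemeι ≫ h.left)))ᶜ, isClosed_closure.isOpen_compl⟩) hvC
    refine ⟨V', hvV', hV', fun x z hxz hz => ?_⟩
    by_contra hn
    obtain ⟨p, hp, hp2⟩ := exists_point_of_isPullback (IsPullback.of_hasPullback f.hom b) (x := x)
      (y := Points.schemeHomeo V z) (hxz.trans (Points.ofPt_eq_map_ofScheme _ _))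
    obtain ⟨t, rfl⟩ := surjective_ofPt hcs p
    have htC : t ∈ CT := by
      show Points.ofPt (c ≫ pullback.fst f.hom b) t ∈ (Set.range (Points.ofPt a))ᶜ
      rw [← Points.map_ofPt, hp]
      exact hn
    obtain ⟨z', rfl⟩ : t ∈ Set.range I.subschemeι := hr ▸ htC
    have hzh : z = h.left (I.subschemeι z') := by
      apply (Points.schemeHomeo V).injective
      rw [← hp2, Points.map_ofPt, ← hh, Points.ofPt_eq_map_ofScheme]
      exact Points.map_yon_map_apply _ _
    exact hV'C hz (subset_closure ⟨z', hzh.symm⟩)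

theorem exists_finite_preimage (hsq : IsSeparatedMor f.hom ∨ IsQuasiCompactMor f.hom)
    (h : ∀ x', Points.map f.hom x' = y → x' = x) :
    ∃ (V : Over S) (b : (yon S).obj V ⟶ Y.obj) (U : Over S) (g : U ⟶ V) (a : (yon S).obj U ⟶ X.obj),
      IsAffine V.left ∧ Nonempty ↥V.left ∧ RepWith @IsOpenImmersion b ∧
        IsPullback a ((yon S).map g) f.hom b ∧ IsAffine U.left ∧ IsFinite g.left := by
  obtain ⟨U, V, a, b, g, hU, hV, ⟨u, hu⟩, ⟨v, hv⟩, ha, hb, w, hg⟩ :=
    exists_finite_opens hXi hYi f hft hd hx hy h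
  haveI := hU
  haveI := hV
  haveI := hg
  haveI := hXi.2.2
  haveI : Nonempty ↥U.left := ⟨u⟩
  haveI := t0Space_points Y.property hYi.2.1
  have eB := BiratSp.isOpenEmbedding_ofPt Y.property hb
  have hmin : ∀ z : ↥V.left, z ⤳ v → z = v := fun z hz => by
    refine eB.injective (Specializes.antisymm (hz.map eB.continuous) ?_).eq
    rw [hv]
    exact hy.specializes (Set.mem_univ _)
  obtain ⟨V', hvV', hV', hkey⟩ := exists_open_avoiding f ha hb w hmin
    (fun x' hx' => by rw [h x' (hx'.trans hv)]; exact ⟨u, hu⟩) hsq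
  let ι : Over.mk (V'.ι ≫ V.hom) ⟶ V := Over.homMk V'.ι rfl
  have hι : IsOpenImmersion ι.left := inferInstanceAs (IsOpenImmersion V'.ι)
  have hb' : RepWith @IsOpenImmersion ((yon S).map ι ≫ b) :=
    repWith_comp ((repWith_yon_map_iff @IsOpenImmersion ι).2 hι) hb
  let j : Over.mk ((g.left ⁻¹ᵁ V').ι ≫ U.hom) ⟶ U := Over.homMk (g.left ⁻¹ᵁ V').ι rfl
  let g' : Over.mk ((g.left ⁻¹ᵁ V').ι ≫ U.hom) ⟶ Over.mk (V'.ι ≫ V.hom) :=
    Over.homMk (g.left ∣_ V') (show (g.left ∣_ V') ≫ V'.ι ≫ V.hom = (g.left ⁻¹ᵁ V').ι ≫ U.hom by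
      rw [morphismRestrict_ι_assoc, Over.w])
  have sqS : IsPullback ((yon S).map j) ((yon S).map g') ((yon S).map g) ((yon S).map ι) :=
    isPullback_yon_of_left j g' g ι (isPullback_morphismRestrict g.left V').flip
  refine ⟨_, _, _, g', (yon S).map j ≫ a, hV', ⟨⟨v, hvV'⟩⟩, hb', ?_, hV'.preimage g.left, ?_⟩
  · have := mono_of_openImm hb
    have := mono_of_openImm ha
    refine ⟨⟨?_⟩, ?_⟩
    · rw [Category.assoc, w, ← Category.assoc, sqS.w, Category.assoc]
    have hP : IsAlgSpace (pullback f.hom ((yon S).map ι ≫ b)) :=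
      isAlgSpace_pullback X.property (IsAlgSpace.yon_obj _) Y.property f.hom _
    obtain ⟨k, hk⟩ := BiratSp.exists_factor_space hP ha (pullback.fst f.hom ((yon S).map ι ≫ b)) fun p => by
      obtain ⟨z, hz⟩ := (Points.schemeHomeo _).surjective
        (Points.map (pullback.snd f.hom ((yon S).map ι ≫ b)) p)
      obtain ⟨u', hu'⟩ := hkey (Points.map (pullback.fst _ _) p) (ι.left z) (by
        rw [← Points.map_comp, pullback.condition, Points.map_comp, ← hz, ← ofPt_comp,
          Points.ofPt_eq_map_ofScheme]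
        rfl) z.2
      exact ⟨Points.schemeHomeo U u', (Points.ofPt_eq_map_ofScheme _ _).symm.trans hu'⟩
    have hw' : ∀ c : PullbackCone f.hom ((yon S).map ι ≫ b),
        (pullback.lift c.fst c.snd c.condition ≫ k) ≫ (yon S).map g = c.snd ≫ (yon S).map ι := fun c => by
      refine (cancel_mono b).1 ?_
      simp only [Category.assoc]
      rw [← w, reassoc_of% hk, pullback.lift_fst_assoc, c.condition]
    refine ⟨PullbackCone.IsLimit.mk _ (fun c => sqS.lift (pullback.lift c.fst c.snd c.condition ≫ k) c.snd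
      (hw' c)) (fun c => ?_) (fun c => sqS.lift_snd _ _ _) (fun c m h₁ h₂ => ?_)⟩
    · rw [sqS.lift_fst_assoc, Category.assoc, hk, pullback.lift_fst]
    · refine sqS.hom_ext ?_ (h₂.trans (sqS.lift_snd _ _ _).symm)
      refine (cancel_mono a).1 ?_
      rw [sqS.lift_fst, Category.assoc, h₁, Category.assoc, hk, pullback.lift_fst]
  · exact IsZariskiLocalAtTarget.restrict hg V'

end Groth.Agent.AlgSpDec.FiniteGeneric
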