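import Groth.Agent.AlgSpDec.FlatMonoRing
import Groth.Agent.AlgSpDec.SliceCover
import Groth.Agent.AlgSpDec.LqfScheme
import Groth.Agent.AlgSpPts.OpenSub
import Groth.Agent.AlgSpLib.LargestOpen
import Groth.Agent.AlgSpDec.MonoTfae

/-!
# Flat monomorphisms of algebraic spaces are representable
-/

set_option autoImplicit false
set_option backward.isDefEq.respectTransparency false
set_option backward.isDefEq.respectTransparency.types false

open CategoryTheory Limits Opposite AlgebraicGeometry MorphismProperty AlgSp Groth.Agent.AlgSpLib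
  Groth.Agent.AlgSpPts

universe u

namespace Groth.Agent.AlgSpDec.FlatMono

theorem exists_etale_factor_spec {A B : CommRingCat.{u}} (φ : A ⟶ B) [Flat (Spec.map φ)]
    (h : Etale (pullback.fst (Spec.map φ) (Spec.map φ))) :
    ∃ (W : Scheme.{u}) (π : Spec B ⟶ W) (s : W ⟶ Spec A), π ≫ s = Spec.map φ ∧ Etale π ∧
      pullback.fst (Spec.map φ) (Spec.map φ) ≫ π = pullback.snd _ _ ≫ π := by
  letI : Algebra A B := φ.hom.toAlgebra
  have hf : φ.hom.Flat := (HasRingHomProperty.Spec_iff (P := @Flat)).1 ‹_›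
  have : Module.Flat A B := hf
  let e := pullbackSpecIso A B B
  have h1 : Etale (Spec.map (CommRingCat.ofHom (algebraMap B (TensorProduct A B B)))) := by
    rw [← pullbackSpecIso_inv_fst' A B B]
    have : Etale (pullback.fst (Spec.map (CommRingCat.ofHom (algebraMap A B)))
      (Spec.map (CommRingCat.ofHom (algebraMap A B)))) := h
    infer_instance
  have : Algebra.Etale B (TensorProduct A B B) :=
    RingHom.etale_algebraMap.1 ((HasRingHomProperty.Spec_iff (P := @Etale)).1 h1)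
  obtain ⟨C, hC, hc⟩ := exists_etale_subalgebra (A := A) (B := B)
  refine ⟨Spec (CommRingCat.of C), Spec.map (CommRingCat.ofHom (algebraMap C B)),
    Spec.map (CommRingCat.ofHom (algebraMap A C)), ?_, ?_, ?_⟩
  · rw [← Spec.map_comp, ← CommRingCat.ofHom_comp, ← IsScalarTower.algebraMap_eq]
    rfl
  · exact (HasRingHomProperty.Spec_iff (P := @Etale)).2 (RingHom.etale_algebraMap.2 hC)
  · rw [← cancel_epi e.inv]
    show e.inv ≫ pullback.fst (Spec.map (CommRingCat.ofHom (algebraMap A B))) _ ≫ _ =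
      e.inv ≫ pullback.snd _ _ ≫ _
    rw [pullbackSpecIso_inv_fst_assoc, pullbackSpecIso_inv_snd_assoc, ← Spec.map_comp, ← Spec.map_comp]
    congr 1
    ext c
    exact hc c

theorem exists_etale_factor {U V : Scheme.{u}} [IsAffine U] [IsAffine V] (ρ : U ⟶ V) [Flat ρ]
    (h : Etale (pullback.fst ρ ρ)) :
    ∃ (W : Scheme.{u}) (π : U ⟶ W) (s : W ⟶ V), π ≫ s = ρ ∧ Etale π ∧
      pullback.fst ρ ρ ≫ π = pullback.snd _ _ ≫ π := by
  have e : Spec.map ρ.appTop = U.isoSpec.inv ≫ ρ ≫ V.isoSpec.hom := by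
    rw [← Scheme.isoSpec_hom_naturality, Iso.inv_hom_id_assoc]
  have : Flat (Spec.map ρ.appTop) := by rw [e]; infer_instance
  let ρ' := Spec.map ρ.appTop
  have hw : ρ ≫ V.isoSpec.hom = U.isoSpec.hom ≫ ρ' := by simp [ρ', Scheme.isoSpec_hom_naturality]
  let m : pullback ρ ρ ⟶ pullback ρ' ρ' :=
    pullback.map _ _ _ _ U.isoSpec.hom U.isoSpec.hom V.isoSpec.hom hw hw
  have h' : Etale (pullback.fst ρ' ρ') := by
    have e1 : m ≫ pullback.fst ρ' ρ' = pullback.fst ρ ρ ≫ U.isoSpec.hom := pullback.lift_fst _ _ _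
    have : Etale (m ≫ pullback.fst ρ' ρ') := by rw [e1]; infer_instance
    exact (MorphismProperty.cancel_left_of_respectsIso @Etale m _).1 this
  obtain ⟨W, π, s, hs, hπ, heq⟩ := exists_etale_factor_spec ρ.appTop h'
  refine ⟨W, U.isoSpec.hom ≫ π, s ≫ V.isoSpec.inv, ?_, inferInstance, ?_⟩
  · rw [Category.assoc, reassoc_of% hs, ← Category.assoc, ← hw, Category.assoc, Iso.hom_inv_id, Category.comp_id]
  · have := congrArg (fun k => m ≫ k) heq
    simpa [m, ρ'] using this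

variable {S : Scheme.{u}}

theorem exists_open_scheme_at {X : Sp S} (hX : IsAlgSpace X) {T : Over S} (f : X ⟶ (yon S).obj T) [Mono f]
    (hfl : LocP @Flat f) (x : Points X) :
    ∃ (Q : Over S) (j : (yon S).obj Q ⟶ X) (q : ↥Q.left), RepWith @IsOpenImmersion j ∧ Points.ofPt j q = x := by
  obtain ⟨U₁, a₁, u₁, -, ha₁, rfl⟩ := exists_affine_chart_at hX x
  obtain ⟨ρ₁, hρ₁⟩ := (yon S).map_surjective (a₁ ≫ f)
  obtain ⟨T₀, hT₀, hu⟩ : ∃ T₀ : T.left.Opens, IsAffineOpen T₀ ∧ ρ₁.left u₁ ∈ T₀ := by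
    obtain ⟨_, ⟨T₀, hT₀, rfl⟩, hu, -⟩ := T.left.isBasis_affineOpens.exists_subset_of_mem_open
      (Set.mem_univ (ρ₁.left u₁)) isOpen_univ
    exact ⟨T₀, hT₀, hu⟩
  obtain ⟨R₀, hR₀, hu₀, hle⟩ : ∃ R₀ : U₁.left.Opens, IsAffineOpen R₀ ∧ u₁ ∈ R₀ ∧ R₀ ≤ ρ₁.left ⁻¹ᵁ T₀ := by
    obtain ⟨_, ⟨R₀, hR₀, rfl⟩, hu₀, hle⟩ := U₁.left.isBasis_affineOpens.exists_subset_of_mem_open
      (show u₁ ∈ (ρ₁.left ⁻¹ᵁ T₀ : U₁.left.Opens) from hu) (ρ₁.left ⁻¹ᵁ T₀).2
    exact ⟨R₀, hR₀, hu₀, hle⟩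
  let U := openOver U₁ R₀
  let V := openOver T T₀
  let ι : V ⟶ T := openOverι T T₀
  let ρ : U ⟶ V := CategoryTheory.Over.homMk (ρ₁.left.resLE T₀ R₀ hle) (by
    show _ ≫ T₀.ι ≫ T.hom = R₀.ι ≫ U₁.hom
    rw [Scheme.Hom.resLE_comp_ι_assoc, Over.w ρ₁])
  have hρ : ρ ≫ ι = openOverι U₁ R₀ ≫ ρ₁ := Over.OverMorphism.ext (Scheme.Hom.resLE_comp_ι _ _)
  have : IsAffine U.left := hR₀
  have : IsAffine V.left := hT₀
  have hι : IsOpenImmersion ι.left := inferInstanceAs (IsOpenImmersion T₀.ι)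
  have : Mono ((yon S).map ι) := mono_of_openImmersion ((repWith_yon_map_iff _ ι).2 hι)
  let a : (yon S).obj U ⟶ X := (yon S).map (openOverι U₁ R₀) ≫ a₁
  have ha : RepWith @Etale a :=
    repWith_comp ((repWith_yon_map_iff _ (openOverι U₁ R₀)).2 (inferInstanceAs (Etale R₀.ι))) ha₁
  have haf : a ≫ f = (yon S).map ρ ≫ (yon S).map ι := by
    rw [← Functor.map_comp, hρ, Functor.map_comp, hρ₁, Category.assoc]
  have : Flat ρ.left := hfl a _ ρ ha ((repWith_yon_map_iff _ ι).2 (inferInstanceAs (Etale T₀.ι))) haf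
  -- the image of the chart
  obtain ⟨X₀, j, hX₀, hj, hr⟩ := exists_open_subspace hX (W := Set.range (Points.ofPt a))
    ((AlgSpLib.isOpenMap_ofPt ha).isOpen_range)
  have : Mono j := mono_of_openImmersion hj
  obtain ⟨a₀, ha₀⟩ := exists_lift_openImmersion (IsAlgSpace.yon_obj U) hX₀ hX hj a (by
    rintro _ ⟨z, rfl⟩
    rw [hr]
    exact ⟨Points.toScheme U z, by rw [Points.ofPt_eq_map_ofScheme, Points.ofScheme_toScheme]⟩)
  have hre : RepWith @Etale a₀ := repWith_of_isPullback (fst := 𝟙 _)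
    (⟨⟨by rw [Category.id_comp, ha₀]⟩, ⟨PullbackCone.IsLimit.mk _ (fun s => s.fst) (fun s => Category.comp_id _)
      (fun s => (cancel_mono j).1 (by rw [Category.assoc, ha₀, s.condition]))
      (fun s m h₁ _ => by simpa using h₁)⟩⟩ : IsPullback (𝟙 _) a₀ a j) ha
  have hjinj : Function.Injective (Points.map j) := injective_map_of_mono
  have hrs : RepWith @Surjective a₀ := repWith_surjective_of_surjective (hX₀.representable_from_yon _) fun z => by
    obtain ⟨u, hu'⟩ : Points.map j z ∈ Set.range (Points.ofPt a) := hr ▸ ⟨z, rfl⟩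
    refine ⟨Points.ofScheme U u, hjinj ?_⟩
    rw [← Points.map_comp, ha₀, ← Points.ofPt_eq_map_ofScheme, hu']
  let R := pullback ρ ρ
  have sR : IsPullback ((yon S).map (pullback.fst ρ ρ)) ((yon S).map (pullback.snd ρ ρ)) a₀ a₀ := by
    have sy : IsPullback ((yon S).map (pullback.fst ρ ρ)) ((yon S).map (pullback.snd ρ ρ))
        ((yon S).map ρ) ((yon S).map ρ) := (IsPullback.of_hasPullback ρ ρ).map (yon S)
    have hcond : ∀ {Z : Sp S} (x y : Z ⟶ (yon S).obj U), x ≫ a₀ = y ≫ a₀ ↔ x ≫ (yon S).map ρ = y ≫ (yon S).map ρ := by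
      intro Z x y
      rw [← cancel_mono j, Category.assoc, Category.assoc, ha₀, ← cancel_mono f]
      simp only [Category.assoc]
      rw [show a ≫ f = (yon S).map ρ ≫ (yon S).map ι from haf, ← Category.assoc, ← Category.assoc, cancel_mono]
    exact ⟨⟨(hcond _ _).2 sy.w⟩, ⟨PullbackCone.IsLimit.mk _
      (fun s => sy.lift s.fst s.snd ((hcond _ _).1 s.condition))
      (fun s => sy.lift_fst _ _ _) (fun s => sy.lift_snd _ _ _)
      (fun s m h₁ h₂ => sy.hom_ext (by rw [sy.lift_fst, h₁]) (by rw [sy.lift_snd, h₂]))⟩⟩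
  have sRl : IsPullback (pullback.fst ρ ρ).left (pullback.snd ρ ρ).left ρ.left ρ.left :=
    (IsPullback.of_hasPullback ρ ρ).map (Over.forget S)
  have hfst : Etale (pullback.fst ρ.left ρ.left) := by
    have h1 : Etale (pullback.fst ρ ρ).left :=
      (repWith_yon_map_iff _ _).1 (repWith_of_isPullback sR.flip hre)
    rw [← sRl.isoPullback_inv_fst]
    infer_instance
  obtain ⟨W, π, s, hs, hπ, heq⟩ := exists_etale_factor ρ.left hfst
  let O : W.Opens := ⟨Set.range π, π.isOpenMap.isOpen_range⟩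
  let O' : Over S := Over.mk (O.ι ≫ s ≫ V.hom)
  let π₀ : U ⟶ O' := Over.homMk (IsOpenImmersion.lift O.ι π (fun x hx => ⟨⟨x, hx⟩, rfl⟩)) (by
    show IsOpenImmersion.lift O.ι π _ ≫ O.ι ≫ s ≫ V.hom = U.hom
    rw [IsOpenImmersion.lift_fac_assoc, ← Category.assoc, hs]
    exact Over.w ρ)
  let s₀ : O' ⟶ V := Over.homMk (O.ι ≫ s) (Category.assoc _ _ _)
  have hπ₀ : π₀.left ≫ O.ι = π := IsOpenImmersion.lift_fac _ _ _
  have hπs : π₀ ≫ s₀ = ρ := Over.OverMorphism.ext (by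
    show π₀.left ≫ O.ι ≫ s = ρ.left
    rw [← Category.assoc, hπ₀, hs])
  have hπe : Etale π₀.left := by
    have h1 : Etale (π₀.left ≫ O.ι) := by rw [hπ₀]; exact hπ
    exact IsEtLocal.cancel_right (P := @Etale) π₀.left O.ι h1
  have hπsur : Surjective π₀.left := ⟨fun o => by
    obtain ⟨u, hu'⟩ := o.2
    exact ⟨u, O.ι.isOpenEmbedding.injective ((Scheme.Hom.comp_apply π₀.left O.ι u).symm.trans
      ((congrArg (fun k => k u) hπ₀).trans hu'))⟩⟩
  have heq₀ : pullback.fst ρ ρ ≫ π₀ = pullback.snd ρ ρ ≫ π₀ := Over.OverMorphism.ext (by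
    have h1 := congrArg (fun k => sRl.isoPullback.hom ≫ k) heq
    simp only [← Category.assoc, sRl.isoPullback_hom_fst, sRl.isoPullback_hom_snd] at h1
    rw [← cancel_mono O.ι, Over.comp_left, Over.comp_left, Category.assoc, Category.assoc, hπ₀]
    exact h1)
  have sO : IsPullback (pullback.fst ρ ρ) (pullback.snd ρ ρ) π₀ π₀ := by
    have hc : ∀ {Z : Over S} (x y : Z ⟶ U), x ≫ π₀ = y ≫ π₀ → x ≫ ρ = y ≫ ρ := fun x y h => by
      rw [← hπs, reassoc_of% h]
    exact ⟨⟨heq₀⟩, ⟨PullbackCone.IsLimit.mk _ (fun s => pullback.lift s.fst s.snd (hc _ _ s.condition))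
      (fun s => pullback.lift_fst _ _ _) (fun s => pullback.lift_snd _ _ _)
      (fun s m h₁ h₂ => pullback.hom_ext (by rw [pullback.lift_fst, h₁]) (by rw [pullback.lift_snd, h₂]))⟩⟩
  have sO' := sO.map (yon S)
  have : Epi a₀ := AlgSpLib.epi_of_etale_surjective hre hrs
  have : Epi ((yon S).map π₀) := AlgSpLib.epi_of_etale_surjective ((repWith_yon_map_iff _ _).2 hπe)
    ((repWith_yon_map_iff _ _).2 hπsur)
  let ra : RegularEpi a₀ := (IsRegularEpiCategory.regularEpiOfEpi a₀).regularEpi.some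
  have hka : IsKernelPair a₀ ((yon S).map (pullback.fst ρ ρ)) ((yon S).map (pullback.snd ρ ρ)) := sR
  let φ : X₀ ⟶ (yon S).obj O' := Cofork.IsColimit.desc (hka.toCoequalizer ra) ((yon S).map π₀) sO'.w
  have hφ : a₀ ≫ φ = (yon S).map π₀ :=
    Cofork.IsColimit.π_desc' (hka.toCoequalizer ra) ((yon S).map π₀) sO'.w
  have : IsIso φ := Groth.Agent.AlgSpDec.Slice.isIso_of_kernelPair_epi sR sO' φ hφ
  refine ⟨O', inv φ ≫ j, π₀.left ⟨u₁, hu₀⟩, repWith_comp (repWith_of_isIso _ _) hj, ?_⟩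
  rw [← ofPt_comp, ← Category.assoc, ← hφ, Category.assoc a₀, IsIso.hom_inv_id, Category.comp_id, ha₀]
  exact ofPt_comp _ _ _

theorem representable_of_flat_mono {X Y : Sp S} (hX : IsAlgSpace X) (hY : IsAlgSpace Y) (f : X ⟶ Y) [Mono f]
    (hfl : LocP @Flat f) : Representable f := fun T g => by
  have hP : IsAlgSpace (pullback f g) := isAlgSpace_pullback hX (IsAlgSpace.yon_obj T) hY f g
  have sq := IsPullback.of_hasPullback f g
  have : Mono (pullback.snd f g) := MorphismProperty.of_isPullback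
    (P := MorphismProperty.monomorphisms (Sp S)) sq (inferInstanceAs (Mono f))
  obtain ⟨Q, ⟨e⟩⟩ := exists_rep_of_points hP
    (exists_open_scheme_at hP (pullback.snd f g) (locP_of_isPullback sq hX hY (IsAlgSpace.yon_obj T) hfl))
  obtain ⟨k, hk⟩ := (yon S).map_surjective (e.hom ≫ pullback.snd f g)
  exact ⟨Q, k, e.hom ≫ pullback.fst f g,
    sq.of_iso e.symm (Iso.refl _) (Iso.refl _) (Iso.refl _) (by simp) (by simp [hk]) (by simp) (by simp)⟩

end Groth.Agent.AlgSpDec.FlatMono
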