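import Mathlib

/-!
# A flat algebra whose self tensor is etale factors as an etale algebra over its equalizer
-/

set_option autoImplicit false

open TensorProduct Algebra.TensorProduct

universe u

namespace Groth.Agent.AlgSpDec.FlatMono

section Bij

variable {C B M N : Type u} [CommRing C] [CommRing B] [Algebra C B] [AddCommGroup M] [Module C M]
  [AddCommGroup N] [Module C N]

/-- The difference of the two maps to the self tensor. -/
noncomputable def δ (C B : Type u) [CommRing C] [CommRing B] [Algebra C B] : B →ₗ[C] B ⊗[C] B :=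
  (includeLeft : B →ₐ[C] B ⊗[C] B).toLinearMap - (includeRight : B →ₐ[C] B ⊗[C] B).toLinearMap

theorem exact_δ (hex : ∀ b : B, b ⊗ₜ[C] (1 : B) = (1 : B) ⊗ₜ b → b ∈ Set.range (algebraMap C B)) :
    Function.Exact (Algebra.linearMap C B) (δ C B) := fun b => by
  refine ⟨fun h => hex b (sub_eq_zero.1 h), ?_⟩
  rintro ⟨c, rfl⟩
  show (algebraMap C B c) ⊗ₜ[C] (1 : B) - (1 : B) ⊗ₜ[C] (algebraMap C B c) = 0
  rw [Algebra.algebraMap_eq_smul_one, TensorProduct.smul_tmul, sub_self]

/-- A map which becomes bijective after tensoring with `B` is bijective. -/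
theorem bijective_of_lTensor [Module.Flat C M] (hinj : Function.Injective (algebraMap C B))
    (hex : ∀ b : B, b ⊗ₜ[C] (1 : B) = (1 : B) ⊗ₜ b → b ∈ Set.range (algebraMap C B))
    (hN : Function.Injective fun n : N => (1 : B) ⊗ₜ[C] n) (φ : M →ₗ[C] N)
    (hφ : Function.Bijective (φ.lTensor B)) : Function.Bijective φ := by
  have hM : Function.Injective fun m : M => (1 : B) ⊗ₜ[C] m := fun m m' h => by
    apply (TensorProduct.lid C M).symm.injective
    apply Module.Flat.rTensor_preserves_injective_linearMap (M := M) (Algebra.linearMap C B) hinj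
    simpa using h
  refine ⟨(injective_iff_map_eq_zero φ).2 fun m hm => hM (hφ.1 (by simp [hm])), fun n => ?_⟩
  obtain ⟨x, hx⟩ := hφ.2 (1 ⊗ₜ n)
  have h2 : Function.Injective (φ.lTensor (B ⊗[C] B)) := by
    have e : φ.lTensor (B ⊗[C] B) = (TensorProduct.assoc C B B N).symm.toLinearMap ∘ₗ
        (φ.lTensor B).lTensor B ∘ₗ (TensorProduct.assoc C B B M).toLinearMap := by
      ext b b' m; simp
    have hb : Function.Injective ((φ.lTensor B).lTensor B) :=
      ((LinearEquiv.ofBijective _ hφ).lTensor B).injective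
    rw [e]
    exact (TensorProduct.assoc C B B N).symm.injective.comp (hb.comp (TensorProduct.assoc C B B M).injective)
  have hd : (δ C B).rTensor M x = 0 := by
    refine h2 ?_
    rw [map_zero, ← LinearMap.comp_apply, LinearMap.lTensor_comp_rTensor, ← LinearMap.rTensor_comp_lTensor,
      LinearMap.comp_apply, hx]
    simp [δ]
  obtain ⟨y, rfl⟩ := (Module.Flat.rTensor_exact M (exact_δ hex) x).1 hd
  refine ⟨TensorProduct.lid C M y, hN ?_⟩
  obtain ⟨m, rfl⟩ := (TensorProduct.lid C M).symm.surjective y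
  simpa using hx

end Bij

section Descend

variable {C B : Type u} [CommRing C] [CommRing B] [Algebra C B]

set_option maxHeartbeats 1000000 in
/-- A finitely presented algebra agreeing with `B` after tensoring with `B`. -/
theorem exists_model [Module.Flat C B] [Algebra.Etale B (B ⊗[C] B)] :
    ∃ (Q : Type u) (_ : CommRing Q) (_ : Algebra C Q) (φ : Q →ₐ[C] B), Algebra.FinitePresentation C Q ∧
      Function.Bijective (φ.toLinearMap.lTensor B) := by
  classical
  obtain ⟨G, hG⟩ := (inferInstance : Algebra.FiniteType B (B ⊗[C] B)).out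
  choose T hT using fun x : B ⊗[C] B => TensorProduct.exists_finset x
  let s : Finset B := G.biUnion fun x => (T x).image Prod.snd
  let P := MvPolynomial s C
  let π : P →ₐ[C] B := MvPolynomial.aeval fun i => (i : B)
  let PI : B ⊗[C] P →ₐ[B] B ⊗[C] B := Algebra.TensorProduct.map (AlgHom.id B B) π
  have hPI : Function.Surjective PI := by
    rw [← AlgHom.range_eq_top, eq_top_iff, ← hG, Algebra.adjoin_le_iff]
    intro x hx
    rw [hT x]
    refine sum_mem fun i hi => ?_
    refine ⟨i.1 ⊗ₜ MvPolynomial.X ⟨i.2, Finset.mem_biUnion.2 ⟨x, hx, Finset.mem_image_of_mem _ hi⟩⟩, ?_⟩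
    exact congrArg (i.1 ⊗ₜ[C] ·) (MvPolynomial.aeval_X _ _)
  have hfg := Algebra.FinitePresentation.ker_fG_of_surjective PI hPI
  let I : Ideal P := RingHom.ker π
  have hker : RingHom.ker PI.toRingHom = Ideal.map (includeRight : P →ₐ[C] B ⊗[C] P) I := by
    refine le_antisymm (fun z hz => ?_) (Ideal.map_le_iff_le_comap.2 fun p hp => ?_)
    · have hexact : Function.Exact (Submodule.subtype (I.restrictScalars C)) π.toLinearMap := fun p =>
        ⟨fun h => ⟨⟨p, h⟩, rfl⟩, by rintro ⟨q, rfl⟩; exact q.2⟩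
      have hz' : π.toLinearMap.lTensor B z = 0 := by
        have e : ∀ w, π.toLinearMap.lTensor B w = PI w := by
          intro w
          induction w with
          | zero => simp
          | tmul b p => simp [PI]
          | add a b ha hb => simp [ha, hb]
        rw [e]; exact hz
      obtain ⟨w, rfl⟩ := (Module.Flat.lTensor_exact B hexact z).1 hz'
      clear hz hz'
      induction w with
      | zero => simp
      | tmul b p =>
          have e : b ⊗ₜ[C] (p : P) = (b ⊗ₜ (1 : P)) * (includeRight : P →ₐ[C] B ⊗[C] P) p := by simp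
          simp only [LinearMap.lTensor_tmul, Submodule.subtype_apply]
          rw [e]
          exact Ideal.mul_mem_left _ _ (Ideal.mem_map_of_mem _ p.2)
      | add a b ha hb => rw [map_add]; exact add_mem ha hb
    · have hp' : π p = 0 := hp
      simp [PI, hp']
  obtain ⟨S, hS⟩ := hfg
  have hSm : ∀ z ∈ S, ∃ J : Finset P, (J : Set P) ⊆ I ∧
      z ∈ Ideal.span ((includeRight : P →ₐ[C] B ⊗[C] P) '' J) := by
    intro z hz
    have hz' : z ∈ Ideal.map (includeRight : P →ₐ[C] B ⊗[C] P) I := by
      rw [← hker, ← hS]; exact Ideal.subset_span hz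
    obtain ⟨U, hU, hzU⟩ := Submodule.mem_span_finite_of_mem_span hz'
    obtain ⟨J, hJ, hJU⟩ := Finset.subset_set_image_iff.1 hU
    refine ⟨J, hJ, ?_⟩
    rw [← hJU, Finset.coe_image] at hzU
    exact hzU
  choose J hJ hJz using hSm
  let F : Finset P := S.attach.biUnion fun z => J z.1 z.2
  have hF : ∀ p ∈ Ideal.span (F : Set P), π p = 0 := by
    intro p hp
    refine (Ideal.span_le.2 ?_ hp : p ∈ I)
    intro q hq
    obtain ⟨z, -, hq⟩ := Finset.mem_biUnion.1 hq
    exact hJ z.1 z.2 hq
  let q : P →ₐ[C] P ⧸ Ideal.span (F : Set P) := Ideal.Quotient.mkₐ C _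
  let φ : P ⧸ Ideal.span (F : Set P) →ₐ[C] B := Ideal.Quotient.liftₐ _ π hF
  refine ⟨_, inferInstance, inferInstance, φ, Algebra.FinitePresentation.quotient ⟨F, rfl⟩, ?_, ?_⟩
  · rw [injective_iff_map_eq_zero]
    intro x hx
    have hqs : Function.Surjective q.toLinearMap := fun t => Ideal.Quotient.mk_surjective t
    obtain ⟨y, rfl⟩ := LinearMap.lTensor_surjective B hqs x
    have e : ∀ w, φ.toLinearMap.lTensor B (q.toLinearMap.lTensor B w) = PI w := by
      intro w
      induction w with
      | zero => simp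
      | tmul b p => first | (simp [PI, φ, q]; done) | (simp [PI, φ, q]; rfl)
      | add a b ha hb => simp [ha, hb]
    rw [e] at hx
    have hy : y ∈ RingHom.ker PI.toRingHom := hx
    rw [← hS] at hy
    let Q' : B ⊗[C] P →ₐ[B] B ⊗[C] (P ⧸ Ideal.span (F : Set P)) := Algebra.TensorProduct.map (AlgHom.id B B) q
    have eQ : ∀ w, q.toLinearMap.lTensor B w = Q' w := by
      intro w
      induction w with
      | zero => simp
      | tmul b p => simp [Q']
      | add a b ha hb => simp [ha, hb]
    rw [eQ]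
    refine (Ideal.span_le.2 ?_ hy : y ∈ RingHom.ker Q')
    intro z hz
    refine (Ideal.span_le.2 ?_ (hJz z hz) : z ∈ RingHom.ker Q')
    rintro _ ⟨p, hp, rfl⟩
    have hq : q p = 0 := Ideal.Quotient.eq_zero_iff_mem.2
      (Ideal.subset_span (Finset.mem_biUnion.2 ⟨⟨z, hz⟩, Finset.mem_attach _ _, hp⟩))
    simp [Q', hq]
  · intro x
    obtain ⟨y, rfl⟩ := hPI x
    refine ⟨q.toLinearMap.lTensor B y, ?_⟩
    induction y with
    | zero => simp
    | tmul b p => first | (simp [PI, φ, q]; done) | (simp [PI, φ, q]; rfl)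
    | add a b ha hb => simp [ha, hb]

set_option maxHeartbeats 1000000 in
/-- Near a prime of `B` a model is etale. -/
theorem exists_etale_away [Module.Flat C B] [Algebra.Etale B (B ⊗[C] B)] {Q : Type u} [CommRing Q] [Algebra C Q]
    [Algebra.FinitePresentation C Q] (φ : Q →ₐ[C] B) (hφ : Function.Bijective (φ.toLinearMap.lTensor B))
    (q : Ideal B) [q.IsPrime] :
    ∃ t : C, algebraMap C B t ∉ q ∧ Algebra.Etale C (Localization.Away (algebraMap C Q t)) := by
  let c : Ideal C := q.comap (algebraMap C B)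
  let Cc := Localization.AtPrime c
  let Bq := Localization.AtPrime q
  letI : Algebra Cc Bq := (Localization.localRingHom c q (algebraMap C B) rfl).toAlgebra
  have : IsScalarTower C Cc Bq := IsScalarTower.of_algebraMap_eq fun x => by
    rw [RingHom.algebraMap_toAlgebra, Localization.localRingHom_to_map, ← IsScalarTower.algebraMap_apply]
  have : IsLocalHom (algebraMap Cc Bq) := Localization.isLocalHom_localRingHom c q (algebraMap C B) rfl
  have : Module.Flat C Bq := Module.Flat.trans C B Bq
  have : Module.Flat Cc Bq := (Module.flat_iff_of_isLocalization Cc c.primeCompl Bq).2 this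
  have : Module.FaithfullyFlat Cc Bq := Module.FaithfullyFlat.of_flat_of_isLocalHom
  let Φ : B ⊗[C] Q →ₐ[B] B ⊗[C] B := Algebra.TensorProduct.map (AlgHom.id B B) φ
  have hΦ : Function.Bijective Φ := by
    have e : ∀ w, φ.toLinearMap.lTensor B w = Φ w := by
      intro w
      induction w with
      | zero => simp
      | tmul b p => simp [Φ]
      | add a b ha hb => simp [ha, hb]
    have e' : ⇑(φ.toLinearMap.lTensor B) = ⇑Φ := funext e
    rwa [e'] at hφ
  have : Algebra.Etale B (B ⊗[C] Q) := Algebra.Etale.of_equiv (AlgEquiv.ofBijective Φ hΦ).symm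
  have : Algebra.Etale Bq (Bq ⊗[Cc] (Cc ⊗[C] Q)) :=
    Algebra.Etale.of_equiv ((Algebra.TensorProduct.cancelBaseChange C B Bq Bq Q).trans
      (Algebra.TensorProduct.cancelBaseChange C Cc Bq Bq Q).symm)
  have hQc : Algebra.Etale Cc (Cc ⊗[C] Q) := Algebra.Etale.of_etale_tensorProduct_of_faithfullyFlat Bq
  letI : Algebra Q (Cc ⊗[C] Q) := Algebra.TensorProduct.rightAlgebra
  have : IsScalarTower C Q (Cc ⊗[C] Q) := IsScalarTower.of_algebraMap_eq fun x => by
    simp [RingHom.algebraMap_toAlgebra, Algebra.TensorProduct.algebraMap_apply]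
  let M : Submonoid Q := Algebra.algebraMapSubmonoid Q c.primeCompl
  have hM : IsLocalization M (Cc ⊗[C] Q) := inferInstance
  have : Algebra.FormallyEtale C Cc := Algebra.FormallyEtale.of_isLocalization c.primeCompl
  have : Algebra.FormallyEtale C (Cc ⊗[C] Q) := Algebra.FormallyEtale.comp C Cc _
  obtain ⟨I, hI⟩ := (PrimeSpectrum.isClosed_iff_zeroLocus_ideal _).1
    (Algebra.isOpen_etaleLocus (R := C) (A := Q)).isClosed_compl
  obtain ⟨m, hm, hmI⟩ : ∃ m, m ∈ M ∧ m ∈ I := by
    by_contra hcon
    obtain ⟨P, hP, hIP, hPM⟩ := Ideal.exists_le_prime_disjoint I M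
      (Set.disjoint_left.2 fun x hxI hxM => hcon ⟨x, hxM, hxI⟩)
    have hle : M ≤ P.primeCompl := fun x hx hxP => Set.disjoint_left.1 hPM hxP hx
    letI : Algebra (Cc ⊗[C] Q) (Localization.AtPrime P) :=
      IsLocalization.localizationAlgebraOfSubmonoidLe _ _ M P.primeCompl hle
    have := IsLocalization.localization_isScalarTower_of_submonoid_le (Cc ⊗[C] Q) (Localization.AtPrime P)
      M P.primeCompl hle
    have := IsLocalization.isLocalization_of_submonoid_le (Cc ⊗[C] Q) (Localization.AtPrime P) M P.primeCompl hle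
    have : IsScalarTower C (Cc ⊗[C] Q) (Localization.AtPrime P) :=
      IsScalarTower.of_algebraMap_eq (R := C) (S := Cc ⊗[C] Q) (A := Localization.AtPrime P) fun x => by
      rw [IsScalarTower.algebraMap_apply C Q (Localization.AtPrime P),
        IsScalarTower.algebraMap_apply Q (Cc ⊗[C] Q) (Localization.AtPrime P), ← IsScalarTower.algebraMap_apply C Q]
    have : Algebra.FormallyEtale (Cc ⊗[C] Q) (Localization.AtPrime P) :=
      Algebra.FormallyEtale.of_isLocalization (P.primeCompl.map (algebraMap Q (Cc ⊗[C] Q)))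
    have hbad : (⟨P, hP⟩ : PrimeSpectrum Q) ∈ (Algebra.etaleLocus C Q)ᶜ := hI ▸ hIP
    exact hbad (Algebra.FormallyEtale.comp C (Cc ⊗[C] Q) _)
  obtain ⟨t, ht, rfl⟩ := hm
  refine ⟨t, ht, Algebra.basicOpen_subset_etaleLocus_iff_etale.1 fun P hP => ?_⟩
  by_contra hPl
  have : P ∈ PrimeSpectrum.zeroLocus (I : Set Q) := hI ▸ hPl
  exact hP (this hmI)

set_option maxHeartbeats 1000000 in
theorem etale_of_exact [Module.Flat C B] [Algebra.Etale B (B ⊗[C] B)]
    (hinj : Function.Injective (algebraMap C B))
    (hex : ∀ b : B, b ⊗ₜ[C] (1 : B) = (1 : B) ⊗ₜ b → b ∈ Set.range (algebraMap C B)) :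
    Algebra.Etale C B := by
  obtain ⟨Q, _, _, φ, _, hφ⟩ := exists_model (C := C) (B := B)
  have key : ∀ q : PrimeSpectrum B, ∃ g ∉ q.asIdeal, Algebra.Etale C (Localization.Away g) := by
    intro q
    obtain ⟨t, ht, hE⟩ := exists_etale_away φ hφ q.asIdeal
    refine ⟨algebraMap C B t, ht, ?_⟩
    let Ct := Localization.Away t
    letI : Algebra Q (Ct ⊗[C] Q) := Algebra.TensorProduct.rightAlgebra
    letI : Algebra B (Ct ⊗[C] B) := Algebra.TensorProduct.rightAlgebra
    have : IsScalarTower C Q (Ct ⊗[C] Q) := IsScalarTower.of_algebraMap_eq fun x => by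
      simp [RingHom.algebraMap_toAlgebra, Algebra.TensorProduct.algebraMap_apply]
    have : IsScalarTower C B (Ct ⊗[C] B) := IsScalarTower.of_algebraMap_eq fun x => by
      simp [RingHom.algebraMap_toAlgebra, Algebra.TensorProduct.algebraMap_apply]
    have hQ : IsLocalization.Away (algebraMap C Q t) (Ct ⊗[C] Q) := by
      have h : IsLocalization (Algebra.algebraMapSubmonoid Q (Submonoid.powers t)) (Ct ⊗[C] Q) := inferInstance
      rwa [Algebra.algebraMapSubmonoid_powers] at h
    have hB : IsLocalization.Away (algebraMap C B t) (Ct ⊗[C] B) := by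
      have h : IsLocalization (Algebra.algebraMapSubmonoid B (Submonoid.powers t)) (Ct ⊗[C] B) := inferInstance
      rwa [Algebra.algebraMapSubmonoid_powers] at h
    have : Algebra.Etale C (Ct ⊗[C] Q) := Algebra.Etale.of_equiv
      ((IsLocalization.algEquiv (Submonoid.powers (algebraMap C Q t)) (Localization.Away (algebraMap C Q t))
        (Ct ⊗[C] Q)).restrictScalars C)
    let φt : Ct ⊗[C] Q →ₐ[C] Ct ⊗[C] B := Algebra.TensorProduct.map (AlgHom.id C Ct) φ
    have hφt : Function.Bijective φt := by
      have e : ∀ w, φt w = φ.toLinearMap.lTensor Ct w := by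
        intro w
        induction w with
        | zero => simp
        | tmul b p => simp [φt]
        | add a b ha hb => simp [ha, hb]
      rw [show (⇑φt : Ct ⊗[C] Q → Ct ⊗[C] B) = ⇑(φ.toLinearMap.lTensor Ct) from funext e]
      refine bijective_of_lTensor hinj hex ?_ _ ?_
      · let r : B ⊗[C] (Ct ⊗[C] B) →ₐ[C] Ct ⊗[C] B :=
          Algebra.TensorProduct.lift includeRight (AlgHom.id C _) fun _ _ => Commute.all _ _
        intro n n' h
        simpa [r, ← Algebra.TensorProduct.one_def] using congrArg r h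
      · have e2 : (φ.toLinearMap.lTensor Ct).lTensor B = (TensorProduct.leftComm C Ct B B).toLinearMap ∘ₗ
            (φ.toLinearMap.lTensor B).lTensor Ct ∘ₗ (TensorProduct.leftComm C B Ct Q).toLinearMap := by
          ext b x y; simp
        rw [e2]
        exact (TensorProduct.leftComm C Ct B B).bijective.comp
          (((LinearEquiv.ofBijective _ hφ).lTensor Ct).bijective.comp (TensorProduct.leftComm C B Ct Q).bijective)
    have : Algebra.Etale C (Ct ⊗[C] B) := Algebra.Etale.of_equiv (AlgEquiv.ofBijective φt hφt)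
    exact Algebra.Etale.of_equiv ((IsLocalization.algEquiv (Submonoid.powers (algebraMap C B t))
      (Ct ⊗[C] B) (Localization.Away (algebraMap C B t))).restrictScalars C)
  choose g hg hgE using key
  have hspan : Ideal.span (Set.range g) = ⊤ := by
    by_contra hne
    obtain ⟨m, hm, hle⟩ := Ideal.exists_le_maximal _ hne
    exact hg ⟨m, hm.isPrime⟩ (hle (Ideal.subset_span ⟨_, rfl⟩))
  refine RingHom.etale_algebraMap.1 (RingHom.Etale.ofLocalizationSpanTarget _ (Set.range g) hspan ?_)
  rintro ⟨_, q, rfl⟩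
  rw [← IsScalarTower.algebraMap_eq]
  exact RingHom.etale_algebraMap.2 (hgE q)

end Descend

set_option maxHeartbeats 1000000 in
/-- A flat algebra with etale self tensor is etale over the subalgebra where both maps to the self tensor agree. -/
theorem exists_etale_subalgebra {A B : Type u} [CommRing A] [CommRing B] [Algebra A B] [Module.Flat A B]
    [Algebra.Etale B (B ⊗[A] B)] :
    ∃ C : Subalgebra A B, Algebra.Etale C B ∧ ∀ c : C, (c : B) ⊗ₜ[A] (1 : B) = (1 : B) ⊗ₜ (c : B) := by
  let C : Subalgebra A B := AlgHom.equalizer (includeLeft : B →ₐ[A] B ⊗[A] B) includeRight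
  have hC : ∀ c : C, (c : B) ⊗ₜ[A] (1 : B) = (1 : B) ⊗ₜ (c : B) := fun c => c.2
  refine ⟨C, ?_, hC⟩
  have hflat : Module.Flat C B := by
    let μ : C ⊗[A] B →ₐ[C] B := Algebra.TensorProduct.lift (Algebra.ofId C B) (AlgHom.id A B) fun _ _ => Commute.all _ _
    have hinj : Function.Injective (C.val.toLinearMap.rTensor B) :=
      Module.Flat.rTensor_preserves_injective_linearMap _ Subtype.val_injective
    have hμ : Function.Bijective μ := by
      refine ⟨?_, fun b => ⟨1 ⊗ₜ b, by simp [μ]⟩⟩
      have key : ∀ z, z = (1 : C) ⊗ₜ[A] μ z := by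
        intro z
        induction z with
        | zero => simp
        | tmul c b =>
            apply hinj
            have h2 := congrArg (fun x : B ⊗[A] B => x * ((1 : B) ⊗ₜ b)) (hC c)
            simpa [μ, Algebra.ofId_apply] using h2
        | add a b ha hb => rw [map_add, TensorProduct.tmul_add, ← ha, ← hb]
      intro z z' h
      rw [key z, key z', h]
    exact Module.Flat.of_linearEquiv (AlgEquiv.ofBijective μ hμ).toLinearEquiv.symm
  let g : B →ₐ[C] B ⊗[A] B := AlgHom.mk (includeRight : B →ₐ[A] B ⊗[A] B).toRingHom fun c => (hC c).symm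
  let ψ : B ⊗[C] B →ₐ[B] B ⊗[A] B := Algebra.TensorProduct.lift includeLeft g fun _ _ => Commute.all _ _
  let χ : B ⊗[A] B →ₐ[B] B ⊗[C] B :=
    Algebra.TensorProduct.lift includeLeft ((includeRight : B →ₐ[C] B ⊗[C] B).restrictScalars A) fun _ _ => Commute.all _ _
  let e : B ⊗[A] B ≃ₐ[B] B ⊗[C] B := AlgEquiv.ofAlgHom χ ψ
    (by ext b <;> simp [χ, ψ, g]) (by ext b <;> simp [χ, ψ, g])
  have : Algebra.Etale B (B ⊗[C] B) := Algebra.Etale.of_equiv e
  refine etale_of_exact Subtype.val_injective fun b hb => ⟨⟨b, ?_⟩, rfl⟩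
  have := congrArg ψ hb
  simpa [C, ψ, g] using this

end Groth.Agent.AlgSpDec.FlatMono
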