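import Groth.Agent.FlatLocus.Basic

/-!
# The flat part of a morphism of affine schemes along a closed set
-/

set_option backward.isDefEq.respectTransparency false
set_option backward.isDefEq.respectTransparency.types false

noncomputable section

universe u

open CategoryTheory AlgebraicGeometry

namespace Groth.Agent.AlgSpDec

/-- The elements congruent to `1` modulo an ideal. -/
def oneAddSubmonoid {C : Type u} [CommRing C] (J : Ideal C) : Submonoid C where
  carrier := {x | x - 1 ∈ J}
  one_mem' := by simp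
  mul_mem' {a b} (ha : a - 1 ∈ J) (hb : b - 1 ∈ J) := by
    have e : a * b - 1 = (a - 1) * b + (b - 1) := by ring
    show a * b - 1 ∈ J
    rw [e]
    exact J.add_mem (J.mul_mem_right _ ha) hb

theorem flat_localization_oneAdd {A C : Type u} [CommRing A] [CommRing C] [Algebra A C] (J : Ideal C)
    (h : ∀ (q : Ideal C) [q.IsPrime], J ≤ q → Module.Flat A (LocalizedModule q.primeCompl C)) :
    Module.Flat A (Localization (oneAddSubmonoid J)) := by
  let B := Localization (oneAddSubmonoid J)
  refine Module.flat_of_isLocalized_maximal (R := A) B B (fun P _ => LocalizedModule P.primeCompl B)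
    (fun P _ => LocalizedModule.mkLinearMap P.primeCompl B) fun P hP => ?_
  let q : Ideal C := P.comap (algebraMap C B)
  have hJ : J ≤ q := fun j hj => by
    by_contra hjq
    obtain ⟨b, p, hp, hb⟩ := hP.exists_inv (x := algebraMap C B j) hjq
    obtain ⟨⟨c, m⟩, hm⟩ := IsLocalization.surj (oneAddSubmonoid J) b
    have h1 : algebraMap C B (m.1 - j * c) = p * algebraMap C B m.1 := by
      simp only [map_sub, map_mul, ← hm]
      linear_combination -(algebraMap C B m.1) * hb
    have h2 : m.1 - j * c ∈ oneAddSubmonoid J := by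
      have e : m.1 - j * c - 1 = (m.1 - 1) - j * c := by ring
      show m.1 - j * c - 1 ∈ J
      rw [e]
      exact J.sub_mem m.2 (J.mul_mem_right _ hj)
    exact hP.ne_top (Ideal.eq_top_of_isUnit_mem _ (h1 ▸ P.mul_mem_right _ hp)
      (IsLocalization.map_units B ⟨_, h2⟩))
  have := h q hJ
  have : IsLocalization.AtPrime (Localization.AtPrime P) q :=
    IsLocalization.isLocalization_isLocalization_atPrime_isLocalization (oneAddSubmonoid J) (Localization.AtPrime P) P
  let e₁ : LocalizedModule q.primeCompl C ≃ₗ[C] Localization.AtPrime P :=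
    IsLocalizedModule.iso q.primeCompl (Algebra.linearMap C (Localization.AtPrime P))
  have : Module.Flat A (Localization.AtPrime P) := Module.Flat.of_linearEquiv (e₁.restrictScalars A).symm
  let e₂ : LocalizedModule P.primeCompl B ≃ₗ[B] Localization.AtPrime P :=
    IsLocalizedModule.iso P.primeCompl (Algebra.linearMap B (Localization.AtPrime P))
  exact Module.Flat.of_linearEquiv (e₂.restrictScalars A)

/-- A morphism of affine schemes which is flat at the points of a closed set is flat on an affine scheme over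
the source hitting this set. -/
theorem exists_flat_part {V T : Scheme.{u}} [IsAffine V] [IsAffine T] (h : V ⟶ T) (K : Set V) (hK : IsClosed K)
    (hf : ∀ v ∈ K, (h.stalkMap v).hom.Flat) :
    ∃ (W : Scheme.{u}) (g : W ⟶ V), IsAffine W ∧ Flat (g ≫ h) ∧ K ⊆ Set.range g := by
  let φ : Γ(T, ⊤) ⟶ Γ(V, ⊤) := h.appTop
  let _ : Algebra Γ(T, ⊤) Γ(V, ⊤) := φ.hom.toAlgebra
  have hsq : V.isoSpec.inv ≫ h = Spec.map φ ≫ T.isoSpec.inv := (Scheme.isoSpec_inv_naturality h).symm
  obtain ⟨J, hJ⟩ : ∃ J : Ideal Γ(V, ⊤), V.isoSpec.inv ⁻¹' K = PrimeSpectrum.zeroLocus (J : Set Γ(V, ⊤)) :=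
    (PrimeSpectrum.isClosed_iff_zeroLocus_ideal _).1 (hK.preimage V.isoSpec.inv.continuous)
  have key : ∀ q : Spec Γ(V, ⊤), V.isoSpec.inv q ∈ K → ((Spec.map φ).stalkMap q).hom.Flat := fun q hq => by
    have h1 : ((V.isoSpec.inv ≫ h).stalkMap q).hom.Flat := by
      rw [Scheme.Hom.stalkMap_comp]
      exact (FlatLocus.flat_comp_isIso _ _).2 (hf _ hq)
    rw [hsq, Scheme.Hom.stalkMap_comp] at h1
    exact (FlatLocus.flat_isIso_comp _ _).1 h1
  have := flat_localization_oneAdd (A := Γ(T, ⊤)) J fun q _ hq =>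
    (FlatLocus.stalkMap_flat_SpecMap φ ⟨q, ‹_›⟩).1 (key ⟨q, ‹_›⟩ (by
      show (⟨q, ‹_›⟩ : PrimeSpectrum _) ∈ V.isoSpec.inv ⁻¹' K
      rw [hJ]; exact hq))
  refine ⟨Spec (.of (Localization (oneAddSubmonoid J))), Spec.map (CommRingCat.ofHom
    (algebraMap Γ(V, ⊤) (Localization (oneAddSubmonoid J)))) ≫ V.isoSpec.inv, inferInstance, ?_, ?_⟩
  · have hfl : Flat (Spec.map (CommRingCat.ofHom (algebraMap Γ(T, ⊤) (Localization (oneAddSubmonoid J))))) :=
      (HasRingHomProperty.Spec_iff (P := @Flat)).2 (RingHom.flat_algebraMap_iff.2 this)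
    rw [Category.assoc, hsq, ← Category.assoc, ← Spec.map_comp]
    exact inferInstanceAs (Flat (Spec.map (CommRingCat.ofHom (algebraMap Γ(T, ⊤) (Localization (oneAddSubmonoid J)))) ≫ T.isoSpec.inv))
  · intro v hv
    have hmem : V.isoSpec.hom v ∈ V.isoSpec.inv ⁻¹' K := by
      show V.isoSpec.inv (V.isoSpec.hom v) ∈ K
      rw [← Scheme.Hom.comp_apply, Iso.hom_inv_id]
      exact hv
    rw [hJ] at hmem
    have hd : Disjoint (oneAddSubmonoid J : Set Γ(V, ⊤)) ((V.isoSpec.hom v).asIdeal : Set Γ(V, ⊤)) := by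
      refine Set.disjoint_left.2 fun x (hx : x - 1 ∈ J) hxq => ?_
      refine (V.isoSpec.hom v).isPrime.ne_top ((Ideal.eq_top_iff_one _).2 ?_)
      simpa using Ideal.sub_mem _ hxq (hmem hx)
    obtain ⟨b, hb⟩ : V.isoSpec.hom v ∈ Set.range (PrimeSpectrum.comap
        (algebraMap Γ(V, ⊤) (Localization (oneAddSubmonoid J)))) := by
      rw [PrimeSpectrum.localization_comap_range _ (oneAddSubmonoid J)]
      exact hd
    refine ⟨b, ?_⟩
    rw [Scheme.Hom.comp_apply]
    refine (congrArg V.isoSpec.inv hb).trans ?_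
    rw [← Scheme.Hom.comp_apply, Iso.hom_inv_id]
    rfl

end Groth.Agent.AlgSpDec
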