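import Groth.Agent.AlgSpLib.QcMonoIso
import Groth.Agent.AlgSpLib.FlatAt
import Groth.Agent.AlgSpPts.Misc
import Groth.Agent.SchTorsor.Props
import Groth.Agent.Triage.CMBC
import Mathlib.AlgebraicGeometry.Morphisms.FlatMono

/-!
# Isomorphisms are detected by quasi-compact covers with flat points
-/

set_option backward.isDefEq.respectTransparency false
set_option backward.isDefEq.respectTransparency.types false

universe u

open CategoryTheory CategoryTheory.Limits AlgebraicGeometry Opposite AlgSp
open Groth.Agent.AlgSpLib Groth.Agent.AlgSpPts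

namespace Groth.Agent.AlgSpDec

variable {S : Scheme.{u}}

theorem isIso_of_flat_points {P : Sp S} (hP : IsAlgSpace P) {W : Over S} [IsAffine W.left]
    (e : P ⟶ (yon S).obj W) {κ : Type} [Finite κ] (W'' : κ → Over S) (q : ∀ k, W'' k ⟶ W)
    [∀ k, CompactSpace ↥(W'' k).left] (hqs : ∀ w, ∃ k, w ∈ Set.range (q k).left)
    (hq : ∀ k, IsIso (pullback.snd e ((yon S).map (q k))))
    (h : ∀ w : ↥W.left, ∃ (W' : Over S) (π : W' ⟶ W) (w' : ↥W'.left), π.left w' = w ∧
      (π.left.stalkMap w').hom.Flat ∧ IsIso (pullback.snd e ((yon S).map π))) : IsIso e := by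
  -- quasi-compactness
  have hqc : IsQuasiCompactSp P := by
    refine (AlgSpPts.isQuasiCompactSp_iff hP).2 ⟨?_⟩
    have hU : (Set.univ : Set (Points P)) = ⋃ k : κ, Set.range (Points.map
        (inv (pullback.snd e ((yon S).map (q k))) ≫ pullback.fst e ((yon S).map (q k)))) := by
      refine (Set.eq_univ_of_forall fun x => ?_).symm
      obtain ⟨T, t, p, -, hT⟩ := exists_ofPt_eq (Points.map e x)
      obtain ⟨w, hw⟩ := surjective_ofPt (repWith_id @Surjective W) (Points.map e x)
      obtain ⟨k, v, hv⟩ := hqs w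
      obtain ⟨z, hz₁, -⟩ := exists_point_of_isPullback (IsPullback.of_hasPullback e ((yon S).map (q k)))
        (x := x) (y := Points.ofScheme _ v) (by
          rw [← hw, ← hv, ← Points.ofPt_eq_map_ofScheme, ← ofPt_comp, Category.comp_id]
          try rfl)
      refine Set.mem_iUnion.2 ⟨k, Points.map (pullback.snd e ((yon S).map (q k))) z, ?_⟩
      rw [← Points.map_comp, IsIso.hom_inv_id_assoc, hz₁]
    rw [hU]
    refine isCompact_iUnion fun k => ?_
    have : CompactSpace (Points ((yon S).obj (W'' k))) :=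
      (AlgSpPts.isQuasiCompactSp_iff (IsAlgSpace.yon_obj _)).1
        ⟨W'' k, 𝟙 _, repWith_id _ _, repWith_id _ _, inferInstance⟩
    exact isCompact_range (Points.continuous_map _)
  obtain ⟨R, r, hRa, hr, hrs⟩ := AlgSpDec.exists_affine_atlas hqc
  have : IsAffine R.left := hRa
  let ρ : R ⟶ W := (yon S).preimage (r ≫ e)
  have hρ : r ≫ e = (yon S).map ρ := ((yon S).map_preimage _).symm
  let R₂ := hr.rep.pullback r
  let t : R₂ ⟶ R := hr.rep.fst' r
  let s : R₂ ⟶ R := hr.rep.snd r
  have sq : IsPullback ((yon S).map t) ((yon S).map s) r r := hr.rep.isPullback' r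
  have hts : t ≫ ρ = s ≫ ρ := (yon S).map_injective (by
    rw [Functor.map_comp, Functor.map_comp, ← hρ, ← Category.assoc, sq.w, Category.assoc])
  let δ : R₂.left ⟶ pullback ρ.left ρ.left := pullback.lift t.left s.left (congrArg Over.Hom.left hts)
  let RR : Over S := Over.mk (pullback.fst ρ.left ρ.left ≫ R.hom)
  let p₁ : RR ⟶ R := CategoryTheory.Over.homMk (pullback.fst ρ.left ρ.left) rfl
  let p₂ : RR ⟶ R := CategoryTheory.Over.homMk (pullback.snd ρ.left ρ.left) (by
    show pullback.snd ρ.left ρ.left ≫ R.hom = pullback.fst ρ.left ρ.left ≫ R.hom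
    rw [← Over.w ρ, pullback.condition_assoc])
  let δ' : R₂ ⟶ RR := CategoryTheory.Over.homMk δ (by
    show δ ≫ pullback.fst _ _ ≫ R.hom = R₂.hom
    rw [pullback.lift_fst_assoc, Over.w t])
  have hδ₁ : δ' ≫ p₁ = t := Over.OverMorphism.ext (pullback.lift_fst _ _ _)
  have hδ₂ : δ' ≫ p₂ = s := Over.OverMorphism.ext (pullback.lift_snd _ _ _)
  have hδm : Mono δ' := ⟨fun a b hab => (yon S).map_injective (sq.hom_ext
    (by rw [← Functor.map_comp, ← Functor.map_comp, ← hδ₁, reassoc_of% hab])
    (by rw [← Functor.map_comp, ← Functor.map_comp, ← hδ₂, reassoc_of% hab]))⟩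
  have hδm' : Mono δ := inferInstanceAs (Mono δ'.left)
  -- sections of `δ` over a piece on which `e` is an isomorphism
  have sect : ∀ {W' : Over S} (π : W' ⟶ W), IsIso (pullback.snd e ((yon S).map π)) →
      ∃ l : pullback (pullback.fst ρ.left ρ.left ≫ ρ.left) π.left ⟶ R₂.left,
        l ≫ δ = pullback.fst _ _ := by
    intro W' π hπ
    let T : Over S := Over.mk (pullback.fst (pullback.fst ρ.left ρ.left ≫ ρ.left) π.left ≫ RR.hom)
    let a : T ⟶ RR := CategoryTheory.Over.homMk (pullback.fst _ _) rfl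
    let b : T ⟶ W' := CategoryTheory.Over.homMk (pullback.snd (pullback.fst ρ.left ρ.left ≫ ρ.left) π.left) (by
      show pullback.snd _ _ ≫ W'.hom = pullback.fst _ _ ≫ pullback.fst ρ.left ρ.left ≫ R.hom
      rw [← Over.w π, ← pullback.condition_assoc, Category.assoc, Over.w ρ])
    have c1 : (a ≫ p₁) ≫ ρ = b ≫ π := Over.OverMorphism.ext (by
      show (pullback.fst (pullback.fst ρ.left ρ.left ≫ ρ.left) π.left ≫ pullback.fst ρ.left ρ.left) ≫ ρ.left =
        pullback.snd (pullback.fst ρ.left ρ.left ≫ ρ.left) π.left ≫ π.left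
      rw [Category.assoc]
      exact pullback.condition)
    have c2 : (a ≫ p₂) ≫ ρ = b ≫ π := Over.OverMorphism.ext (by
      show (pullback.fst (pullback.fst ρ.left ρ.left ≫ ρ.left) π.left ≫ pullback.snd ρ.left ρ.left) ≫ ρ.left =
        pullback.snd (pullback.fst ρ.left ρ.left ≫ ρ.left) π.left ≫ π.left
      rw [Category.assoc, ← pullback.condition, ← Category.assoc]
      exact congrArg Over.Hom.left c1)
    have w1 : ((yon S).map (a ≫ p₁) ≫ r) ≫ e = (yon S).map b ≫ (yon S).map π := by
      rw [Category.assoc, hρ, ← Functor.map_comp, ← Functor.map_comp, c1]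
    have w2 : ((yon S).map (a ≫ p₂) ≫ r) ≫ e = (yon S).map b ≫ (yon S).map π := by
      rw [Category.assoc, hρ, ← Functor.map_comp, ← Functor.map_comp, c2]
    have heq : pullback.lift _ _ w1 = pullback.lift _ _ w2 := by
      rw [← cancel_mono (pullback.snd e ((yon S).map π)), pullback.lift_snd, pullback.lift_snd]
    have h12 : (yon S).map (a ≫ p₁) ≫ r = (yon S).map (a ≫ p₂) ≫ r := by
      simpa using congrArg (· ≫ pullback.fst e ((yon S).map π)) heq
    obtain ⟨l, hl⟩ := (yon S).map_surjective (sq.lift _ _ h12)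
    have hl₁ : l ≫ t = a ≫ p₁ := (yon S).map_injective (by rw [Functor.map_comp, hl, IsPullback.lift_fst])
    have hl₂ : l ≫ s = a ≫ p₂ := (yon S).map_injective (by rw [Functor.map_comp, hl, IsPullback.lift_snd])
    refine ⟨l.left, ?_⟩
    apply pullback.hom_ext
    · rw [Category.assoc, pullback.lift_fst]
      exact congrArg Over.Hom.left hl₁
    · rw [Category.assoc, pullback.lift_snd]
      exact congrArg Over.Hom.left hl₂
  have hδs : Surjective δ := ⟨fun x => by
    obtain ⟨k, v, hv⟩ := hqs ((pullback.fst ρ.left ρ.left ≫ ρ.left) x)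
    obtain ⟨l, hl⟩ := sect (q k) (hq k)
    obtain ⟨z, hz, -⟩ := Scheme.Pullback.exists_preimage_pullback x v hv.symm
    exact ⟨l z, by rw [← Scheme.Hom.comp_apply, hl, hz]⟩⟩
  have : CompactSpace ↥R₂.left := by
    choose l hl using fun k => sect (q k) (hq k)
    have hU : (Set.univ : Set ↥R₂.left) = ⋃ k : κ, Set.range (l k) := by
      refine (Set.eq_univ_of_forall fun x => ?_).symm
      obtain ⟨k, v, hv⟩ := hqs ((pullback.fst ρ.left ρ.left ≫ ρ.left) (δ x))
      obtain ⟨z, hz, -⟩ := Scheme.Pullback.exists_preimage_pullback (δ x) v hv.symm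
      refine Set.mem_iUnion.2 ⟨k, z, δ.injective ?_⟩
      rw [← Scheme.Hom.comp_apply, hl k, hz]
    refine ⟨hU ▸ isCompact_iUnion fun k => ?_⟩
    have : CompactSpace ↥(pullback (pullback.fst ρ.left ρ.left ≫ ρ.left) (q k).left) :=
      QuasiCompact.compactSpace_of_compactSpace (pullback.snd (pullback.fst ρ.left ρ.left ≫ ρ.left) (q k).left)
    exact isCompact_range (l k).continuous
  have hδf : Flat δ := Flat.of_stalkMap _ fun x => by
    obtain ⟨W', π, w', hw', hf, hπ⟩ := h ((pullback.fst ρ.left ρ.left ≫ ρ.left) (δ x))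
    obtain ⟨l, hl⟩ := sect π hπ
    obtain ⟨z, hz, hz'⟩ := Scheme.Pullback.exists_preimage_pullback (δ x) w' hw'.symm
    have hlz : l z = x := δ.injective (by rw [← Scheme.Hom.comp_apply, hl, hz])
    have hfl : ((pullback.fst (pullback.fst ρ.left ρ.left ≫ ρ.left) π.left).stalkMap z).hom.Flat :=
      Triage.CMBC.flat_stalk_of_isPullback (IsPullback.of_hasPullback _ π.left).flip z (by rw [hz']; exact hf)
    have sql : IsPullback (𝟙 _) l (pullback.fst (pullback.fst ρ.left ρ.left ≫ ρ.left) π.left) δ := by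
      refine IsPullback.of_isLimit' ⟨by rw [Category.id_comp, hl]⟩
        (PullbackCone.IsLimit.mk _ (fun c => c.fst) (fun c => Category.comp_id _) (fun c => ?_)
          (fun c m h₁ _ => (Category.comp_id m).symm.trans h₁))
      rw [← cancel_mono δ, Category.assoc, hl]
      exact c.condition
    have h1 : (l.stalkMap z).hom.Flat := Triage.CMBC.flat_stalk_of_isPullback sql z hfl
    have h2 : ((l ≫ δ).stalkMap z).hom.Flat := by rw [hl]; exact hfl
    have h3 := (flatAt_comp_left_iff l δ z h1).1 h2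
    rwa [hlz] at h3
  have : QuasiCompact δ := inferInstance
  have : IsIso δ := Flat.isIso_of_surjective_of_mono δ
  -- `ρ` is surjective, flat and etale
  have rest : ∀ {W' : Over S} (π : W' ⟶ W), IsIso (pullback.snd e ((yon S).map π)) →
      Etale (pullback.snd ρ.left π.left) ∧ Surjective (pullback.snd ρ.left π.left) := by
    intro W' π hπ
    let T : Over S := Over.mk (pullback.fst ρ.left π.left ≫ R.hom)
    let c : T ⟶ R := CategoryTheory.Over.homMk (pullback.fst ρ.left π.left) rfl
    let d : T ⟶ W' := CategoryTheory.Over.homMk (pullback.snd ρ.left π.left) (by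
      show pullback.snd _ _ ≫ W'.hom = pullback.fst _ _ ≫ R.hom
      rw [← Over.w π, ← pullback.condition_assoc, Over.w ρ])
    have hcd : IsPullback ((yon S).map c) ((yon S).map d) ((yon S).map ρ) ((yon S).map π) :=
      IsPullback.map (yon S) (IsPullback.of_map_of_faithful (Over.forget S)
        (show IsPullback c.left d.left ρ.left π.left from IsPullback.of_hasPullback _ _))
    rw [← hρ] at hcd
    have top : IsPullback ((yon S).map c) (hcd.lift _ _ hcd.w ≫ (pullback.lift ((yon S).map c ≫ r) ((yon S).map d)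
        (by rw [Category.assoc]; exact hcd.w))) r (pullback.fst e ((yon S).map π)) := by
      refine IsPullback.of_bot ?_ ?_ (IsPullback.of_hasPullback e ((yon S).map π))
      · rw [Category.assoc, pullback.lift_snd, IsPullback.lift_snd]
        exact hcd
      · rw [Category.assoc, pullback.lift_fst, IsPullback.lift_fst_assoc]
    have key : ∀ {Q : MorphismProperty Scheme.{u}} [Q.IsStableUnderBaseChange] [Q.RespectsIso], RepWith Q r →
        Q (pullback.snd ρ.left π.left) := by
      intro Q _ _ hQ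
      have h1 := repWith_of_isPullback top hQ
      have h2 : RepWith Q ((hcd.lift _ _ hcd.w ≫ (pullback.lift ((yon S).map c ≫ r) ((yon S).map d)
          (by rw [Category.assoc]; exact hcd.w))) ≫ pullback.snd e ((yon S).map π)) :=
        ((RepWith (S := S) Q).cancel_right_of_respectsIso _ _).2 h1
      rw [Category.assoc, pullback.lift_snd, IsPullback.lift_snd] at h2
      exact (repWith_yon_map_iff Q d).1 h2
    exact ⟨key hr, key hrs⟩
  have hρf : Flat ρ.left := Flat.of_stalkMap _ fun x => by
    obtain ⟨W', π, w', hw', hf, hπ⟩ := h (ρ.left x)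
    have : Etale (pullback.snd ρ.left π.left) := (rest π hπ).1
    obtain ⟨z, hz, hz'⟩ := Scheme.Pullback.exists_preimage_pullback x w' hw'.symm
    have h1 : ((pullback.fst ρ.left π.left).stalkMap z).hom.Flat :=
      Triage.CMBC.flat_stalk_of_isPullback (IsPullback.of_hasPullback _ π.left).flip z (by rw [hz']; exact hf)
    have h2 : ((pullback.fst ρ.left π.left ≫ ρ.left).stalkMap z).hom.Flat := by
      rw [pullback.condition, Scheme.Hom.stalkMap_comp]
      exact RingHom.Flat.comp (show (π.left.stalkMap (pullback.snd ρ.left π.left z)).hom.Flat from hz'.symm ▸ hf) (Flat.stalkMap _ z)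
    have h3 := (flatAt_comp_left_iff (pullback.fst ρ.left π.left) ρ.left z h1).1 h2
    rwa [hz] at h3
  have hρs : Surjective ρ.left := ⟨fun w => by
    obtain ⟨k, v, hv⟩ := hqs w
    have : Surjective (pullback.snd ρ.left (q k).left) := (rest (q k) (hq k)).2
    obtain ⟨z, hz⟩ := (pullback.snd ρ.left (q k).left).surjective v
    exact ⟨pullback.fst ρ.left (q k).left z, by
      rw [← Scheme.Hom.comp_apply, pullback.condition, Scheme.Hom.comp_apply, hz, hv]⟩⟩
  have : Etale ρ.left := by
    have ht : Etale t.left := hr.property r _ _ (hr.rep.isPullback' r).flip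
    have h1 : Etale (pullback.fst ρ.left ρ.left) := by
      rw [← MorphismProperty.cancel_left_of_respectsIso @Etale δ, pullback.lift_fst]
      exact ht
    exact MorphismProperty.of_pullback_fst_of_descendsAlong (P := @Etale)
      (Q := @Surjective ⊓ @Flat ⊓ @QuasiCompact) (f := ρ.left) (g := ρ.left) ⟨⟨hρs, hρf⟩, inferInstance⟩ h1
  have : Epi ((yon S).map ρ) := epi_of_etale_surjective ((repWith_yon_map_iff _ _).2 ‹Etale ρ.left›)
    ((repWith_yon_map_iff _ _).2 hρs)
  have : EffectiveEpi ((yon S).map ρ) := by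
    have := IsRegularEpiCategory.regularEpiOfEpi ((yon S).map ρ)
    infer_instance
  have : IsIso δ' := by
    have : IsIso ((Over.forget S).map δ') := ‹IsIso δ›
    exact isIso_of_reflects_iso δ' (Over.forget S)
  have hpp : IsPullback ((yon S).map p₁) ((yon S).map p₂) ((yon S).map ρ) ((yon S).map ρ) :=
    IsPullback.map (yon S) (IsPullback.of_map_of_faithful (Over.forget S)
      (show IsPullback p₁.left p₂.left ρ.left ρ.left from IsPullback.of_hasPullback _ _))
  have hinv : ∀ {Z : Sp S} (g₁ g₂ : Z ⟶ (yon S).obj R), g₁ ≫ (yon S).map ρ = g₂ ≫ (yon S).map ρ →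
      g₁ ≫ r = g₂ ≫ r := fun g₁ g₂ hg => by
    have e₁ : p₁ = inv δ' ≫ t := by rw [← hδ₁, IsIso.inv_hom_id_assoc]
    have e₂ : p₂ = inv δ' ≫ s := by rw [← hδ₂, IsIso.inv_hom_id_assoc]
    have key : (yon S).map p₁ ≫ r = (yon S).map p₂ ≫ r := by
      rw [e₁, e₂, Functor.map_comp, Functor.map_comp, Category.assoc, Category.assoc, sq.w]
    rw [← hpp.lift_fst g₁ g₂ hg, Category.assoc, key, ← Category.assoc, hpp.lift_snd]
  have : Epi r := AlgSpLib.epi_of_etale_surjective hr hrs
  let g : (yon S).obj W ⟶ P := EffectiveEpi.desc ((yon S).map ρ) r hinv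
  have hg : (yon S).map ρ ≫ g = r := EffectiveEpi.fac _ _ _
  refine ⟨g, ?_, ?_⟩
  · rw [← cancel_epi r, reassoc_of% hρ, hg, Category.comp_id]
  · rw [← cancel_epi ((yon S).map ρ), reassoc_of% hg, hρ, Category.comp_id]

end Groth.Agent.AlgSpDec
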