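import Groth.Agent.AlgSpDec.UnramWhere
import Groth.Agent.AlgSpLib.FlatMono
import Groth.Agent.AlgSpLib.SmoothLocal
import Groth.Agent.AlgSpPts.UnivClosed
import Groth.Agent.AlgSpPts.Sep
import Groth.Agent.AlgSpPts.ProperSubspace

/-! The loci in the target where the base change is flat, surjective flat, a closed immersion, an isomorphism. -/

set_option autoImplicit false
set_option backward.isDefEq.respectTransparency false
set_option backward.isDefEq.respectTransparency.types false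

open CategoryTheory Limits Opposite AlgebraicGeometry MorphismProperty AlgSp Groth.Agent.AlgSpLib
  Groth.Agent.AlgSpPts Groth.Agent.AlgSpDec.UnramSpace Groth.Agent.AlgSpDec.UnramWhere

namespace Groth.Agent.AlgSpDec.FlatWhere

universe u

variable {S : Scheme.{u}} {X Y Z X' Y' Z' : Sp S} {f : X ⟶ Y} {p : X ⟶ Z} {q : Y ⟶ Z}

theorem isFlatAtMor_all_iff (hX : IsAlgSpace X) (hY : IsAlgSpace Y)
    (hf : LocP @LocallyOfFinitePresentation f) : (∀ x, IsFlatAtMor f x) ↔ LocP @Flat f := by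
  refine ⟨fun h => ?_, fun h x U V a b k u ha hb w _ => ?_⟩
  · obtain ⟨V, b, hb, hbs⟩ := hY.atlas
    obtain ⟨U, e, m, he, hes, hm⟩ := exists_chart_over hX hY f b
    have ha : RepWith @Etale (e ≫ pullback.fst f b) := repWith_comp he (repWith_fst f hb)
    have w : (e ≫ pullback.fst f b) ≫ f = (yon S).map m ≫ b := by
      rw [Category.assoc, pullback.condition, ← Category.assoc, hm]
    exact locP_of_chart ha (repWith_comp hes (repWith_fst f hbs)) hb w
      (Flat.of_stalkMap _ fun u => (isFlatAtMor_iff hf ha hb w u).1 (h _))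
  · have : Flat k.left := h a b k ha hb w
    exact Flat.stalkMap _ _

/-- The points of `Z` all of whose preimages in `X` are flat points of `f`. -/
def flatZ (f : X ⟶ Y) (p : X ⟶ Z) : Set (Points Z) := (Points.map p '' {x | IsFlatAtMor f x}ᶜ)ᶜ

theorem isOpen_flatZ (hX : IsAlgSpace X) (hY : IsAlgSpace Y) (hZ : IsAlgSpace Z) (hc : f ≫ q = p)
    (h1 : LocP @LocallyOfFinitePresentation p) (h2 : LocP @Flat p) (h3 : IsClosedMor p)
    (hq : LocP @LocallyOfFiniteType q) : IsOpen (flatZ f p) :=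
  (h3 _ (isOpen_flatLocus_and_baseChange hX hY hZ f q (by rwa [hc]) (by rwa [hc]) hq).1.isClosed_compl).isOpen_compl

theorem range_gX_iff (hc : f ≫ q = p) {g : Z' ⟶ Z} {gY : Y' ⟶ Y} {q' : Y' ⟶ Z'}
    (sY : IsPullback gY q' q g) {gX : X' ⟶ X} {f' : X' ⟶ Y'} (sX : IsPullback gX f' f gY)
    (G : Set (Points X)) :
    Set.range (Points.map gX) ⊆ G ↔ Set.range (Points.map g) ⊆ (Points.map p '' Gᶜ)ᶜ := by
  constructor
  · rintro h _ ⟨z', rfl⟩ ⟨x, hx, hxz⟩
    obtain ⟨y', hy, -⟩ := exists_point_of_isPullback sY (x := Points.map f x) (y := z')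
      (by rw [← Points.map_comp, hc, hxz])
    obtain ⟨x', hx', -⟩ := exists_point_of_isPullback sX (x := x) (y := y') hy.symm
    exact hx (hx' ▸ h ⟨x', rfl⟩)
  · rintro h _ ⟨x', rfl⟩
    by_contra hx
    refine h ⟨Points.map q' (Points.map f' x'), rfl⟩ ⟨_, hx, ?_⟩
    rw [← hc, ← Points.map_comp, ← Points.map_comp, ← Points.map_comp]
    rw [reassoc_of% sX.w, sY.w]

theorem flat_iff (hX : IsAlgSpace X) (hY : IsAlgSpace Y) (hZ : IsAlgSpace Z) (hc : f ≫ q = p)
    (h1 : LocP @LocallyOfFinitePresentation p) (h2 : LocP @Flat p) (hq : LocP @LocallyOfFiniteType q)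
    {g : Z' ⟶ Z} (hZ' : IsAlgSpace Z') {gY : Y' ⟶ Y} {q' : Y' ⟶ Z'} (hY' : IsAlgSpace Y')
    (sY : IsPullback gY q' q g) {gX : X' ⟶ X} {f' : X' ⟶ Y'} (sX : IsPullback gX f' f gY) :
    LocP @Flat f' ↔ Set.range (Points.map g) ⊆ flatZ f p := by
  have hX' : IsAlgSpace X' := isAlgSpace_of_isPullback sX hX hY' hY
  have hf' : LocP @LocallyOfFinitePresentation f' :=
    locP_of_isPullback sX hX hY hY' (locP_lofp_of_comp hX hY hZ f q (by rwa [hc]) hq)
  have e := (isOpen_flatLocus_and_baseChange hX hY hZ f q (by rwa [hc]) (by rwa [hc]) hq).2 hX' hY' hZ'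
    g f' q' gX gY sY sX
  rw [← isFlatAtMor_all_iff hX' hY' hf', flatZ, ← range_gX_iff hc sY sX, Set.range_subset_iff]
  exact forall_congr' fun x' => (Set.ext_iff.1 e x')

theorem isOpen_image_flat (hX : IsAlgSpace X) (hY : IsAlgSpace Y)
    (hf : LocP @LocallyOfFinitePresentation f) :
    IsOpen (Points.map f '' {x | IsFlatAtMor f x}) := by
  obtain ⟨V, b, hb, hbs⟩ := hY.atlas
  obtain ⟨U, e, m, he, hes, hm⟩ := exists_chart_over hX hY f b
  have ha : RepWith @Etale (e ≫ pullback.fst f b) := repWith_comp he (repWith_fst f hb)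
  have w : (e ≫ pullback.fst f b) ≫ f = (yon S).map m ≫ b := by
    rw [Category.assoc, pullback.condition, ← Category.assoc, hm]
  have : LocallyOfFinitePresentation m.left := hf _ _ _ ha hb w
  let G : U.left.Opens := ⟨_, FlatLocus.isOpen_flat_locus m.left⟩
  have : Flat (G.ι ≫ m.left) :=
    Flat.of_stalkMap _ fun g => (Groth.Agent.FibFlat.flat_stalk_open_comp G.ι m.left g).2 g.2
  have hO : IsOpen (Set.range (G.ι ≫ m.left)) := by
    have : UniversallyOpen (G.ι ≫ m.left) := inferInstance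
    exact (G.ι ≫ m.left).isOpenMap.isOpen_range
  have key : Points.map f '' {x | IsFlatAtMor f x} = Points.ofPt b '' Set.range (G.ι ≫ m.left) := by
    ext y
    constructor
    · rintro ⟨x, hx, rfl⟩
      obtain ⟨u, rfl⟩ := surjective_ofPt (repWith_comp hes (repWith_fst f hbs)) x
      exact ⟨m.left u, ⟨⟨u, (isFlatAtMor_iff hf ha hb w u).1 hx⟩, rfl⟩, by
        rw [Points.map_ofPt, w, ofPt_comp]⟩
    · rintro ⟨_, ⟨g, rfl⟩, rfl⟩
      exact ⟨Points.ofPt (e ≫ pullback.fst f b) g.1, (isFlatAtMor_iff hf ha hb w _).2 g.2, by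
        rw [Points.map_ofPt, w, ofPt_comp]; rfl⟩
  rw [key]
  exact AlgSpLib.isOpenMap_ofPt hb _ hO

/-- The points of `Z` over which `f` is flat and surjective. -/
def surjFlatZ (f : X ⟶ Y) (p : X ⟶ Z) (q : Y ⟶ Z) : Set (Points Z) :=
  flatZ f p ∩ (Points.map q '' (Points.map f '' {x | IsFlatAtMor f x})ᶜ)ᶜ

theorem isOpen_surjFlatZ (hX : IsAlgSpace X) (hY : IsAlgSpace Y) (hZ : IsAlgSpace Z) (hc : f ≫ q = p)
    (h1 : LocP @LocallyOfFinitePresentation p) (h2 : LocP @Flat p) (h3 : IsClosedMor p)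
    (hq : LocP @LocallyOfFiniteType q) (hq2 : IsClosedMor q) : IsOpen (surjFlatZ f p q) :=
  (isOpen_flatZ hX hY hZ hc h1 h2 h3 hq).inter
    (hq2 _ (isOpen_image_flat hX hY (locP_lofp_of_comp hX hY hZ f q (by rwa [hc]) hq)).isClosed_compl).isOpen_compl

theorem surjFlat_iff (hX : IsAlgSpace X) (hY : IsAlgSpace Y) (hZ : IsAlgSpace Z) (hc : f ≫ q = p)
    (h1 : LocP @LocallyOfFinitePresentation p) (h2 : LocP @Flat p) (hq : LocP @LocallyOfFiniteType q)
    {g : Z' ⟶ Z} (hZ' : IsAlgSpace Z') {gY : Y' ⟶ Y} {q' : Y' ⟶ Z'} (hY' : IsAlgSpace Y')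
    (sY : IsPullback gY q' q g) {gX : X' ⟶ X} {f' : X' ⟶ Y'} (sX : IsPullback gX f' f gY) :
    (IsSurjectiveMor f' ∧ LocP @Flat f') ↔ Set.range (Points.map g) ⊆ surjFlatZ f p q := by
  rw [surjFlatZ, Set.subset_inter_iff, flat_iff hX hY hZ hc h1 h2 hq hZ' hY' sY sX, and_comm]
  refine and_congr_right fun hg => ?_
  have hgX : Set.range (Points.map gX) ⊆ {x | IsFlatAtMor f x} := (range_gX_iff hc sY sX _).2 hg
  constructor
  · rintro hs _ ⟨z', rfl⟩ ⟨y, hy, hyz⟩
    obtain ⟨y', hy', -⟩ := exists_point_of_isPullback sY hyz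
    obtain ⟨x', hx'⟩ := hs y'
    refine hy ⟨Points.map gX x', hgX ⟨x', rfl⟩, ?_⟩
    rw [← Points.map_comp, sX.w, Points.map_comp, hx', hy']
  · intro h y'
    have : Points.map gY y' ∈ Points.map f '' {x | IsFlatAtMor f x} := by
      by_contra hy
      exact h ⟨Points.map q' y', rfl⟩ ⟨_, hy, by rw [← Points.map_comp, sY.w, Points.map_comp]⟩
    obtain ⟨x, -, hx⟩ := this
    obtain ⟨x', -, hx'⟩ := exists_point_of_isPullback sX hx
    exact ⟨x', hx'⟩

theorem isUnivClosedMor_left (hX : IsAlgSpace X) (hY : IsAlgSpace Y) (hZ : IsAlgSpace Z) (hc : f ≫ q = p)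
    (hp : IsUnivClosedMor p) (hq : IsSeparatedMor q) : IsUnivClosedMor f := by
  subst hc
  have h1 : IsUnivClosedMor (pullback.lift (𝟙 X) f (by simp) : X ⟶ pullback (f ≫ q) q) :=
    (isProperMor_of_closedImmersion (graph_property hq)).2.2
  have h2 : IsUnivClosedMor (pullback.snd (f ≫ q) q) :=
    isUnivClosedMor_of_isPullback (IsPullback.of_hasPullback _ _) hp
  have := isUnivClosedMor_comp (isAlgSpace_pullback hX hY hZ (f ≫ q) q) hY h1 h2
  rwa [pullback.lift_snd] at this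

theorem unramified_univInj_iff_mono (hX : IsAlgSpace X) (hY : IsAlgSpace Y)
    (hl : LocP @LocallyOfFiniteType f) :
    (LocP (@LocallyOfFiniteType ⊓ @FormallyUnramified) f ∧ IsUnivInjectiveMor f) ↔ Mono f := by
  refine ⟨fun ⟨h, hi⟩ => ?_, fun _ => ⟨(locP_lft_unramified_iff hX hY f).2 ⟨hl, isFormallyUnramifiedMor_of_mono⟩,
    isUnivInjectiveMor_of_mono⟩⟩
  exact mono_of_unramified_univInjective hX hY f hl ((locP_lft_unramified_iff hX hY f).1 h).2 hi

/-- The points of `Z` over which `f` is a closed immersion. -/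
noncomputable def closedZ (f : X ⟶ Y) (p : X ⟶ Z) : Set (Points Z) :=
  injZ f p (pullback.snd f f) (pullback.diagonal f)

theorem isOpen_closedZ (hX : IsAlgSpace X) (hY : IsAlgSpace Y) (hZ : IsAlgSpace Z) (hc : f ≫ q = p)
    (hp1 : LocP @LocallyOfFiniteType p) (hp2 : IsUnivClosedMor p) (hq : IsSeparatedMor q) :
    IsOpen (closedZ f p) := by
  have h1 : ∀ {A B : Sp S} {φ : A ⟶ B}, IsAlgSpace B → IsUnivClosedMor φ → IsClosedMor φ :=
    fun {A B φ} hB h => h hB (𝟙 _) (𝟙 _) φ (IsPullback.of_horiz_isIso ⟨by simp⟩)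
  exact isOpen_injZ hX hY hZ hc hp1 (h1 hZ hp2) (h1 hZ (isUnivClosedMor_comp hX hZ
    (isUnivClosedMor_of_isPullback (IsPullback.of_hasPullback f f) (isUnivClosedMor_left hX hY hZ hc hp2 hq)) hp2))
    (IsPullback.of_hasPullback f f) (pullback.diagonal_fst f) (pullback.diagonal_snd f)

theorem closedImm_iff (hX : IsAlgSpace X) (hY : IsAlgSpace Y) (hZ : IsAlgSpace Z) (hc : f ≫ q = p)
    (hp1 : LocP @LocallyOfFiniteType p) (hp2 : IsUnivClosedMor p) (hq : IsSeparatedMor q)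
    {g : Z' ⟶ Z} {gY : Y' ⟶ Y} {q' : Y' ⟶ Z'} (hY' : IsAlgSpace Y')
    (sY : IsPullback gY q' q g) {gX : X' ⟶ X} {f' : X' ⟶ Y'} (sX : IsPullback gX f' f gY) :
    RepWith @IsClosedImmersion f' ↔ Set.range (Points.map g) ⊆ closedZ f p := by
  have hX' : IsAlgSpace X' := isAlgSpace_of_isPullback sX hX hY' hY
  have hl : LocP @LocallyOfFiniteType f' :=
    locP_of_isPullback sX hX hY hY' (locP_lft_of_comp_eq hZ hc hp1)
  rw [repWith_isClosedImmersion_iff hX' hY', ← unramified_univInj_iff_mono hX' hY' hl,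
    univInjective_iff hX hY hZ hc hp1 (IsPullback.of_hasPullback f f) (pullback.diagonal_fst f)
      (pullback.diagonal_snd f) hY' sY sX]
  exact ⟨fun h => h.2.2, fun h => ⟨isUnivClosedMor_of_isPullback sX
    (isUnivClosedMor_left hX hY hZ hc hp2 hq), hl, h⟩⟩

theorem iso_iff (hX : IsAlgSpace X) (hY : IsAlgSpace Y) (hZ : IsAlgSpace Z) (hc : f ≫ q = p)
    (h1 : LocP @LocallyOfFinitePresentation p) (h2 : LocP @Flat p) (h1' : LocP @LocallyOfFiniteType p)
    (hp : IsUnivClosedMor p) (hq : LocP @LocallyOfFiniteType q) (hqs : IsSeparatedMor q)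
    {g : Z' ⟶ Z} (hZ' : IsAlgSpace Z') {gY : Y' ⟶ Y} {q' : Y' ⟶ Z'} (hY' : IsAlgSpace Y')
    (sY : IsPullback gY q' q g) {gX : X' ⟶ X} {f' : X' ⟶ Y'} (sX : IsPullback gX f' f gY) :
    IsIso f' ↔ Set.range (Points.map g) ⊆ closedZ f p ∩ surjFlatZ f p q := by
  have hX' : IsAlgSpace X' := isAlgSpace_of_isPullback sX hX hY' hY
  rw [Set.subset_inter_iff, ← closedImm_iff hX hY hZ hc h1' hp hqs hY' sY sX,
    ← surjFlat_iff hX hY hZ hc h1 h2 hq hZ' hY' sY sX]
  refine ⟨fun _ => ⟨repWith_of_isIso _ _, isSurjectiveMor_of_isIso f',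
    locP_of_repWith (repWith_of_isIso _ f')⟩, fun ⟨hcl, hs, hfl⟩ => ?_⟩
  have : Mono f' := AlgSpPts.ProperSub.mono_closedImmersion hcl
  exact isIso_of_qc_flat_surjective_mono hX' hY' f' (isProperMor_of_closedImmersion hcl).2.1.2 hfl hs

end Groth.Agent.AlgSpDec.FlatWhere
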