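import Groth.Agent.AlgSpDec.FpqcHom

/-!
# Colimits of algebraic spaces over a base are fpqc local
-/

set_option backward.isDefEq.respectTransparency false
set_option backward.isDefEq.respectTransparency.types false
set_option autoImplicit false

universe w v u

open CategoryTheory CategoryTheory.Limits AlgebraicGeometry AlgSp Groth.Agent.AlgSpLib

namespace Groth.Agent.AlgSpDec.FpqcSheaf

variable {S : Scheme.{u}}

theorem hom_ext_of_baseChange {T D B : Sp S} {ι : Type u} {Ti : ι → Sp S} (g : ∀ i, Ti i ⟶ T)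
    (hB : IsAlgSpace B) (hg : IsFpqcCover Ti g) (f : D ⟶ T) (a b : D ⟶ B)
    (h : ∀ i, pullback.snd (g i) f ≫ a = pullback.snd (g i) f ≫ b) : a = b := by
  refine CategoryTheory.Sheaf.hom_ext (NatTrans.ext (funext fun U => ConcreteCategory.hom_ext _ _ fun s => ?_))
  refine ((isSheaf_fpqc hB).isSeparated _ (liftSieve_mem g hg (U := U.unop) (f.hom.app _ s))).ext fun V φ hφ => ?_
  obtain ⟨i, t, ht⟩ := hφ
  rw [← NatTrans.naturality_apply, ← NatTrans.naturality_apply]
  let e : ∀ {F : Sp S}, F.obj.obj (Opposite.op V) → ((yon S).obj V ⟶ F) := fun x => (J S).uliftYonedaEquiv.symm x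
  have he : ∀ {F G : Sp S} (m : F ⟶ G) (x : F.obj.obj (Opposite.op V)), e x ≫ m = e (m.hom.app _ x) := fun m x =>
    (J S).uliftYonedaEquiv.injective (by
      rw [GrothendieckTopology.uliftYonedaEquiv_comp, Equiv.apply_symm_apply, Equiv.apply_symm_apply])
  let s' := D.obj.map φ.op s
  have hfs : f.hom.app _ s' = (g i).hom.app _ t := by
    rw [ht]; exact NatTrans.naturality_apply f.hom φ.op s
  let p : (yon S).obj V ⟶ pullback (g i) f := pullback.lift (e t) (e s') (by rw [he, he, hfs])
  have h' := congrArg (p ≫ ·) (h i)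
  simp only [p, pullback.lift_snd_assoc, he] at h'
  exact (J S).uliftYonedaEquiv.symm.injective h'

variable {B : AlgSp.Space S} {I : Type v} [Category.{w} I] {D : I ⥤ CategoryTheory.Over B} (c : Cocone D)

/-- The pullback of a diagram to an object over the apex of a cocone. -/
noncomputable def pbObj {W : CategoryTheory.Over B} (w : W ⟶ c.pt) (i : I) : CategoryTheory.Over B :=
  CategoryTheory.Over.mk (Y := ⟨pullback w.left.hom (c.ι.app i).left.hom,
    isAlgSpace_pullback W.left.property (D.obj i).left.property c.pt.left.property _ _⟩)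
    (ObjectProperty.homMk (pullback.fst _ _) ≫ W.hom)

/-- The projection of the pulled back diagram to the base object. -/
noncomputable def pbι {W : CategoryTheory.Over B} (w : W ⟶ c.pt) (i : I) : pbObj c w i ⟶ W :=
  CategoryTheory.Over.homMk (ObjectProperty.homMk (pullback.fst _ _)) rfl

/-- The projection of the pulled back diagram to the diagram. -/
noncomputable def pbα {W : CategoryTheory.Over B} (w : W ⟶ c.pt) (i : I) : pbObj c w i ⟶ D.obj i :=
  CategoryTheory.Over.homMk (ObjectProperty.homMk (pullback.snd _ _)) (by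
    apply ObjectProperty.hom_ext
    show pullback.snd _ _ ≫ (D.obj i).hom.hom = pullback.fst _ _ ≫ W.hom.hom
    rw [← CategoryTheory.Over.w (c.ι.app i), ← CategoryTheory.Over.w w]
    exact (pullback.condition_assoc _).symm)

theorem pbObj_hom_ext {W Z : CategoryTheory.Over B} (w : W ⟶ c.pt) (i : I) (a b : Z ⟶ pbObj c w i)
    (h₁ : a ≫ pbι c w i = b ≫ pbι c w i) (h₂ : a ≫ pbα c w i = b ≫ pbα c w i) : a = b := by
  apply CategoryTheory.Over.OverMorphism.ext
  apply ObjectProperty.hom_ext
  exact pullback.hom_ext (congrArg (fun m : Z ⟶ W => m.left.hom) h₁)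
    (congrArg (fun m : Z ⟶ D.obj i => m.left.hom) h₂)

theorem exists_pbLift {W Z : CategoryTheory.Over B} (w : W ⟶ c.pt) (i : I) (a : Z ⟶ W) (b : Z ⟶ D.obj i)
    (h : a ≫ w = b ≫ c.ι.app i) : ∃ l : Z ⟶ pbObj c w i, l ≫ pbι c w i = a ∧ l ≫ pbα c w i = b := by
  refine ⟨CategoryTheory.Over.homMk (ObjectProperty.homMk (pullback.lift a.left.hom b.left.hom
    (congrArg (fun m : Z ⟶ c.pt => m.left.hom) h))) ?_, ?_, ?_⟩
  · apply ObjectProperty.hom_ext
    show pullback.lift _ _ _ ≫ pullback.fst _ _ ≫ W.hom.hom = Z.hom.hom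
    rw [pullback.lift_fst_assoc]
    exact congrArg (fun m : Z.left ⟶ B => m.hom) (CategoryTheory.Over.w a)
  · apply CategoryTheory.Over.OverMorphism.ext
    apply ObjectProperty.hom_ext
    exact pullback.lift_fst _ _ _
  · apply CategoryTheory.Over.OverMorphism.ext
    apply ObjectProperty.hom_ext
    exact pullback.lift_snd _ _ _

theorem pb_condition {W : CategoryTheory.Over B} (w : W ⟶ c.pt) (i : I) :
    pbι c w i ≫ w = pbα c w i ≫ c.ι.app i :=
  CategoryTheory.Over.OverMorphism.ext (ObjectProperty.hom_ext _ pullback.condition)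

/-- The pulled back diagram. -/
noncomputable def pbFun {W : CategoryTheory.Over B} (w : W ⟶ c.pt) : I ⥤ CategoryTheory.Over B where
  obj := pbObj c w
  map {i j} f := (exists_pbLift c w j (pbι c w i) (pbα c w i ≫ D.map f)
    (by rw [Category.assoc, c.w, pb_condition])).choose
  map_id i := by
    have h := (exists_pbLift c w i (pbι c w i) (pbα c w i ≫ D.map (𝟙 i))
      (by rw [Category.assoc, c.w, pb_condition])).choose_spec
    exact pbObj_hom_ext c w i _ _ (h.1.trans (Category.id_comp _).symm) (h.2.trans (by rw [D.map_id, Category.comp_id]; exact (Category.id_comp _).symm))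
  map_comp {i j k} f g := by
    have h := (exists_pbLift c w k (pbι c w i) (pbα c w i ≫ D.map (f ≫ g))
      (by rw [Category.assoc, c.w, pb_condition])).choose_spec
    have hf := (exists_pbLift c w j (pbι c w i) (pbα c w i ≫ D.map f)
      (by rw [Category.assoc, c.w, pb_condition])).choose_spec
    have hg := (exists_pbLift c w k (pbι c w j) (pbα c w j ≫ D.map g)
      (by rw [Category.assoc, c.w, pb_condition])).choose_spec
    refine pbObj_hom_ext c w k _ _ (by rw [h.1, Category.assoc, hg.1, hf.1]) ?_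
    rw [h.2, Category.assoc, hg.2, reassoc_of% hf.2, CategoryTheory.Functor.map_comp]

theorem pbFun_map {W : CategoryTheory.Over B} (w : W ⟶ c.pt) {i j : I} (f : i ⟶ j) :
    (pbFun c w).map f ≫ pbι c w j = pbι c w i ∧ (pbFun c w).map f ≫ pbα c w j = pbα c w i ≫ D.map f :=
  (exists_pbLift c w j (pbι c w i) (pbα c w i ≫ D.map f) (by rw [Category.assoc, c.w, pb_condition])).choose_spec

/-- The projection of the pulled back diagram as a natural transformation. -/
noncomputable def pbαNat {W : CategoryTheory.Over B} (w : W ⟶ c.pt) : pbFun c w ⟶ D where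
  app := pbα c w
  naturality _ _ f := (pbFun_map c w f).2

/-- The cocone of the pulled back diagram. -/
noncomputable def pbιNat {W : CategoryTheory.Over B} (w : W ⟶ c.pt) : pbFun c w ⟶ (Functor.const I).obj W where
  app := pbι c w
  naturality i j f := ((pbFun_map c w f).1).trans (Category.comp_id _).symm

theorem isPullback_pb {W : CategoryTheory.Over B} (w : W ⟶ c.pt) (i : I) :
    IsPullback (pbι c w i).left.hom (pbα c w i).left.hom w.left.hom (c.ι.app i).left.hom :=
  IsPullback.of_hasPullback _ _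

variable {κ : Type u} (Ua : κ → CategoryTheory.Over B) (ua : ∀ a, Ua a ⟶ c.pt)

theorem isColimit_of_cover (hcov : IsFpqcCover (fun a => (Ua a).left.obj) (fun a => (ua a).left.hom))
    (hc₁ : ∀ a, Nonempty (IsColimit (Cocone.mk (Ua a) (pbιNat c (ua a)))))
    (hc₂ : ∀ (a b : κ) (Uab : CategoryTheory.Over B) (pa : Uab ⟶ Ua a) (pb : Uab ⟶ Ua b),
      IsPullback pa.left.hom pb.left.hom (ua a).left.hom (ua b).left.hom →
      Nonempty (IsColimit (Cocone.mk Uab (pbιNat c (pa ≫ ua a))))) :
    Nonempty (IsColimit c) := by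
  let hc := fun a => (hc₁ a).some
  let sc : Cocone D → ∀ a, Cocone (pbFun c (ua a)) := fun s a => Cocone.mk s.pt (pbαNat c (ua a) ≫ s.ι)
  let m : ∀ (s : Cocone D) (a : κ), Ua a ⟶ s.pt := fun s a => (hc a).desc (sc s a)
  have hm : ∀ (s : Cocone D) a i, pbι c (ua a) i ≫ m s a = pbα c (ua a) i ≫ s.ι.app i :=
    fun s a i => (hc a).fac (sc s a) i
  have hex : ∀ s : Cocone D, ∃ b : c.pt ⟶ s.pt, ∀ a, ua a ≫ b = m s a := by
    intro s
    obtain ⟨b, hb⟩ := exists_hom_of_cover _ s.pt.left.property hcov (fun a => (m s a).left.hom) fun a b => by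
      let Uab : CategoryTheory.Over B := CategoryTheory.Over.mk (Y := (⟨pullback (ua a).left.hom (ua b).left.hom,
        isAlgSpace_pullback (Ua a).left.property (Ua b).left.property c.pt.left.property _ _⟩ : AlgSp.Space S))
        (ObjectProperty.homMk (pullback.fst _ _) ≫ (Ua a).hom)
      let pa : Uab ⟶ Ua a := CategoryTheory.Over.homMk (ObjectProperty.homMk (pullback.fst _ _)) rfl
      let pb : Uab ⟶ Ua b := CategoryTheory.Over.homMk (ObjectProperty.homMk (pullback.snd _ _)) (by
        apply ObjectProperty.hom_ext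
        show pullback.snd _ _ ≫ (Ua b).hom.hom = pullback.fst _ _ ≫ (Ua a).hom.hom
        rw [← CategoryTheory.Over.w (ua a), ← CategoryTheory.Over.w (ua b)]
        exact (pullback.condition_assoc _).symm)
      have hsq : pa ≫ ua a = pb ≫ ua b :=
        CategoryTheory.Over.OverMorphism.ext (ObjectProperty.hom_ext _ pullback.condition)
      obtain ⟨hab⟩ := hc₂ a b Uab pa pb (IsPullback.of_hasPullback _ _)
      have key : pa ≫ m s a = pb ≫ m s b := by
        refine hab.hom_ext fun i => ?_
        obtain ⟨la, ha₁, ha₂⟩ := exists_pbLift c (ua a) i (pbι c (pa ≫ ua a) i ≫ pa) (pbα c (pa ≫ ua a) i)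
          (by rw [Category.assoc, pb_condition])
        obtain ⟨lb, hb₁, hb₂⟩ := exists_pbLift c (ua b) i (pbι c (pa ≫ ua a) i ≫ pb) (pbα c (pa ≫ ua a) i)
          (by rw [Category.assoc, ← hsq, pb_condition])
        show pbι c (pa ≫ ua a) i ≫ pa ≫ m s a = pbι c (pa ≫ ua a) i ≫ pb ≫ m s b
        rw [← reassoc_of% ha₁, ← reassoc_of% hb₁, hm, hm, reassoc_of% ha₂, reassoc_of% hb₂]
      exact congrArg (fun k : Uab ⟶ s.pt => k.left.hom) key
    refine ⟨CategoryTheory.Over.homMk (ObjectProperty.homMk b) (ObjectProperty.hom_ext _ ?_), fun a =>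
      CategoryTheory.Over.OverMorphism.ext (ObjectProperty.hom_ext _ (hb a))⟩
    refine hom_ext_of_cover _ B.property hcov _ _ fun a => ?_
    show (ua a).left.hom ≫ b ≫ s.pt.hom.hom = (ua a).left.hom ≫ c.pt.hom.hom
    rw [← Category.assoc, hb a]
    exact congrArg (fun k : (Ua a).left ⟶ B => k.hom)
      ((CategoryTheory.Over.w (m s a)).trans (CategoryTheory.Over.w (ua a)).symm)
  choose d hd using hex
  refine ⟨{ desc := d, fac := fun s i => ?_, uniq := fun s b hb => ?_ }⟩
  · apply CategoryTheory.Over.OverMorphism.ext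
    apply ObjectProperty.hom_ext
    refine hom_ext_of_baseChange _ s.pt.left.property hcov (c.ι.app i).left.hom _ _ fun a => ?_
    have h : pbα c (ua a) i ≫ c.ι.app i ≫ d s = pbα c (ua a) i ≫ s.ι.app i := by
      rw [← Category.assoc, ← pb_condition, Category.assoc, hd, hm]
    exact congrArg (fun k : pbObj c (ua a) i ⟶ s.pt => k.left.hom) h
  · have h : ∀ a, ua a ≫ b = ua a ≫ d s := fun a => by
      rw [hd]
      refine (hc a).hom_ext fun i => ?_
      show pbι c (ua a) i ≫ ua a ≫ b = pbι c (ua a) i ≫ m s a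
      rw [hm, ← Category.assoc, pb_condition, Category.assoc, hb]
    apply CategoryTheory.Over.OverMorphism.ext
    apply ObjectProperty.hom_ext
    exact hom_ext_of_cover _ s.pt.left.property hcov _ _ fun a =>
      congrArg (fun k : Ua a ⟶ s.pt => k.left.hom) (h a)

end Groth.Agent.AlgSpDec.FpqcSheaf
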