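import Groth.Agent.AlgSpLib.Rep
import Groth.Agent.AlgSpLib.EtLocalInst
import Groth.Agent.EtFound.Descent
import Groth.Agent.DescLib.IndQAEff
import Mathlib.AlgebraicGeometry.Morphisms.LocalFlatDescent
import Mathlib.AlgebraicGeometry.Sites.Fpqc

/-!
# Maps to algebraic spaces descend along faithfully flat quasi-compact morphisms
-/

set_option backward.isDefEq.respectTransparency false
set_option backward.isDefEq.respectTransparency.types false
set_option autoImplicit false

universe u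

open CategoryTheory CategoryTheory.Limits AlgebraicGeometry Opposite AlgSp Groth.Agent.AlgSpLib

namespace Groth.Agent.AlgSpDec.FpqcSheaf

variable {S : Scheme.{u}} {X : Sp S}

/-- Maps to an algebraic space agreeing after a faithfully flat quasi-compact morphism are equal. -/
theorem hom_ext_fpqc (hX : IsAlgSpace X) {W Z : Over S} (c : W ⟶ Z) [Flat c.left] [Surjective c.left]
    [QuasiCompact c.left] (η₁ η₂ : (yon S).obj Z ⟶ X)
    (h : (yon S).map c ≫ η₁ = (yon S).map c ≫ η₂) : η₁ = η₂ := by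
  have hd : Representable (Limits.diag X) := hX.diag
  let d : (yon S).obj Z ⟶ X ⨯ X := prod.lift η₁ η₂
  let e := hd.snd d
  have hw := hd.w d
  have h₁ : hd.fst d = (yon S).map e ≫ η₁ := by
    have := hw =≫ prod.fst
    simpa [d, e] using this
  have h₂ : hd.fst d = (yon S).map e ≫ η₂ := by
    have := hw =≫ prod.snd
    simpa [d, e] using this
  have : Mono ((yon S).map e) := (hd.isPullback d).mono_snd_of_mono
  have : Mono e := (yon S).mono_of_mono_map inferInstance
  obtain ⟨l, hl⟩ : ∃ l : W ⟶ hd.pullback d, l ≫ e = c := by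
    refine ⟨hd.lift ((yon S).map c ≫ η₁) c ?_, Functor.relativelyRepresentable.lift_snd _ _ _ _⟩
    apply prod.hom_ext
    · simp [d]
    · simp only [d, Category.assoc, prod.lift_snd, Category.comp_id]
      exact h
  have : IsSplitEpi (pullback.fst c.left e.left) :=
    ⟨⟨⟨pullback.lift (𝟙 _) l.left (by rw [Category.id_comp, ← Over.comp_left, hl]), pullback.lift_fst _ _ _⟩⟩⟩
  have : IsIso (pullback.fst c.left e.left) := isIso_of_mono_of_isSplitEpi _
  have : IsIso e.left := MorphismProperty.of_isPullback_of_descendsAlong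
    (P := MorphismProperty.isomorphisms Scheme.{u}) (Q := @Surjective ⊓ @Flat ⊓ @QuasiCompact)
    (IsPullback.of_hasPullback c.left e.left) ⟨⟨‹_›, ‹_›⟩, ‹_›⟩ ‹IsIso (pullback.fst c.left e.left)›
  have : IsIso ((Over.forget S).map e) := this
  have : IsIso e := isIso_of_reflects_iso e (Over.forget S)
  rw [← cancel_epi ((yon S).map e), ← h₁, ← h₂]

/-- Gluing maps from an fppf covering family. -/
theorem exists_glue {F : Sp S} {Z : Over S} {ι : Type u} {Y : ι → Over S} (u : ∀ i, Y i ⟶ Z)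
    (hu : ∀ i, Flat (u i).left ∧ LocallyOfFinitePresentation (u i).left)
    (hs : ∀ z : Z.left, ∃ i, z ∈ Set.range (u i).left) (g : ∀ i, (yon S).obj (Y i) ⟶ F)
    (hg : ∀ i j (T : Over S) (a : T ⟶ Y i) (b : T ⟶ Y j), a ≫ u i = b ≫ u j →
      (yon S).map a ≫ g i = (yon S).map b ≫ g j) :
    Sieve.ofArrows Y u ∈ J S Z ∧ ∃ η : (yon S).obj Z ⟶ F, ∀ i, (yon S).map (u i) ≫ η = g i := by
  have hR : Sieve.ofArrows Y u ∈ J S Z := by
    rw [GrothendieckTopology.mem_over_iff]
    refine GrothendieckTopology.superset_covering _ ?_ (Precoverage.generate_mem_toGrothendieck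
      (J := Scheme.fppfPrecoverage) (R := Presieve.ofArrows (fun m => (Y m).left) fun m => (u m).left) ?_)
    · rw [Sieve.generate_le_iff]
      intro Y' w' hw'
      obtain ⟨m⟩ := hw'
      rw [Sieve.overEquiv_iff]
      convert (Sieve.ofArrows _ u).downward_closed (Sieve.ofArrows_mk _ u m)
        (Over.homMk (U := Over.mk ((u m).left ≫ Z.hom)) (𝟙 _) (by simp)) using 1
      ext
      simp
    · rw [Scheme.fppfPrecoverage, Scheme.ofArrows_mem_precoverage_iff]
      exact ⟨hs, hu⟩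
  have hs : Presieve.IsSheafFor F.obj (Presieve.ofArrows _ u) :=
    (Presieve.isSheafFor_iff_generate _).2 (((isSheaf_iff_isSheaf_of_type _ _).1 F.property) _ hR)
  obtain ⟨t, ht, -⟩ := (Presieve.isSheafFor_arrows_iff _ _).1 hs
    (fun w => (J S).uliftYonedaEquiv (g w)) fun i j T a b hab => by
      rw [uliftYonedaEquiv_precomp, uliftYonedaEquiv_precomp, hg i j T a b hab]
  refine ⟨hR, (J S).uliftYonedaEquiv.symm t, fun i => (J S).uliftYonedaEquiv.injective ?_⟩
  rw [← uliftYonedaEquiv_precomp, Equiv.apply_symm_apply, ht]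

section Chart

variable {W Z V P : Over S} {c : W ⟶ Z} {a : (yon S).obj V ⟶ X} {ξ : (yon S).obj W ⟶ X}
  {q : P ⟶ W} {f : P ⟶ V} (sq : IsPullback ((yon S).map f) ((yon S).map q) a ξ)
  (hξ : ∀ (T : Over S) (x₀ x₁ : T ⟶ W), x₀ ≫ c = x₁ ≫ c → (yon S).map x₀ ≫ ξ = (yon S).map x₁ ≫ ξ)

include sq in
theorem point_ext {T : Scheme.{u}} {v v' : T ⟶ P.left} (hq : v ≫ q.left = v' ≫ q.left)
    (hf : v ≫ f.left = v' ≫ f.left) : v = v' := by
  let T' : Over S := Over.mk (v ≫ P.hom)
  let V₁ : T' ⟶ P := Over.homMk v rfl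
  let V₂ : T' ⟶ P := Over.homMk v' (by
    show v' ≫ P.hom = v ≫ P.hom
    rw [← Over.w q, ← Category.assoc, ← hq, Category.assoc])
  have hV : (yon S).map V₁ = (yon S).map V₂ := sq.hom_ext
    (by rw [← Functor.map_comp, ← Functor.map_comp, show V₁ ≫ f = V₂ ≫ f from Over.OverMorphism.ext hf])
    (by rw [← Functor.map_comp, ← Functor.map_comp, show V₁ ≫ q = V₂ ≫ q from Over.OverMorphism.ext hq])
  exact congrArg CommaMorphism.left ((yon S).map_injective hV)

include sq hξ in
theorem exists_point {T : Scheme.{u}} (v : T ⟶ P.left) (x₀ x₁ : T ⟶ W.left) (hv : v ≫ q.left = x₀)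
    (h : x₀ ≫ c.left = x₁ ≫ c.left) : ∃ v' : T ⟶ P.left, v' ≫ q.left = x₁ ∧ v' ≫ f.left = v ≫ f.left := by
  let T' : Over S := Over.mk (v ≫ P.hom)
  let V₁ : T' ⟶ P := Over.homMk v rfl
  let X₁ : T' ⟶ W := Over.homMk x₁ (by
    show x₁ ≫ W.hom = v ≫ P.hom
    rw [← Over.w c, ← Category.assoc, ← h, Category.assoc, Over.w c, ← hv, Category.assoc, Over.w q])
  obtain ⟨k, hk⟩ := (yon S).map_surjective (sq.lift ((yon S).map (V₁ ≫ f)) ((yon S).map X₁) (by
    rw [Functor.map_comp, Category.assoc, sq.w, ← Category.assoc, ← Functor.map_comp]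
    refine hξ T' _ _ (Over.OverMorphism.ext ?_)
    show (v ≫ q.left) ≫ c.left = x₁ ≫ c.left
    rw [hv, h]))
  have hf' : k ≫ f = V₁ ≫ f := (yon S).map_injective (by rw [Functor.map_comp, hk, sq.lift_fst])
  have hq' : k ≫ q = X₁ := (yon S).map_injective (by rw [Functor.map_comp, hk, sq.lift_snd])
  exact ⟨k.left, congrArg CommaMorphism.left hq', congrArg CommaMorphism.left hf'⟩

/-- The point over `x₁` moved from a point over `x₀`. -/
noncomputable def move {T : Scheme.{u}} (x₀ x₁ : T ⟶ W.left) (h : x₀ ≫ c.left = x₁ ≫ c.left)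
    (v : Desc.Lifts (Over.mk q.left) x₀) : Desc.Lifts (Over.mk q.left) x₁ :=
  ⟨(exists_point sq hξ v.1 x₀ x₁ v.2 h).choose, (exists_point sq hξ v.1 x₀ x₁ v.2 h).choose_spec.1⟩

theorem move_f {T : Scheme.{u}} (x₀ x₁ : T ⟶ W.left) (h : x₀ ≫ c.left = x₁ ≫ c.left)
    (v : Desc.Lifts (Over.mk q.left) x₀) : (move sq hξ x₀ x₁ h v).1 ≫ f.left = v.1 ≫ f.left :=
  (exists_point sq hξ v.1 x₀ x₁ v.2 h).choose_spec.2

theorem move_q {T : Scheme.{u}} (x₀ x₁ : T ⟶ W.left) (h : x₀ ≫ c.left = x₁ ≫ c.left)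
    (v : Desc.Lifts (Over.mk q.left) x₀) : (move sq hξ x₀ x₁ h v).1 ≫ q.left = x₁ :=
  (move sq hξ x₀ x₁ h v).2

include sq in
theorem lifts_ext {T : Scheme.{u}} {x : T ⟶ W.left} {v v' : Desc.Lifts (Over.mk q.left) x}
    (h : v.1 ≫ f.left = v'.1 ≫ f.left) : v = v' :=
  Subtype.ext (point_ext sq (v.2.trans v'.2.symm) h)

/-- The descent datum of the pullback of a chart. -/
noncomputable def dd : Desc.SchDD c.left where
  obj := Over.mk q.left
  φ _ x₀ x₁ h :=
    { toFun := move sq hξ x₀ x₁ h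
      invFun := move sq hξ x₁ x₀ h.symm
      left_inv := fun v => lifts_ext sq (by rw [move_f, move_f])
      right_inv := fun v => lifts_ext sq (by rw [move_f, move_f]) }
  φ_natural _ _ g x₀ x₁ h h' v v' hv' := by
    show (move sq hξ (g ≫ x₀) (g ≫ x₁) h' v').1 = g ≫ (move sq hξ x₀ x₁ h v).1
    refine point_ext sq ?_ ?_
    · exact (move_q sq hξ _ _ h' v').trans (((congrArg (g ≫ ·) (move_q sq hξ x₀ x₁ h v)).symm).trans
        (Category.assoc _ _ _).symm)
    · refine (move_f sq hξ _ _ h' v').trans ?_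
      refine (congrArg (· ≫ f.left) hv').trans ?_
      exact (Category.assoc _ _ _).trans (((congrArg (g ≫ ·) (move_f sq hξ x₀ x₁ h v)).symm).trans
        (Category.assoc _ _ _).symm)
  φ_self _ x v := lifts_ext sq (move_f sq hξ x x rfl v)
  φ_comp _ x₀ x₁ x₂ h₀₁ h₁₂ v := lifts_ext sq (((move_f sq hξ x₁ x₂ h₁₂ _).trans (move_f sq hξ x₀ x₁ h₀₁ v)).trans
    (move_f sq hξ x₀ x₂ (h₀₁.trans h₁₂) v).symm)

variable [IsAffine W.left] [IsAffine Z.left] [Flat c.left] [Surjective c.left] [IsAffine V.left] [Etale q.left]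

include sq hξ in
/-- The pullback of an affine etale chart descends to an etale scheme over the base. -/
theorem exists_chart :
    ∃ (Y : Over S) (u : Y ⟶ Z) (β : Y ⟶ V) (q' : P ⟶ Y),
      Etale u.left ∧ q' ≫ β = f ∧ IsPullback q.left q'.left c.left u.left := by
  let m : P.left ⟶ pullback V.hom W.hom := pullback.lift f.left q.left ((Over.w f).trans (Over.w q).symm)
  have : Mono m := ⟨fun v v' hv => point_ext sq
    (by simpa [m] using hv =≫ pullback.snd V.hom W.hom)
    (by simpa [m] using hv =≫ pullback.fst V.hom W.hom)⟩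
  have : IsSeparated V.hom := inferInstance
  have hqs : IsSeparated q.left := by
    rw [← show m ≫ pullback.snd V.hom W.hom = q.left from pullback.lift_snd _ _ _]
    infer_instance
  obtain ⟨U₀, ⟨e⟩⟩ := DescLib.IndQA.effective_indQA_hom c.left (dd sq hξ)
    (MorLib.IQA.indQA_of_locallyQuasiFinite q.left)
  let eo : pullback c.left U₀.hom ≅ P.left :=
    { hom := e.hom.hom.left
      inv := e.inv.hom.left
      hom_inv_id := congrArg CommaMorphism.left (congrArg Desc.SchDD.Hom.hom e.hom_inv_id)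
      inv_hom_id := congrArg CommaMorphism.left (congrArg Desc.SchDD.Hom.hom e.inv_hom_id) }
  have he : eo.inv ≫ pullback.fst c.left U₀.hom = q.left := Over.w e.inv.hom
  let r : P.left ⟶ U₀.left := eo.inv ≫ pullback.snd c.left U₀.hom
  have sqr : IsPullback q.left r c.left U₀.hom := by
    refine (IsPullback.of_hasPullback c.left U₀.hom).of_iso eo (Iso.refl _) (Iso.refl _) (Iso.refl _) ?_ ?_ ?_ ?_
    · rw [← he]; simp
    · simp [r]
    · simp
    · simp
  have hu : Etale U₀.hom := MorphismProperty.of_isPullback_of_descendsAlong (P := @Etale)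
    (Q := @Surjective ⊓ @Flat ⊓ @QuasiCompact) sqr ⟨⟨‹_›, ‹_›⟩, inferInstance⟩ ‹Etale q.left›
  have : Surjective r := MorphismProperty.of_isPullback sqr ‹Surjective c.left›
  have : Flat r := MorphismProperty.of_isPullback sqr ‹Flat c.left›
  have : QuasiCompact r := MorphismProperty.of_isPullback sqr (inferInstance : QuasiCompact c.left)
  obtain ⟨β, hβ⟩ : ∃ β : U₀.left ⟶ V.left, r ≫ β = f.left := by
    suffices h : ∀ {T : Scheme.{u}} (z₀ z₁ : T ⟶ P.left), z₀ ≫ r = z₁ ≫ r → z₀ ≫ f.left = z₁ ≫ f.left from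
      ⟨EffectiveEpi.desc r _ h, EffectiveEpi.fac r _ h⟩
    intro T z₀ z₁ hz
    have hx : (z₀ ≫ q.left) ≫ c.left = (z₁ ≫ q.left) ≫ c.left := by
      simp only [Category.assoc, sqr.w]
      simp only [← Category.assoc, hz]
    let D := dd sq hξ
    let v : Desc.Lifts D.obj (z₀ ≫ q.left) := ⟨z₀, rfl⟩
    have key : _ = (D.φ _ _ hx v).1 ≫ e.inv.hom.left :=
      e.inv.comm (z₀ ≫ q.left) (z₁ ≫ q.left) hx v (e.inv.push v) rfl
    have hs₁ : (D.φ _ _ hx v).1 ≫ q.left = z₁ ≫ q.left := move_q sq hξ _ _ hx v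
    have hs₂ : (D.φ _ _ hx v).1 ≫ f.left = z₀ ≫ f.left := move_f sq hξ _ _ hx v
    have hr : (D.φ _ _ hx v).1 ≫ r = z₀ ≫ r := by
      have key' := congrArg (· ≫ pullback.snd c.left U₀.hom) key
      refine ((Category.assoc _ _ _).symm.trans key'.symm).trans ?_
      show (Desc.canMap c.left U₀ _ _ hx (e.inv.push v)).1 ≫ pullback.snd c.left U₀.hom = z₀ ≫ r
      simp only [Desc.canMap_val, pullback.lift_snd]
      exact Category.assoc _ _ _
    have hz₁ : (D.φ _ _ hx v).1 = z₁ := sqr.hom_ext hs₁ (hr.trans hz)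
    rw [← hz₁]
    exact hs₂.symm
  let Y : Over S := Over.mk (U₀.hom ≫ Z.hom)
  have hrw : r ≫ U₀.hom ≫ Z.hom = P.hom := by
    rw [← Category.assoc, ← sqr.w, Category.assoc, Over.w c]
    exact Over.w q
  have hβw : β ≫ V.hom = U₀.hom ≫ Z.hom := by
    rw [← cancel_epi r, ← Category.assoc, hβ, hrw]
    exact Over.w f
  exact ⟨Y, Over.homMk U₀.hom rfl, Over.homMk β hβw, Over.homMk r hrw, hu, Over.OverMorphism.ext hβ, sqr⟩

end Chart

/-- Maps to an algebraic space descend along faithfully flat morphisms of affine schemes. -/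
theorem exists_desc_fpqc (hX : IsAlgSpace X) {W Z : Over S} (c : W ⟶ Z) [IsAffine W.left] [IsAffine Z.left]
    [Flat c.left] [Surjective c.left] (ξ : (yon S).obj W ⟶ X)
    (hξ : ∀ (T : Over S) (x₀ x₁ : T ⟶ W), x₀ ≫ c = x₁ ≫ c → (yon S).map x₀ ≫ ξ = (yon S).map x₁ ≫ ξ) :
    ∃ η : (yon S).obj Z ⟶ X, (yon S).map c ≫ η = ξ := by
  obtain ⟨U, a, hae, has⟩ := hX.atlas
  -- local descended charts around each point
  have hloc : ∀ z : Z.left, ∃ (Y : Over S) (u : Y ⟶ Z) (g : (yon S).obj Y ⟶ X), Etale u.left ∧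
      z ∈ Set.range u.left ∧
      ∀ (T : Over S) (t : T ⟶ Y) (x : T ⟶ W), t ≫ u = x ≫ c → (yon S).map t ≫ g = (yon S).map x ≫ ξ := by
    intro z
    obtain ⟨w, rfl⟩ := Surjective.surj (f := c.left) z
    obtain ⟨f₀, hf₀⟩ := (yon S).map_surjective (has.rep.fst ξ)
    have hsurj : Surjective (has.rep.snd ξ).left := has.property_snd ξ
    obtain ⟨p, rfl⟩ := Surjective.surj (f := (has.rep.snd ξ).left) w
    obtain ⟨_, ⟨V₀', hV₀, rfl⟩, hmem, -⟩ := U.left.isBasis_affineOpens.exists_subset_of_mem_open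
      (Set.mem_univ (f₀.left p)) isOpen_univ
    let V₀ : U.left.Opens := V₀'
    let V : Over S := Over.mk (V₀.ι ≫ U.hom)
    have : IsAffine V.left := hV₀
    let j : V ⟶ U := Over.homMk V₀.ι rfl
    let aV : (yon S).obj V ⟶ X := (yon S).map j ≫ a
    have haV : RepWith @Etale aV :=
      repWith_comp ((repWith_yon_map_iff _ _).2 (inferInstanceAs (Etale V₀.ι))) hae
    let q := haV.rep.snd ξ
    have : Etale q.left := haV.property_snd ξ
    obtain ⟨f, hf⟩ := (yon S).map_surjective (haV.rep.fst ξ)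
    have sq : IsPullback ((yon S).map f) ((yon S).map q) aV ξ := hf ▸ haV.rep.isPullback ξ
    obtain ⟨Y, u, β, q', hu, hq', hpb⟩ := exists_chart sq hξ
    refine ⟨Y, u, (yon S).map β ≫ aV, hu, ?_, fun T t x htx => ?_⟩
    · let O : (has.rep.pullback ξ).left.Opens := f₀.left ⁻¹ᵁ V₀
      let Ov : Over S := Over.mk (O.ι ≫ (has.rep.pullback ξ).hom)
      let i₀ : Ov ⟶ has.rep.pullback ξ := Over.homMk O.ι rfl
      let i₁ : Ov ⟶ V := Over.homMk (f₀.left.resLE V₀ O le_rfl) (by
        show f₀.left.resLE V₀ O le_rfl ≫ V₀.ι ≫ U.hom = O.ι ≫ (has.rep.pullback ξ).hom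
        rw [← Category.assoc, Scheme.Hom.resLE_comp_ι, Category.assoc, Over.w f₀])
      have hi : i₁ ≫ j = i₀ ≫ f₀ := Over.OverMorphism.ext (Scheme.Hom.resLE_comp_ι _ _)
      obtain ⟨k, hk⟩ := (yon S).map_surjective (sq.lift ((yon S).map i₁)
        ((yon S).map (i₀ ≫ has.rep.snd ξ)) (by
          simp only [aV, ← Category.assoc, ← Functor.map_comp, hi]
          rw [Functor.map_comp, Category.assoc, hf₀, has.rep.w ξ, Functor.map_comp, Category.assoc]))
      have hkq : k ≫ q = i₀ ≫ has.rep.snd ξ :=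
        (yon S).map_injective (by rw [Functor.map_comp, hk, sq.lift_snd])
      let p' : Ov.left := ⟨p, hmem⟩
      refine ⟨q'.left (k.left p'), ?_⟩
      rw [← Scheme.Hom.comp_apply, ← hpb.w, Scheme.Hom.comp_apply]
      refine congrArg _ ?_
      exact (Scheme.Hom.comp_apply k.left q.left p').symm.trans
        (congrArg (fun (m : Ov ⟶ W) => m.left p') hkq)
    · let l : T.left ⟶ (haV.rep.pullback ξ).left := hpb.lift x.left t.left (congrArg CommaMorphism.left htx).symm
      let L : T ⟶ haV.rep.pullback ξ := Over.homMk l (by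
        rw [← Over.w q, ← Category.assoc, show l ≫ q.left = x.left from hpb.lift_fst _ _ _]
        exact Over.w x)
      have h1 : L ≫ q = x := Over.OverMorphism.ext (hpb.lift_fst _ _ _)
      have h2 : L ≫ q' = t := Over.OverMorphism.ext (hpb.lift_snd _ _ _)
      rw [← h1, ← h2]
      simp only [Functor.map_comp, Category.assoc]
      rw [← sq.w, ← hq', Functor.map_comp, Category.assoc]
  choose Y u g hu hz hg using hloc
  have hcompat : ∀ i j (T : Over S) (t : T ⟶ Y i) (t' : T ⟶ Y j), t ≫ u i = t' ≫ u j →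
      (yon S).map t ≫ g i = (yon S).map t' ≫ g j := by
    intro i j T t t' htt
    let c' := pullback.snd c (t ≫ u i)
    have hsq := (IsPullback.of_hasPullback c (t ≫ u i)).map (Over.forget S)
    have : Flat c'.left := MorphismProperty.of_isPullback hsq ‹Flat c.left›
    have : Surjective c'.left := MorphismProperty.of_isPullback hsq ‹Surjective c.left›
    have : QuasiCompact c'.left := MorphismProperty.of_isPullback hsq (inferInstance : QuasiCompact c.left)
    refine hom_ext_fpqc hX c' _ _ ?_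
    rw [← Category.assoc, ← Functor.map_comp, ← Category.assoc, ← Functor.map_comp,
      hg i _ (c' ≫ t) (pullback.fst _ _) (by rw [Category.assoc]; exact pullback.condition.symm),
      hg j _ (c' ≫ t') (pullback.fst _ _) (by
        rw [Category.assoc, ← htt]; exact pullback.condition.symm)]
  obtain ⟨hR, η, hη⟩ := exists_glue u
    (fun i => ⟨(by have := hu i; infer_instance), (by have := hu i; infer_instance)⟩)
    (fun z => ⟨z, hz z⟩) g hcompat
  refine ⟨η, hom_ext_of_covering _ _ ((J S).pullback_stable c hR) fun T φ hφ => ?_⟩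
  obtain ⟨i, k, hk⟩ := (Sieve.mem_ofArrows_iff _ _ _).1 hφ
  rw [← Category.assoc, ← Functor.map_comp, hk, Functor.map_comp, Category.assoc, hη,
    hg i T k φ hk.symm]

end Groth.Agent.AlgSpDec.FpqcSheaf
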