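import Groth.Agent.AlgSpDec.FpqcTotal
import Groth.Agent.AlgSpDec.FpqcSheaf

/-!
# Algebraic spaces are fpqc sheaves
-/

set_option backward.isDefEq.respectTransparency false
set_option backward.isDefEq.respectTransparency.types false
set_option autoImplicit false

universe u

open CategoryTheory CategoryTheory.Limits AlgebraicGeometry Opposite AlgSp Groth.Agent.AlgSpLib

namespace Groth.Agent.AlgSpDec.FpqcSheaf

variable {S : Scheme.{u}} {X : Sp S}

theorem map_symm {Z W : Over S} (c : W ⟶ Z) (s : X.obj.obj (op Z)) :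
    (yon S).map c ≫ (J S).uliftYonedaEquiv.symm s = (J S).uliftYonedaEquiv.symm (X.obj.map c.op s) :=
  (J S).uliftYonedaEquiv.injective (by rw [← uliftYonedaEquiv_precomp, Equiv.apply_symm_apply, Equiv.apply_symm_apply])

/-- An algebraic space is a sheaf for the fpqc topology. -/
theorem isSheaf_fpqc (hX : IsAlgSpace X) : Presieve.IsSheaf (Scheme.fpqcTopology.over S) X.obj := by
  refine Total.isSheaf_of_total X.obj ?_
  rw [Scheme.fpqcTopology_eq_propQCTopology, isSheaf_type_propQCTopology_iff]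
  refine ⟨?_, ?_⟩
  · have hF : Presieve.IsSheaf (Scheme.fppfTopology.over S) X.obj :=
      (isSheaf_iff_isSheaf_of_type _ _).1 X.property
    exact Presieve.isSheaf_of_le _ (Precoverage.toGrothendieck_mono Scheme.zariskiPrecoverage_le_fppfPrecoverage)
      (Total.isSheaf_total X.obj hF)
  intro R A f hfl hsu
  have : Flat (Spec.map f) := hfl
  rw [Presieve.isSheafFor_singleton]
  rintro ⟨w, ξ⟩ hcomp
  obtain ⟨z, hz⟩ : ∃ z : Spec R ⟶ S, Spec.map f ≫ z = w :=
    ⟨EffectiveEpi.desc (Spec.map f) w fun g₁ g₂ h => congrArg Sigma.fst (hcomp g₁ g₂ h), EffectiveEpi.fac _ _ _⟩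
  subst hz
  let Z : Over S := Over.mk z
  let W : Over S := Over.mk (Spec.map f ≫ z)
  let c : W ⟶ Z := Over.homMk (Spec.map f) rfl
  have : IsAffine W.left := inferInstanceAs (IsAffine (Spec A))
  have : IsAffine Z.left := inferInstanceAs (IsAffine (Spec R))
  have : Flat c.left := hfl
  have : Surjective c.left := hsu
  have hξ : ∀ (T : Over S) (x₀ x₁ : T ⟶ W), x₀ ≫ c = x₁ ≫ c →
      (yon S).map x₀ ≫ (J S).uliftYonedaEquiv.symm ξ = (yon S).map x₁ ≫ (J S).uliftYonedaEquiv.symm ξ := by
    intro T x₀ x₁ h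
    rw [map_symm, map_symm]
    refine congrArg _ (Total.secS_injective X.obj ?_)
    rw [← Total.map_secS, ← Total.map_secS]
    exact hcomp x₀.left x₁.left (congrArg CommaMorphism.left h)
  obtain ⟨η, hη⟩ := exists_desc_fpqc hX c _ hξ
  have h₀ : X.obj.map c.op ((J S).uliftYonedaEquiv η) = ξ := by
    rw [uliftYonedaEquiv_precomp, hη, Equiv.apply_symm_apply]
  refine ⟨Total.secS X.obj Z ((J S).uliftYonedaEquiv η), ?_, fun p hp => ?_⟩
  · refine (Total.map_secS X.obj c _).trans ?_
    rw [h₀]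
    rfl
  · have hp' : (Total.total X.obj).map (Spec.map f).op p = ⟨Spec.map f ≫ z, ξ⟩ := hp
    have hp1 : p.1 = z := by
      rw [← cancel_epi (Spec.map f)]
      exact (Total.map_fst X.obj (Spec.map f) p).symm.trans (congrArg Sigma.fst hp')
    obtain ⟨s, rfl⟩ := Total.exists_secS X.obj Z p hp1
    refine congrArg _ ?_
    have h1 : X.obj.map c.op s = ξ := Total.secS_injective X.obj ((Total.map_secS X.obj c s).symm.trans hp')
    show s = ((J S).uliftYonedaEquiv.{u + 1} η)
    refine (J S).uliftYonedaEquiv.{u + 1}.symm.injective ?_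
    rw [Equiv.symm_apply_apply]
    refine hom_ext_fpqc hX c _ _ ?_
    rw [map_symm, h1, hη]

end Groth.Agent.AlgSpDec.FpqcSheaf
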