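import Groth.Prelude.Def_AlgSpCov
import Groth.Agent.AlgSpDec.FpqcIsSheaf
import Groth.Agent.AlgSpDec.Glue

/-!
# Morphisms of algebraic spaces form a sheaf for fpqc coverings
-/

set_option backward.isDefEq.respectTransparency false
set_option backward.isDefEq.respectTransparency.types false
set_option autoImplicit false

universe u

open CategoryTheory CategoryTheory.Limits AlgebraicGeometry Opposite AlgSp Groth.Agent.AlgSpLib

namespace Groth.Agent.AlgSpDec.FpqcSheaf

variable {S : Scheme.{u}}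

/-- A sieve on an affine scheme containing finitely many jointly surjective flat maps from affine schemes covers. -/
theorem mem_fpqc_of_finite_affine {Z : Over S} [IsAffine Z.left] {m : ℕ} (W : Fin m → Over S) (c : ∀ j, W j ⟶ Z)
    (hW : ∀ j, IsAffine (W j).left) (hc : ∀ j, Flat (c j).left) (hs : ∀ z : Z.left, ∃ j, z ∈ Set.range (c j).left)
    (R : Sieve Z) (hR : ∀ j, R (c j)) : R ∈ Scheme.fpqcTopology.over S Z := by
  rw [GrothendieckTopology.mem_over_iff]
  let 𝒰 : Scheme.Cover (Scheme.precoverage @Flat) Z.left :=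
    { I₀ := ULift.{u} (Fin m)
      X := fun j => (W j.down).left
      f := fun j => (c j.down).left
      mem₀ := by
        rw [Scheme.presieve₀_mem_precoverage_iff]
        exact ⟨fun z => ⟨⟨(hs z).choose⟩, (hs z).choose_spec⟩, fun j => hc j.down⟩ }
  have : ∀ j, QuasiCompact (𝒰.f j) := fun j => by
    have : IsAffine (W j.down).left := hW j.down
    exact (inferInstance : QuasiCompact (c j.down).left)
  have : Finite 𝒰.I₀ := inferInstanceAs (Finite (ULift (Fin m)))
  have hq : QuasiCompactCover 𝒰.toPreZeroHypercover := QuasiCompactCover.of_finite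
  refine GrothendieckTopology.superset_covering _ ?_ (Precoverage.generate_mem_toGrothendieck
    (J := Scheme.fpqcPrecoverage) (R := 𝒰.presieve₀) ⟨Scheme.presieve₀_mem_qcPrecoverage_iff.2 hq, 𝒰.mem₀⟩)
  rw [Sieve.generate_le_iff]
  intro Y' w' hw'
  obtain ⟨j⟩ := hw'
  rw [Sieve.overEquiv_iff]
  convert R.downward_closed (hR j.down)
    (Over.homMk (U := Over.mk ((c j.down).left ≫ Z.hom)) (𝟙 _) (by simp)) using 1
  ext
  simp [𝒰]

theorem J_le_fpqc {Z : Over S} {R : Sieve Z} (h : R ∈ J S Z) : R ∈ Scheme.fpqcTopology.over S Z := by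
  rw [GrothendieckTopology.mem_over_iff] at h ⊢
  exact Scheme.fppfTopology_le_fpqcTopology _ h

section Cover

variable {T : Sp S} {ι : Type u} {Ti : ι → Sp S} (g : ∀ i, Ti i ⟶ T)

/-- The restrictions of a section which lift to a member of the family. -/
def liftSieve {U : Over S} (s : T.obj.obj (op U)) : Sieve U where
  arrows V φ := ∃ (i : ι) (t : (Ti i).obj.obj (op V)), (g i).hom.app _ t = T.obj.map φ.op s
  downward_closed := by
    rintro V V' φ ⟨i, t, ht⟩ ψ
    refine ⟨i, (Ti i).obj.map ψ.op t, ?_⟩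
    rw [NatTrans.naturality_apply, ht, op_comp, FunctorToTypes.map_comp_apply]

theorem liftSieve_mem (hg : IsFpqcCover Ti g) {U : Over S} (s : T.obj.obj (op U)) :
    liftSieve g s ∈ Scheme.fpqcTopology.over S U := by
  let 𝒰 := U.left.affineCover
  let inc : ∀ i, Over.mk (𝒰.f i ≫ U.hom) ⟶ U := fun i => CategoryTheory.Over.homMk (𝒰.f i) rfl
  have h𝒰 : Sieve.ofArrows _ inc ∈ J S U := mem_J_of_openCover 𝒰 _ fun i => Sieve.ofArrows_mk _ inc i
  refine GrothendieckTopology.transitive _ (J_le_fpqc h𝒰) _ ?_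
  rintro V φ hφ
  obtain ⟨i, k, rfl⟩ := (Sieve.mem_ofArrows_iff _ _ φ).1 hφ
  rw [Sieve.pullback_comp]
  refine GrothendieckTopology.pullback_stable _ k ?_
  have haff : IsAffine (Over.mk (𝒰.f i ≫ U.hom)).left := inferInstanceAs (IsAffine (Spec _))
  obtain ⟨m, W, c, hW, hc, hs, hl⟩ :=
    hg.2 _ haff ((yon S).map (inc i) ≫ (J S).uliftYonedaEquiv.symm s)
  refine mem_fpqc_of_finite_affine W c hW hc hs _ fun j => ?_
  obtain ⟨k', l, hlk⟩ := hl j
  refine ⟨k', (J S).uliftYonedaEquiv l, ?_⟩
  rw [← GrothendieckTopology.uliftYonedaEquiv_comp, hlk, ← Category.assoc, ← Functor.map_comp,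
    ← uliftYonedaEquiv_precomp, Equiv.apply_symm_apply]

theorem hom_ext_of_cover {B : Sp S} (hB : IsAlgSpace B) (hg : IsFpqcCover Ti g) (a b : T ⟶ B)
    (h : ∀ i, g i ≫ a = g i ≫ b) : a = b := by
  refine CategoryTheory.Sheaf.hom_ext (NatTrans.ext (funext fun U => ConcreteCategory.hom_ext _ _ fun s => ?_))
  refine ((isSheaf_fpqc hB).isSeparated _ (liftSieve_mem g hg (U := U.unop) s)).ext fun V φ hφ => ?_
  obtain ⟨i, t, ht⟩ := hφ
  rw [← NatTrans.naturality_apply, ← NatTrans.naturality_apply, ← ht]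
  exact congrArg (fun (m : Ti i ⟶ B) => m.hom.app _ t) (h i)

theorem exists_hom_of_cover {B : Sp S} (hB : IsAlgSpace B) (hg : IsFpqcCover Ti g) (bi : ∀ i, Ti i ⟶ B)
    (h : ∀ i j, pullback.fst (g i) (g j) ≫ bi i = pullback.snd (g i) (g j) ≫ bi j) :
    ∃ b : T ⟶ B, ∀ i, g i ≫ b = bi i := by
  have hagree : ∀ (i j : ι) (V : Over S) (t : (Ti i).obj.obj (op V)) (t' : (Ti j).obj.obj (op V)),
      (g i).hom.app _ t = (g j).hom.app _ t' → (bi i).hom.app _ t = (bi j).hom.app _ t' := by
    intro i j V t t' htt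
    let e : ∀ {F : Sp S}, F.obj.obj (op V) → ((yon S).obj V ⟶ F) := fun x => (J S).uliftYonedaEquiv.symm x
    have he : ∀ {F G : Sp S} (m : F ⟶ G) (x : F.obj.obj (op V)), e x ≫ m = e (m.hom.app _ x) := fun m x =>
      (J S).uliftYonedaEquiv.injective (by
        rw [GrothendieckTopology.uliftYonedaEquiv_comp, Equiv.apply_symm_apply, Equiv.apply_symm_apply])
    let p : (yon S).obj V ⟶ pullback (g i) (g j) := pullback.lift (e t) (e t') (by rw [he, he, htt])
    have h' := congrArg (p ≫ ·) (h i j)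
    simp only [p, pullback.lift_fst_assoc, pullback.lift_snd_assoc, he] at h'
    exact (J S).uliftYonedaEquiv.symm.injective h'
  have hex : ∀ (U : Over S) (s : T.obj.obj (op U)), ∃! η : B.obj.obj (op U),
      ∀ (V : Over S) (φ : V ⟶ U) (i : ι) (t : (Ti i).obj.obj (op V)),
        (g i).hom.app _ t = T.obj.map φ.op s → B.obj.map φ.op η = (bi i).hom.app _ t := by
    intro U s
    let x : Presieve.FamilyOfElements B.obj (liftSieve g s).arrows := fun V φ hφ =>
      (bi hφ.choose).hom.app _ hφ.choose_spec.choose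
    have hx : ∀ (V : Over S) (φ : V ⟶ U) (hφ : (liftSieve g s).arrows φ) (i : ι) (t : (Ti i).obj.obj (op V)),
        (g i).hom.app _ t = T.obj.map φ.op s → x φ hφ = (bi i).hom.app _ t := fun V φ hφ i t ht =>
      hagree _ _ V _ _ (hφ.choose_spec.choose_spec.trans ht.symm)
    have hxc : x.Compatible := by
      intro V₁ V₂ V k₁ k₂ f₁ f₂ h₁ h₂ hw
      show B.obj.map k₁.op ((bi h₁.choose).hom.app _ h₁.choose_spec.choose) =
        B.obj.map k₂.op ((bi h₂.choose).hom.app _ h₂.choose_spec.choose)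
      rw [← NatTrans.naturality_apply, ← NatTrans.naturality_apply]
      refine hagree _ _ V _ _ ?_
      rw [NatTrans.naturality_apply, NatTrans.naturality_apply, h₁.choose_spec.choose_spec,
        h₂.choose_spec.choose_spec, ← FunctorToTypes.map_comp_apply, ← FunctorToTypes.map_comp_apply, ← op_comp,
        ← op_comp, hw]
    obtain ⟨η, hη, hu⟩ := isSheaf_fpqc hB _ (liftSieve_mem g hg s) x hxc
    exact ⟨η, fun V φ i t ht => (hη φ ⟨i, t, ht⟩).trans (hx V φ _ i t ht),
      fun η' h' => hu η' fun V φ hφ => h' V φ _ _ hφ.choose_spec.choose_spec⟩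
  choose η hη hu using fun U s => hex U s
  let m : T.obj ⟶ B.obj :=
    { app := fun U => TypeCat.ofHom (η U.unop)
      naturality := fun U U' k => ConcreteCategory.hom_ext _ _ fun s => by
        refine (hu U'.unop (T.obj.map k s) (B.obj.map k (η U.unop s)) fun V φ i t ht => ?_).symm
        refine (FunctorToTypes.map_comp_apply B.obj k φ.op _).symm.trans ?_
        exact hη U.unop s V (φ ≫ k.unop) i t (ht.trans (FunctorToTypes.map_comp_apply T.obj k φ.op s).symm) }
  refine ⟨⟨m⟩, fun i => CategoryTheory.Sheaf.hom_ext (NatTrans.ext (funext fun U => ConcreteCategory.hom_ext _ _ fun t => ?_))⟩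
  have h1 := hη U.unop ((g i).hom.app _ t) U.unop (𝟙 _) i t (by simp)
  rw [op_id, FunctorToTypes.map_id_apply] at h1
  exact h1

end Cover

end Groth.Agent.AlgSpDec.FpqcSheaf
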