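import Mathlib.AlgebraicGeometry.Sites.Fpqc
import Mathlib.CategoryTheory.Sites.Over

/-!
# Presheaves on schemes over a base as presheaves on all schemes

To a presheaf `F` on `Over S` we attach the presheaf `T ↦ Σ t : T ⟶ S, F (T, t)` on schemes; `F` is a
sheaf for `K.over S` if and only if this presheaf is a sheaf for `K`, for `K` subcanonical.
-/

set_option backward.isDefEq.respectTransparency false
set_option backward.isDefEq.respectTransparency.types false
set_option autoImplicit false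

universe w u

open CategoryTheory Opposite AlgebraicGeometry

namespace Groth.Agent.AlgSpDec.Total

variable {S : Scheme.{u}} (F : (Over S)ᵒᵖ ⥤ Type w)

/-- A section over an `S`-scheme, as a section of the total presheaf. -/
def secS (Z : Over S) (s : F.obj (op Z)) : Σ t : Z.left ⟶ S, F.obj (op (Over.mk t)) := ⟨Z.hom, s⟩

theorem secS_injective {Z : Over S} {s s' : F.obj (op Z)} (h : secS F Z s = secS F Z s') : s = s' :=
  eq_of_heq (Sigma.mk.inj h).2

theorem exists_secS (Z : Over S) (p : Σ t : Z.left ⟶ S, F.obj (op (Over.mk t))) (h : p.1 = Z.hom) :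
    ∃ s, secS F Z s = p := by
  obtain ⟨t, s⟩ := p
  obtain rfl : t = Z.hom := h
  exact ⟨s, rfl⟩

theorem mk_eq_secS {Z Z' : Over S} (f : Z' ⟶ Z) (s : F.obj (op Z)) (t : Z'.left ⟶ S) (h : t = Z'.hom)
    (m : Over.mk t ⟶ Z) (hm : m.left = f.left) :
    (⟨t, F.map m.op s⟩ : Σ t : Z'.left ⟶ S, F.obj (op (Over.mk t))) = secS F Z' (F.map f.op s) := by
  subst h
  obtain rfl : m = f := Over.OverMorphism.ext hm
  rfl

/-- The total presheaf on schemes of a presheaf on schemes over `S`. -/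
def total : Scheme.{u}ᵒᵖ ⥤ Type (max u w) where
  obj T := Σ t : T.unop ⟶ S, F.obj (op (Over.mk t))
  map g := TypeCat.ofHom fun p => ⟨g.unop ≫ p.1,
    F.map (Over.homMk g.unop rfl : Over.mk (g.unop ≫ p.1) ⟶ Over.mk p.1).op p.2⟩
  map_id T := by
    refine ConcreteCategory.hom_ext _ _ fun p => ?_
    refine (mk_eq_secS F (𝟙 (Over.mk p.1)) p.2 _ (Category.id_comp p.1) _ rfl).trans ?_
    simp [secS]
  map_comp {X Y Z} g h := by
    refine ConcreteCategory.hom_ext _ _ fun p => ?_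
    let Y' : Over S := Over.mk (g.unop ≫ p.1)
    let Z' : Over S := Over.mk (h.unop ≫ Y'.hom)
    let a : Y' ⟶ Over.mk p.1 := Over.homMk g.unop rfl
    let b : Z' ⟶ Y' := Over.homMk h.unop rfl
    refine (mk_eq_secS F (b ≫ a) p.2 _ (Category.assoc _ _ _) _ rfl).trans ?_
    simp only [op_comp, FunctorToTypes.map_comp_apply]
    rfl

theorem map_secS {Z Z' : Over S} (f : Z' ⟶ Z) (s : F.obj (op Z)) :
    (total F).map f.left.op (secS F Z s) = secS F Z' (F.map f.op s) :=
  mk_eq_secS F f s _ (Over.w f) _ rfl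

theorem map_fst {T T' : Scheme.{u}} (g : T' ⟶ T) (p : (total F).obj (op T)) :
    ((total F).map g.op p).1 = g ≫ p.1 := rfl

variable {K : GrothendieckTopology Scheme.{u}} [K.Subcanonical]

/-- A sheaf over `S` gives a sheaf on all schemes. -/
theorem isSheaf_total (hF : Presieve.IsSheaf (K.over S) F) : Presieve.IsSheaf K (total F) := by
  intro T R hR y hy
  have hyS := GrothendieckTopology.Subcanonical.isSheaf_of_isRepresentable (J := K) (yoneda.obj S) R hR
  obtain ⟨t, ht, htu⟩ := hyS (fun Y g hg => (y g hg).1) fun Y₁ Y₂ Z g₁ g₂ f₁ f₂ h₁ h₂ hw => by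
    have := congrArg Sigma.fst (hy g₁ g₂ h₁ h₂ hw)
    exact this
  let Z : Over S := Over.mk t
  let R' : Sieve Z := (Sieve.overEquiv Z).symm R
  have hR' : R' ∈ (K.over S) Z := K.overEquiv_symm_mem_over Z R hR
  have hR'' : ∀ {Y : Over S} (φ : Y ⟶ Z), R' φ → R φ.left := fun φ hφ => hφ
  choose x hx using fun (Y : Over S) (φ : Y ⟶ Z) (hφ : R' φ) =>
    exists_secS F Y (y φ.left (hR'' φ hφ)) ((ht φ.left (hR'' φ hφ)).symm.trans (Over.w φ))
  let xf : Presieve.FamilyOfElements F R'.arrows := fun Y φ hφ => x Y φ hφ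
  have hxc : xf.Compatible := by
    intro Y₁ Y₂ W g₁ g₂ f₁ f₂ h₁ h₂ hw
    refine secS_injective F ?_
    show secS F W (F.map g₁.op (x Y₁ f₁ h₁)) = secS F W (F.map g₂.op (x Y₂ f₂ h₂))
    rw [← map_secS, ← map_secS, hx, hx]
    exact hy _ _ _ _ (congrArg CommaMorphism.left hw)
  obtain ⟨s, hs, hsu⟩ := hF R' hR' _ hxc
  refine ⟨secS F Z s, fun Y g hg => ?_, fun p hp => ?_⟩
  · let φ : Over.mk (g ≫ t) ⟶ Z := Over.homMk g rfl
    have hφ : R' φ := hg
    refine (map_secS F φ s).trans ?_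
    rw [hs φ hφ]
    exact (hx _ φ hφ).trans rfl
  · have hp1 : p.1 = t := htu p.1 fun Y g hg => (map_fst F g p).symm.trans (congrArg Sigma.fst (hp g hg))
    obtain ⟨s', rfl⟩ := exists_secS F Z p hp1
    congr 1
    refine hsu s' fun Y φ hφ => secS_injective F ?_
    show secS F Y (F.map φ.op s') = secS F Y (x Y φ hφ)
    rw [← map_secS, hx]
    exact hp φ.left (hR'' φ hφ)

/-- A presheaf over `S` whose total presheaf is a sheaf is a sheaf. -/
theorem isSheaf_of_total (hF : Presieve.IsSheaf K (total F)) : Presieve.IsSheaf (K.over S) F := by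
  intro Z R hR x hx
  have hR₀ : Sieve.overEquiv Z R ∈ K Z.left := (K.mem_over_iff _).1 hR
  have hmem : ∀ {Y : Scheme.{u}} (g : Y ⟶ Z.left), Sieve.overEquiv Z R g →
      R (Over.homMk g rfl : Over.mk (g ≫ Z.hom) ⟶ Z) := fun g hg => (Sieve.overEquiv_iff _ g).1 hg
  let y : Presieve.FamilyOfElements (total F) (Sieve.overEquiv Z R).arrows := fun Y g hg =>
    secS F (Over.mk (g ≫ Z.hom)) (x _ (hmem g hg))
  have key : ∀ {Y : Over S} (φ : Y ⟶ Z) (hφ : R φ) (h' : Sieve.overEquiv Z R φ.left),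
      y φ.left h' = secS F Y (x φ hφ) := by
    intro Y φ hφ h'
    let i : Y ⟶ Over.mk (φ.left ≫ Z.hom) := Over.homMk (𝟙 _) (by
      show 𝟙 _ ≫ φ.left ≫ Z.hom = Y.hom
      rw [Category.id_comp]; exact Over.w φ)
    have hi : i.left = 𝟙 Y.left := rfl
    have h1 := map_secS F i (x _ (hmem φ.left h'))
    rw [hi, show ((total F).map (𝟙 Y.left).op) = 𝟙 _ from (total F).map_id _] at h1
    refine h1.trans (congrArg _ ?_)
    have h2 := hx i (𝟙 Y) (hmem φ.left h') hφ (Over.OverMorphism.ext (by simp [i]))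
    rwa [op_id, FunctorToTypes.map_id_apply] at h2
  have hy : y.Compatible := by
    intro Y₁ Y₂ W g₁ g₂ f₁ f₂ h₁ h₂ hw
    let W' : Over S := Over.mk (g₁ ≫ f₁ ≫ Z.hom)
    let a₁ : W' ⟶ Over.mk (f₁ ≫ Z.hom) := Over.homMk g₁ rfl
    let a₂ : W' ⟶ Over.mk (f₂ ≫ Z.hom) := Over.homMk g₂ (by
      show g₂ ≫ f₂ ≫ Z.hom = g₁ ≫ f₁ ≫ Z.hom
      rw [← Category.assoc, ← hw, Category.assoc])
    show (total F).map a₁.left.op (secS F _ _) = (total F).map a₂.left.op (secS F _ _)
    rw [map_secS, map_secS]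
    exact congrArg _ (hx a₁ a₂ _ _ (Over.OverMorphism.ext hw))
  obtain ⟨p, hp, hpu⟩ := hF _ hR₀ y hy
  have hp1 : p.1 = Z.hom :=
    (GrothendieckTopology.Subcanonical.isSheaf_of_isRepresentable (J := K) (yoneda.obj S) _ hR₀).isSeparatedFor.ext
      fun Y g hg => (map_fst F g p).symm.trans (congrArg Sigma.fst (hp g hg))
  obtain ⟨s, rfl⟩ := exists_secS F Z p hp1
  refine ⟨s, fun Y φ hφ => secS_injective F ?_, fun s' hs' => secS_injective F (hpu _ fun Y g hg => ?_)⟩
  · have h' : Sieve.overEquiv Z R φ.left := by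
      rw [Sieve.overEquiv_iff]
      let i : Over.mk (φ.left ≫ Z.hom) ⟶ Y := Over.homMk (𝟙 _) (by
        show 𝟙 _ ≫ Y.hom = φ.left ≫ Z.hom
        rw [Category.id_comp]; exact (Over.w φ).symm)
      convert R.downward_closed hφ i using 1
      exact Over.OverMorphism.ext (by simp [i])
    rw [← map_secS, hp φ.left h', key φ hφ h']
  · refine (map_secS F (Over.homMk g rfl : Over.mk (g ≫ Z.hom) ⟶ Z) s').trans ?_
    rw [hs' _ (hmem g hg)]

end Groth.Agent.AlgSpDec.Total
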