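import Groth.Agent.AlgSpLib.Points
import Groth.Agent.AlgSpLib.EtLocalInst
import Groth.Agent.AlgSpPts.Univ
import Groth.Agent.AlgSpDec.MonoRep
import Groth.Agent.FBaseLib.Components
import Mathlib.FieldTheory.PurelyInseparable.Basic
import Mathlib.FieldTheory.IsSepClosed
import Mathlib.LinearAlgebra.TensorProduct.Finiteness

/-! Connectedness of base changes of algebraic spaces along field extensions. -/

set_option autoImplicit false
set_option backward.isDefEq.respectTransparency false
set_option backward.isDefEq.respectTransparency.types false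

open CategoryTheory Limits Opposite AlgebraicGeometry MorphismProperty AlgSp Groth.Agent.AlgSpLib
  Groth.Agent.AlgSpPts TensorProduct

namespace Groth.Agent.AlgSpDec.GeomConn

universe u

theorem connectedSpace_of_fibres {A B : Type*} [TopologicalSpace A] [TopologicalSpace B] {f : A → B}
    (ho : IsOpenMap f) (hs : Function.Surjective f) (hfib : ∀ b, IsPreconnected (f ⁻¹' {b}))
    (h : ConnectedSpace B) : ConnectedSpace A := by
  have : Nonempty A := h.toNonempty.map fun b => (hs b).choose
  refine { toPreconnectedSpace := preconnectedSpace_iff_clopen.2 fun s hsc => ?_, toNonempty := this }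
  have hsat : ∀ a a', f a = f a' → a ∈ s → a' ∈ s := fun a a' he ha =>
    (hfib (f a)).subset_isClopen hsc ⟨a, rfl, ha⟩ (show a' ∈ f ⁻¹' {f a} from he.symm)
  have hc : (f '' s)ᶜ = f '' sᶜ := by
    ext b
    obtain ⟨a, rfl⟩ := hs b
    constructor
    · exact fun hb => ⟨a, fun ha => hb ⟨a, ha, rfl⟩, rfl⟩
    · rintro ⟨a', ha', he⟩ ⟨a'', ha'', he'⟩
      exact ha' (hsat a'' a' (he'.trans he.symm) ha'')
  have hcl : IsClopen (f '' s) :=
    ⟨⟨hc ▸ ho _ hsc.1.isOpen_compl⟩, ho _ hsc.2⟩
  rcases preconnectedSpace_iff_clopen.1 h.toPreconnectedSpace _ hcl with he | he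
  · exact Or.inl (Set.image_eq_empty.1 he)
  · refine Or.inr (Set.eq_univ_of_forall fun a => ?_)
    obtain ⟨a', ha', he'⟩ := he.symm ▸ Set.mem_univ (f a)
    exact hsat a' a he' ha'

variable {k : Type u} [Field k]

noncomputable abbrev pt (k : Type u) [Field k] (K : Type u) [Field K] [Algebra k K] : Over (Spec (CommRingCat.of k)) :=
  Over.mk (Spec.map (CommRingCat.ofHom (algebraMap k K)))

/-- The morphism induced by a tower of fields. -/
noncomputable abbrev fieldHom (k L M : Type u) [Field k] [Field L] [Field M] [Algebra k L] [Algebra k M] [Algebra L M]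
    [IsScalarTower k L M] : pt k M ⟶ pt k L :=
  Over.homMk (Spec.map (CommRingCat.ofHom (algebraMap L M))) (by
    simp only [CategoryTheory.Over.mk_hom]
    rw [← Spec.map_comp, ← CommRingCat.ofHom_comp, ← IsScalarTower.algebraMap_eq])

variable (X : Sp (Spec (CommRingCat.of k))) {L M : Type u} [Field L] [Field M] [Algebra k L] [Algebra k M]
  [Algebra L M] [IsScalarTower k L M]

noncomputable abbrev q (L M : Type u) [Field L] [Field M] [Algebra k L] [Algebra k M]
    [Algebra L M] [IsScalarTower k L M] : X ⨯ (yon _).obj (pt k M) ⟶ X ⨯ (yon _).obj (pt k L) :=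
  prod.map (𝟙 X) ((yon _).map (fieldHom k L M))

theorem isPullback_q : IsPullback (prod.snd : X ⨯ (yon _).obj (pt k M) ⟶ _) (q X L M)
      ((yon _).map (fieldHom k L M)) (prod.snd : X ⨯ (yon _).obj (pt k L) ⟶ _) :=
  ⟨⟨by simp [q]⟩, ⟨PullbackCone.IsLimit.mk _ (fun s => prod.lift (s.snd ≫ prod.fst) s.fst)
    (fun s => by simp) (fun s => by apply Limits.prod.hom_ext <;> simp [q, s.condition])
    (fun s l h1 h2 => by
      apply Limits.prod.hom_ext
      · have := h2 =≫ prod.fst
        simpa [q] using this
      · simpa using h1)⟩⟩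

theorem repWith_q {P : MorphismProperty Scheme.{u}} [P.IsStableUnderBaseChange]
    (h : P (Spec.map (CommRingCat.ofHom (algebraMap L M)))) : RepWith P (q X L M) :=
  repWith_of_isPullback (isPullback_q X) ((repWith_yon_map_iff _ (fieldHom k L M)).2 h)

theorem isOpenMap_q : IsOpenMap (Points.map (q X L M)) := by
  refine isOpenMap_map (repWith_q X ?_)
  have : IsIntegral (Spec (CommRingCat.of L)) := inferInstance
  have : Subsingleton ↥(Spec (CommRingCat.of L)) := inferInstanceAs (Subsingleton (PrimeSpectrum L))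
  infer_instance

theorem surjective_q : Function.Surjective (Points.map (q X L M)) :=
  surjective_map_of_isPullback (isPullback_q X) (surjective_map_of_repWith ((repWith_yon_map_iff _ _).2
    (⟨fun x => ⟨IsLocalRing.closedPoint M, Subsingleton.elim (α := PrimeSpectrum L) _ _⟩⟩ :
      Surjective (Spec.map (CommRingCat.ofHom (algebraMap L M))))))

theorem isPreconnected_fibre [IsAlgClosed L] (x : Points (X ⨯ (yon _).obj (pt k L))) :
    IsPreconnected (Points.map (q X L M) ⁻¹' {x}) := by
  induction x using Points.ind with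
  | h p =>
    have hr : (yon _).relativelyRepresentable (q X L M) :=
      (repWith_q (P := ⊤) X trivial).rep
    let g := p.toHom
    let W := hr.pullback g
    have sqW : IsPullback (hr.fst g) ((yon _).map (hr.snd g)) (q X L M) g := hr.isPullback g
    obtain ⟨φ, hφ⟩ := (yon (Spec (CommRingCat.of k))).map_surjective (g ≫ prod.snd)
    obtain ⟨ψ, hψ⟩ := (yon (Spec (CommRingCat.of k))).map_surjective (hr.fst g ≫ prod.snd)
    have big := sqW.paste_horiz (isPullback_q X)
    rw [← hφ, ← hψ] at big
    have sq := isPullback_of_yon big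
    have : IrreducibleSpace ↥p.pt.left := inferInstanceAs (IrreducibleSpace (PrimeSpectrum p.K))
    have h1 : IrreducibleSpace ↥(pullback φ.left (Spec.map (CommRingCat.ofHom (algebraMap L M)))) :=
      GrpSchLib.irreducibleSpace_pullback_of_isAlgClosed φ.left (algebraMap L M)
    have h2 : IrreducibleSpace ↥W.left := sq.flip.isoPullback.hom.homeomorph.irreducibleSpace_iff.mpr h1
    have hsub : ∀ t : ↥p.pt.left, Points.ofPt g t = Points.mk p := fun t => Points.ofPt_toHom p t
    have he : Points.map (q X L M) ⁻¹' {Points.mk p} = Set.range (Points.ofPt (hr.fst g)) := by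
      ext z
      constructor
      · intro hz
        obtain ⟨w, hw, -⟩ := exists_lift sqW (x := z) (t := IsLocalRing.closedPoint p.K)
          ((Set.mem_singleton_iff.1 hz).trans (hsub _).symm)
        exact ⟨w, hw⟩
      · rintro ⟨w, rfl⟩
        exact (map_ofPt_fst sqW w).trans (hsub _)
    rw [he]
    exact isPreconnected_range (Points.continuous_ofPt _)

theorem connected_of_algClosed [IsAlgClosed L] (h : ConnectedSpace (Points (X ⨯ (yon _).obj (pt k L)))) :
    ConnectedSpace (Points (X ⨯ (yon _).obj (pt k M))) :=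
  connectedSpace_of_fibres (isOpenMap_q (L := L) X) (surjective_q X) (isPreconnected_fibre X) h

theorem connected_of_surj (h : ConnectedSpace (Points (X ⨯ (yon _).obj (pt k M)))) :
    ConnectedSpace (Points (X ⨯ (yon _).obj (pt k L))) :=
  (surjective_q (L := L) (M := M) X).connectedSpace (Points.continuous_map _)

theorem universallyInjective_purelyInseparable [IsPurelyInseparable L M] :
    UniversallyInjective (Spec.map (CommRingCat.ofHom (algebraMap L M))) := by
  refine (((tfae_universallyInjective _).out 1 0 rfl rfl) :).1 fun K _ g₁ g₂ hg => ?_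
  obtain ⟨φ₁, rfl⟩ := Spec.map_surjective g₁
  obtain ⟨φ₂, rfl⟩ := Spec.map_surjective g₂
  simp only [← Spec.map_comp] at hg
  have h := congrArg CommRingCat.Hom.hom (Spec.map_injective hg)
  congr 1
  exact CommRingCat.hom_ext (IsPurelyInseparable.injective_comp_algebraMap L M K h)

theorem connected_of_purelyInseparable [IsPurelyInseparable L M]
    (h : ConnectedSpace (Points (X ⨯ (yon _).obj (pt k L)))) :
    ConnectedSpace (Points (X ⨯ (yon _).obj (pt k M))) := by
  refine connectedSpace_of_fibres (isOpenMap_q (L := L) X) (surjective_q X) (fun b => ?_) h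
  refine Set.Subsingleton.isPreconnected fun a ha a' ha' => ?_
  refine injective_map (repWith_mono (fun A B f (hf : UniversallyInjective f) => f.injective) _
    (repWith_q X (universallyInjective_purelyInseparable (L := L) (M := M)))) ?_
  exact (Set.mem_singleton_iff.1 ha).trans (Set.mem_singleton_iff.1 ha').symm

theorem connected_all (Ω : Type u) [Field Ω] [Algebra k Ω] [IsSepClosed Ω]
    (h : ConnectedSpace (Points (X ⨯ (yon _).obj (pt k Ω)))) (K : Type u) [Field K] [Algebra k K] :
    ConnectedSpace (Points (X ⨯ (yon _).obj (pt k K))) := by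
  let Ω' := AlgebraicClosure Ω
  have h' := connected_of_purelyInseparable X (L := Ω) (M := Ω') h
  obtain ⟨N, iN, ikN, iKN, iΩN, t1, t2⟩ := Groth.Agent.FBaseLib.exists_field_compositum (k := k) K Ω'
  have hN := connected_of_algClosed X (L := Ω') (M := N) h'
  exact connected_of_surj X (L := K) (M := N) hN

omit [Field L] [Field M] [Algebra k L] [Algebra k M] in
/-- Points of the base change to an algebraic extension have neighbourhoods defined over a finite
subextension. -/
theorem exists_finite_level (K : Type u) [Field K] [Algebra k K] [Algebra.IsAlgebraic k K]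
    (R : Type u) [CommRing R] [Algebra k R]
    (V : Set ↥(pullback (Spec.map (CommRingCat.ofHom (algebraMap k R)))
      (Spec.map (CommRingCat.ofHom (algebraMap k K))))) (hV : IsOpen V)
    (z : ↥(pullback (Spec.map (CommRingCat.ofHom (algebraMap k R)))
      (Spec.map (CommRingCat.ofHom (algebraMap k K))))) (hz : z ∈ V) :
    ∃ E : IntermediateField k K, FiniteDimensional k E ∧
      ∃ D : Set ↥(pullback (Spec.map (CommRingCat.ofHom (algebraMap k R)))
            (Spec.map (CommRingCat.ofHom (algebraMap k E)))), IsOpen D ∧ ∀ (m : pullback (Spec.map (CommRingCat.ofHom (algebraMap k R)))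
            (Spec.map (CommRingCat.ofHom (algebraMap k K))) ⟶
          pullback (Spec.map (CommRingCat.ofHom (algebraMap k R)))
            (Spec.map (CommRingCat.ofHom (algebraMap k E)))),
        m ≫ pullback.fst _ _ = pullback.fst _ _ →
        m ≫ pullback.snd _ _ = pullback.snd _ _ ≫ Spec.map (CommRingCat.ofHom (algebraMap E K)) →
        m z ∈ D ∧ ∀ w, m w ∈ D → w ∈ V := by
  obtain ⟨A, hA, hzA, hAV⟩ := PrimeSpectrum.isTopologicalBasis_basic_opens.exists_subset_of_mem_open
    (show (pullbackSpecIso k R K).hom z ∈ (pullbackSpecIso k R K).inv ⁻¹' V by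
      change (pullbackSpecIso k R K).inv ((pullbackSpecIso k R K).hom z) ∈ V
      rwa [← Scheme.Hom.comp_apply, Iso.hom_inv_id])
    (hV.preimage (pullbackSpecIso k R K).inv.continuous)
  obtain ⟨f, rfl⟩ := hA
  obtain ⟨T, hT⟩ := TensorProduct.exists_finset (R := k) f
  let E : IntermediateField k K := IntermediateField.adjoin k ((fun p : Prod R K => p.2) '' (↑T : Set _))
  have : Finite ↥((fun p : Prod R K => p.2) '' (↑T : Set _)) := (T.finite_toSet.image _).to_subtype
  have hfin : FiniteDimensional k E := IntermediateField.finiteDimensional_adjoin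
    fun x _ => Algebra.IsIntegral.isIntegral x
  let g : R ⊗[k] E →ₐ[k] R ⊗[k] K :=
    Algebra.TensorProduct.map (AlgHom.id k R) E.val
  obtain ⟨f', hf'⟩ : ∃ f', g f' = f := by
    refine ⟨∑ p ∈ T.attach, p.1.1 ⊗ₜ[k] (⟨p.1.2, IntermediateField.subset_adjoin k _ ⟨p.1, p.2, rfl⟩⟩ : E), ?_⟩
    rw [map_sum, hT, ← Finset.sum_attach T fun p => p.1 ⊗ₜ[k] p.2]
    refine Finset.sum_congr rfl fun p _ => ?_
    simp [g]
  refine ⟨E, hfin, (pullbackSpecIso k R E).hom ⁻¹' (↑(PrimeSpectrum.basicOpen f') : Set (PrimeSpectrum _)),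
    (PrimeSpectrum.basicOpen f').isOpen.preimage (pullbackSpecIso k R E).hom.continuous, fun m hm1 hm2 => ?_⟩
  have key : (pullbackSpecIso k R K).inv ≫ m =
      Spec.map (CommRingCat.ofHom g.toRingHom) ≫ (pullbackSpecIso k R E).inv := by
    apply pullback.hom_ext
    · rw [Category.assoc, Category.assoc, hm1, pullbackSpecIso_inv_fst, pullbackSpecIso_inv_fst,
        ← Spec.map_comp, ← CommRingCat.ofHom_comp]
      congr 2
    · rw [Category.assoc, Category.assoc, hm2, pullbackSpecIso_inv_snd_assoc, pullbackSpecIso_inv_snd,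
        ← Spec.map_comp, ← Spec.map_comp, ← CommRingCat.ofHom_comp, ← CommRingCat.ofHom_comp]
      congr 2
  have hpre : ∀ v, ((pullbackSpecIso k R K).hom v ∈ (↑(PrimeSpectrum.basicOpen f) : Set (PrimeSpectrum _))) ↔
      (pullbackSpecIso k R E).hom (m v) ∈ (↑(PrimeSpectrum.basicOpen f') : Set (PrimeSpectrum _)) := fun v => by
    have e1 : (pullbackSpecIso k R E).hom (m v) =
        Spec.map (CommRingCat.ofHom g.toRingHom) ((pullbackSpecIso k R K).hom v) := by
      have e2 : m ≫ (pullbackSpecIso k R E).hom =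
          (pullbackSpecIso k R K).hom ≫ Spec.map (CommRingCat.ofHom g.toRingHom) := by
        rw [← Iso.inv_comp_eq, ← Category.assoc, key, Category.assoc, Iso.inv_hom_id, Category.comp_id]
      exact congrArg (fun h : _ ⟶ Spec (CommRingCat.of (R ⊗[k] E)) => h v) e2
    rw [e1]
    change f ∉ _ ↔ f' ∉ Ideal.comap _ _
    rw [Ideal.mem_comap, ← hf']
    rfl
  refine ⟨(hpre z).1 hzA, fun w hw => ?_⟩
  have hw' := hAV ((hpre w).2 hw)
  change (pullbackSpecIso k R K).inv ((pullbackSpecIso k R K).hom w) ∈ V at hw'
  rwa [← Scheme.Hom.comp_apply, Iso.hom_inv_id] at hw'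

variable {X}

/-- The chart of the base change attached to a chart. -/
noncomputable abbrev bcChart {T : Over (Spec (CommRingCat.of k))} (a : (yon _).obj T ⟶ X) (K : Type u) [Field K]
    [Algebra k K] :
    (yon _).obj (Over.mk (pullback.fst T.hom (pt k K).hom ≫ T.hom)) ⟶ X ⨯ (yon _).obj (pt k K) :=
  prod.lift ((yon _).map (Over.homMk (pullback.fst T.hom (pt k K).hom) rfl) ≫ a)
    ((yon _).map (Over.homMk (pullback.snd T.hom (pt k K).hom) pullback.condition.symm))

theorem isPullback_bcChart {T : Over (Spec (CommRingCat.of k))} (a : (yon _).obj T ⟶ X) (K : Type u) [Field K]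
    [Algebra k K] :
    IsPullback (bcChart a K) ((yon _).map (Over.homMk (pullback.fst T.hom (pt k K).hom) rfl))
      prod.fst a := by
  let Sb := Spec (CommRingCat.of k)
  let O : Over Sb := Over.mk (𝟙 Sb)
  have ht : IsTerminal ((yon Sb).obj O) := IsTerminal.isTerminalObj (yon Sb) O Over.mkIdTerminal
  let P : Over Sb := Over.mk (pullback.fst T.hom (pt k K).hom ≫ T.hom)
  let p1 : P ⟶ T := Over.homMk (pullback.fst T.hom (pt k K).hom) rfl
  let p2 : P ⟶ pt k K := Over.homMk (pullback.snd T.hom (pt k K).hom) pullback.condition.symm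
  let tT : T ⟶ O := Over.homMk T.hom (Category.comp_id _)
  let tK : pt k K ⟶ O := Over.homMk (pt k K).hom (Category.comp_id _)
  have sqO : IsPullback p1 p2 tT tK :=
    IsPullback.of_map (Over.forget Sb) (Over.OverMorphism.ext pullback.condition)
      (IsPullback.of_hasPullback T.hom (pt k K).hom)
  have sqY := sqO.map (yon Sb)
  refine ⟨⟨by simp [bcChart]⟩, ⟨PullbackCone.IsLimit.mk _
    (fun s => sqY.lift s.snd (s.fst ≫ prod.snd) (ht.hom_ext _ _)) (fun s => ?_)
    (fun s => sqY.lift_fst _ _ _) (fun s l h1 h2 => sqY.hom_ext ?_ ?_)⟩⟩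
  · apply Limits.prod.hom_ext
    · simp only [bcChart, Category.assoc, prod.lift_fst]
      rw [sqY.lift_fst_assoc, s.condition]
    · simp only [bcChart, Category.assoc, prod.lift_snd]
      exact sqY.lift_snd _ _ _
  · rw [sqY.lift_fst]
    exact h2
  · rw [sqY.lift_snd, ← h1]
    simp [bcChart, p2, P, Sb]

omit [Field L] [Field M] [Algebra k L] [Algebra k M] in
theorem connected_of_finite_levels (hX : IsAlgSpace X) (K : Type u) [Field K] [Algebra k K]
    [Algebra.IsAlgebraic k K]
    (h : ∀ E : IntermediateField k K, FiniteDimensional k E →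
      ConnectedSpace (Points (X ⨯ (yon _).obj (pt k E)))) :
    ConnectedSpace (Points (X ⨯ (yon _).obj (pt k K))) := by
  have hne : Nonempty (Points (X ⨯ (yon _).obj (pt k K))) :=
    (h ⊥ inferInstance).toNonempty.map fun x =>
      (surjective_q (L := (⊥ : IntermediateField k K)) (M := K) X x).choose
  refine { toPreconnectedSpace := preconnectedSpace_iff_clopen.2 fun s hs => ?_, toNonempty := hne }
  rcases Set.eq_empty_or_nonempty s with he | ⟨s₀, hs₀⟩
  · exact Or.inl he
  refine Or.inr (Set.eq_univ_of_forall fun z => ?_)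
  by_contra hz
  obtain ⟨U, a₀, u₀, hU, -, hu₀⟩ := exists_affine_chart_at hX (Points.map prod.fst z)
  let φ := Spec.preimage (U.left.isoSpec.inv ≫ U.hom)
  let R : Type u := Γ(U.left, ⊤)
  letI : Algebra k R := φ.hom.toAlgebra
  let T : Over (Spec (CommRingCat.of k)) := Over.mk (Spec.map (CommRingCat.ofHom (algebraMap k R)))
  let τ : T ⟶ U := Over.homMk U.left.isoSpec.inv (Spec.map_preimage _).symm
  let a : (yon _).obj T ⟶ X := (yon _).map τ ≫ a₀
  have hv : Points.ofPt a (U.left.isoSpec.hom u₀) = Points.map prod.fst z := by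
    rw [ofPt_comp]
    change Points.ofPt a₀ (U.left.isoSpec.inv (U.left.isoSpec.hom u₀)) = _
    rw [← Scheme.Hom.comp_apply, Iso.hom_inv_id]
    exact hu₀
  obtain ⟨c, hc1, -⟩ := exists_point_of_isPullback (isPullback_bcChart a K)
      (x := z) (y := Points.ofScheme T (U.left.isoSpec.hom u₀))
      (hv.symm.trans (Points.ofPt_eq_map_ofScheme a _))
  obtain ⟨w, rfl⟩ := (Points.schemeHomeo _).surjective c
  have hw : Points.ofPt (bcChart a K) w = z := (Points.ofPt_eq_map_ofScheme _ _).trans hc1
  obtain ⟨E, hE, D, -, hlev⟩ := exists_finite_level K R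
    (Points.ofPt (bcChart a K) ⁻¹' sᶜ) (hs.1.isOpen_compl.preimage (Points.continuous_ofPt _)) w
    (by rw [Set.mem_preimage, hw]; exact hz)
  let j := fieldHom k E K
  let m := pullback.map T.hom (pt k K).hom T.hom (pt k E).hom (𝟙 _) j.left (𝟙 _) (by simp)
    (by rw [Category.comp_id]; exact (Over.w j).symm)
  let mO : Over.mk (pullback.fst T.hom (pt k K).hom ≫ T.hom) ⟶
      Over.mk (pullback.fst T.hom (pt k E).hom ≫ T.hom) := Over.homMk m (by simp [m])
  have hm1 : m ≫ pullback.fst _ _ = pullback.fst _ _ := by simp [m]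
  have hm2 : m ≫ pullback.snd _ _ = pullback.snd _ _ ≫ j.left := by simp [m]
  have sqm : IsPullback (bcChart a K) ((yon _).map mO) (q X E K) (bcChart a E) := by
    have e : (yon _).map (Over.homMk (pullback.fst T.hom (pt k K).hom) rfl) =
        (yon _).map mO ≫ (yon _).map (Over.homMk (pullback.fst T.hom (pt k E).hom) rfl :
          Over.mk (pullback.fst T.hom (pt k E).hom ≫ T.hom) ⟶ T) := by
      rw [← Functor.map_comp]
      exact congrArg _ (Over.OverMorphism.ext hm1.symm)
    refine IsPullback.of_bot ?_ ?_ (isPullback_bcChart a E)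
    · have hK := isPullback_bcChart a K
      rw [e] at hK
      rw [show q X E K ≫ prod.fst = prod.fst by simp [q]]
      exact hK
    · apply Limits.prod.hom_ext
      · simp only [q, bcChart, Category.assoc, prod.map_fst, prod.lift_fst, Category.comp_id]
        rw [e, Category.assoc]
      · simp only [q, bcChart, Category.assoc, prod.map_snd, prod.lift_snd, prod.lift_snd_assoc]
        rw [← Functor.map_comp, ← Functor.map_comp]
        exact congrArg _ (Over.OverMorphism.ext hm2.symm)
  have hint : IsIntegralHom (Spec.map (CommRingCat.ofHom (algebraMap E K))) :=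
    IsIntegralHom.SpecMap_iff.2 (algebraMap_isIntegral_iff.2 inferInstance)
  have huc : RepWith @UniversallyClosed (q X E K) := repWith_q X (inferInstance : UniversallyClosed _)
  have := h E hE
  have himg : Points.map (q X E K) '' s = Set.univ :=
    IsClopen.eq_univ ⟨isClosedMap_map huc _ hs.1, isOpenMap_q X _ hs.2⟩ ⟨_, s₀, hs₀, rfl⟩
  obtain ⟨u, hu, hun⟩ := himg.symm ▸ Set.mem_univ (Points.ofPt (bcChart a E) (m w))
  obtain ⟨c', hc', hc''⟩ := exists_point_of_isPullback sqm (x := u)
    (y := Points.ofScheme _ (m w)) (hun.trans (Points.ofPt_eq_map_ofScheme _ _))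
  obtain ⟨w', rfl⟩ := (Points.schemeHomeo _).surjective c'
  have hmw : m w' = m w := by
    have h' := congrArg (Points.toScheme _) hc''
    rw [Points.toScheme_ofScheme] at h'
    rw [← h']
    refine ((Points.toScheme_ofPt mO w').symm.trans ?_)
    rw [Points.ofPt_eq_map_ofScheme]
    rfl
  exact (hlev m hm1 hm2).2 w' (hmw ▸ (hlev m hm1 hm2).1) (show Points.ofPt (bcChart a K) w' ∈ s from
    ((Points.ofPt_eq_map_ofScheme _ _).trans hc').symm ▸ hu)

end Groth.Agent.AlgSpDec.GeomConn
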