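import Groth.Agent.AlgSpDec.GeomConn
import Groth.Agent.AlgSpDec.DecentMor
import Mathlib.FieldTheory.Galois.Infinite
import Mathlib.FieldTheory.Normal.Defs

/-! Fibres, Galois orbits and descent of compact open sets for base changes to field extensions. -/

set_option autoImplicit false
set_option backward.isDefEq.respectTransparency false
set_option backward.isDefEq.respectTransparency.types false

open CategoryTheory Limits Opposite AlgebraicGeometry MorphismProperty AlgSp Groth.Agent.AlgSpLib
  Groth.Agent.AlgSpPts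

namespace Groth.Agent.AlgSpDec.GeomConn

universe u

variable {k : Type u} [Field k] (X : Sp (Spec (CommRingCat.of k)))

noncomputable abbrev Tm (k : Type u) [Field k] : Sp (Spec (CommRingCat.of k)) :=
  (yon (Spec (CommRingCat.of k))).obj (Over.mk (𝟙 (Spec (CommRingCat.of k))))

noncomputable def isTerminalTm : IsTerminal (Tm k) := IsTerminal.isTerminalObj (yon _) _ Over.mkIdTerminal

noncomputable def toTm : X ⟶ Tm k := (isTerminalTm (k := k)).from X

theorem isPullback_prod (Y : Sp (Spec (CommRingCat.of k))) :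
    IsPullback (prod.fst : X ⨯ Y ⟶ X) prod.snd (toTm X) (toTm Y) :=
  IsPullback.of_is_product' (prodIsProd X Y) (isTerminalTm (k := k))

theorem repWith_fst {P : MorphismProperty Scheme.{u}} [P.IsStableUnderBaseChange] (K : Type u) [Field K]
    [Algebra k K] (h : P (Spec.map (CommRingCat.ofHom (algebraMap k K)))) :
    RepWith P (prod.fst : X ⨯ (yon _).obj (pt k K) ⟶ X) := by
  let j : pt k K ⟶ Over.mk (𝟙 (Spec (CommRingCat.of k))) :=
    Over.homMk (Spec.map (CommRingCat.ofHom (algebraMap k K))) (Category.comp_id _)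
  refine repWith_of_isPullback (isPullback_prod X _).flip ?_
  rw [show toTm ((yon _).obj (pt k K)) = (yon _).map j from (isTerminalTm (k := k)).hom_ext _ _]
  exact (repWith_yon_map_iff _ j).2 h

theorem isOpenMap_fst (K : Type u) [Field K] [Algebra k K] :
    IsOpenMap (Points.map (prod.fst : X ⨯ (yon _).obj (pt k K) ⟶ X)) := by
  refine isOpenMap_map (repWith_fst X K ?_)
  have : Subsingleton ↥(Spec (CommRingCat.of k)) := inferInstanceAs (Subsingleton (PrimeSpectrum k))
  infer_instance

theorem surjective_map_fst (K : Type u) [Field K] [Algebra k K] :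
    Function.Surjective (Points.map (prod.fst : X ⨯ (yon _).obj (pt k K) ⟶ X)) :=
  surjective_map_of_repWith (repWith_fst X K
    (⟨fun x => ⟨IsLocalRing.closedPoint K, Subsingleton.elim (α := PrimeSpectrum k) _ _⟩⟩ :
      Surjective (Spec.map (CommRingCat.ofHom (algebraMap k K)))))

theorem isClosedMap_fst (K : Type u) [Field K] [Algebra k K] [Algebra.IsAlgebraic k K] :
    IsClosedMap (Points.map (prod.fst : X ⨯ (yon _).obj (pt k K) ⟶ X)) := by
  have hint : IsIntegralHom (Spec.map (CommRingCat.ofHom (algebraMap k K))) :=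
    IsIntegralHom.SpecMap_iff.2 (algebraMap_isIntegral_iff.2 inferInstance)
  exact isClosedMap_map (repWith_fst X K (inferInstance : UniversallyClosed _))

theorem injective_fst (K : Type u) [Field K] [Algebra k K] [IsPurelyInseparable k K] :
    Function.Injective (Points.map (prod.fst : X ⨯ (yon _).obj (pt k K) ⟶ X)) :=
  injective_map (repWith_mono (fun A B f (hf : UniversallyInjective f) => f.injective) _
    (repWith_fst X K (universallyInjective_purelyInseparable (L := k) (M := K))))

theorem q_fst (L M : Type u) [Field L] [Field M] [Algebra k L] [Algebra k M] [Algebra L M]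
    [IsScalarTower k L M] : q X L M ≫ prod.fst = prod.fst := by simp [q]

/-- Over a separably closed field, the fibres of base change to an extension are connected. -/
theorem isPreconnected_fibre_fst [IsSepClosed k] (K : Type u) [Field K] [Algebra k K] (x : Points X) :
    IsPreconnected (Points.map (prod.fst : X ⨯ (yon _).obj (pt k K) ⟶ X) ⁻¹' {x}) := by
  obtain ⟨N, iN, ikN, iKN, iΩN, t1, t2⟩ := Groth.Agent.FBaseLib.exists_field_compositum (k := k) K (AlgebraicClosure k)
  obtain ⟨y, hy⟩ := surjective_map_fst X (AlgebraicClosure k) x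
  have h1 := isPreconnected_fibre X (L := AlgebraicClosure k) (M := N) y
  have he : Points.map (prod.fst : X ⨯ (yon _).obj (pt k K) ⟶ X) ⁻¹' {x} =
      Points.map (q X K N) '' (Points.map (q X (AlgebraicClosure k) N) ⁻¹' {y}) := by
    ext z
    constructor
    · intro hz
      obtain ⟨w, rfl⟩ := surjective_q (L := K) (M := N) X z
      refine ⟨w, injective_fst X (AlgebraicClosure k) ?_, rfl⟩
      rw [← Points.map_comp, q_fst, hy, ← Set.mem_singleton_iff.1 hz, ← Points.map_comp, q_fst]
    · rintro ⟨w, hw, rfl⟩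
      refine Set.mem_singleton_iff.2 ?_
      rw [← Points.map_comp, q_fst, ← hy, ← Set.mem_singleton_iff.1 hw, ← Points.map_comp, q_fst]
  rw [he]
  exact h1.image _ (Points.continuous_map _).continuousOn

theorem bijective_componentsMap {A B : Type*} [TopologicalSpace A] [TopologicalSpace B] {f : A → B}
    (hc : Continuous f) (ho : IsOpenMap f) (hs : Function.Surjective f)
    (hfib : ∀ b, IsPreconnected (f ⁻¹' {b})) : Function.Bijective hc.connectedComponentsMap := by
  have hf : ∀ b, _root_.IsConnected (f ⁻¹' {b}) := fun b => ⟨⟨(hs b).choose, (hs b).choose_spec⟩, hfib b⟩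
  exact ((ho.isQuotientMap hc hs).isCoinducing.connectedComponentsHomeomorph hf).bijective

/-- The points of a fibre product of field valued points form one Galois orbit. -/
theorem exists_galois_of_fst_eq (K : Type u) [Field K] [Algebra k K] [Normal k K]
    (a b : Points (X ⨯ (yon _).obj (pt k K)))
    (h : Points.map (prod.fst : X ⨯ (yon _).obj (pt k K) ⟶ X) a = Points.map prod.fst b) :
    ∃ (σ : K ≃ₐ[k] K) (g : pt k K ⟶ pt k K),
      g.left = Spec.map (CommRingCat.ofHom σ.toRingHom) ∧
      Points.map (prod.map (𝟙 X) ((yon _).map g)) a = b := by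
  obtain ⟨T, ga, t, hT, rfl⟩ := exists_ofPt_eq a
  obtain ⟨T', gb, t', hT', rfl⟩ := exists_ofPt_eq b
  rw [Points.map_ofPt, Points.map_ofPt, Points.ofPt_eq_map_ofScheme, Points.ofPt_eq_map_ofScheme (gb ≫ prod.fst)] at h
  obtain ⟨c, hc1, hc2⟩ := exists_point_of_isPullback (IsPullback.of_hasPullback (ga ≫ prod.fst) (gb ≫ prod.fst)) h
  obtain ⟨V, gc, s, hV, rfl⟩ := exists_ofPt_eq c
  let W : Over (Spec (CommRingCat.of k)) := Over.mk (V.left.fromSpecResidueField s ≫ V.hom)
  let r : W ⟶ V := Over.homMk (V.left.fromSpecResidueField s) rfl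
  have hr : ∀ w : ↥W.left, r.left w = s := fun w => Scheme.fromSpecResidueField_apply _ w
  have key : ∀ {U : Over (Spec (CommRingCat.of k))} (π : (yon _).obj V ⟶ (yon _).obj U)
      (G : (yon _).obj U ⟶ X ⨯ (yon _).obj (pt k K)) (u : ↥U.left) (w : ↥W.left),
      Points.ofPt π s = Points.ofScheme U u → Points.ofPt ((yon _).map r ≫ π ≫ G) w = Points.ofPt G u := by
    intro U π G u w hu
    rw [ofPt_comp, hr, ← Points.map_ofPt, hu, ← Points.ofPt_eq_map_ofScheme]
  let la := (yon _).map r ≫ (gc ≫ pullback.fst _ _) ≫ ga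
  let lb := (yon _).map r ≫ (gc ≫ pullback.snd _ _) ≫ gb
  have hla : ∀ w, Points.ofPt la w = Points.ofPt ga t := fun w => key _ _ _ w (by rw [← hc1, Points.map_ofPt])
  have hlb : ∀ w, Points.ofPt lb w = Points.ofPt gb t' := fun w => key _ _ _ w (by rw [← hc2, Points.map_ofPt])
  have hab : la ≫ prod.fst = lb ≫ prod.fst := by
    simp only [la, lb, Category.assoc, pullback.condition]
  obtain ⟨A, hA⟩ := (yon (Spec (CommRingCat.of k))).map_surjective (la ≫ prod.snd)
  obtain ⟨B, hB⟩ := (yon (Spec (CommRingCat.of k))).map_surjective (lb ≫ prod.snd)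
  let Ω : Type u := V.left.residueField s
  let φa : K →+* Ω := (Spec.preimage A.left).hom
  let φb : K →+* Ω := (Spec.preimage B.left).hom
  let e : CommRingCat.of k ⟶ V.left.residueField s := Spec.preimage W.hom
  letI : Algebra k Ω := e.hom.toAlgebra
  have hcomp : ∀ (C : W ⟶ pt k K), (Spec.preimage C.left).hom.comp (algebraMap k K) = algebraMap k Ω := fun C => by
    have h' : CommRingCat.ofHom (algebraMap k K) ≫ Spec.preimage C.left = e := Spec.map_injective (by
      rw [Spec.map_comp, Spec.map_preimage]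
      exact (Over.w C).trans (Spec.map_preimage W.hom).symm)
    exact congrArg CommRingCat.Hom.hom h'
  letI : Algebra K Ω := φa.toAlgebra
  have : IsScalarTower k K Ω := IsScalarTower.of_algebraMap_eq fun x => (RingHom.congr_fun (hcomp A) x).symm
  let ψ : K →ₐ[k] Ω := { φb with commutes' := fun x => RingHom.congr_fun (hcomp B) x }
  let σ : K ≃ₐ[k] K := ψ.restrictNormal' K
  have hσ : φa.comp σ.toRingHom = φb := RingHom.ext fun x => ψ.restrictNormal_commutes K x
  let g : pt k K ⟶ pt k K := Over.homMk (Spec.map (CommRingCat.ofHom σ.toRingHom)) (by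
    simp only [CategoryTheory.Over.mk_hom]
    rw [← Spec.map_comp, ← CommRingCat.ofHom_comp]
    congr 2
    exact RingHom.ext σ.commutes)
  refine ⟨σ, g, rfl, ?_⟩
  have hAB : A ≫ g = B := Over.OverMorphism.ext (by
    change A.left ≫ Spec.map _ = B.left
    rw [← Spec.map_preimage A.left, ← Spec.map_preimage B.left, ← Spec.map_comp]
    congr 1
    exact CommRingCat.hom_ext hσ)
  have hl : la ≫ prod.map (𝟙 X) ((yon _).map g) = lb := by
    apply Limits.prod.hom_ext
    · simpa using hab
    · rw [← hB, ← hAB, Functor.map_comp, hA]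
      simp
  let w₀ : ↥W.left := IsLocalRing.closedPoint Ω
  rw [← hla w₀, ← hlb w₀, Points.map_ofPt, hl]

theorem exists_isOpen_descent (hX : IsAlgSpace X) (K : Type u) [Field K] [Algebra k K] [Algebra.IsAlgebraic k K]
    (V : Set (Points (X ⨯ (yon _).obj (pt k K)))) (hV : IsOpen V) (z : Points (X ⨯ (yon _).obj (pt k K)))
    (hz : z ∈ V) :
    ∃ E : IntermediateField k K, FiniteDimensional k E ∧
      ∃ N : Set (Points (X ⨯ (yon _).obj (pt k E))), IsOpen N ∧ Points.map (q X E K) z ∈ N ∧
        Points.map (q X E K) ⁻¹' N ⊆ V := by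
  obtain ⟨U, a₀, u₀, hU, ha₀, hu₀⟩ := exists_affine_chart_at hX (Points.map prod.fst z)
  let φ := Spec.preimage (U.left.isoSpec.inv ≫ U.hom)
  let R : Type u := Γ(U.left, ⊤)
  letI : Algebra k R := φ.hom.toAlgebra
  let T : Over (Spec (CommRingCat.of k)) := Over.mk (Spec.map (CommRingCat.ofHom (algebraMap k R)))
  let τ : T ⟶ U := Over.homMk U.left.isoSpec.inv (Spec.map_preimage _).symm
  let a : (yon _).obj T ⟶ X := (yon _).map τ ≫ a₀
  have ha : RepWith @Etale a := repWith_comp ((repWith_yon_map_iff _ τ).2 (by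
    change Etale U.left.isoSpec.inv; infer_instance)) ha₀
  have hv : Points.ofPt a (U.left.isoSpec.hom u₀) = Points.map prod.fst z := by
    rw [ofPt_comp]
    change Points.ofPt a₀ (U.left.isoSpec.inv (U.left.isoSpec.hom u₀)) = _
    rw [← Scheme.Hom.comp_apply, Iso.hom_inv_id]
    exact hu₀
  obtain ⟨c, hc1, -⟩ := exists_point_of_isPullback (isPullback_bcChart a K)
      (x := z) (y := Points.ofScheme T (U.left.isoSpec.hom u₀))
      (hv.symm.trans (Points.ofPt_eq_map_ofScheme a _))
  obtain ⟨w, rfl⟩ := (Points.schemeHomeo _).surjective c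
  have hw : Points.ofPt (bcChart a K) w = z := (Points.ofPt_eq_map_ofScheme _ _).trans hc1
  obtain ⟨E, hE, D, hD, hlev⟩ := exists_finite_level K R
    (Points.ofPt (bcChart a K) ⁻¹' V) (hV.preimage (Points.continuous_ofPt _)) w
    (by rw [Set.mem_preimage, hw]; exact hz)
  let j := fieldHom k E K
  let m := pullback.map T.hom (pt k K).hom T.hom (pt k E).hom (𝟙 _) j.left (𝟙 _) (by simp)
    (by rw [Category.comp_id]; exact (Over.w j).symm)
  let mO : Over.mk (pullback.fst T.hom (pt k K).hom ≫ T.hom) ⟶
      Over.mk (pullback.fst T.hom (pt k E).hom ≫ T.hom) := Over.homMk m (by simp [m])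
  have hm1 : m ≫ pullback.fst _ _ = pullback.fst _ _ := by simp [m]
  have hm2 : m ≫ pullback.snd _ _ = pullback.snd _ _ ≫ j.left := by simp [m]
  have e : (yon _).map (Over.homMk (pullback.fst T.hom (pt k K).hom) rfl :
        Over.mk (pullback.fst T.hom (pt k K).hom ≫ T.hom) ⟶ T) =
      (yon _).map mO ≫ (yon _).map (Over.homMk (pullback.fst T.hom (pt k E).hom) rfl :
        Over.mk (pullback.fst T.hom (pt k E).hom ≫ T.hom) ⟶ T) := by
    rw [← Functor.map_comp]
    exact congrArg _ (Over.OverMorphism.ext hm1.symm)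
  have sqm : IsPullback (bcChart a K) ((yon _).map mO) (q X E K) (bcChart a E) := by
    refine IsPullback.of_bot ?_ ?_ (isPullback_bcChart a E)
    · have hK := isPullback_bcChart a K
      rw [e] at hK
      rw [q_fst]
      exact hK
    · apply Limits.prod.hom_ext
      · simp only [q, bcChart, Category.assoc, prod.map_fst, prod.lift_fst, Category.comp_id]
        rw [e, Category.assoc]
      · simp only [q, bcChart, Category.assoc, prod.map_snd, prod.lift_snd, prod.lift_snd_assoc]
        rw [← Functor.map_comp, ← Functor.map_comp]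
        exact congrArg _ (Over.OverMorphism.ext hm2.symm)
  refine ⟨E, hE, Points.ofPt (bcChart a E) '' D,
    isOpenMap_ofPt (repWith_of_isPullback (isPullback_bcChart a E).flip ha) _ hD,
    ⟨m w, (hlev m hm1 hm2).1, ?_⟩, ?_⟩
  · rw [← hw, Points.map_ofPt, sqm.w, ofPt_comp]
    rfl
  · rintro u ⟨d, hd, hdu⟩
    obtain ⟨c', hc', hc''⟩ := exists_point_of_isPullback sqm (x := u)
      (y := Points.ofScheme _ d) (hdu.symm.trans (Points.ofPt_eq_map_ofScheme _ _))
    obtain ⟨w', rfl⟩ := (Points.schemeHomeo _).surjective c'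
    have hmw : m w' = d := by
      have h' := congrArg (Points.toScheme _) hc''
      rw [Points.toScheme_ofScheme] at h'
      rw [← h']
      refine ((Points.toScheme_ofPt mO w').symm.trans ?_)
      rw [Points.ofPt_eq_map_ofScheme]
      rfl
    rw [← hc']
    exact ((Points.ofPt_eq_map_ofScheme _ _).symm ▸ (hlev m hm1 hm2).2 w' (hmw.symm ▸ hd) :
      Points.map (bcChart a K) (Points.ofScheme _ w') ∈ V)

end Groth.Agent.AlgSpDec.GeomConn
namespace Groth.Agent.AlgSpDec.GeomConn

universe u

variable {k : Type u} [Field k] (X : Sp (Spec (CommRingCat.of k)))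

/-- A compact open set of a base change to an algebraic extension is defined over a finite subextension. -/
theorem exists_saturated_level (hX : IsAlgSpace X) (K : Type u) [Field K] [Algebra k K] [Algebra.IsAlgebraic k K]
    (V : Set (Points (X ⨯ (yon _).obj (pt k K)))) (hV : IsOpen V) (hVc : IsCompact V) :
    ∃ E : IntermediateField k K, FiniteDimensional k E ∧
      Points.map (q X E K) ⁻¹' (Points.map (q X E K) '' V) = V := by
  choose E hE N hN hzN hNV using fun z : ↥V => exists_isOpen_descent X hX K V hV z z.2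
  obtain ⟨t, ht⟩ := hVc.elim_finite_subcover (fun z : ↥V => Points.map (q X (E z) K) ⁻¹' N z)
    (fun z => (hN z).preimage (Points.continuous_map _))
    (fun z hz => Set.mem_iUnion.2 ⟨⟨z, hz⟩, hzN ⟨z, hz⟩⟩)
  let E' : IntermediateField k K := ⨆ i : ↥t, E i.1
  have : ∀ i : ↥t, FiniteDimensional k (E i.1) := fun i => hE i.1
  refine ⟨E', IntermediateField.finiteDimensional_iSup_of_finite, Set.Subset.antisymm ?_ (Set.subset_preimage_image _ _)⟩
  rintro u ⟨a, ha, hau⟩
  obtain ⟨i, hi, hai⟩ := Set.mem_iUnion₂.1 (ht ha)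
  have hle : E i ≤ E' := le_iSup (fun i : ↥t => E i.1) ⟨i, hi⟩
  let h : pt k E' ⟶ pt k (E i) := Over.homMk (Spec.map (CommRingCat.ofHom (IntermediateField.inclusion hle).toRingHom))
    (by
      simp only [CategoryTheory.Over.mk_hom]
      rw [← Spec.map_comp, ← CommRingCat.ofHom_comp]
      congr 2)
  have hq : q X E' K ≫ prod.map (𝟙 X) ((yon _).map h) = q X (E i) K := by
    have : fieldHom k E' K ≫ h = fieldHom k (E i) K := Over.OverMorphism.ext (by
      change Spec.map _ ≫ Spec.map _ = Spec.map _
      rw [← Spec.map_comp, ← CommRingCat.ofHom_comp]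
      rfl)
    rw [q, q, prod.map_map, Category.comp_id, ← Functor.map_comp, this]
  refine hNV i ?_
  rw [Set.mem_preimage, ← hq, Points.map_comp, ← hau, ← Points.map_comp, hq]
  exact hai

theorem mapg_comp {K : Type u} [Field K] [Algebra k K] (E : IntermediateField k K) (σ : K ≃ₐ[k] K)
    (hσ : σ ∈ E.fixingSubgroup) (g : pt k K ⟶ pt k K) (hg : g.left = Spec.map (CommRingCat.ofHom σ.toRingHom)) :
    prod.map (𝟙 X) ((yon _).map g) ≫ q X E K = q X E K := by
  have : g ≫ fieldHom k E K = fieldHom k E K := Over.OverMorphism.ext (by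
    change g.left ≫ Spec.map _ = Spec.map _
    rw [hg, ← Spec.map_comp, ← CommRingCat.ofHom_comp]
    congr 2
    exact RingHom.ext fun x => (E.mem_fixingSubgroup_iff σ).1 hσ x x.2)
  rw [q, prod.map_map, Category.comp_id, ← Functor.map_comp, this]

theorem isPullback_mid {Y : Sp (Spec (CommRingCat.of k))} {T : Over (Spec (CommRingCat.of k))}
    (g : (yon _).obj T ⟶ Y) :
    IsPullback (prod.map (𝟙 X) g) (prod.snd : X ⨯ (yon _).obj T ⟶ _) prod.snd g := by
  refine ⟨⟨by simp⟩, ⟨PullbackCone.IsLimit.mk _ (fun s => prod.lift (s.fst ≫ prod.fst) s.snd)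
    (fun s => by apply Limits.prod.hom_ext <;> simp [s.condition]) (fun s => by simp)
    (fun s l h1 h2 => by
      apply Limits.prod.hom_ext
      · have := h1 =≫ prod.fst
        simpa using this
      · simpa using h2)⟩⟩

theorem isOpenMap_map_snd (hX : IsAlgSpace X) (Y : Sp (Spec (CommRingCat.of k))) :
    IsOpenMap (Points.map (prod.snd : X ⨯ Y ⟶ Y)) := by
  obtain ⟨U, a, ha, hs⟩ := hX.atlas
  intro O hO
  refine Points.isOpen_iff.2 fun T g => ?_
  let P : Over (Spec (CommRingCat.of k)) := Over.mk (pullback.fst U.hom T.hom ≫ U.hom)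
  let p1 : P ⟶ U := Over.homMk (pullback.fst U.hom T.hom) rfl
  let p2 : P ⟶ T := Over.homMk (pullback.snd U.hom T.hom) pullback.condition.symm
  let b : (yon _).obj P ⟶ X ⨯ Y := prod.lift ((yon _).map p1 ≫ a) ((yon _).map p2 ≫ g)
  let tU : U ⟶ Over.mk (𝟙 (Spec (CommRingCat.of k))) := Over.homMk U.hom (Category.comp_id _)
  let tT : T ⟶ Over.mk (𝟙 (Spec (CommRingCat.of k))) := Over.homMk T.hom (Category.comp_id _)
  have sqO : IsPullback p1 p2 tU tT :=
    IsPullback.of_map (Over.forget _) (Over.OverMorphism.ext pullback.condition)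
      (IsPullback.of_hasPullback U.hom T.hom)
  have sqY := sqO.map (yon (Spec (CommRingCat.of k)))
  have sq0 : IsPullback (prod.lift ((yon _).map p1 ≫ a) ((yon _).map p2) : _ ⟶ X ⨯ (yon _).obj T)
      ((yon _).map p1) prod.fst a := by
    refine ⟨⟨by simp⟩, ⟨PullbackCone.IsLimit.mk _
      (fun s => sqY.lift s.snd (s.fst ≫ prod.snd) ((isTerminalTm (k := k)).hom_ext _ _)) (fun s => ?_)
      (fun s => sqY.lift_fst _ _ _) (fun s l h1 h2 => sqY.hom_ext ?_ ?_)⟩⟩
    · apply Limits.prod.hom_ext
      · simp only [Category.assoc, prod.lift_fst]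
        rw [sqY.lift_fst_assoc, s.condition]
      · simp only [Category.assoc, prod.lift_snd]
        exact sqY.lift_snd _ _ _
    · rw [sqY.lift_fst]
      exact h2
    · rw [sqY.lift_snd, ← h1]
      simp [P]
  have key : Points.ofPt g ⁻¹' (Points.map prod.snd '' O) = p2.left '' (Points.ofPt b ⁻¹' O) := by
    ext t
    constructor
    · rintro ⟨z, hz, hzt⟩
      obtain ⟨c, hc1, hc2⟩ := exists_point_of_isPullback (isPullback_mid X g) (x := z) (y := Points.ofScheme T t)
        (hzt.trans (Points.ofPt_eq_map_ofScheme _ _))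
      obtain ⟨u, hu⟩ := surjective_ofPt hs (Points.map prod.fst c)
      obtain ⟨d, hd1, -⟩ := exists_point_of_isPullback sq0 (x := c) (y := Points.ofScheme U u)
        (hu.symm.trans (Points.ofPt_eq_map_ofScheme _ _))
      obtain ⟨w, rfl⟩ := (Points.schemeHomeo _).surjective d
      have hw : Points.ofPt (prod.lift ((yon _).map p1 ≫ a) ((yon _).map p2)) w = c :=
        (Points.ofPt_eq_map_ofScheme _ _).trans hd1
      refine ⟨w, ?_, ?_⟩
      · have hb : b = prod.lift ((yon _).map p1 ≫ a) ((yon _).map p2) ≫ prod.map (𝟙 X) g := by simp [b]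
        rw [Set.mem_preimage, hb, ← Points.map_ofPt, hw, hc1]
        exact hz
      · rw [← hw, Points.map_ofPt, prod.lift_snd] at hc2
        have h' := congrArg (Points.toScheme _) hc2
        rwa [Points.toScheme_ofScheme, Points.toScheme_ofPt] at h'
    · rintro ⟨w, hw, rfl⟩
      refine ⟨Points.ofPt b w, hw, ?_⟩
      rw [Points.map_ofPt, prod.lift_snd, ofPt_comp]
  rw [key]
  have : Subsingleton ↥(Spec (CommRingCat.of k)) := inferInstanceAs (Subsingleton (PrimeSpectrum k))
  have : UniversallyOpen p2.left := by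
    change UniversallyOpen (pullback.snd U.hom T.hom)
    exact MorphismProperty.pullback_snd _ _ inferInstance
  exact p2.left.isOpenMap _ (hO.preimage (Points.continuous_ofPt _))

end Groth.Agent.AlgSpDec.GeomConn
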