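import Groth.Agent.AlgSpDec.GeomConn
import Groth.Agent.AlgSpDec.GeomComponents
import Groth.Agent.AlgSpDec.DecentMor
import Mathlib.FieldTheory.IsAlgClosed.AlgebraicClosure
import Mathlib.FieldTheory.SeparableClosure

/-!
# Connectedness of geometric fibres of spaces over a field point of an arbitrary base

The base changes of a space `P` over `h_{Spec κ}` to field extensions of `κ` are formed as fibre
products in sheaves over the given base `S`.
-/

set_option autoImplicit false
set_option backward.isDefEq.respectTransparency false
set_option backward.isDefEq.respectTransparency.types false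

universe u

open CategoryTheory Limits AlgebraicGeometry AlgSp Groth.Agent.AlgSpLib Groth.Agent.AlgSpPts

namespace Groth.Agent.AlgSpDec.GeomConnSp

open GeomConn (exists_finite_level connectedSpace_of_fibres)

variable {S : Scheme.{u}} {κ : Type u} [Field κ] {str : Spec (CommRingCat.of κ) ⟶ S} {P : Sp S}
  (π : P ⟶ (yon S).obj (Over.mk str))

/-- The field point of an extension. -/
noncomputable abbrev pK (str : Spec (CommRingCat.of κ) ⟶ S) (K : Type u) [Field K] [Algebra κ K] : Over S :=
  Over.mk (Spec.map (CommRingCat.ofHom (algebraMap κ K)) ≫ str)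

/-- The map of field points of an extension. -/
noncomputable abbrev jK (str : Spec (CommRingCat.of κ) ⟶ S) (K : Type u) [Field K] [Algebra κ K] :
    pK str K ⟶ Over.mk str :=
  Over.homMk (Spec.map (CommRingCat.ofHom (algebraMap κ K))) rfl

/-- Base change of `P` to an extension. -/
noncomputable abbrev bc (K : Type u) [Field K] [Algebra κ K] : Sp S := pullback π ((yon S).map (jK str K))

theorem repWith_fst {Q : MorphismProperty Scheme.{u}} [Q.IsStableUnderBaseChange] (K : Type u) [Field K]
    [Algebra κ K] (h : Q (Spec.map (CommRingCat.ofHom (algebraMap κ K)))) :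
    RepWith Q (pullback.fst π ((yon S).map (jK str K))) :=
  repWith_of_isPullback (IsPullback.of_hasPullback π ((yon S).map (jK str K))).flip
    ((repWith_yon_map_iff _ _).2 h)

variable (L M : Type u) [Field L] [Field M] [Algebra κ L] [Algebra κ M] [Algebra L M] [IsScalarTower κ L M]

/-- The map of field points of a tower. -/
noncomputable abbrev tower (str : Spec (CommRingCat.of κ) ⟶ S) : pK str M ⟶ pK str L :=
  Over.homMk (Spec.map (CommRingCat.ofHom (algebraMap L M))) (by
    simp only [CategoryTheory.Over.mk_hom]
    rw [← Category.assoc, ← Spec.map_comp, ← CommRingCat.ofHom_comp, ← IsScalarTower.algebraMap_eq])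

theorem tower_jK : tower L M str ≫ jK str L = jK str M :=
  Over.OverMorphism.ext (by
    show Spec.map _ ≫ Spec.map _ = Spec.map _
    rw [← Spec.map_comp, ← CommRingCat.ofHom_comp, ← IsScalarTower.algebraMap_eq])

/-- The map of base changes of a tower. -/
noncomputable abbrev q : bc π M ⟶ bc π L :=
  pullback.lift (pullback.fst _ _) (pullback.snd _ _ ≫ (yon S).map (tower L M str)) (by
    rw [Category.assoc, ← Functor.map_comp, tower_jK, pullback.condition])

theorem q_fst : q π L M ≫ pullback.fst _ _ = pullback.fst π ((yon S).map (jK str M)) :=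
  pullback.lift_fst _ _ _

theorem isPullback_q : IsPullback (q π L M) (pullback.snd π ((yon S).map (jK str M)))
    (pullback.snd π ((yon S).map (jK str L))) ((yon S).map (tower L M str)) := by
  refine IsPullback.of_right ?_ (pullback.lift_snd _ _ _) (IsPullback.of_hasPullback π ((yon S).map (jK str L)))
  rw [q_fst, ← Functor.map_comp, tower_jK]
  exact IsPullback.of_hasPullback π _

theorem repWith_q {Q : MorphismProperty Scheme.{u}} [Q.IsStableUnderBaseChange]
    (h : Q (Spec.map (CommRingCat.ofHom (algebraMap L M)))) : RepWith Q (q π L M) :=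
  repWith_of_isPullback (isPullback_q π L M).flip ((repWith_yon_map_iff _ _).2 h)

theorem isOpenMap_q : IsOpenMap (Points.map (q π L M)) := by
  refine isOpenMap_map (repWith_q π L M ?_)
  have : IsIntegral (Spec (CommRingCat.of L)) := inferInstance
  have : Subsingleton ↥(Spec (CommRingCat.of L)) := inferInstanceAs (Subsingleton (PrimeSpectrum L))
  exact (inferInstance : UniversallyOpen (Spec.map (CommRingCat.ofHom (algebraMap L M))))

theorem surjective_q : Function.Surjective (Points.map (q π L M)) :=
  surjective_map_of_isPullback (isPullback_q π L M).flip (surjective_map_of_repWith ((repWith_yon_map_iff _ _).2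
    (⟨fun x => ⟨IsLocalRing.closedPoint M, Subsingleton.elim (α := PrimeSpectrum L) _ _⟩⟩ :
      Surjective (Spec.map (CommRingCat.ofHom (algebraMap L M))))))

theorem connected_of_surj (h : ConnectedSpace (Points (bc π M))) : ConnectedSpace (Points (bc π L)) :=
  (surjective_q π L M).connectedSpace (Points.continuous_map _)

theorem connected_of_purelyInseparable [IsPurelyInseparable L M] (h : ConnectedSpace (Points (bc π L))) :
    ConnectedSpace (Points (bc π M)) := by
  refine connectedSpace_of_fibres (isOpenMap_q π L M) (surjective_q π L M) (fun b => ?_) h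
  refine Set.Subsingleton.isPreconnected fun a ha a' ha' => ?_
  refine injective_map (repWith_mono (fun A B f (hf : UniversallyInjective f) => f.injective) _
    (repWith_q π L M (GeomConn.universallyInjective_purelyInseparable (L := L) (M := M)))) ?_
  exact (Set.mem_singleton_iff.1 ha).trans (Set.mem_singleton_iff.1 ha').symm

theorem connected_iff_card {A : Type*} [TopologicalSpace A] :
    ConnectedSpace A ↔ ENat.card (ConnectedComponents A) = 1 := by
  rw [ENat.card_eq_one_iff_unique]
  constructor
  · intro h
    obtain ⟨x⟩ := (inferInstance : Nonempty (ConnectedComponents A))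
    exact ⟨⟨⟨x⟩, fun y => Subsingleton.elim _ _⟩⟩
  · rintro ⟨h₁⟩
    have h₃ : PreconnectedSpace A := by
      refine ⟨isPreconnected_of_forall_pair fun x _ y _ =>
        ⟨connectedComponent x, Set.subset_univ _, mem_connectedComponent, ?_, isPreconnected_connectedComponent⟩⟩
      exact ConnectedComponents.coe_eq_coe'.1 (Subsingleton.elim (ConnectedComponents.mk y) (ConnectedComponents.mk x))
    obtain ⟨x, -⟩ := ConnectedComponents.surjective_coe (h₁.default)
    exact { toPreconnectedSpace := h₃, toNonempty := ⟨x⟩ }

theorem connected_of_algClosed [IsAlgClosed L] (h : ConnectedSpace (Points (bc π L))) :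
    ConnectedSpace (Points (bc π M)) := by
  rw [connected_iff_card] at h ⊢
  rwa [GeomComponents.encard_connectedComponents_eq (tower L M str) (isPullback_q π L M)]

/-- A base change to an algebraic extension is connected if all finite levels are. -/
theorem connected_of_finite_levels (hP : IsAlgSpace P) (K : Type u) [Field K] [Algebra κ K]
    [Algebra.IsAlgebraic κ K]
    (h : ∀ E : IntermediateField κ K, FiniteDimensional κ E → ConnectedSpace (Points (bc π E))) :
    ConnectedSpace (Points (bc π K)) := by
  have hne : Nonempty (Points (bc π K)) :=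
    (h ⊥ inferInstance).toNonempty.map fun x => (surjective_q π (⊥ : IntermediateField κ K) K x).choose
  refine { toPreconnectedSpace := preconnectedSpace_iff_clopen.2 fun s hs => ?_, toNonempty := hne }
  rcases Set.eq_empty_or_nonempty s with he | ⟨s₀, hs₀⟩
  · exact Or.inl he
  refine Or.inr (Set.eq_univ_of_forall fun z => ?_)
  by_contra hz
  obtain ⟨U, a₀, u₀, hU, -, hu₀⟩ := exists_affine_chart_at hP (Points.map (pullback.fst _ _) z)
  obtain ⟨hT, hhT⟩ := (yon S).map_surjective (a₀ ≫ π)
  let φ := Spec.preimage (U.left.isoSpec.inv ≫ hT.left)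
  let R : Type u := Γ(U.left, ⊤)
  letI : Algebra κ R := φ.hom.toAlgebra
  let T : Over S := Over.mk (Spec.map (CommRingCat.ofHom (algebraMap κ R)) ≫ str)
  have hφ : Spec.map (CommRingCat.ofHom (algebraMap κ R)) = U.left.isoSpec.inv ≫ hT.left := Spec.map_preimage _
  let τ : T ⟶ U := Over.homMk U.left.isoSpec.inv (by
    show _ = Spec.map _ ≫ str
    rw [hφ, Category.assoc]
    exact congrArg (U.left.isoSpec.inv ≫ ·) (Over.w hT).symm)
  let hT' : T ⟶ Over.mk str := Over.homMk (Spec.map (CommRingCat.ofHom (algebraMap κ R))) rfl
  let a : (yon S).obj T ⟶ P := (yon S).map τ ≫ a₀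
  have haπ : a ≫ π = (yon S).map hT' := by
    rw [Category.assoc, ← hhT, ← Functor.map_comp]
    exact congrArg _ (Over.OverMorphism.ext hφ.symm)
  have hv : Points.ofPt a (U.left.isoSpec.hom u₀) = Points.map (pullback.fst _ _) z := by
    rw [ofPt_comp]
    change Points.ofPt a₀ (U.left.isoSpec.inv (U.left.isoSpec.hom u₀)) = _
    rw [← Scheme.Hom.comp_apply, Iso.hom_inv_id]
    exact hu₀
  have chart : ∀ (F : Type u) [Field F] [Algebra κ F],
      ∃ b : (yon S).obj (Over.mk (pullback.fst hT'.left (jK str F).left ≫ T.hom)) ⟶ bc π F,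
        b ≫ pullback.snd _ _ = (yon S).map (Over.homMk (pullback.snd hT'.left (jK str F).left) (by
          show pullback.snd _ _ ≫ (Spec.map _ ≫ str) = pullback.fst _ _ ≫ (Spec.map _ ≫ str)
          rw [← Category.assoc, ← Category.assoc]
          exact congrArg (· ≫ str) pullback.condition.symm)) ∧
        IsPullback b ((yon S).map (Over.homMk (pullback.fst hT'.left (jK str F).left) rfl))
          (pullback.fst π ((yon S).map (jK str F))) a := by
    intro F _ _
    let Q : Over S := Over.mk (pullback.fst hT'.left (jK str F).left ≫ T.hom)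
    let p1 : Q ⟶ T := Over.homMk (pullback.fst hT'.left (jK str F).left) rfl
    let p2 : Q ⟶ pK str F := Over.homMk (pullback.snd hT'.left (jK str F).left) (by
          show pullback.snd _ _ ≫ (Spec.map _ ≫ str) = pullback.fst _ _ ≫ (Spec.map _ ≫ str)
          rw [← Category.assoc, ← Category.assoc]
          exact congrArg (· ≫ str) pullback.condition.symm)
    have sqO : IsPullback p1 p2 hT' (jK str F) :=
      IsPullback.of_map (Over.forget S) (Over.OverMorphism.ext pullback.condition)
        (IsPullback.of_hasPullback hT'.left (jK str F).left)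
    have sqY := sqO.map (yon S)
    let b : (yon S).obj Q ⟶ bc π F := pullback.lift ((yon S).map p1 ≫ a) ((yon S).map p2)
      (by rw [Category.assoc, haπ]; exact sqY.w)
    refine ⟨b, pullback.lift_snd _ _ _, IsPullback.of_right ?_ (pullback.lift_fst _ _ _)
      (IsPullback.of_hasPullback π ((yon S).map (jK str F))).flip⟩
    rw [pullback.lift_snd, haπ]
    exact sqY.flip
  obtain ⟨bK, hbK, sqK⟩ := chart K
  obtain ⟨c, hc1, -⟩ := exists_point_of_isPullback sqK
      (x := z) (y := Points.ofScheme T (U.left.isoSpec.hom u₀))
      (hv.symm.trans (Points.ofPt_eq_map_ofScheme a _))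
  obtain ⟨w, rfl⟩ := (Points.schemeHomeo _).surjective c
  have hw : Points.ofPt bK w = z := (Points.ofPt_eq_map_ofScheme _ _).trans hc1
  obtain ⟨E, hE, D, -, hlev⟩ := exists_finite_level K R
    (Points.ofPt bK ⁻¹' sᶜ) (hs.1.isOpen_compl.preimage (Points.continuous_ofPt _)) w
    (by rw [Set.mem_preimage, hw]; exact hz)
  obtain ⟨bE, hbE, sqE⟩ := chart E
  let j := tower E K str
  let m := pullback.map hT'.left (jK str K).left hT'.left (jK str E).left (𝟙 _) j.left (𝟙 _) (by simp)
    (by rw [Category.comp_id]; exact (congrArg CommaMorphism.left (tower_jK (str := str) E K)).symm)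
  let mO : Over.mk (pullback.fst hT'.left (jK str K).left ≫ T.hom) ⟶
      Over.mk (pullback.fst hT'.left (jK str E).left ≫ T.hom) := Over.homMk m (by simp [m])
  have hm1 : m ≫ pullback.fst _ _ = pullback.fst _ _ := by simp [m]
  have hm2 : m ≫ pullback.snd _ _ = pullback.snd _ _ ≫ j.left := by simp [m]
  have sqm : IsPullback bK ((yon S).map mO) (q π E K) bE := by
    have e : (yon S).map (Over.homMk (pullback.fst hT'.left (jK str K).left) rfl :
          Over.mk (pullback.fst hT'.left (jK str K).left ≫ T.hom) ⟶ T) =
        (yon S).map mO ≫ (yon S).map (Over.homMk (pullback.fst hT'.left (jK str E).left) rfl :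
          Over.mk (pullback.fst hT'.left (jK str E).left ≫ T.hom) ⟶ T) := by
      rw [← Functor.map_comp]
      exact congrArg _ (Over.OverMorphism.ext hm1.symm)
    refine IsPullback.of_bot ?_ ?_ sqE
    · rw [q_fst, ← e]
      exact sqK
    · apply pullback.hom_ext
      · rw [Category.assoc, q_fst, Category.assoc, sqK.w, sqE.w, e, Category.assoc]
      · refine (Category.assoc _ _ _).trans ((congrArg (bK ≫ ·) (pullback.lift_snd _ _ _)).trans
          ((Category.assoc _ _ _).symm.trans ((congrArg (· ≫ (yon S).map j) hbK).trans ?_)))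
        refine (Functor.map_comp _ _ _).symm.trans ?_
        refine Eq.trans ?_ ((congrArg ((yon S).map mO ≫ ·) hbE.symm).trans (Category.assoc _ _ _).symm)
        refine Eq.trans ?_ (Functor.map_comp _ _ _)
        exact congrArg _ (Over.OverMorphism.ext hm2.symm)
  have hint : IsIntegralHom (Spec.map (CommRingCat.ofHom (algebraMap E K))) :=
    IsIntegralHom.SpecMap_iff.2 (algebraMap_isIntegral_iff.2 inferInstance)
  have huc : RepWith @UniversallyClosed (q π E K) := repWith_q π E K (inferInstance : UniversallyClosed _)
  have := h E hE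
  have himg : Points.map (q π E K) '' s = Set.univ :=
    IsClopen.eq_univ ⟨isClosedMap_map huc _ hs.1, isOpenMap_q π E K _ hs.2⟩ ⟨_, s₀, hs₀, rfl⟩
  obtain ⟨u, hu, hun⟩ := himg.symm ▸ Set.mem_univ (Points.ofPt bE (m w))
  obtain ⟨c', hc', hc''⟩ := exists_point_of_isPullback sqm (x := u)
    (y := Points.ofScheme _ (m w)) (hun.trans (Points.ofPt_eq_map_ofScheme _ _))
  obtain ⟨w', rfl⟩ := (Points.schemeHomeo _).surjective c'
  have hmw : m w' = m w := by
    have h' := congrArg (Points.toScheme _) hc''
    rw [Points.toScheme_ofScheme] at h'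
    rw [← h']
    refine ((Points.toScheme_ofPt mO w').symm.trans ?_)
    rw [Points.ofPt_eq_map_ofScheme]
    rfl
  exact (hlev m hm1 hm2).2 w' (hmw ▸ (hlev m hm1 hm2).1) (show Points.ofPt bK w' ∈ s from
    ((Points.ofPt_eq_map_ofScheme _ _).trans hc').symm ▸ hu)

/-- If all base changes to finite separable extensions are connected, so is the base change to any
algebraically closed extension. -/
theorem connected_of_separable_levels (hP : IsAlgSpace P)
    (h : ∀ (E : Type u) [Field E] [Algebra κ E], FiniteDimensional κ E → Algebra.IsSeparable κ E →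
      ConnectedSpace (Points (bc π E)))
    (N : Type u) [Field N] [Algebra κ N] [IsAlgClosed N] : ConnectedSpace (Points (bc π N)) := by
  let Ωs : Type u := SeparableClosure κ
  have hs : ConnectedSpace (Points (bc π Ωs)) :=
    connected_of_finite_levels π hP Ωs fun E hE => h E hE inferInstance
  let Ω : Type u := AlgebraicClosure κ
  have : IsPurelyInseparable Ωs Ω := inferInstance
  have hΩ := connected_of_purelyInseparable π Ωs Ω hs
  let i : Ω →ₐ[κ] N := IsAlgClosed.lift
  letI := i.toRingHom.toAlgebra
  have : IsScalarTower κ Ω N := IsScalarTower.of_algebraMap_eq fun x => (i.commutes x).symm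
  exact connected_of_algClosed π Ω N hΩ

end Groth.Agent.AlgSpDec.GeomConnSp
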