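import Groth.Agent.AlgSpDec.GlueSection
import Groth.Agent.AlgSpDec.Glue
import Groth.Agent.AlgSpDec.AffineProps
import Groth.Agent.AlgSpPts.Descent
import Groth.Agent.S10724

/-!
# Glueing of maps from an affine scheme into a space with affine diagonal along a glueing pair
-/

set_option backward.isDefEq.respectTransparency false
set_option backward.isDefEq.respectTransparency.types false

noncomputable section

universe u

open CategoryTheory CategoryTheory.Limits AlgebraicGeometry AlgSp TensorProduct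
open Groth.Agent.AlgSpLib Groth.Agent.AlgSpPts

attribute [local instance] Algebra.TensorProduct.rightAlgebra

namespace Groth.Agent.AlgSpDec

variable {S : Scheme.{u}} {A A' : Type u} [CommRing A] [CommRing A'] [Algebra A A'] {fA : A}
  {str : Spec (CommRingCat.of A) ⟶ S}

variable (str fA) in
/-- The open piece. -/
abbrev glueU : Over S := Over.mk (Spec.map (CommRingCat.ofHom (algebraMap A (Localization.Away fA))) ≫ str)

variable (str fA) in
/-- The inclusion of the open piece. -/
def glueUι : glueU fA str ⟶ Over.mk str :=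
  CategoryTheory.Over.homMk (Spec.map (CommRingCat.ofHom (algebraMap A (Localization.Away fA)))) rfl

variable (str A') in
/-- The completed piece. -/
abbrev glueX : Over S := Over.mk (Spec.map (CommRingCat.ofHom (algebraMap A A')) ≫ str)

variable (str A') in
/-- The map from the completed piece. -/
def glueXι : glueX A' str ⟶ Over.mk str :=
  CategoryTheory.Over.homMk (Spec.map (CommRingCat.ofHom (algebraMap A A'))) rfl

theorem eq_of_glueable (hq : EtGlue.QuotPowBijective A A' fA)
    (hA : ∀ (C : Type u) [CommRing C] [Algebra A C],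
      Etale (Spec.map (CommRingCat.ofHom (algebraMap A C))) → EtGlue.IsGlueable A A' fA C)
    {Z : Sp S} (hZ : IsAlgSpace Z) (z z' : (yon S).obj (Over.mk str) ⟶ Z)
    (hU : (yon S).map (glueUι fA str) ≫ z = (yon S).map (glueUι fA str) ≫ z')
    (hX : (yon S).map (glueXι A' str) ≫ z = (yon S).map (glueXι A' str) ≫ z') : z = z' := by
  let TA : Over S := Over.mk str
  let πZ := (isTerminalYon S).from Z
  obtain ⟨hdr, hdl, -, -, hdm⟩ := diagonal_package hZ (IsAlgSpace.yon_obj (Over.mk (𝟙 S))) πZ
  let st : (yon S).obj TA ⟶ pullback πZ πZ := pullback.lift z z' ((isTerminalYon S).hom_ext _ _)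
  let e : hdr.pullback st ⟶ TA := hdr.snd st
  have : LocallyOfFiniteType e.left := hdl.property_snd st
  have : Mono e.left := hdm.property_snd st
  have hfac : ∀ {T : Over S} (k : T ⟶ TA), ((yon S).map k ≫ z = (yon S).map k ≫ z') →
      ∃ l : T ⟶ hdr.pullback st, l ≫ e = k := by
    intro T k hk
    refine ⟨hdr.lift ((yon S).map k ≫ z) k (pullback.hom_ext ?_ ?_), hdr.lift_snd _ _ _⟩
    · simp [st]
    · simp only [Category.assoc, pullback.diagonal_snd, Category.comp_id, st, pullback.lift_snd]; exact hk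
  obtain ⟨lU, hlU⟩ := hfac (glueUι fA str) hU
  obtain ⟨lX, hlX⟩ := hfac (glueXι A' str) hX
  have hU' : lU.left ≫ e.left = Spec.map (CommRingCat.ofHom (algebraMap A (Localization.Away fA))) :=
    congrArg Over.Hom.left hlU
  let r : A' →+* A' ⊗[A] A := Algebra.TensorProduct.includeLeftRingHom
  have hX' : (Spec.map (CommRingCat.ofHom r) ≫ lX.left) ≫ e.left =
      Spec.map (CommRingCat.ofHom (algebraMap A (A' ⊗[A] A))) := by
    rw [Category.assoc, show lX.left ≫ e.left = _ from congrArg Over.Hom.left hlX]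
    show Spec.map _ ≫ Spec.map _ = _
    rw [← Spec.map_comp, ← CommRingCat.ofHom_comp]
    congr 2
    ext a
    show algebraMap A A' a ⊗ₜ[A] (1 : A) = (1 : A') ⊗ₜ[A] a
    rw [Algebra.algebraMap_eq_smul_one, TensorProduct.smul_tmul, smul_eq_mul, mul_one]
  have local_eq : ∀ p : ↥TA.left, ∃ (W : Over S) (φ : W ⟶ TA), Etale φ.left ∧ p ∈ Set.range φ.left ∧
      (yon S).map φ ≫ z = (yon S).map φ ≫ z' := by
    intro p
    obtain ⟨W, u, l, hu, hp, hl⟩ := exists_etale_lift_of_glueable (R := A) (R' := A') (f := fA) hq A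
      (fun C _ alg₁ alg₂ hs hC => by
        have : alg₁ = alg₂ := Algebra.algebra_ext _ _ fun a => by
          exact @IsScalarTower.algebraMap_apply A A C _ _ _ _ alg₂ alg₁ hs a
        subst this
        exact hA C hC) e.left lU.left hU' _ hX' p
    let W' : Over S := Over.mk (u ≫ TA.hom)
    let φ : W' ⟶ TA := CategoryTheory.Over.homMk u rfl
    let l' : W' ⟶ hdr.pullback st := CategoryTheory.Over.homMk l (by
      show l ≫ (hdr.pullback st).hom = u ≫ TA.hom
      rw [← hl, Category.assoc, Over.w e])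
    have hl' : l' ≫ e = φ := Over.OverMorphism.ext hl
    refine ⟨W', φ, hu, hp, ?_⟩
    have h2 : (yon S).map l' ≫ hdr.fst st ≫ pullback.diagonal πZ = (yon S).map φ ≫ st := by
      rw [hdr.w st, ← Category.assoc, ← Functor.map_comp, hl']
    have ha' := congrArg (· ≫ pullback.fst πZ πZ) h2
    have hb' := congrArg (· ≫ pullback.snd πZ πZ) h2
    simp only [Category.assoc, pullback.diagonal_fst, pullback.diagonal_snd, Category.comp_id, st,
      pullback.lift_fst, pullback.lift_snd] at ha' hb'
    exact ha'.symm.trans hb'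
  choose W φ hφe hφz hφ using local_eq
  let ψ : sigmaOver W ⟶ TA := CategoryTheory.Over.homMk (Sigma.desc fun p => (φ p).left) (by
    apply Sigma.hom_ext
    intro p
    show Sigma.ι _ p ≫ Sigma.desc _ ≫ TA.hom = Sigma.ι _ p ≫ Sigma.desc _
    rw [Sigma.ι_desc_assoc, Sigma.ι_desc, Over.w (φ p)])
  have hψι : ∀ p, sigmaι W p ≫ ψ = φ p := fun p => Over.OverMorphism.ext (Sigma.ι_desc _ _)
  have : Etale ψ.left := IsZariskiLocalAtSource.sigmaDesc fun p => hφe p
  have : Surjective ψ.left := ⟨fun p => by
    obtain ⟨w, hw⟩ := hφz p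
    exact ⟨(sigmaι W p).left w, by rw [← Scheme.Hom.comp_apply, ← Over.comp_left, hψι, hw]⟩⟩
  refine hom_ext_of_fppf ψ (fppf_of_etale ψ.left) _ _ (hom_ext_sigma W fun p => ?_)
  rw [← Category.assoc, ← Category.assoc (g := (yon S).map ψ), ← Functor.map_comp, hψι]
  exact hφ p

/-- A glueing pair makes the base ring glueable. -/
theorem isGlueable_self (h : EtGlue.IsGlueingPair A A' fA) : EtGlue.IsGlueable A A' fA A := by
  refine ((EtGlue7.isGlueable_iff h.1 A).2 h).2 fun m hm h1 => ?_
  obtain ⟨n, hn⟩ := hm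
  refine h.2.1 (Prod.ext ?_ ?_)
  · have := congrArg (Algebra.TensorProduct.rid A A A') h1
    rw [Algebra.TensorProduct.rid_tmul, map_zero, Algebra.smul_def, mul_one] at this
    exact this.trans (map_zero _).symm
  · exact ((IsLocalization.map_eq_zero_iff (Submonoid.powers fA) (Localization.Away fA) m).2
      ⟨⟨fA ^ n, n, rfl⟩, hn⟩).trans (map_zero _).symm

/-- Glueability for the base of an algebra follows from glueability for the ground ring. -/
theorem isGlueable_of_ground {R R' : Type u} [CommRing R] [CommRing R'] [Algebra R R'] {f : R}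
    (hq : EtGlue.QuotPowBijective R R' f) (A C : Type u) [CommRing A] [Algebra R A] [CommRing C] [Algebra R C]
    [Algebra A C] [IsScalarTower R A C] (hC : EtGlue.IsGlueable R R' f C) :
    EtGlue.IsGlueable A (R' ⊗[R] A) (algebraMap R A f) C := by
  obtain ⟨h1, h2⟩ := EtGlue7.torsion_of_isGlueable C hC
  have hs : ∀ (n : ℕ) (x : C), algebraMap R A f ^ n • x = f ^ n • x := fun n x => by
    rw [← map_pow, IsScalarTower.algebraMap_smul]
  let t := EtGlue7.tensorA R R' A C
  have ht : ∀ c : C, t ((1 : R' ⊗[R] A) ⊗ₜ[A] c) = (1 : R') ⊗ₜ[R] c := fun c => by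
    rw [Algebra.TensorProduct.one_def, EtGlue7.tensorA_tmul, one_smul]
  refine EtGlue7.isGlueable_of_torsion (EtGlue7.quotPow_tensor hq A) C (fun m hm h => ?_) fun x hx => ?_
  · obtain ⟨n, hn⟩ := hm
    exact h1 m ⟨n, by rw [← hs]; exact hn⟩ (by rw [← ht, h, map_zero])
  · obtain ⟨n, hn⟩ := hx
    obtain ⟨m, ⟨k, hk⟩, hm⟩ := h2 (t x) ⟨n, by
      rw [← map_smul, ← IsScalarTower.algebraMap_smul A (f ^ n) x, map_pow, hn, map_zero]⟩
    exact ⟨m, ⟨k, by rw [hs]; exact hk⟩, t.injective (by rw [ht, hm])⟩

end Groth.Agent.AlgSpDec
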