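import Groth.Agent.AlgSpDec.GlueDescLocal
import Groth.Agent.AlgSpLib.LimPresLfp.System

/-!
# Glueing of maps from an affine scheme along a glueing pair
-/

set_option backward.isDefEq.respectTransparency false
set_option backward.isDefEq.respectTransparency.types false

noncomputable section

universe u

open CategoryTheory CategoryTheory.Limits AlgebraicGeometry AlgSp TensorProduct
open Groth.Agent.AlgSpLib Groth.Agent.AlgSpPts

attribute [local instance] Algebra.TensorProduct.rightAlgebra

namespace Groth.Agent.AlgSpDec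

variable {S : Scheme.{u}} {A A' : Type u} [CommRing A] [CommRing A'] [Algebra A A'] {fA : A}
  {str : Spec (CommRingCat.of A) ⟶ S} {Z : Sp S}

/-- A map on a scheme over the base which restricts to the given maps on the two pieces. -/
structure GlueCompat (zU : (yon S).obj (glueU fA str) ⟶ Z) (zX : (yon S).obj (glueX A' str) ⟶ Z)
    {W : Over S} (φ : W ⟶ Over.mk str) (z : (yon S).obj W ⟶ Z) : Prop where
  onU : ∀ {V : Over S} (g : V ⟶ W) (b : V ⟶ glueU fA str), g ≫ φ = b ≫ glueUι fA str →
    (yon S).map g ≫ z = (yon S).map b ≫ zU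
  onX : ∀ {V : Over S} (g : V ⟶ W) (b : V ⟶ glueX A' str), g ≫ φ = b ≫ glueXι A' str →
    (yon S).map g ≫ z = (yon S).map b ≫ zX

variable {zU : (yon S).obj (glueU fA str) ⟶ Z} {zX : (yon S).obj (glueX A' str) ⟶ Z}

theorem GlueCompat.comp {W : Over S} {φ : W ⟶ Over.mk str} {z : (yon S).obj W ⟶ Z} (h : GlueCompat zU zX φ z)
    {W' : Over S} (k : W' ⟶ W) : GlueCompat zU zX (k ≫ φ) ((yon S).map k ≫ z) where
  onU g b hgb := by rw [← Functor.map_comp_assoc]; exact h.onU _ b (by rw [Category.assoc]; exact hgb)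
  onX g b hgb := by rw [← Functor.map_comp_assoc]; exact h.onX _ b (by rw [Category.assoc]; exact hgb)

theorem GlueCompat.eq_of_affine (hp : EtGlue.IsGlueingPair A A' fA)
    (hA : ∀ (C : Type u) [CommRing C] [Algebra A C],
      Etale (Spec.map (CommRingCat.ofHom (algebraMap A C))) → EtGlue.IsGlueable A A' fA C)
    (hZ : IsAlgSpace Z) {W : Over S} [IsAffine W.left] (φ : W ⟶ Over.mk str) [Etale φ.left]
    {z z' : (yon S).obj W ⟶ Z} (h : GlueCompat zU zX φ z) (h' : GlueCompat zU zX φ z') : z = z' := by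
  obtain ⟨C, _, _, i, hi⟩ := exists_specOver_iso φ
  have hCe : Etale (Spec.map (CommRingCat.ofHom (algebraMap A C))) := by rw [← hi]; infer_instance
  refine (cancel_epi ((yon S).map i.hom)).1 (eq_of_glueable (A := C) (A' := A' ⊗[A] C) (fA := algebraMap A C fA)
    (str := Spec.map (CommRingCat.ofHom (algebraMap A C)) ≫ str) (EtGlue7.quotPow_tensor hp.1 C) ?_ hZ _ _ ?_ ?_)
  · intro D _ _ hD
    let _ : Algebra A D := ((algebraMap C D).comp (algebraMap A C)).toAlgebra
    have : IsScalarTower A C D := .of_algebraMap_eq' rfl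
    refine isGlueable_of_ground hp.1 C D (hA D ?_)
    rw [show algebraMap A D = (algebraMap C D).comp (algebraMap A C) from rfl, CommRingCat.ofHom_comp, Spec.map_comp]
    infer_instance
  · have hu : IsUnit (((algebraMap C (Localization.Away (algebraMap A C fA))).comp (algebraMap A C)) fA) :=
      IsLocalization.Away.algebraMap_isUnit (algebraMap A C fA)
    let b : glueU (algebraMap A C fA) (Spec.map (CommRingCat.ofHom (algebraMap A C)) ≫ str) ⟶ glueU fA str :=
      CategoryTheory.Over.homMk (Spec.map (CommRingCat.ofHom (IsLocalization.Away.lift fA hu))) (by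
        show Spec.map _ ≫ Spec.map _ ≫ str = Spec.map _ ≫ Spec.map _ ≫ str
        rw [← Spec.map_comp_assoc, ← Spec.map_comp_assoc, ← CommRingCat.ofHom_comp, ← CommRingCat.ofHom_comp,
          IsLocalization.Away.lift_comp])
    have hb : (glueUι (algebraMap A C fA) (Spec.map (CommRingCat.ofHom (algebraMap A C)) ≫ str) ≫ i.hom) ≫ φ =
        b ≫ glueUι fA str := by
      apply Over.OverMorphism.ext
      rw [Category.assoc, Over.comp_left, Over.comp_left, hi]
      show Spec.map _ ≫ Spec.map _ = Spec.map _ ≫ Spec.map _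
      rw [← Spec.map_comp, ← Spec.map_comp, ← CommRingCat.ofHom_comp, ← CommRingCat.ofHom_comp, IsLocalization.Away.lift_comp]
    exact ((yon S).map_comp_assoc _ _ _).symm.trans (((h.onU _ _ hb).trans (h'.onU _ _ hb).symm).trans
      ((yon S).map_comp_assoc _ _ _))
  · let b : glueX (A' ⊗[A] C) (Spec.map (CommRingCat.ofHom (algebraMap A C)) ≫ str) ⟶ glueX A' str :=
      CategoryTheory.Over.homMk (Spec.map (CommRingCat.ofHom Algebra.TensorProduct.includeLeftRingHom)) (by
        show Spec.map _ ≫ Spec.map _ ≫ str = Spec.map _ ≫ Spec.map _ ≫ str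
        rw [← Spec.map_comp_assoc, ← Spec.map_comp_assoc]
        exact congrArg (Spec.map · ≫ str) (CommRingCat.isPushout_tensorProduct A A' C).w)
    have hb : (glueXι (A' ⊗[A] C) (Spec.map (CommRingCat.ofHom (algebraMap A C)) ≫ str) ≫ i.hom) ≫ φ =
        b ≫ glueXι A' str := by
      apply Over.OverMorphism.ext
      rw [Category.assoc, Over.comp_left, Over.comp_left, hi]
      show Spec.map _ ≫ Spec.map _ = Spec.map _ ≫ Spec.map _
      rw [← Spec.map_comp, ← Spec.map_comp]
      exact congrArg Spec.map (CommRingCat.isPushout_tensorProduct A A' C).w.symm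
    exact ((yon S).map_comp_assoc _ _ _).symm.trans (((h.onX _ _ hb).trans (h'.onX _ _ hb).symm).trans
      ((yon S).map_comp_assoc _ _ _))

theorem GlueCompat.eq (hp : EtGlue.IsGlueingPair A A' fA)
    (hA : ∀ (C : Type u) [CommRing C] [Algebra A C],
      Etale (Spec.map (CommRingCat.ofHom (algebraMap A C))) → EtGlue.IsGlueable A A' fA C)
    (hZ : IsAlgSpace Z) {W : Over S} (φ : W ⟶ Over.mk str) [Etale φ.left]
    {z z' : (yon S).obj W ⟶ Z} (h : GlueCompat zU zX φ z) (h' : GlueCompat zU zX φ z') : z = z' := by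
  refine hom_ext_of_openCover W.left.affineCover _ _ fun j => ?_
  let k : Over.mk (W.left.affineCover.f j ≫ W.hom) ⟶ W := CategoryTheory.Over.homMk (W.left.affineCover.f j) rfl
  have : IsAffine (Over.mk (W.left.affineCover.f j ≫ W.hom)).left := inferInstanceAs (IsAffine (W.left.affineCover.X j))
  have : IsOpenImmersion k.left := inferInstanceAs (IsOpenImmersion (W.left.affineCover.f j))
  have : Etale (k ≫ φ).left := by rw [Over.comp_left]; infer_instance
  exact GlueCompat.eq_of_affine hp hA hZ (k ≫ φ) (h.comp k) (h'.comp k)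

theorem exists_desc_glue (hp : EtGlue.IsGlueingPair A A' fA)
    (hA : ∀ (C : Type u) [CommRing C] [Algebra A C],
      Etale (Spec.map (CommRingCat.ofHom (algebraMap A C))) → EtGlue.IsGlueable A A' fA C)
    [IsAffine S] (hZ : IsAlgSpace Z) (hd : IsAffineMor (Limits.diag Z))
    (zU : (yon S).obj (glueU fA str) ⟶ Z) (zX : (yon S).obj (glueX A' str) ⟶ Z)
    (agree : ∀ (V : Over S) (bU : V ⟶ glueU fA str) (bX : V ⟶ glueX A' str),
      bU ≫ glueUι fA str = bX ≫ glueXι A' str → (yon S).map bU ≫ zU = (yon S).map bX ≫ zX) :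
    ∃ z : (yon S).obj (Over.mk str) ⟶ Z,
      (yon S).map (glueUι fA str) ≫ z = zU ∧ (yon S).map (glueXι A' str) ≫ z = zX := by
  choose W φ z hφ hpr hU hX using exists_local_desc hp hA hZ hd zU zX agree
  let ψ : sigmaOver W ⟶ Over.mk str := CategoryTheory.Over.homMk (Sigma.desc fun p => (φ p).left) (by
    apply Sigma.hom_ext
    intro p
    show Sigma.ι _ p ≫ Sigma.desc _ ≫ (Over.mk str).hom = Sigma.ι _ p ≫ Sigma.desc _
    rw [Sigma.ι_desc_assoc, Sigma.ι_desc, Over.w (φ p)])
  have hψι : ∀ p, sigmaι W p ≫ ψ = φ p := fun p => Over.OverMorphism.ext (Sigma.ι_desc _ _)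
  have : Etale ψ.left := IsZariskiLocalAtSource.sigmaDesc fun p => hφ p
  have : Surjective ψ.left := ⟨fun p => by
    obtain ⟨w, hw⟩ := hpr p
    exact ⟨(sigmaι W p).left w, by rw [← Scheme.Hom.comp_apply, ← Over.comp_left, hψι, hw]⟩⟩
  obtain ⟨zP, hzP⟩ := exists_hom_sigma W z
  have key : ∀ {V : Over S} (g : V ⟶ sigmaOver W) (m : (yon S).obj V ⟶ Z),
      (∀ p (V' : Over S) (j : V' ⟶ V) (l : V' ⟶ W p), l ≫ sigmaι W p = j ≫ g →
        (yon S).map l ≫ z p = (yon S).map j ≫ m) → (yon S).map g ≫ zP = m := by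
    intro V g m hm
    let 𝒰 := (sigmaOpenCover fun p => (W p).left).pullback₁ g.left
    refine hom_ext_of_openCover 𝒰 _ _ fun p => ?_
    let j : Over.mk (𝒰.f p ≫ V.hom) ⟶ V := CategoryTheory.Over.homMk (𝒰.f p) rfl
    let l : Over.mk (𝒰.f p ≫ V.hom) ⟶ W p := CategoryTheory.Over.homMk (pullback.snd _ _) (by
      show pullback.snd _ _ ≫ (W p).hom = pullback.fst _ _ ≫ V.hom
      rw [← Over.w g, pullback.condition_assoc, ← Over.w (sigmaι W p)]
      rfl)
    have hl : l ≫ sigmaι W p = j ≫ g := Over.OverMorphism.ext pullback.condition.symm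
    show (yon S).map j ≫ (yon S).map g ≫ zP = (yon S).map j ≫ m
    rw [← Functor.map_comp_assoc, ← hl, Functor.map_comp, Category.assoc, hzP]
    exact hm p _ j l hl
  have hcP : GlueCompat zU zX ψ zP := by
    constructor
    · intro V g b hgb
      refine key g _ fun p V' j l hl => ?_
      rw [← Functor.map_comp_assoc]
      refine hU p l (j ≫ b) ?_
      rw [← hψι p, ← Category.assoc, hl, Category.assoc, hgb, Category.assoc]
    · intro V g b hgb
      refine key g _ fun p V' j l hl => ?_
      rw [← Functor.map_comp_assoc]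
      refine hX p l (j ≫ b) ?_
      rw [← hψι p, ← Category.assoc, hl, Category.assoc, hgb, Category.assoc]
  let p₁ := pullback.fst ψ ψ
  let p₂ := pullback.snd ψ ψ
  have : Etale p₁.left :=
    MorphismProperty.of_isPullback ((IsPullback.of_hasPullback ψ ψ).map (Over.forget S)).flip ‹Etale ψ.left›
  have : Etale (p₁ ≫ ψ).left := by rw [Over.comp_left]; infer_instance
  obtain ⟨zT, hzT⟩ := Groth.Agent.AlgSpLib.LimPresLfp.exists_desc_fppf ψ (fppf_of_etale ψ.left) (IsPullback.of_hasPullback ψ ψ) zP
    (GlueCompat.eq hp hA hZ (p₁ ≫ ψ) (hcP.comp p₁) (by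
      rw [show p₁ ≫ ψ = p₂ ≫ ψ from pullback.condition]
      exact hcP.comp p₂))
  refine ⟨zT, ?_, ?_⟩
  · have hb := pullback.condition (f := ψ) (g := glueUι fA str)
    have : Etale (pullback.snd ψ (glueUι fA str)).left :=
      MorphismProperty.of_isPullback ((IsPullback.of_hasPullback ψ (glueUι fA str)).map (Over.forget S)) ‹Etale ψ.left›
    have : Surjective (pullback.snd ψ (glueUι fA str)).left :=
      MorphismProperty.of_isPullback ((IsPullback.of_hasPullback ψ (glueUι fA str)).map (Over.forget S)) ‹Surjective ψ.left›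
    refine hom_ext_of_fppf _ (fppf_of_etale (pullback.snd ψ (glueUι fA str)).left) _ _ ?_
    rw [← Functor.map_comp_assoc, ← hb, Functor.map_comp, Category.assoc, hzT]
    exact hcP.onU _ _ hb
  · have hb := pullback.condition (f := ψ) (g := glueXι A' str)
    have : Etale (pullback.snd ψ (glueXι A' str)).left :=
      MorphismProperty.of_isPullback ((IsPullback.of_hasPullback ψ (glueXι A' str)).map (Over.forget S)) ‹Etale ψ.left›
    have : Surjective (pullback.snd ψ (glueXι A' str)).left :=
      MorphismProperty.of_isPullback ((IsPullback.of_hasPullback ψ (glueXι A' str)).map (Over.forget S)) ‹Surjective ψ.left›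
    refine hom_ext_of_fppf _ (fppf_of_etale (pullback.snd ψ (glueXι A' str)).left) _ _ ?_
    rw [← Functor.map_comp_assoc, ← hb, Functor.map_comp, Category.assoc, hzT]
    exact hcP.onX _ _ hb

end Groth.Agent.AlgSpDec
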