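import Groth.Agent.AlgSpDec.GlueDesc
import Groth.Agent.S10727
import Groth.Agent.S10705

/-!
# Existence of glued maps into a space with affine diagonal
-/

set_option backward.isDefEq.respectTransparency false
set_option backward.isDefEq.respectTransparency.types false

noncomputable section

universe u

open CategoryTheory CategoryTheory.Limits AlgebraicGeometry AlgSp TensorProduct
open Groth.Agent.AlgSpLib Groth.Agent.AlgSpPts

attribute [local instance] Algebra.TensorProduct.rightAlgebra

namespace Groth.Agent.AlgSpDec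

theorem exists_ringHom_glue {A A' C W : Type u} [CommRing A] [CommRing A'] [CommRing C] [CommRing W] [Algebra A A']
    [Algebra A C] {fA : A} (hq : EtGlue.QuotPowBijective A A' fA) (hC : EtGlue.IsGlueable A A' fA C)
    (u₁ : W →+* Localization.Away (algebraMap A C fA)) (u₂ : W →+* A' ⊗[A] C)
    (hu : ∀ w, algebraMap (A' ⊗[A] C) (Localization.Away (algebraMap C (A' ⊗[A] C) (algebraMap A C fA))) (u₂ w) =
      Localization.awayMap (algebraMap C (A' ⊗[A] C)) (algebraMap A C fA) (u₁ w)) :
    ∃ ψ : W →+* C, (algebraMap C (A' ⊗[A] C)).comp ψ = u₂ ∧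
      (algebraMap C (Localization.Away (algebraMap A C fA))).comp ψ = u₁ := by
  obtain ⟨-, hinj, hmid, -⟩ := EtGlue7.glueingPair_of_isGlueable hq C hC
  choose ψ h₁ h₂ using fun w => hmid _ _ (hu w)
  refine ⟨{ toFun := ψ, map_one' := ?_, map_mul' := ?_, map_zero' := ?_, map_add' := ?_ },
    RingHom.ext h₁, RingHom.ext h₂⟩
  · exact hinj (Prod.ext (by simp [h₁]) (by simp [h₂]))
  · exact fun a b => hinj (Prod.ext (by simp [h₁]) (by simp [h₂]))
  · exact hinj (Prod.ext (by simp [h₁]) (by simp [h₂]))
  · exact fun a b => hinj (Prod.ext (by simp [h₁]) (by simp [h₂]))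

variable {S : Scheme.{u}} {A A' : Type u} [CommRing A] [CommRing A'] [Algebra A A'] {fA : A}
  {str : Spec (CommRingCat.of A) ⟶ S}

/-- An algebra over the base, as a scheme over it. -/
abbrev specOver (str : Spec (CommRingCat.of A) ⟶ S) (C : Type u) [CommRing C] [Algebra A C] : Over S :=
  Over.mk (Spec.map (CommRingCat.ofHom (algebraMap A C)) ≫ str)

/-- The map of spectra of an algebra map. -/
def specOverMap {C D : Type u} [CommRing C] [Algebra A C] [CommRing D] [Algebra A D] (g : C →+* D)
    (hg : g.comp (algebraMap A C) = algebraMap A D) : specOver str D ⟶ specOver str C :=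
  CategoryTheory.Over.homMk (Spec.map (CommRingCat.ofHom g)) (by
    show Spec.map _ ≫ Spec.map _ ≫ str = Spec.map _ ≫ str
    rw [← Category.assoc, ← Spec.map_comp, ← CommRingCat.ofHom_comp, hg])

theorem specOverMap_comp {C D E : Type u} [CommRing C] [Algebra A C] [CommRing D] [Algebra A D] [CommRing E]
    [Algebra A E] (g : C →+* D) (hg : g.comp (algebraMap A C) = algebraMap A D) (h : D →+* E)
    (hh : h.comp (algebraMap A D) = algebraMap A E) :
    specOverMap (str := str) h hh ≫ specOverMap g hg =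
      specOverMap (h.comp g) (by rw [RingHom.comp_assoc, hg, hh]) :=
  Over.OverMorphism.ext (by
    show Spec.map _ ≫ Spec.map _ = Spec.map _
    rw [← Spec.map_comp, ← CommRingCat.ofHom_comp])

theorem specOverMap_congr {C D : Type u} [CommRing C] [Algebra A C] [CommRing D] [Algebra A D] {g g' : C →+* D}
    (e : g = g') (hg : g.comp (algebraMap A C) = algebraMap A D) :
    specOverMap (str := str) g hg = specOverMap g' (e ▸ hg) := by
  subst e; rfl

/-- A morphism of affine schemes over `Spec A` comes from a ring map. -/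
theorem exists_specOverMap {C D : Type u} [CommRing C] [Algebra A C] [CommRing D] [Algebra A D]
    (φ : specOver str D ⟶ specOver str C)
    (h : φ.left ≫ Spec.map (CommRingCat.ofHom (algebraMap A C)) = Spec.map (CommRingCat.ofHom (algebraMap A D))) :
    ∃ (g : C →+* D) (hg : g.comp (algebraMap A C) = algebraMap A D), φ = specOverMap g hg := by
  obtain ⟨g, hg⟩ := Spec.map_surjective φ.left
  refine ⟨g.hom, ?_, Over.OverMorphism.ext hg.symm⟩
  have : CommRingCat.ofHom (algebraMap A C) ≫ g = CommRingCat.ofHom (algebraMap A D) := by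
    apply Spec.map_injective
    rw [Spec.map_comp, hg, h]
  exact congrArg CommRingCat.Hom.hom this

/-- An affine scheme over `Spec A` is the spectrum of an algebra. -/
theorem exists_specOver_iso {V : Over S} [IsAffine V.left] (r : V ⟶ Over.mk str) :
    ∃ (C : Type u) (_ : CommRing C) (_ : Algebra A C) (i : specOver str C ≅ V),
      i.hom.left ≫ r.left = Spec.map (CommRingCat.ofHom (algebraMap A C)) := by
  obtain ⟨γ, hγ⟩ := Spec.map_surjective (V.left.isoSpec.inv ≫ r.left)
  let _ : Algebra A Γ(V.left, ⊤) := γ.hom.toAlgebra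
  refine ⟨Γ(V.left, ⊤), inferInstance, γ.hom.toAlgebra, CategoryTheory.Over.isoMk V.left.isoSpec.symm ?_, hγ.symm⟩
  show V.left.isoSpec.inv ≫ V.hom = Spec.map (CommRingCat.ofHom (algebraMap A Γ(V.left, ⊤))) ≫ str
  rw [show Spec.map (CommRingCat.ofHom (algebraMap A Γ(V.left, ⊤))) = V.left.isoSpec.inv ≫ r.left from hγ,
    Category.assoc]
  congr 1
  exact (Over.w r).symm

variable (hp : EtGlue.IsGlueingPair A A' fA)
    (hA : ∀ (C : Type u) [CommRing C] [Algebra A C],
      Etale (Spec.map (CommRingCat.ofHom (algebraMap A C))) → EtGlue.IsGlueable A A' fA C)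
    [IsAffine S] {Z : Sp S} (hZ : IsAlgSpace Z) (hd : IsAffineMor (Limits.diag Z))
    (zU : (yon S).obj (glueU fA str) ⟶ Z) (zX : (yon S).obj (glueX A' str) ⟶ Z)
    (agree : ∀ (V : Over S) (bU : V ⟶ glueU fA str) (bX : V ⟶ glueX A' str),
      bU ≫ glueUι fA str = bX ≫ glueXι A' str → (yon S).map bU ≫ zU = (yon S).map bX ≫ zX)

include hd in
theorem repWith_isAffineHom_chart {W : Over S} [IsAffine W.left] (w : (yon S).obj W ⟶ Z) :
    RepWith @IsAffineHom w := by
  refine repWith_of_postcomp (g := (isTerminalYon S).from Z)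
    ((repWith_diag_iff @IsAffineHom Z).1 (repWith_isAffineHom_of_isAffineMor hd)) ?_
  let m : W ⟶ Over.mk (𝟙 S) := CategoryTheory.Over.homMk W.hom (Category.comp_id _)
  rw [show w ≫ (isTerminalYon S).from Z = (yon S).map m from (isTerminalYon S).hom_ext _ _]
  exact (repWith_yon_map_iff _ _).2 (inferInstanceAs (IsAffineHom W.hom))

include hp hA hZ hd agree in
theorem exists_local_desc (p : ↥(Spec (CommRingCat.of A))) :
    ∃ (W : Over S) (φ : W ⟶ Over.mk str) (z : (yon S).obj W ⟶ Z), Etale φ.left ∧ p ∈ Set.range φ.left ∧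
      (∀ {V : Over S} (g : V ⟶ W) (b : V ⟶ glueU fA str), g ≫ φ = b ≫ glueUι fA str →
        (yon S).map g ≫ z = (yon S).map b ≫ zU) ∧
      (∀ {V : Over S} (g : V ⟶ W) (b : V ⟶ glueX A' str), g ≫ φ = b ≫ glueXι A' str →
        (yon S).map g ≫ z = (yon S).map b ≫ zX) := by
  -- a chart through the image of a point over `p`
  obtain ⟨U₀, q₀, hq₀, hq₀s⟩ := hZ.atlas
  obtain ⟨q, hq⟩ : ∃ x : Points Z,
      (∃ t, (glueUι fA str).left t = p ∧ Points.ofPt zU t = x) ∨
      (∃ t, (glueXι A' str).left t = p ∧ Points.ofPt zX t = x) := by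
    rcases EtGlue7.jointly_surjective (R := A) (R' := A') (f := fA) (quotOne_bijective hp.1) p with ⟨t, ht⟩ | ⟨t, ht⟩
    · exact ⟨_, Or.inr ⟨t, ht, rfl⟩⟩
    · exact ⟨_, Or.inl ⟨t, ht, rfl⟩⟩
  obtain ⟨v₀, hv₀⟩ := surjective_ofPt hq₀s q
  obtain ⟨K, hK, hvK, -⟩ := exists_isAffineOpen_mem_and_subset (U := (⊤ : U₀.left.Opens)) (x := v₀) trivial
  let Wc : Over S := Over.mk (K.ι ≫ U₀.hom)
  let ιK : Wc ⟶ U₀ := CategoryTheory.Over.homMk K.ι rfl
  let w : (yon S).obj Wc ⟶ Z := (yon S).map ιK ≫ q₀
  have hwq : Points.ofPt w ⟨v₀, hvK⟩ = q := by rw [ofPt_comp]; exact hv₀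
  have : IsAffine Wc.left := hK
  have hw : RepWith @Etale w := repWith_comp ((repWith_yon_map_iff _ _).2 (inferInstanceAs (Etale K.ι))) hq₀
  have hwa := repWith_isAffineHom_chart hd w
  -- the two pulled back algebras
  have : IsAffine (glueU fA str).left := inferInstanceAs (IsAffine (Spec _))
  have : IsAffine (glueX A' str).left := inferInstanceAs (IsAffine (Spec _))
  let V₁ := hw.rep.pullback zU
  let r₁ : V₁ ⟶ glueU fA str := hw.rep.snd zU
  have : IsAffineHom r₁.left := hwa.2 zU _ _ (hw.rep.isPullback zU)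
  have : IsAffine V₁.left := isAffine_of_isAffineHom r₁.left
  let V₂ := hw.rep.pullback zX
  let r₂ : V₂ ⟶ glueX A' str := hw.rep.snd zX
  have : IsAffineHom r₂.left := hwa.2 zX _ _ (hw.rep.isPullback zX)
  have : IsAffine V₂.left := isAffine_of_isAffineHom r₂.left
  obtain ⟨C₁, _, _, i₁, hi₁⟩ := exists_specOver_iso (r₁ ≫ glueUι fA str)
  obtain ⟨C₂, _, _, i₂, hi₂⟩ := exists_specOver_iso (r₂ ≫ glueXι A' str)
  obtain ⟨γ₁, hγ₁, hγ₁'⟩ := exists_specOverMap (C := Localization.Away fA) (str := str) (i₁.hom ≫ r₁) (by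
    rw [← hi₁, Over.comp_left, Over.comp_left, Category.assoc]
    rfl)
  obtain ⟨γ₂, hγ₂, hγ₂'⟩ := exists_specOverMap (C := A') (str := str) (i₂.hom ≫ r₂) (by
    rw [← hi₂, Over.comp_left, Over.comp_left, Category.assoc]
    rfl)
  let _ : Algebra A' C₂ := γ₂.toAlgebra
  have : IsScalarTower A A' C₂ := IsScalarTower.of_algebraMap_eq' hγ₂.symm
  have hunit₁ : IsUnit (algebraMap A C₁ fA) := by
    rw [← hγ₁, RingHom.comp_apply]
    exact (IsLocalization.Away.algebraMap_isUnit fA).map γ₁
  let w₁ : (yon S).obj (specOver str C₁) ⟶ (yon S).obj Wc := (yon S).map i₁.hom ≫ hw.rep.fst zU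
  let w₂ : (yon S).obj (specOver str C₂) ⟶ (yon S).obj Wc := (yon S).map i₂.hom ≫ hw.rep.fst zX
  have hw₁ : w₁ ≫ w = (yon S).map (specOverMap γ₁ hγ₁) ≫ zU := by
    rw [← hγ₁', Category.assoc, hw.rep.w, Functor.map_comp, Category.assoc]
  have hw₂ : w₂ ≫ w = (yon S).map (specOverMap γ₂ hγ₂) ≫ zX := by
    rw [← hγ₂', Category.assoc, hw.rep.w, Functor.map_comp, Category.assoc]
  have ext₁ : ∀ {D : Type u} [CommRing D] [Algebra A D] (g g' : C₁ →+* D)
      (hg : g.comp (algebraMap A C₁) = algebraMap A D) (hg' : g'.comp (algebraMap A C₁) = algebraMap A D),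
      (yon S).map (specOverMap (str := str) g hg) ≫ w₁ = (yon S).map (specOverMap g' hg') ≫ w₁ → g = g' := by
    intro D _ _ g g' hg hg' h
    have h2 : specOverMap (str := str) g hg ≫ specOverMap γ₁ hγ₁ = specOverMap g' hg' ≫ specOverMap γ₁ hγ₁ := by
      rw [specOverMap_comp, specOverMap_comp]
      refine specOverMap_congr ?_ _
      refine IsLocalization.ringHom_ext (Submonoid.powers fA) ?_
      rw [RingHom.comp_assoc, RingHom.comp_assoc, hγ₁, hg, hg']
    have h3 : (yon S).map (specOverMap (str := str) g hg ≫ i₁.hom) = (yon S).map (specOverMap g' hg' ≫ i₁.hom) := by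
      refine (hw.rep.isPullback zU).hom_ext ?_ ?_
      · rw [Functor.map_comp, Functor.map_comp, Category.assoc, Category.assoc]; exact h
      · rw [← Functor.map_comp, ← Functor.map_comp, Category.assoc, Category.assoc, hγ₁', h2]
    exact congrArg CommRingCat.Hom.hom (Spec.map_injective
      (congrArg Over.Hom.left ((cancel_mono i₁.hom).1 ((yon S).map_injective h3))))
  have ext₂ : ∀ {D : Type u} [CommRing D] [Algebra A D] (g g' : C₂ →+* D)
      (hg : g.comp (algebraMap A C₂) = algebraMap A D) (hg' : g'.comp (algebraMap A C₂) = algebraMap A D),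
      g.comp γ₂ = g'.comp γ₂ →
      (yon S).map (specOverMap (str := str) g hg) ≫ w₂ = (yon S).map (specOverMap g' hg') ≫ w₂ → g = g' := by
    intro D _ _ g g' hg hg' hgγ h
    have h2 : specOverMap (str := str) g hg ≫ specOverMap γ₂ hγ₂ = specOverMap g' hg' ≫ specOverMap γ₂ hγ₂ := by
      rw [specOverMap_comp, specOverMap_comp]
      exact specOverMap_congr hgγ _
    have h3 : (yon S).map (specOverMap (str := str) g hg ≫ i₂.hom) = (yon S).map (specOverMap g' hg' ≫ i₂.hom) := by
      refine (hw.rep.isPullback zX).hom_ext ?_ ?_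
      · rw [Functor.map_comp, Functor.map_comp, Category.assoc, Category.assoc]; exact h
      · rw [← Functor.map_comp, ← Functor.map_comp, Category.assoc, Category.assoc, hγ₂', h2]
    exact congrArg CommRingCat.Hom.hom (Spec.map_injective
      (congrArg Over.Hom.left ((cancel_mono i₂.hom).1 ((yon S).map_injective h3))))
  -- identification over the overlap
  let L₂ := Localization.Away (algebraMap A C₂ fA)
  let M₁ := A' ⊗[A] C₁
  have hcompat : ∀ (D : Type u) [CommRing D] [Algebra A D] (a : Localization.Away fA →+* D) (b : A' →+* D)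
      (ha : a.comp (algebraMap A (Localization.Away fA)) = algebraMap A D) (hb : b.comp (algebraMap A A') = algebraMap A D),
      (yon S).map (specOverMap (str := str) a ha) ≫ zU = (yon S).map (specOverMap b hb) ≫ zX := fun D _ _ a b ha hb =>
    agree _ _ _ (Over.OverMorphism.ext (by
      show Spec.map _ ≫ Spec.map _ = Spec.map _ ≫ Spec.map _
      rw [← Spec.map_comp, ← Spec.map_comp, ← CommRingCat.ofHom_comp, ← CommRingCat.ofHom_comp, ha, hb]))
  obtain ⟨α, hαA, hαγ, hαw⟩ : ∃ α : C₂ →+* M₁, ∃ hα : α.comp (algebraMap A C₂) = algebraMap A M₁,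
      α.comp γ₂ = algebraMap A' M₁ ∧
      (yon S).map (specOverMap (str := str) α hα) ≫ w₂ =
        (yon S).map (specOverMap (Algebra.TensorProduct.includeRight (A := A')).toRingHom
          (Algebra.TensorProduct.includeRight (R := A) (A := A') (B := C₁)).comp_algebraMap) ≫ w₁ := by
    let e : specOver str M₁ ⟶ specOver str C₁ :=
      specOverMap (Algebra.TensorProduct.includeRight (A := A')).toRingHom
        (Algebra.TensorProduct.includeRight (R := A) (A := A') (B := C₁)).comp_algebraMap
    let bX : specOver str M₁ ⟶ glueX A' str := specOverMap (algebraMap A' M₁) (IsScalarTower.algebraMap_eq A A' M₁).symm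
    have hc : ((yon S).map e ≫ w₁) ≫ w = (yon S).map bX ≫ zX := by
      rw [Category.assoc, hw₁, ← Functor.map_comp_assoc, specOverMap_comp]
      exact hcompat M₁ _ _ _ _
    let l : specOver str M₁ ⟶ V₂ := hw.rep.lift ((yon S).map e ≫ w₁) bX hc
    obtain ⟨α, hα, hα'⟩ := exists_specOverMap (C := C₂) (str := str) (l ≫ i₂.inv) (by
      rw [← hi₂, ← Over.comp_left, ← Over.comp_left, Category.assoc, Iso.inv_hom_id_assoc, ← Category.assoc,
        hw.rep.lift_snd]
      show Spec.map _ ≫ Spec.map _ = Spec.map _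
      rw [← Spec.map_comp, ← CommRingCat.ofHom_comp, ← IsScalarTower.algebraMap_eq])
    have hl : specOverMap (str := str) α hα ≫ i₂.hom = l := by rw [← hα', Category.assoc, Iso.inv_hom_id, Category.comp_id]
    refine ⟨α, hα, ?_, ?_⟩
    · have : specOverMap (str := str) α hα ≫ specOverMap γ₂ hγ₂ = bX := by
        rw [← hγ₂', ← Category.assoc, hl, hw.rep.lift_snd]
      rw [specOverMap_comp] at this
      exact congrArg CommRingCat.Hom.hom (Spec.map_injective (congrArg Over.Hom.left this))
    · rw [← Functor.map_comp_assoc, hl, hw.rep.lift_fst]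
  obtain ⟨β, hβA, hβw⟩ : ∃ β : C₁ →+* L₂, ∃ hβ : β.comp (algebraMap A C₁) = algebraMap A L₂,
      (yon S).map (specOverMap (str := str) β hβ) ≫ w₁ =
        (yon S).map (specOverMap (algebraMap C₂ L₂) (IsScalarTower.algebraMap_eq A C₂ L₂).symm) ≫ w₂ := by
    let e : specOver str L₂ ⟶ specOver str C₂ :=
      specOverMap (algebraMap C₂ L₂) (IsScalarTower.algebraMap_eq A C₂ L₂).symm
    let aU : Localization.Away fA →+* L₂ := IsLocalization.Away.lift fA (g := algebraMap A L₂) (by
      rw [IsScalarTower.algebraMap_apply A C₂ L₂]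
      exact IsLocalization.Away.algebraMap_isUnit _)
    let bU : specOver str L₂ ⟶ glueU fA str := specOverMap aU (IsLocalization.Away.lift_comp _ _)
    have hc : ((yon S).map e ≫ w₂) ≫ w = (yon S).map bU ≫ zU := by
      rw [Category.assoc, hw₂, ← Functor.map_comp_assoc, specOverMap_comp]
      exact (hcompat L₂ _ _ _ _).symm
    let l : specOver str L₂ ⟶ V₁ := hw.rep.lift ((yon S).map e ≫ w₂) bU hc
    obtain ⟨β, hβ, hβ'⟩ := exists_specOverMap (C := C₁) (str := str) (l ≫ i₁.inv) (by
      rw [← hi₁, ← Over.comp_left, ← Over.comp_left, Category.assoc, Iso.inv_hom_id_assoc, ← Category.assoc,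
        hw.rep.lift_snd]
      show Spec.map _ ≫ Spec.map _ = Spec.map _
      rw [← Spec.map_comp, ← CommRingCat.ofHom_comp, IsLocalization.Away.lift_comp])
    have hl : specOverMap (str := str) β hβ ≫ i₁.hom = l := by rw [← hβ', Category.assoc, Iso.inv_hom_id, Category.comp_id]
    exact ⟨β, hβ, by rw [← Functor.map_comp_assoc, hl, hw.rep.lift_fst]⟩
  have hαu : IsUnit (α (algebraMap A C₂ fA)) := by
    rw [← RingHom.comp_apply, hαA, ← (Algebra.TensorProduct.includeRight (R := A) (A := A') (B := C₁)).commutes]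
    exact hunit₁.map _
  let αL : L₂ →+* M₁ := IsLocalization.Away.lift (algebraMap A C₂ fA) hαu
  have hαL : αL.comp (algebraMap C₂ L₂) = α := IsLocalization.Away.lift_comp _ _
  let αA : L₂ →ₐ[A'] M₁ := ⟨αL, fun a => by
    rw [IsScalarTower.algebraMap_apply A' C₂ L₂]
    exact (DFunLike.congr_fun hαL _).trans (DFunLike.congr_fun hαγ a)⟩
  let βA : C₁ →ₐ[A] L₂ := ⟨β, fun a => DFunLike.congr_fun hβA a⟩
  let βM : M₁ →ₐ[A'] L₂ := Algebra.TensorProduct.lift (Algebra.ofId A' L₂) βA fun _ _ => Commute.all _ _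
  have hβM : ∀ c, βM ((1 : A') ⊗ₜ[A] c) = β c := fun c => by
    show Algebra.TensorProduct.lift _ _ _ _ = _
    rw [Algebra.TensorProduct.lift_tmul, map_one, one_mul]
    rfl
  have hαLA : αL.comp (algebraMap A L₂) = algebraMap A M₁ := by
    rw [IsScalarTower.algebraMap_eq A C₂ L₂, ← RingHom.comp_assoc, hαL, hαA]
  have hαβ : αL.comp β = (Algebra.TensorProduct.includeRight (R := A) (A := A') (B := C₁)).toRingHom := by
    refine ext₁ _ _ (by rw [RingHom.comp_assoc, hβA, hαLA])
      (Algebra.TensorProduct.includeRight (R := A) (A := A') (B := C₁)).comp_algebraMap ?_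
    rw [← specOverMap_comp β hβA αL hαLA, Functor.map_comp, Category.assoc, hβw, ← Functor.map_comp_assoc,
      specOverMap_comp, specOverMap_congr hαL, hαw]
  have hβα : βM.toRingHom.comp α = algebraMap C₂ L₂ := by
    have hβMA : βM.toRingHom.comp (algebraMap A M₁) = algebraMap A L₂ := (βM.restrictScalars A).comp_algebraMap
    refine ext₂ _ _ (by rw [RingHom.comp_assoc, hαA, hβMA]) (IsScalarTower.algebraMap_eq A C₂ L₂).symm ?_ ?_
    · rw [RingHom.comp_assoc, hαγ]
      exact βM.comp_algebraMap
    · rw [← specOverMap_comp α hαA βM.toRingHom hβMA, Functor.map_comp, Category.assoc, hαw,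
        ← Functor.map_comp_assoc, specOverMap_comp,
        specOverMap_congr (show βM.toRingHom.comp _ = β from RingHom.ext hβM), hβw]
  let Φ : L₂ ≃ₐ[A'] M₁ := AlgEquiv.ofAlgHom αA βM
    (Algebra.TensorProduct.ext' fun a c => by
      have e1 : a ⊗ₜ[A] c = algebraMap A' M₁ a * ((1 : A') ⊗ₜ[A] c) := by
        rw [Algebra.TensorProduct.algebraMap_apply, Algebra.TensorProduct.tmul_mul_tmul, one_mul]
        simp
      rw [e1, map_mul, map_mul, AlgHom.commutes, AlgHom.comp_apply, hβM]
      exact congrArg _ (DFunLike.congr_fun hαβ c))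
    (AlgHom.ext fun x => by
      refine DFunLike.congr_fun (f := (βM.toRingHom.comp αL)) (g := RingHom.id L₂) ?_ x
      refine IsLocalization.ringHom_ext (Submonoid.powers (algebraMap A C₂ fA)) ?_
      rw [RingHom.comp_assoc, hαL, hβα, RingHom.id_comp])
  -- the glued algebra
  obtain ⟨C, _, _, hC, e₁, e', he⟩ := S10727.result A A' fA hp C₁ hunit₁ C₂ Φ
  have he' : ∀ c : C, α (e' ((1 : A') ⊗ₜ[A] c)) = (1 : A') ⊗ₜ[A] e₁ (algebraMap C _ c) := fun c => by
    rw [← he, ← DFunLike.congr_fun hαL]
    rfl
  let μ : C →+* M₁ := α.comp (e'.toRingEquiv.toRingHom.comp (algebraMap C (A' ⊗[A] C)))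
  have hCe : Etale (Spec.map (CommRingCat.ofHom (algebraMap A C))) := by
    have h₁e : (algebraMap (Localization.Away fA) (Localization.Away fA)).Etale := RingHom.Etale.of_bijective Function.bijective_id
    have e₁e : γ₁.Etale := by
      have : Etale (Spec.map (CommRingCat.ofHom γ₁)) := by
        rw [show Spec.map (CommRingCat.ofHom γ₁) = i₁.hom.left ≫ r₁.left from
          (congrArg Over.Hom.left hγ₁').symm]
        have : Etale r₁.left := hw.property_snd zU
        infer_instance
      exact (HasRingHomProperty.Spec_iff (P := @Etale)).1 this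
    have e₂e : γ₂.Etale := by
      have : Etale (Spec.map (CommRingCat.ofHom γ₂)) := by
        rw [show Spec.map (CommRingCat.ofHom γ₂) = i₂.hom.left ≫ r₂.left from
          (congrArg Over.Hom.left hγ₂').symm]
        have : Etale r₂.left := hw.property_snd zX
        infer_instance
      exact (HasRingHomProperty.Spec_iff (P := @Etale)).1 this
    refine (HasRingHomProperty.Spec_iff (P := @Etale)).2
      ((S10724.result A A' fA hp A C (isGlueable_self hp) hC (Algebra.ofId A C)).2 ⟨?_, ?_⟩)
    · show (Localization.awayMap (Algebra.ofId A C).toRingHom fA).Etale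
      have : Localization.awayMap (Algebra.ofId A C).toRingHom fA =
          e₁.symm.toRingEquiv.toRingHom.comp γ₁ := by
        refine IsLocalization.ringHom_ext (Submonoid.powers fA) ?_
        rw [RingHom.comp_assoc, hγ₁]
        exact (IsLocalization.map_comp _).trans
          ((IsScalarTower.algebraMap_eq A C _).symm.trans e₁.symm.toAlgHom.comp_algebraMap.symm)
      rw [this]
      exact RingHom.Etale.respectsIso.1 _ e₁.symm.toRingEquiv e₁e
    · refine (?_ : (Algebra.TensorProduct.map (AlgHom.id A' A') (Algebra.ofId A C)).toRingHom.Etale)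
      have : (Algebra.TensorProduct.map (AlgHom.id A' A') (Algebra.ofId A C)).toRingHom =
          (e'.symm.toRingEquiv.toRingHom.comp γ₂).comp (Algebra.TensorProduct.rid A A' A').toRingEquiv.toRingHom := by
        refine RingHom.ext fun x => ?_
        induction x using TensorProduct.induction_on with
        | zero => rw [map_zero, map_zero]
        | add a b ha hb => rw [map_add, map_add, ha, hb]
        | tmul a r =>
          show a ⊗ₜ[A] algebraMap A C r = e'.symm (γ₂ ((Algebra.TensorProduct.rid A A' A') (a ⊗ₜ[A] r)))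
          rw [Algebra.TensorProduct.rid_tmul]
          refine Eq.trans ?_ (e'.symm.commutes (r • a)).symm
          rw [Algebra.TensorProduct.algebraMap_apply, Algebra.algebraMap_eq_smul_one, TensorProduct.tmul_smul,
            Algebra.algebraMap_self_apply, TensorProduct.smul_tmul']
      rw [this]
      exact RingHom.Etale.respectsIso.2 _ _ (RingHom.Etale.respectsIso.1 _ e'.symm.toRingEquiv e₂e)
  -- the map to the chart
  let W₀ := Γ(Wc.left, ⊤)
  obtain ⟨f₁, hf₁⟩ := Spec.map_surjective (((yon S).preimage w₁).left ≫ Wc.left.isoSpec.hom)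
  obtain ⟨f₂, hf₂⟩ := Spec.map_surjective (((yon S).preimage w₂).left ≫ Wc.left.isoSpec.hom)
  have hf : ∀ x, α (f₂.hom x) = (1 : A') ⊗ₜ[A] f₁.hom x := by
    have h0 : specOverMap α hαA ≫ (yon S).preimage w₂ =
        specOverMap (Algebra.TensorProduct.includeRight (R := A) (A := A') (B := C₁)).toRingHom
          (Algebra.TensorProduct.includeRight (R := A) (A := A') (B := C₁)).comp_algebraMap ≫
          (yon S).preimage w₁ := (yon S).map_injective (by simpa using hαw)
    have h1 : f₂ ≫ CommRingCat.ofHom α = f₁ ≫ CommRingCat.ofHom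
        (Algebra.TensorProduct.includeRight (R := A) (A := A') (B := C₁)).toRingHom := by
      apply Spec.map_injective
      rw [Spec.map_comp, Spec.map_comp, hf₁, hf₂, ← Category.assoc, ← Category.assoc]
      exact congrArg (· ≫ Wc.left.isoSpec.hom) (congrArg Over.Hom.left h0)
    exact fun x => congrArg (fun m => m.hom x) h1
  obtain ⟨ψ, hψ₂, hψ₁⟩ := exists_ringHom_glue hp.1 hC (W := W₀) (e₁.symm.toRingEquiv.toRingHom.comp f₁.hom)
    (e'.symm.toRingEquiv.toRingHom.comp f₂.hom) (by
      let j : Localization.Away (algebraMap C (A' ⊗[A] C) (algebraMap A C fA)) →+* L₂ :=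
        IsLocalization.Away.lift (algebraMap C (A' ⊗[A] C) (algebraMap A C fA))
          (g := (algebraMap C₂ L₂).comp e'.toRingEquiv.toRingHom) (by
          have : e'.toRingEquiv.toRingHom (algebraMap C (A' ⊗[A] C) (algebraMap A C fA)) = algebraMap A C₂ fA := by
            rw [← IsScalarTower.algebraMap_apply A C (A' ⊗[A] C)]
            exact (e'.toAlgHom.restrictScalars A).commutes fA
          rw [RingHom.comp_apply, this]
          exact IsLocalization.Away.algebraMap_isUnit _)
      have hj : Function.Injective j := by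
        have hm : algebraMap C (A' ⊗[A] C) (algebraMap A C fA) = e'.symm.toRingEquiv.toRingHom (algebraMap A C₂ fA) := by
          rw [← IsScalarTower.algebraMap_apply A C (A' ⊗[A] C)]
          exact ((e'.symm.toAlgHom.restrictScalars A).commutes fA).symm
        let k : L₂ →+* Localization.Away (algebraMap C (A' ⊗[A] C) (algebraMap A C fA)) :=
          IsLocalization.Away.lift (algebraMap A C₂ fA) (g := (algebraMap (A' ⊗[A] C) _).comp e'.symm.toRingEquiv.toRingHom)
            (by rw [RingHom.comp_apply, ← hm]; exact IsLocalization.Away.algebraMap_isUnit _)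
        refine Function.LeftInverse.injective (g := k) (DFunLike.congr_fun (f := k.comp j) (g := RingHom.id _) ?_)
        refine IsLocalization.ringHom_ext (Submonoid.powers (algebraMap C (A' ⊗[A] C) (algebraMap A C fA))) ?_
        refine RingHom.ext fun x => ?_
        simp [k, j]
      intro x
      refine hj (Φ.injective ?_)
      rw [IsLocalization.Away.lift_eq]
      have hk : αL.comp (j.comp (Localization.awayMap (algebraMap C (A' ⊗[A] C)) (algebraMap A C fA))) =
          (Algebra.TensorProduct.includeRight (R := A) (A := A') (B := C₁)).toRingHom.comp e₁.toRingEquiv.toRingHom := by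
        refine IsLocalization.ringHom_ext (Submonoid.powers (algebraMap A C fA)) (RingHom.ext fun c => ?_)
        show αL (j (Localization.awayMap _ _ (algebraMap C _ c))) = _
        rw [Localization.awayMap, IsLocalization.Away.map, IsLocalization.map_eq, IsLocalization.Away.lift_eq]
        exact (DFunLike.congr_fun hαL _).trans (he' c)
      refine ((DFunLike.congr_fun hαL _).trans ?_).trans (DFunLike.congr_fun hk _).symm
      show α (e' (e'.symm (f₂.hom x))) = (1 : A') ⊗ₜ[A] e₁ (e₁.symm (f₁.hom x))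
      rw [AlgEquiv.apply_symm_apply, AlgEquiv.apply_symm_apply, hf x])
  let eU : specOver str C₁ ⟶ specOver str C :=
    specOverMap (e₁.toRingEquiv.toRingHom.comp (algebraMap C _)) (by
      rw [RingHom.comp_assoc, ← IsScalarTower.algebraMap_eq]; exact e₁.toAlgHom.comp_algebraMap)
  let eX : specOver str C₂ ⟶ specOver str C :=
    specOverMap (e'.toRingEquiv.toRingHom.comp (algebraMap C (A' ⊗[A] C))) (by
      rw [RingHom.comp_assoc, ← IsScalarTower.algebraMap_eq]
      exact (e'.toAlgHom.restrictScalars A).comp_algebraMap)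
  have hWS : ∀ {D : Type u} [CommRing D] (a b : Spec (CommRingCat.of D) ⟶ Wc.left),
      a ≫ Wc.left.isoSpec.hom = b ≫ Wc.left.isoSpec.hom → a = b := fun a b h => (cancel_mono Wc.left.isoSpec.hom).1 h
  obtain ⟨⟨hmap, hmap'⟩, -⟩ : (∃ h : specOver str C ⟶ Wc, h.left = Spec.map (CommRingCat.ofHom ψ) ≫ Wc.left.isoSpec.inv) ∧ True := by
    refine ⟨⟨CategoryTheory.Over.homMk (Spec.map (CommRingCat.ofHom ψ) ≫ Wc.left.isoSpec.inv) ?_, rfl⟩, trivial⟩
    obtain ⟨σ, hσ⟩ := Spec.map_surjective ((Spec.map (CommRingCat.ofHom (algebraMap A C)) ≫ str) ≫ S.isoSpec.hom)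
    obtain ⟨τ, hτ⟩ := Spec.map_surjective ((Wc.left.isoSpec.inv ≫ Wc.hom) ≫ S.isoSpec.hom)
    have key : τ ≫ CommRingCat.ofHom ψ = σ := by
      apply CommRingCat.hom_ext
      obtain ⟨-, hinj, -, -⟩ := EtGlue7.glueingPair_of_isGlueable hp.1 C hC
      refine RingHom.ext fun s => hinj (Prod.ext ?_ ?_)
      · have h1 : τ ≫ CommRingCat.ofHom ((algebraMap C (A' ⊗[A] C)).comp ψ) =
            σ ≫ CommRingCat.ofHom (algebraMap C (A' ⊗[A] C)) := by
          apply Spec.map_injective
          rw [hψ₂, CommRingCat.ofHom_comp, Spec.map_comp, Spec.map_comp, Spec.map_comp, CommRingCat.ofHom_hom, hf₂, hσ, hτ]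
          simp only [Category.assoc, Iso.hom_inv_id_assoc]
          rw [← Category.assoc _ Wc.hom, Over.w ((yon S).preimage w₂)]
          show _ ≫ (_ ≫ str) ≫ _ = _
          simp only [← Category.assoc, ← Spec.map_comp, ← CommRingCat.ofHom_comp]
          congr 4
          rw [← IsScalarTower.algebraMap_eq]
          exact (e'.symm.toAlgHom.restrictScalars A).comp_algebraMap
        exact congrArg (fun m => m.hom s) h1
      · have h1 : τ ≫ CommRingCat.ofHom ((algebraMap C (Localization.Away (algebraMap A C fA))).comp ψ) =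
            σ ≫ CommRingCat.ofHom (algebraMap C (Localization.Away (algebraMap A C fA))) := by
          apply Spec.map_injective
          rw [hψ₁, CommRingCat.ofHom_comp, Spec.map_comp, Spec.map_comp, Spec.map_comp, CommRingCat.ofHom_hom, hf₁, hσ, hτ]
          simp only [Category.assoc, Iso.hom_inv_id_assoc]
          rw [← Category.assoc _ Wc.hom, Over.w ((yon S).preimage w₁)]
          show _ ≫ (_ ≫ str) ≫ _ = _
          simp only [← Category.assoc, ← Spec.map_comp, ← CommRingCat.ofHom_comp]
          congr 4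
          rw [← IsScalarTower.algebraMap_eq]
          exact e₁.symm.toAlgHom.comp_algebraMap
        exact congrArg (fun m => m.hom s) h1
    rw [← cancel_mono S.isoSpec.hom]
    show ((Spec.map _ ≫ Wc.left.isoSpec.inv) ≫ Wc.hom) ≫ _ = (Spec.map _ ≫ str) ≫ _
    rw [← hσ, ← key, Spec.map_comp, hτ]
    simp only [Category.assoc]
  have hUw : eU ≫ hmap = (yon S).preimage w₁ := Over.OverMorphism.ext (hWS _ _ (by
    rw [Over.comp_left, hmap', Category.assoc, Category.assoc, Iso.inv_hom_id, Category.comp_id, ← hf₁]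
    show Spec.map _ ≫ Spec.map _ = _
    rw [← Spec.map_comp, ← CommRingCat.ofHom_comp, RingHom.comp_assoc, hψ₁, ← RingHom.comp_assoc]
    congr 1
    ext x
    exact e₁.apply_symm_apply _))
  have hXw : eX ≫ hmap = (yon S).preimage w₂ := Over.OverMorphism.ext (hWS _ _ (by
    rw [Over.comp_left, hmap', Category.assoc, Category.assoc, Iso.inv_hom_id, Category.comp_id, ← hf₂]
    show Spec.map _ ≫ Spec.map _ = _
    rw [← Spec.map_comp, ← CommRingCat.ofHom_comp, RingHom.comp_assoc, hψ₂, ← RingHom.comp_assoc]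
    congr 1
    ext x
    exact e'.apply_symm_apply _))
  let φC : specOver str C ⟶ Over.mk str :=
    CategoryTheory.Over.homMk (Spec.map (CommRingCat.ofHom (algebraMap A C))) rfl
  let z : (yon S).obj (specOver str C) ⟶ Z := (yon S).map hmap ≫ w
  have hzU : (yon S).map eU ≫ z = (yon S).map (specOverMap γ₁ hγ₁) ≫ zU := by
    rw [← Functor.map_comp_assoc, hUw, Functor.map_preimage, hw₁]
  have hzX : (yon S).map eX ≫ z = (yon S).map (specOverMap γ₂ hγ₂) ≫ zX := by
    rw [← Functor.map_comp_assoc, hXw, Functor.map_preimage, hw₂]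
  have hUφ : eU ≫ φC = specOverMap γ₁ hγ₁ ≫ glueUι fA str := Over.OverMorphism.ext (by
    show Spec.map _ ≫ Spec.map _ = Spec.map _ ≫ Spec.map _
    rw [← Spec.map_comp, ← Spec.map_comp, ← CommRingCat.ofHom_comp, ← CommRingCat.ofHom_comp, hγ₁, RingHom.comp_assoc,
      ← IsScalarTower.algebraMap_eq]
    exact congrArg (fun m => Spec.map (CommRingCat.ofHom m)) e₁.toAlgHom.comp_algebraMap)
  have hXφ : eX ≫ φC = specOverMap γ₂ hγ₂ ≫ glueXι A' str := Over.OverMorphism.ext (by
    show Spec.map _ ≫ Spec.map _ = Spec.map _ ≫ Spec.map _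
    rw [← Spec.map_comp, ← Spec.map_comp, ← CommRingCat.ofHom_comp, ← CommRingCat.ofHom_comp, hγ₂, RingHom.comp_assoc,
      ← IsScalarTower.algebraMap_eq]
    exact congrArg (fun m => Spec.map (CommRingCat.ofHom m)) (e'.toAlgHom.restrictScalars A).comp_algebraMap)
  refine ⟨specOver str C, φC, z, hCe, ?_, ?_, ?_⟩
  · rcases hq with ⟨t, ht, htx⟩ | ⟨t, ht, htx⟩
    · obtain ⟨v, hv⟩ := (Groth.Agent.S10705.mem_range_snd_iff hw.rep zU t).2
        ⟨Points.ofScheme _ ⟨v₀, hvK⟩, by rw [← Points.ofPt_eq_map_ofScheme, hwq, htx]⟩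
      refine ⟨eU.left (i₁.inv.left v), ?_⟩
      have h : i₁.inv ≫ eU ≫ φC = r₁ ≫ glueUι fA str := by
        rw [hUφ, ← hγ₁', Category.assoc, Iso.inv_hom_id_assoc]
      rw [← Scheme.Hom.comp_apply, ← Scheme.Hom.comp_apply, ← Over.comp_left, ← Over.comp_left, h, Over.comp_left,
        Scheme.Hom.comp_apply, hv, ht]
    · obtain ⟨v, hv⟩ := (Groth.Agent.S10705.mem_range_snd_iff hw.rep zX t).2
        ⟨Points.ofScheme _ ⟨v₀, hvK⟩, by rw [← Points.ofPt_eq_map_ofScheme, hwq, htx]⟩
      refine ⟨eX.left (i₂.inv.left v), ?_⟩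
      have h : i₂.inv ≫ eX ≫ φC = r₂ ≫ glueXι A' str := by
        rw [hXφ, ← hγ₂', Category.assoc, Iso.inv_hom_id_assoc]
      rw [← Scheme.Hom.comp_apply, ← Scheme.Hom.comp_apply, ← Over.comp_left, ← Over.comp_left, h, Over.comp_left,
        Scheme.Hom.comp_apply, hv, ht]
  · intro V g b hgb
    have hiso : IsIso (Spec.map (CommRingCat.ofHom e₁.toRingEquiv.toRingHom)) :=
      inferInstanceAs (IsIso (Spec.map e₁.toRingEquiv.toCommRingCatIso.hom))
    have heU : eU.left = Spec.map (CommRingCat.ofHom e₁.toRingEquiv.toRingHom) ≫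
        Spec.map (CommRingCat.ofHom (algebraMap C (Localization.Away (algebraMap A C fA)))) := by
      rw [← Spec.map_comp, ← CommRingCat.ofHom_comp]
      rfl
    have : IsOpenImmersion (Spec.map (CommRingCat.ofHom (algebraMap C (Localization.Away (algebraMap A C fA))))) :=
      IsOpenImmersion.of_isLocalization (algebraMap A C fA)
    have : IsOpenImmersion eU.left := by rw [heU]; infer_instance
    have hrange : Set.range g.left ⊆ Set.range eU.left := by
      rintro _ ⟨x, rfl⟩
      have hx : φC.left (g.left x) ∈ ((PrimeSpectrum.basicOpen fA : TopologicalSpace.Opens (PrimeSpectrum A)) : Set (PrimeSpectrum A)) := by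
        rw [← Scheme.Hom.comp_apply, ← Over.comp_left, hgb, Over.comp_left, Scheme.Hom.comp_apply,
          ← PrimeSpectrum.localization_away_comap_range (Localization.Away fA) fA]
        exact ⟨_, rfl⟩
      have hx' : g.left x ∈ ((PrimeSpectrum.basicOpen (algebraMap A C fA) : TopologicalSpace.Opens (PrimeSpectrum C)) : Set (PrimeSpectrum C)) := hx
      rw [← PrimeSpectrum.localization_away_comap_range (Localization.Away (algebraMap A C fA)) (algebraMap A C fA)] at hx'
      obtain ⟨y, hy⟩ := hx'
      obtain ⟨y', hy'⟩ := (Spec.map (CommRingCat.ofHom e₁.toRingEquiv.toRingHom)).homeomorph.surjective y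
      exact ⟨y', by rw [heU, Scheme.Hom.comp_apply]; exact (congrArg _ hy').trans hy⟩
    let k : V ⟶ specOver str C₁ := CategoryTheory.Over.homMk (IsOpenImmersion.lift eU.left g.left hrange) (by
      rw [← Over.w eU, IsOpenImmersion.lift_fac_assoc, Over.w g])
    have hk : k ≫ eU = g := Over.OverMorphism.ext (IsOpenImmersion.lift_fac _ _ _)
    have hkb : k ≫ specOverMap γ₁ hγ₁ = b := by
      have : IsOpenImmersion (glueUι fA str).left := IsOpenImmersion.of_isLocalization fA
      refine Over.OverMorphism.ext ((cancel_mono (glueUι fA str).left).1 ?_)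
      rw [← Over.comp_left, ← Over.comp_left, Category.assoc, ← hUφ, ← Category.assoc, hk, hgb]
    rw [← hk, Functor.map_comp, Category.assoc, hzU, ← Functor.map_comp_assoc, hkb]
  · intro V g b hgb
    have hsq : CategoryTheory.IsPullback (Spec.map (CommRingCat.ofHom Algebra.TensorProduct.includeLeftRingHom))
        (Spec.map (CommRingCat.ofHom (algebraMap C (A' ⊗[A] C))))
        (Spec.map (CommRingCat.ofHom (algebraMap A A'))) (Spec.map (CommRingCat.ofHom (algebraMap A C))) :=
      isPullback_SpecMap_of_isPushout _ _ _ _ (CommRingCat.isPushout_tensorProduct A A' C)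
    let l := hsq.lift b.left g.left (congrArg Over.Hom.left hgb).symm
    have hid : CommRingCat.ofHom e'.toRingEquiv.toRingHom ≫ CommRingCat.ofHom e'.symm.toRingEquiv.toRingHom = 𝟙 _ :=
      CommRingCat.hom_ext (RingHom.ext e'.symm_apply_apply)
    have hk₀ : (l ≫ Spec.map (CommRingCat.ofHom e'.symm.toRingEquiv.toRingHom)) ≫ eX.left = g.left := by
      show _ ≫ Spec.map (CommRingCat.ofHom _) = _
      rw [CommRingCat.ofHom_comp, Spec.map_comp, Category.assoc, ← Spec.map_comp_assoc, hid, Spec.map_id,
        Category.id_comp]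
      exact hsq.lift_snd _ _ _
    let k : V ⟶ specOver str C₂ := CategoryTheory.Over.homMk (l ≫ Spec.map (CommRingCat.ofHom e'.symm.toRingEquiv.toRingHom)) (by
      rw [← Over.w eX, ← Category.assoc, hk₀, Over.w g])
    have hk : k ≫ eX = g := Over.OverMorphism.ext hk₀
    have hkb : k ≫ specOverMap γ₂ hγ₂ = b := Over.OverMorphism.ext (by
      show (l ≫ _) ≫ Spec.map _ = _
      rw [Category.assoc, ← Spec.map_comp, ← CommRingCat.ofHom_comp]
      refine (congrArg (fun m => l ≫ Spec.map (CommRingCat.ofHom m)) ?_).trans (hsq.lift_fst _ _ _)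
      exact RingHom.ext fun a => e'.symm.commutes a)
    rw [← hk, Functor.map_comp, Category.assoc, hzX, ← Functor.map_comp_assoc, hkb]

end Groth.Agent.AlgSpDec
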