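import Mathlib.AlgebraicGeometry.ZariskisMainTheorem
import Mathlib.AlgebraicGeometry.Morphisms.Finite
import Mathlib.AlgebraicGeometry.Morphisms.UniversallyInjective
import Mathlib.AlgebraicGeometry.Morphisms.Etale
import Groth.Agent.EtGlue7.Alg

/-!
# Monomorphisms with sections over a glueing pair have sections étale locally
-/

set_option backward.isDefEq.respectTransparency false
set_option backward.isDefEq.respectTransparency.types false

noncomputable section

universe u

open CategoryTheory Limits AlgebraicGeometry TensorProduct Groth.Agent.EtGlue7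

attribute [local instance] Algebra.TensorProduct.rightAlgebra

namespace Groth.Agent.AlgSpDec

theorem quotOne_bijective {R R' : Type u} [CommRing R] [CommRing R'] [Algebra R R'] {f : R}
    (hq : EtGlue.QuotPowBijective R R' f) : Function.Bijective
      (Ideal.quotientMap (Ideal.map (algebraMap R R') (Ideal.span {f})) (algebraMap R R') Ideal.le_comap_map) := by
  suffices ∀ a : R, a = f → Function.Bijective
      (Ideal.quotientMap (Ideal.map (algebraMap R R') (Ideal.span {a})) (algebraMap R R') Ideal.le_comap_map) from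
    this f rfl
  intro a ha
  obtain rfl : a = f ^ 1 := ha.trans (pow_one f).symm
  exact hq 1 one_pos

theorem locallyQuasiFinite_of_mono {X Y : Scheme.{u}} (f : X ⟶ Y) [Mono f] [LocallyOfFiniteType f] :
    LocallyQuasiFinite f :=
  LocallyQuasiFinite.of_injective f.injective

/-- A monomorphism locally of finite type over an affine scheme, all whose affine etale neighbourhoods are
glueable, which has sections over the two pieces of a glueing pair has sections etale locally. -/
theorem exists_etale_lift_of_glueable {R R' : Type u} [CommRing R] [CommRing R'] [Algebra R R'] {f : R}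
    (hq : EtGlue.QuotPowBijective R R' f) (A : Type u) [CommRing A] [Algebra R A]
    (hA : ∀ (C : Type u) [CommRing C] [Algebra R C] [Algebra A C] [IsScalarTower R A C],
      Etale (Spec.map (CommRingCat.ofHom (algebraMap A C))) → EtGlue.IsGlueable R R' f C)
    {E : Scheme.{u}} (e : E ⟶ Spec (.of A)) [Mono e] [LocallyOfFiniteType e]
    (sU : Spec (.of (Localization.Away (algebraMap R A f))) ⟶ E)
    (hU : sU ≫ e = Spec.map (CommRingCat.ofHom (algebraMap A (Localization.Away (algebraMap R A f)))))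
    (sX : Spec (.of (R' ⊗[R] A)) ⟶ E)
    (hX : sX ≫ e = Spec.map (CommRingCat.ofHom (algebraMap A (R' ⊗[R] A))))
    (p : ↥(Spec (.of A))) :
    ∃ (U : Scheme.{u}) (u : U ⟶ Spec (.of A)) (l : U ⟶ E), Etale u ∧ p ∈ Set.range u ∧ l ≫ e = u := by
  -- the pulled back sections
  have sec : ∀ (C : Type u) [CommRing C] [Algebra R C] [Algebra A C] [IsScalarTower R A C],
      (∃ s : Spec (.of (Localization.Away (algebraMap R C f))) ⟶ E,
        s ≫ e = Spec.map (CommRingCat.ofHom (algebraMap C (Localization.Away (algebraMap R C f)))) ≫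
          Spec.map (CommRingCat.ofHom (algebraMap A C))) ∧
      (∃ s : Spec (.of (R' ⊗[R] C)) ⟶ E,
        s ≫ e = Spec.map (CommRingCat.ofHom (algebraMap C (R' ⊗[R] C))) ≫
          Spec.map (CommRingCat.ofHom (algebraMap A C))) := by
    intro C _ _ _ _
    constructor
    · have hu : IsUnit (((algebraMap C (Localization.Away (algebraMap R C f))).comp (algebraMap A C))
          (algebraMap R A f)) := by
        rw [RingHom.comp_apply, ← IsScalarTower.algebraMap_apply R A C]
        exact IsLocalization.Away.algebraMap_isUnit _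
      refine ⟨Spec.map (CommRingCat.ofHom (IsLocalization.Away.lift (algebraMap R A f) hu)) ≫ sU, ?_⟩
      rw [Category.assoc, hU, ← Spec.map_comp, ← Spec.map_comp, ← CommRingCat.ofHom_comp, ← CommRingCat.ofHom_comp,
        IsLocalization.Away.lift_comp]
    · refine ⟨Spec.map (CommRingCat.ofHom (Algebra.TensorProduct.map (AlgHom.id R R')
        (IsScalarTower.toAlgHom R A C)).toRingHom) ≫ sX, ?_⟩
      rw [Category.assoc, hX, ← Spec.map_comp, ← Spec.map_comp, ← CommRingCat.ofHom_comp, ← CommRingCat.ofHom_comp]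
      congr 2
  -- a point of `E` over `p`
  obtain ⟨x, hx⟩ : ∃ x, e x = p := by
    rcases jointly_surjective (R := A) (R' := R' ⊗[R] A) (f := algebraMap R A f)
      (quotOne_bijective (quotPow_tensor hq A)) p with ⟨q, hq'⟩ | ⟨q, hq'⟩
    · refine ⟨sX q, ?_⟩
      rw [← Scheme.Hom.comp_apply, hX]
      exact hq'
    · refine ⟨sU q, ?_⟩
      rw [← Scheme.Hom.comp_apply, hU]
      exact hq'
  have := locallyQuasiFinite_of_mono e
  obtain ⟨U₁, g, hg, -, V₁, W₁, v, hVW, hfin, hv⟩ :=
    exists_etale_isCompl_of_quasiFiniteAt e (x := x) rfl (e.quasiFiniteAt x)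
  -- an affine neighbourhood
  obtain ⟨U₀, hU₀, hu₀⟩ : ∃ U₀ : U₁.Opens, IsAffineOpen U₀ ∧ pullback.snd e g v.1 ∈ U₀ := by
    obtain ⟨_, ⟨U₀, hU₀, rfl⟩, hu, -⟩ := U₁.isBasis_affineOpens.exists_subset_of_mem_open
      (Set.mem_univ (pullback.snd e g v.1)) isOpen_univ
    exact ⟨U₀, hU₀, hu⟩
  let C : Type u := Γ(U₁, U₀)
  let φ : CommRingCat.of A ⟶ Γ(U₁, U₀) := Spec.preimage (hU₀.fromSpec ≫ g)
  let _ : Algebra A C := φ.hom.toAlgebra
  let _ : Algebra R C := (φ.hom.comp (algebraMap R A)).toAlgebra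
  have : IsScalarTower R A C := IsScalarTower.of_algebraMap_eq' rfl
  let gC : Spec (.of C) ⟶ Spec (.of A) := Spec.map (CommRingCat.ofHom (algebraMap A C))
  have hgC : gC = hU₀.fromSpec ≫ g := Spec.map_preimage _
  have hgCe : Etale gC := by
    rw [hgC]
    infer_instance
  have hCg := hA C hgCe
  -- the finite part
  let θ : pullback e gC ⟶ pullback e g := pullback.map e gC e g (𝟙 _) hU₀.fromSpec (𝟙 _) (by simp) (by simp [hgC])
  have sqθ : IsPullback θ (pullback.snd e gC) (pullback.snd e g) hU₀.fromSpec := by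
    refine IsPullback.of_right ?_ (pullback.lift_snd _ _ _) (IsPullback.of_hasPullback e g)
    have : θ ≫ pullback.fst e g = pullback.fst e gC := by simp [θ]
    rw [this, ← hgC]
    exact IsPullback.of_hasPullback e gC
  let V : (pullback e gC).Opens := θ ⁻¹ᵁ V₁
  have : IsFinite (V.ι ≫ pullback.snd e gC) :=
    MorphismProperty.of_isPullback ((isPullback_morphismRestrict θ V₁).paste_vert sqθ) hfin
  have : IsClosedImmersion (V.ι ≫ pullback.snd e gC) :=
    (IsClosedImmersion.iff_isFinite_and_mono _).2 ⟨inferInstance, inferInstance⟩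
  have hVc : IsClopen (V : Set ↥(pullback e gC)) := by
    refine ⟨?_, V.2⟩
    refine IsClosed.preimage θ.continuous ?_
    have h0 : (V₁ : Set ↥(pullback e g)) = (W₁ : Set ↥(pullback e g))ᶜ :=
      eq_compl_iff_isCompl.mpr (hVW.map TopologicalSpace.Opens.frameHom)
    exact (h0 ▸ W₁.2.isClosed_compl : IsClosed (V₁ : Set ↥(pullback e g)))
  let Z : Set (PrimeSpectrum C) := pullback.snd e gC '' (V : Set ↥(pullback e gC))
  -- pulled back sections to the pullback
  have hsec : ∀ (C' : Type u) [CommRing C'] (j : C →+* C') (s : Spec (.of C') ⟶ E),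
      s ≫ e = Spec.map (CommRingCat.ofHom j) ≫ gC →
      ∃ t : Spec (.of C') ⟶ pullback e gC, t ≫ pullback.snd e gC = Spec.map (CommRingCat.ofHom j) ∧
        IsClopen (PrimeSpectrum.comap j ⁻¹' Z) ∧ ∀ q, PrimeSpectrum.comap j q ∈ Z ↔ t q ∈ V := by
    intro C' _ j s hs
    let t := pullback.lift s (Spec.map (CommRingCat.ofHom j)) hs
    have ht : ∀ q, pullback.snd e gC (t q) = PrimeSpectrum.comap j q := fun q => by
      rw [← Scheme.Hom.comp_apply, pullback.lift_snd]; rfl
    have hiff : ∀ q, PrimeSpectrum.comap j q ∈ Z ↔ t q ∈ V := fun q => by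
      constructor
      · rintro ⟨w, hw, hwq⟩
        rwa [show t q = w from (pullback.snd e gC).injective ((ht q).trans hwq.symm)]
      · exact fun h => ⟨t q, h, ht q⟩
    refine ⟨t, pullback.lift_snd _ _ _, ?_, hiff⟩
    rw [show PrimeSpectrum.comap j ⁻¹' Z = t ⁻¹' (V : Set ↥(pullback e gC)) from Set.ext hiff]
    exact hVc.preimage t.continuous
  obtain ⟨⟨sf, hsf⟩, ⟨sx, hsx⟩⟩ := sec C
  obtain ⟨tf, -, hcf, -⟩ := hsec _ (algebraMap C (Localization.Away (algebraMap R C f))) sf hsf
  obtain ⟨tx, -, hcx, -⟩ := hsec _ (algebraMap C (R' ⊗[R] C)) sx hsx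
  obtain ⟨ef, hef, hef'⟩ := PrimeSpectrum.exists_idempotent_basicOpen_eq_of_isClopen hcf.compl
  obtain ⟨ex, hex, hex'⟩ := PrimeSpectrum.exists_idempotent_basicOpen_eq_of_isClopen hcx.compl
  obtain ⟨-, hinj, hmid, -⟩ := glueingPair_of_isGlueable hq C hCg
  obtain ⟨ε, hεx, hεf⟩ := hmid ex ef (by
    refine PrimeSpectrum.basicOpen_injOn_isIdempotentElem (hex.map _) (hef.map _) ?_
    refine TopologicalSpace.Opens.ext (Set.ext fun q => ?_)
    have h1 := Set.ext_iff.1 hex' (PrimeSpectrum.comap (algebraMap (R' ⊗[R] C) _) q)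
    have h2 := Set.ext_iff.1 hef' (PrimeSpectrum.comap
      (Localization.awayMap (algebraMap C (R' ⊗[R] C)) (algebraMap R C f)) q)
    refine h1.symm.trans (Iff.trans ?_ h2)
    have hm : (algebraMap (R' ⊗[R] C) (Localization.Away (algebraMap C (R' ⊗[R] C) (algebraMap R C f)))).comp
        (algebraMap C (R' ⊗[R] C)) = (Localization.awayMap (algebraMap C (R' ⊗[R] C)) (algebraMap R C f)).comp
        (algebraMap C (Localization.Away (algebraMap R C f))) := (IsLocalization.map_comp _).symm
    have hc : PrimeSpectrum.comap (algebraMap C (R' ⊗[R] C))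
        (PrimeSpectrum.comap (algebraMap (R' ⊗[R] C)
          (Localization.Away (algebraMap C (R' ⊗[R] C) (algebraMap R C f)))) q) =
        PrimeSpectrum.comap (algebraMap C (Localization.Away (algebraMap R C f)))
          (PrimeSpectrum.comap (Localization.awayMap (algebraMap C (R' ⊗[R] C)) (algebraMap R C f)) q) := by
      rw [← PrimeSpectrum.comap_comp_apply, ← PrimeSpectrum.comap_comp_apply]
      rw [hm]
    simp only [Set.mem_compl_iff, Set.mem_preimage, hc])
  have hε : IsIdempotentElem ε := hinj (Prod.ext (by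
    show algebraMap C (R' ⊗[R] C) (ε * ε) = _
    rw [map_mul, hεx]; exact hex.eq.trans hεx.symm) (by
    show algebraMap C (Localization.Away (algebraMap R C f)) (ε * ε) = _
    rw [map_mul, hεf]; exact hef.eq.trans hεf.symm))
  have hZ : ∀ c : PrimeSpectrum C, c ∈ Z ↔ ε ∈ c.asIdeal := by
    intro c
    rcases jointly_surjective (R := C) (R' := R' ⊗[R] C) (f := algebraMap R C f)
      (quotOne_bijective (quotPow_tensor hq C)) c with ⟨q, rfl⟩ | ⟨q, rfl⟩
    · show _ ↔ algebraMap C (R' ⊗[R] C) ε ∈ q.asIdeal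
      rw [hεx]
      exact not_iff_not.1 (Set.ext_iff.1 hex' q)
    · show _ ↔ algebraMap C (Localization.Away (algebraMap R C f)) ε ∈ q.asIdeal
      rw [hεf]
      exact not_iff_not.1 (Set.ext_iff.1 hef' q)
  -- the neighbourhood
  let D : Type u := Localization.Away (1 - ε)
  let iD : Spec (.of D) ⟶ Spec (.of C) := Spec.map (CommRingCat.ofHom (algebraMap C D))
  have : IsOpenImmersion iD := IsOpenImmersion.of_isLocalization (1 - ε)
  have hAD : Spec.map (CommRingCat.ofHom (algebraMap A D)) = iD ≫ gC := by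
    rw [← Spec.map_comp, ← CommRingCat.ofHom_comp, ← IsScalarTower.algebraMap_eq]
  have hDe : Etale (Spec.map (CommRingCat.ofHom (algebraMap A D))) := by
    rw [hAD]; infer_instance
  have hDg := hA D hDe
  obtain ⟨-, hinjD, -, -⟩ := glueingPair_of_isGlueable hq D hDg
  let k : pullback (V.ι ≫ pullback.snd e gC) iD ⟶ Spec (.of D) := pullback.snd _ _
  -- sections over the two pieces
  have hlift : ∀ (D' : Type u) [CommRing D'] (j : D →+* D') (s : Spec (.of D') ⟶ E),
      s ≫ e = Spec.map (CommRingCat.ofHom j) ≫ Spec.map (CommRingCat.ofHom (algebraMap A D)) →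
      ∃ σ : Spec (.of D') ⟶ pullback (V.ι ≫ pullback.snd e gC) iD, σ ≫ k = Spec.map (CommRingCat.ofHom j) := by
    intro D' _ j s hs
    obtain ⟨t, ht, -, hiff⟩ := hsec D' (j.comp (algebraMap C D)) s (by
      rw [hs, hAD, CommRingCat.ofHom_comp, Spec.map_comp, Category.assoc])
    have hr : Set.range t ⊆ Set.range V.ι := by
      rintro _ ⟨q, rfl⟩
      rw [Scheme.Opens.range_ι]
      refine (hiff q).1 ((hZ _).2 ?_)
      by_contra hq'
      have h0 : (1 - ε) * ε = 0 := by rw [sub_mul, one_mul, hε.eq, sub_self]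
      have h1 := (PrimeSpectrum.comap (j.comp (algebraMap C D)) q).isPrime.mem_or_mem (h0 ▸ Ideal.zero_mem _)
      have h2 : IsUnit (j (algebraMap C D (1 - ε))) := (IsLocalization.Away.algebraMap_isUnit _).map _
      exact q.isPrime.ne_top (Ideal.eq_top_of_isUnit_mem _ (h1.resolve_right hq') h2)
    refine ⟨pullback.lift (IsOpenImmersion.lift V.ι t hr) (Spec.map (CommRingCat.ofHom j)) ?_,
      pullback.lift_snd _ _ _⟩
    rw [IsOpenImmersion.lift_fac_assoc, ht, ← Spec.map_comp, ← CommRingCat.ofHom_comp]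
  obtain ⟨J, ee, hk⟩ := (IsClosedImmersion.Spec_iff (f := k)).1 inferInstance
  have hker : ∀ (D' : Type u) [CommRing D'] (j : D →+* D') (σ : Spec (.of D') ⟶ pullback (V.ι ≫ pullback.snd e gC) iD),
      σ ≫ k = Spec.map (CommRingCat.ofHom j) → ∀ d ∈ J, j d = 0 := by
    intro D' _ j σ hσ d hd
    obtain ⟨ψ, hψ⟩ := Spec.map_surjective (σ ≫ ee.hom)
    rw [hk, ← Category.assoc, ← hψ, ← Spec.map_comp] at hσ
    have := congrArg (fun m => m.hom d) (Spec.map_injective hσ)
    simpa [Ideal.Quotient.eq_zero_iff_mem.2 hd] using this.symm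
  obtain ⟨⟨df, hdf⟩, ⟨dx, hdx⟩⟩ := sec D
  obtain ⟨σf, hσf⟩ := hlift _ _ df hdf
  obtain ⟨σx, hσx⟩ := hlift _ _ dx hdx
  have hJ : J = ⊥ := (Submodule.eq_bot_iff J).2 fun d hd =>
    hinjD (Prod.ext ((hker _ _ σx hσx d hd).trans (map_zero _).symm) ((hker _ _ σf hσf d hd).trans (map_zero _).symm))
  have : IsIso (CommRingCat.ofHom (Ideal.Quotient.mk J)) :=
    (ConcreteCategory.isIso_iff_bijective _).2
      ⟨(RingHom.injective_iff_ker_eq_bot (Ideal.Quotient.mk J)).2 (Ideal.mk_ker.trans hJ), Ideal.Quotient.mk_surjective⟩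
  have : IsIso k := by rw [hk]; infer_instance
  refine ⟨Spec (.of D), Spec.map (CommRingCat.ofHom (algebraMap A D)),
    inv k ≫ pullback.fst _ _ ≫ V.ι ≫ pullback.fst e gC, hDe, ?_, ?_⟩
  · -- the point
    obtain ⟨c₀, hc₀⟩ : pullback.snd e g v.1 ∈ Set.range hU₀.fromSpec := by
      rw [hU₀.range_fromSpec]; exact hu₀
    obtain ⟨w, hw₁, hw₂⟩ := Scheme.Pullback.exists_preimage_pullback x c₀ (f := e) (g := gC) (show e x = gC c₀ by
      rw [hgC, Scheme.Hom.comp_apply]
      refine Eq.trans ?_ (congrArg g hc₀).symm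
      rw [← Scheme.Hom.comp_apply, ← pullback.condition, Scheme.Hom.comp_apply, hv])
    have hwV : w ∈ V := by
      show θ w ∈ V₁
      rw [show θ w = v.1 from (pullback.snd e g).injective (by
        rw [← Scheme.Hom.comp_apply, sqθ.w, Scheme.Hom.comp_apply]
        exact (congrArg hU₀.fromSpec hw₂).trans hc₀)]
      exact v.2
    have hcZ : c₀ ∈ Z := ⟨w, hwV, hw₂⟩
    have hc1 : (1 - ε) ∉ c₀.asIdeal := fun h =>
      c₀.isPrime.ne_top ((Ideal.eq_top_iff_one _).2 (by simpa using Ideal.add_mem _ h ((hZ c₀).1 hcZ)))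
    obtain ⟨d, hd⟩ : c₀ ∈ Set.range (PrimeSpectrum.comap (algebraMap C D)) := by
      rw [PrimeSpectrum.localization_away_comap_range D (1 - ε)]; exact hc1
    refine ⟨d, ?_⟩
    rw [hAD, Scheme.Hom.comp_apply, show iD d = c₀ from hd, hgC, Scheme.Hom.comp_apply]
    refine (congrArg g hc₀).trans ?_
    rw [← Scheme.Hom.comp_apply, ← pullback.condition, Scheme.Hom.comp_apply, hv, hx]
  · rw [Category.assoc, Category.assoc, Category.assoc, pullback.condition, hAD, IsIso.inv_comp_eq,
      ← Category.assoc V.ι, pullback.condition_assoc]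

end Groth.Agent.AlgSpDec
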