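import Groth.Prelude.Def_Dual3
import Groth.Prelude.Def_AlgSpMor5
import Groth.Agent.AlgSpLib.FlatAt
import Groth.Agent.CurvLocusLib.LocP
import Groth.Agent.Triage.CMBC
import Groth.Agent.Triage.SliceFlat
import Groth.Agent.Hensel.StrictQuot

/-!
# Gorenstein morphisms of algebraic spaces at a point
-/

set_option autoImplicit false
set_option linter.style.haveILetI false
set_option backward.isDefEq.respectTransparency false
set_option backward.isDefEq.respectTransparency.types false

universe u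

open CategoryTheory CategoryTheory.Limits AlgebraicGeometry Opposite AlgSp IsLocalRing
  Groth.Agent.AlgSpLib

namespace Groth.Agent.AlgSpDec.GorAt

/-- Gorensteinness of quotients along an unramified flat local homomorphism. -/
theorem gor_quot_iff {B B' : Type u} [CommRing B] [IsLocalRing B] [CommRing B'] [IsLocalRing B']
    [Algebra B B'] [IsLocalHom (algebraMap B B')] [Module.Flat B B']
    (hm : (maximalIdeal B).map (algebraMap B B') = maximalIdeal B') (I : Ideal B) (hI : I ≠ ⊤)
    (hN : IsNoetherianRing (B ⧸ I) → IsNoetherianRing (B' ⧸ I.map (algebraMap B B'))) :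
    LocCoh.IsGorensteinLocalRing (B ⧸ I) ↔
      LocCoh.IsGorensteinLocalRing (B' ⧸ I.map (algebraMap B B')) := by
  have hI' : I.map (algebraMap B B') ≠ ⊤ := fun h => (maximalIdeal.isMaximal B').ne_top
    (top_le_iff.1 (h ▸ hm ▸ Ideal.map_mono (le_maximalIdeal hI)))
  haveI : Nontrivial (B ⧸ I) := Ideal.Quotient.nontrivial_iff.2 hI
  haveI : Nontrivial (B' ⧸ I.map (algebraMap B B')) := Ideal.Quotient.nontrivial_iff.2 hI'
  haveI : IsLocalRing (B ⧸ I) := .of_surjective' (Ideal.Quotient.mk I) Ideal.Quotient.mk_surjective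
  haveI : IsLocalRing (B' ⧸ I.map (algebraMap B B')) :=
    .of_surjective' (Ideal.Quotient.mk _) Ideal.Quotient.mk_surjective
  letI : Algebra (B ⧸ I) (B' ⧸ I.map (algebraMap B B')) := Ideal.Quotient.algebraQuotientMapQuotient
  haveI : IsLocalHom (algebraMap (B ⧸ I) (B' ⧸ I.map (algebraMap B B'))) := ⟨fun x hx => by
    obtain ⟨r, rfl⟩ := Ideal.Quotient.mk_surjective x
    haveI := IsLocalHom.of_surjective (Ideal.Quotient.mk (I.map (algebraMap B B'))) Ideal.Quotient.mk_surjective
    have h1 : IsUnit (Ideal.Quotient.mk (I.map (algebraMap B B')) (algebraMap B B' r)) := hx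
    exact ((isUnit_map_iff (algebraMap B B') r).1 ((isUnit_map_iff (Ideal.Quotient.mk _) _).1 h1)).map _⟩
  haveI : Module.Flat (B ⧸ I) (B' ⧸ I.map (algebraMap B B')) := Triage.SliceFlat.flat_quotient_map (A := B) (T := B') I
  haveI : Module.FaithfullyFlat (B ⧸ I) (B' ⧸ I.map (algebraMap B B')) :=
    Module.FaithfullyFlat.of_flat_of_isLocalHom
  have hm' : (maximalIdeal (B ⧸ I)).map (algebraMap (B ⧸ I) (B' ⧸ I.map (algebraMap B B'))) =
      maximalIdeal (B' ⧸ I.map (algebraMap B B')) := by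
    have e1 := IsLocalRing.map_maximalIdeal_of_surjective (Ideal.Quotient.mk I) Ideal.Quotient.mk_surjective
    have e2 := IsLocalRing.map_maximalIdeal_of_surjective (Ideal.Quotient.mk (I.map (algebraMap B B')))
      Ideal.Quotient.mk_surjective
    rw [← e1, ← e2, ← hm, Ideal.map_map, Ideal.map_map]
    rfl
  have hF : IsField ((B' ⧸ I.map (algebraMap B B')) ⧸
      (maximalIdeal (B ⧸ I)).map (algebraMap (B ⧸ I) (B' ⧸ I.map (algebraMap B B')))) := by
    rw [← Ideal.Quotient.maximal_ideal_iff_isField_quotient, hm']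
    infer_instance
  have hfG : LocCoh.IsGorensteinLocalRing ((B' ⧸ I.map (algebraMap B B')) ⧸
      (maximalIdeal (B ⧸ I)).map (algebraMap (B ⧸ I) (B' ⧸ I.map (algebraMap B B')))) :=
    letI := hF.toField
    S0342.result _
  constructor
  · intro h
    haveI := h
    haveI : IsNoetherianRing (B ⧸ I) := inferInstance
    haveI := hN inferInstance
    exact (S0344.result (B ⧸ I) _).2 ⟨h, hfG⟩
  · intro h
    haveI := h
    haveI : IsNoetherianRing (B' ⧸ I.map (algebraMap B B')) := inferInstance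
    haveI := Hensel.isNoetherianRing_of_faithfullyFlat' (B ⧸ I) (B' ⧸ I.map (algebraMap B B'))
    exact ((S0344.result (B ⧸ I) _).1 h).1

variable {X Y Z : Scheme.{u}}

/-- The Gorenstein condition at a point in terms of the local rings. -/
theorem gorAt_iff (h : X ⟶ Y) (x : X) : Dual3.IsGorensteinAt h x ↔ (h.stalkMap x).hom.Flat ∧
    LocCoh.IsGorensteinLocalRing (X.presheaf.stalk x ⧸
      (maximalIdeal (Y.presheaf.stalk (h x))).map (h.stalkMap x).hom) := by
  obtain ⟨e⟩ := Triage.CMMor.exists_equiv_fibre_stalk h x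
  exact ⟨fun H => ⟨H.1, CurvLocusLib.gor_of_equiv e.symm H.2⟩, fun H => ⟨H.1, CurvLocusLib.gor_of_equiv e H.2⟩⟩

/-- Flatness at a point is not changed by an étale morphism on the target. -/
theorem flatAt_comp_right_iff' (k : X ⟶ Y) (e : Y ⟶ Z) [Etale e] (x : X) :
    ((k ≫ e).stalkMap x).hom.Flat ↔ (k.stalkMap x).hom.Flat := by
  refine ⟨fun hf => ?_, fun hk => by rw [Scheme.Hom.stalkMap_comp]; exact (Flat.stalkMap e (k x)).comp hk⟩
  let γ : X ⟶ pullback (k ≫ e) e := pullback.lift (𝟙 X) k (Category.id_comp _)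
  have hγ : IsOpenImmersion γ := by
    have h1 : Etale (γ ≫ pullback.fst (k ≫ e) e) := by rw [pullback.lift_fst]; infer_instance
    have : Etale γ := IsEtLocal.cancel_right (P := @Etale) γ (pullback.fst (k ≫ e) e) h1
    have : IsSplitMono γ := IsSplitMono.mk' ⟨pullback.fst (k ≫ e) e, pullback.lift_fst _ _ _⟩
    exact IsOpenImmersion.of_flat_of_mono γ
  have h1 : ((pullback.snd (k ≫ e) e).stalkMap (γ x)).hom.Flat := by
    refine Triage.CMBC.flat_stalk_of_isPullback (IsPullback.of_hasPullback (k ≫ e) e) (γ x) ?_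
    have hp : pullback.fst (k ≫ e) e (γ x) = x := by
      rw [← Scheme.Hom.comp_apply, pullback.lift_fst]; rfl
    have key : ∀ x₀ : X, x₀ = x → ((k ≫ e).stalkMap x₀).hom.Flat := fun x₀ hx₀ => by subst hx₀; exact hf
    exact key _ hp
  have h2 := (FibFlat.flat_stalk_open_comp γ (pullback.snd (k ≫ e) e) x).2 h1
  rwa [pullback.lift_snd] at h2

/-- The Gorenstein condition at a point is not changed by an étale morphism on the target. -/
theorem gorAt_comp_right_iff (k : X ⟶ Y) (e : Y ⟶ Z) [Etale e] (x : X) :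
    Dual3.IsGorensteinAt (k ≫ e) x ↔ Dual3.IsGorensteinAt k x := by
  rw [gorAt_iff, gorAt_iff, flatAt_comp_right_iff']
  refine and_congr_right fun _ => ?_
  have e' : (maximalIdeal (Z.presheaf.stalk ((k ≫ e) x))).map ((k ≫ e).stalkMap x).hom =
      (maximalIdeal (Y.presheaf.stalk (k x))).map (k.stalkMap x).hom := by
    have hm : (maximalIdeal (Z.presheaf.stalk (e (k x)))).map (e.stalkMap (k x)).hom =
        maximalIdeal (Y.presheaf.stalk (k x)) := MorLib.WT.map_maximalIdeal_stalkMap e (k x)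
    rw [← hm, Ideal.map_map, Scheme.Hom.stalkMap_comp]
    rfl
  exact ⟨CurvLocusLib.gor_of_equiv (Ideal.quotEquivOfEq e'), CurvLocusLib.gor_of_equiv (Ideal.quotEquivOfEq e'.symm)⟩

/-- The Gorenstein condition at a point is not changed by an étale morphism on the source. -/
theorem gorAt_comp_left_iff (r : X ⟶ Y) [Etale r] (h : Y ⟶ Z) (x : X) :
    Dual3.IsGorensteinAt (r ≫ h) x ↔ Dual3.IsGorensteinAt h (r x) := by
  rw [gorAt_iff, gorAt_iff, flatAt_comp_left_iff r h x (Flat.stalkMap r x)]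
  refine and_congr_right fun _ => ?_
  letI := (r.stalkMap x).hom.toAlgebra
  haveI : IsLocalHom (algebraMap (Y.presheaf.stalk (r x)) (X.presheaf.stalk x)) :=
    inferInstanceAs (IsLocalHom (r.stalkMap x).hom)
  haveI : Module.Flat (Y.presheaf.stalk (r x)) (X.presheaf.stalk x) := Flat.stalkMap r x
  set I : Ideal (Y.presheaf.stalk (r x)) :=
    (maximalIdeal (Z.presheaf.stalk (h (r x)))).map (h.stalkMap (r x)).hom
  have hI : I ≠ ⊤ := fun hh => (maximalIdeal.isMaximal _).ne_top
    (top_le_iff.1 (hh.ge.trans (show I ≤ maximalIdeal _ from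
      Ideal.map_le_iff_le_comap.2 fun a ha => map_nonunit (h.stalkMap (r x)).hom a ha)))
  have key := gor_quot_iff (B := Y.presheaf.stalk (r x)) (B' := X.presheaf.stalk x)
    (MorLib.WT.map_maximalIdeal_stalkMap r x) I hI (fun hN => by
      haveI : Algebra.EssFiniteType (Y.presheaf.stalk (r x)) (X.presheaf.stalk x) :=
        LocallyOfFiniteType.stalkMap r x
      haveI : Algebra.EssFiniteType (Y.presheaf.stalk (r x))
          (X.presheaf.stalk x ⧸ I.map (algebraMap (Y.presheaf.stalk (r x)) (X.presheaf.stalk x))) :=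
        Algebra.EssFiniteType.comp _ (X.presheaf.stalk x) _
      letI : Algebra (Y.presheaf.stalk (r x) ⧸ I)
          (X.presheaf.stalk x ⧸ I.map (algebraMap (Y.presheaf.stalk (r x)) (X.presheaf.stalk x))) :=
        (Ideal.quotientMap _ (algebraMap (Y.presheaf.stalk (r x)) (X.presheaf.stalk x)) Ideal.le_comap_map).toAlgebra
      haveI : IsScalarTower (Y.presheaf.stalk (r x)) (Y.presheaf.stalk (r x) ⧸ I)
          (X.presheaf.stalk x ⧸ I.map (algebraMap (Y.presheaf.stalk (r x)) (X.presheaf.stalk x))) :=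
        .of_algebraMap_eq fun _ => rfl
      haveI := hN
      haveI := Algebra.EssFiniteType.of_comp (Y.presheaf.stalk (r x)) (Y.presheaf.stalk (r x) ⧸ I)
        (X.presheaf.stalk x ⧸ I.map (algebraMap (Y.presheaf.stalk (r x)) (X.presheaf.stalk x)))
      exact Algebra.EssFiniteType.isNoetherianRing (Y.presheaf.stalk (r x) ⧸ I) _)
  have e' : (maximalIdeal (Z.presheaf.stalk ((r ≫ h) x))).map ((r ≫ h).stalkMap x).hom =
      I.map (algebraMap (Y.presheaf.stalk (r x)) (X.presheaf.stalk x)) := by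
    rw [Ideal.map_map, Scheme.Hom.stalkMap_comp]
    rfl
  rw [key]
  exact ⟨CurvLocusLib.gor_of_equiv (Ideal.quotEquivOfEq e'), CurvLocusLib.gor_of_equiv (Ideal.quotEquivOfEq e'.symm)⟩

variable {S : Scheme.{u}}

/-- The Gorenstein condition at a point is independent of the chart. -/
theorem gorAt_iff_of_charts {F G : Sp S} {f : F ⟶ G} {U V U₁ V₁ : Over S} {a : (yon S).obj U ⟶ F}
    {b : (yon S).obj V ⟶ G} {h : U ⟶ V} {a₁ : (yon S).obj U₁ ⟶ F}
    {b₁ : (yon S).obj V₁ ⟶ G} {h₁ : U₁ ⟶ V₁} (ha : RepWith @Etale a) (hb : RepWith @Etale b)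
    (w : a ≫ f = (yon S).map h ≫ b) (ha₁ : RepWith @Etale a₁) (hb₁ : RepWith @Etale b₁)
    (w₁ : a₁ ≫ f = (yon S).map h₁ ≫ b₁) {u : U.left} {u₁ : U₁.left}
    (hu : Points.ofPt a u = Points.ofPt a₁ u₁) :
    Dual3.IsGorensteinAt h.left u ↔ Dual3.IsGorensteinAt h₁.left u₁ := by
  obtain ⟨z, hz, hz₁⟩ := exists_ofPt_of_eq (ha.rep.isPullback' a₁) hu
  subst hz hz₁
  set r := ha.rep.fst' a₁
  set r₁ := ha.rep.snd a₁
  have hr₁ : Etale r₁.left := ha.property_snd a₁
  have hr : Etale r.left := ha₁.2 a _ _ (ha.rep.isPullback' a₁).flip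
  let e := hb.rep.fst' b₁
  let e₁ := hb.rep.snd b₁
  have he₁ : Etale e₁.left := hb.property_snd b₁
  have he : Etale e.left := hb₁.2 b _ _ (hb.rep.isPullback' b₁).flip
  obtain ⟨k, hk, hk₁⟩ : ∃ k, k ≫ e = r ≫ h ∧ k ≫ e₁ = r₁ ≫ h₁ := by
    obtain ⟨k, hk⟩ := (yon S).map_surjective ((hb.rep.isPullback' b₁).lift ((yon S).map (r ≫ h))
      ((yon S).map (r₁ ≫ h₁)) (by
        rw [Functor.map_comp, Functor.map_comp, Category.assoc, Category.assoc, ← w, ← w₁, ← Category.assoc,
          ← Category.assoc]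
        exact congrArg (· ≫ f) (ha.rep.isPullback' a₁).w))
    exact ⟨k, (yon S).map_injective (by rw [Functor.map_comp, hk, IsPullback.lift_fst]),
      (yon S).map_injective (by rw [Functor.map_comp, hk, IsPullback.lift_snd])⟩
  have hk' : k.left ≫ e.left = r.left ≫ h.left := congrArg Over.Hom.left hk
  have hk₁' : k.left ≫ e₁.left = r₁.left ≫ h₁.left := congrArg Over.Hom.left hk₁
  rw [← gorAt_comp_left_iff r.left h.left z, ← gorAt_comp_left_iff r₁.left h₁.left z, ← hk', ← hk₁',
    gorAt_comp_right_iff, gorAt_comp_right_iff]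

/-- Gorenstein at a point of an algebraic space is tested on one chart. -/
theorem locPAt_gor_iff {F G : Sp S} {f : F ⟶ G} {U V : Over S} {a : (yon S).obj U ⟶ F}
    {b : (yon S).obj V ⟶ G} {h : U ⟶ V} (ha : RepWith @Etale a) (hb : RepWith @Etale b)
    (w : a ≫ f = (yon S).map h ≫ b) (u : U.left) :
    LocPAt (fun h u => Dual3.IsGorensteinAt h u) f (Points.ofPt a u) ↔ Dual3.IsGorensteinAt h.left u :=
  ⟨fun H => H a b h u ha hb w rfl, fun H _ _ _ _ _ _ ha₁ hb₁ w₁ hu₁ =>
    (gorAt_iff_of_charts ha₁ hb₁ w₁ ha hb w hu₁).2 H⟩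

/-- The Gorenstein condition at a point through strict henselizations. -/
theorem gorAt_iff_strict (h : X ⟶ Y) (x : X) (R : Type u) [CommRing R] [IsLocalRing R]
    [Algebra (X.presheaf.stalk x) R] [IsLocalHom (algebraMap (X.presheaf.stalk x) R)]
    [Hensel.IsStrictHenselization (X.presheaf.stalk x) R]
    (R' : Type u) [CommRing R'] [IsLocalRing R'] [Algebra (Y.presheaf.stalk (h x)) R']
    [IsLocalHom (algebraMap (Y.presheaf.stalk (h x)) R')]
    [Hensel.IsStrictHenselization (Y.presheaf.stalk (h x)) R']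
    (φ : R' →+* R)
    (hφ : φ.comp (algebraMap (Y.presheaf.stalk (h x)) R') =
      (algebraMap (X.presheaf.stalk x) R).comp (h.stalkMap x).hom) :
    Dual3.IsGorensteinAt h x ↔
      φ.Flat ∧ LocCoh.IsGorensteinLocalRing (R ⧸ (maximalIdeal R').map φ) := by
  have hB := Hensel.isHenzLike_of_isStrictHenselization (X.presheaf.stalk x) R
  have hA := Hensel.isHenzLike_of_isStrictHenselization (Y.presheaf.stalk (h x)) R'
  haveI := hB.faithfullyFlat
  haveI := hA.faithfullyFlat
  letI := (h.stalkMap x).hom.toAlgebra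
  letI : Algebra (Y.presheaf.stalk (h x)) R :=
    ((algebraMap (X.presheaf.stalk x) R).comp (h.stalkMap x).hom).toAlgebra
  haveI : IsScalarTower (Y.presheaf.stalk (h x)) (X.presheaf.stalk x) R := .of_algebraMap_eq fun _ => rfl
  rw [gorAt_iff]
  refine and_congr ?_ ?_
  · constructor
    · intro hf
      letI := φ.toAlgebra
      haveI : IsScalarTower (Y.presheaf.stalk (h x)) R' R :=
        .of_algebraMap_eq fun a => (RingHom.congr_fun hφ a).symm
      haveI : Module.Flat (Y.presheaf.stalk (h x)) (X.presheaf.stalk x) := hf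
      haveI : Module.Flat (Y.presheaf.stalk (h x)) R :=
        Module.Flat.trans _ (X.presheaf.stalk x) R
      exact Hensel.flat_of_flat_strict (Y.presheaf.stalk (h x)) R' R
    · intro hf
      have h1 : (φ.comp (algebraMap (Y.presheaf.stalk (h x)) R')).Flat :=
        (RingHom.flat_algebraMap_iff.2 inferInstance).comp hf
      rw [hφ] at h1
      haveI : Module.Flat (Y.presheaf.stalk (h x)) R := h1
      exact SmallFlat.flat_of_faithfullyFlat_tower _ (X.presheaf.stalk x) R
  · set I : Ideal (X.presheaf.stalk x) := (maximalIdeal (Y.presheaf.stalk (h x))).map (h.stalkMap x).hom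
    have hI : I ≠ ⊤ := fun hh => (maximalIdeal.isMaximal _).ne_top
      (top_le_iff.1 (hh.ge.trans (show I ≤ maximalIdeal _ from
        Ideal.map_le_iff_le_comap.2 fun a ha => map_nonunit (h.stalkMap x).hom a ha)))
    have e' : (maximalIdeal R').map φ = I.map (algebraMap (X.presheaf.stalk x) R) := by
      rw [← hA.map_maximalIdeal, Ideal.map_map, hφ, ← Ideal.map_map]
    rw [gor_quot_iff (B := X.presheaf.stalk x) (B' := R) hB.map_maximalIdeal I hI
      (Hensel.isNoetherianRing_quotient_iff_strict _ R I hI).1]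
    exact ⟨CurvLocusLib.gor_of_equiv (Ideal.quotEquivOfEq e'.symm), CurvLocusLib.gor_of_equiv (Ideal.quotEquivOfEq e')⟩

end Groth.Agent.AlgSpDec.GorAt
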