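import Groth.Agent.AlgSpDec.GorAt
import Groth.Agent.S0344
import Groth.Agent.S0342
import Groth.Agent.S8948
import Groth.Agent.Triage.CMBC

/-!
# Gorenstein morphisms at a point: composition and base change
-/

set_option autoImplicit false
set_option linter.style.haveILetI false
set_option backward.isDefEq.respectTransparency false

universe u

open CategoryTheory CategoryTheory.Limits AlgebraicGeometry IsLocalRing TensorProduct

namespace Groth.Agent.AlgSpDec.GorComp

open Groth.Agent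

theorem gor_congr {R S : Type u} [CommRing R] [CommRing S] (e : R ≃+* S) :
    LocCoh.IsGorensteinLocalRing R ↔ LocCoh.IsGorensteinLocalRing S :=
  ⟨CurvLocusLib.gor_of_equiv e, CurvLocusLib.gor_of_equiv e.symm⟩

theorem gorAt_iff_sm {X S : Scheme.{u}} (f : X ⟶ S) (x : X) (s : S) (hs : f x = s) :
    Dual3.IsGorensteinAt f x ↔ (FibFlat.sm f x s hs).Flat ∧ LocCoh.IsGorensteinLocalRing
      (↑(X.presheaf.stalk x) ⧸ (maximalIdeal (S.presheaf.stalk s)).map (FibFlat.sm f x s hs)) := by
  subst hs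
  rw [GorAt.gorAt_iff, FibFlat.sm_self]

/-- The fibre rings along a composite of local homomorphisms `A → B → C`, with `C` flat over `B`. -/
theorem fibre_comp {A B C : Type u} [CommRing A] [CommRing B] [CommRing C] [IsLocalRing A] [IsLocalRing B]
    [IsLocalRing C] (ψ : A →+* B) (φ : B →+* C) [IsLocalHom ψ] [IsLocalHom φ] (hφ : φ.Flat)
    [IsNoetherianRing (C ⧸ (maximalIdeal A).map (φ.comp ψ))] :
    LocCoh.IsGorensteinLocalRing (C ⧸ (maximalIdeal A).map (φ.comp ψ)) ↔
      LocCoh.IsGorensteinLocalRing (B ⧸ (maximalIdeal A).map ψ) ∧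
        LocCoh.IsGorensteinLocalRing (C ⧸ (maximalIdeal B).map φ) := by
  let I := (maximalIdeal A).map ψ
  have hIm : I ≤ maximalIdeal B := IsLocalRing.map_maximalIdeal_le ψ
  have hJ : (maximalIdeal A).map (φ.comp ψ) = I.map φ := (Ideal.map_map ψ φ).symm
  haveI : IsNoetherianRing (C ⧸ I.map φ) :=
    isNoetherianRing_of_ringEquiv (C ⧸ (maximalIdeal A).map (φ.comp ψ)) (Ideal.quotEquivOfEq hJ)
  haveI : IsNoetherianRing (B ⧸ I) := Triage.CMMor.isNoetherian_fibre_of_flat φ hφ I
  rw [gor_congr (Ideal.quotEquivOfEq hJ)]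
  haveI : Nontrivial (B ⧸ I) :=
    Ideal.Quotient.nontrivial_iff.2 fun h => (maximalIdeal.isMaximal B).ne_top (top_le_iff.1 (h ▸ hIm))
  haveI : Nontrivial (C ⧸ I.map φ) :=
    Ideal.Quotient.nontrivial_iff.2 fun h => (maximalIdeal.isMaximal C).ne_top
      (top_le_iff.1 (h ▸ (Ideal.map_mono hIm).trans (IsLocalRing.map_maximalIdeal_le φ)))
  letI : Algebra B C := φ.toAlgebra
  haveI : Module.Flat B C := hφ
  haveI : IsLocalRing (B ⧸ I) := .of_surjective' (Ideal.Quotient.mk _) Ideal.Quotient.mk_surjective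
  haveI : Nontrivial (C ⧸ I.map (algebraMap B C)) := ‹Nontrivial (C ⧸ I.map φ)›
  haveI : IsLocalRing (C ⧸ I.map (algebraMap B C)) :=
    .of_surjective' (Ideal.Quotient.mk _) Ideal.Quotient.mk_surjective
  haveI : IsNoetherianRing (C ⧸ I.map (algebraMap B C)) := ‹IsNoetherianRing (C ⧸ I.map φ)›
  haveI : Module.Flat (B ⧸ I) (C ⧸ I.map (algebraMap B C)) := Triage.SliceFlat.flat_quotient_map I
  haveI : IsLocalHom (algebraMap (B ⧸ I) (C ⧸ I.map (algebraMap B C))) := by
    constructor
    intro b hb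
    obtain ⟨b, rfl⟩ := Ideal.Quotient.mk_surjective b
    have hb' : IsUnit (Ideal.Quotient.mk (I.map φ) (φ b)) := hb
    haveI : IsLocalHom (Ideal.Quotient.mk (I.map φ)) := IsLocalHom.of_surjective _ Ideal.Quotient.mk_surjective
    exact (isUnit_of_map_unit φ b (isUnit_of_map_unit _ _ hb')).map _
  show LocCoh.IsGorensteinLocalRing (C ⧸ I.map (algebraMap B C)) ↔
    LocCoh.IsGorensteinLocalRing (B ⧸ I) ∧ LocCoh.IsGorensteinLocalRing (C ⧸ (maximalIdeal B).map φ)
  rw [S0344.result (B ⧸ I) (C ⧸ I.map (algebraMap B C))]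
  refine and_congr_right fun _ => ?_
  refine gor_congr ?_
  have hmB : maximalIdeal (B ⧸ I) = (maximalIdeal B).map (Ideal.Quotient.mk I) :=
    (IsLocalRing.map_maximalIdeal_of_surjective _ Ideal.Quotient.mk_surjective).symm
  refine (Ideal.quotEquivOfEq (show (maximalIdeal (B ⧸ I)).map (algebraMap (B ⧸ I) (C ⧸ I.map (algebraMap B C))) =
    ((maximalIdeal B).map φ).map (Ideal.Quotient.mk (I.map φ)) from ?_)).trans
    (DoubleQuot.quotQuotEquivQuotOfLE (Ideal.map_mono hIm))
  rw [hmB]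
  exact (Ideal.map_map (Ideal.Quotient.mk I) (algebraMap (B ⧸ I) (C ⧸ I.map (algebraMap B C)))).trans
    (Ideal.map_map φ (Ideal.Quotient.mk (I.map φ))).symm

theorem gorensteinRing_field (K : Type u) [Field K] : LocCoh.IsGorensteinRing K where
  isGorensteinLocalRing_localization p _ :=
    haveI : IsField (Localization.AtPrime p) := MulEquiv.isField (Field.toIsField K)
      (IsLocalization.atUnits K p.primeCompl (S := Localization.AtPrime p) fun x hx =>
        isUnit_iff_ne_zero.mpr fun h0 => hx (h0 ▸ p.zero_mem)).symm.toMulEquiv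
    letI := this.toField
    S0342.result _

/-- The local rings of the base change of a field extension by a finitely generated one. -/
theorem gor_stalk_of_field_pullback {k K L : Type u} [Field k] [Field K] [Field L] [Algebra k K]
    [Algebra k L] [Algebra.EssFiniteType k L] {G : Scheme.{u}} {a : G ⟶ Spec (CommRingCat.of K)}
    {b : G ⟶ Spec (CommRingCat.of L)}
    (h : IsPullback a b (Spec.map (CommRingCat.ofHom (algebraMap k K))) (Spec.map (CommRingCat.ofHom (algebraMap k L))))
    (w : G) : LocCoh.IsGorensteinLocalRing (G.presheaf.stalk w) := by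
  haveI : LocCoh.IsGorensteinRing K := gorensteinRing_field K
  have hL : ∃ s : Finset L, IntermediateField.adjoin k (s : Set L) = ⊤ := by
    have hfg : (⊤ : IntermediateField k L).FG := IntermediateField.fg_top k L
    exact hfg
  haveI : LocCoh.IsGorensteinRing (L ⊗[k] K) := S8948.result k L K hL
  let e : G ⟶ Spec (CommRingCat.of (K ⊗[k] L)) := (h.isoPullback ≪≫ pullbackSpecIso k K L).hom
  let e' : G ⟶ Spec (CommRingCat.of (L ⊗[k] K)) :=
    e ≫ Spec.map (Algebra.TensorProduct.comm k L K).toRingEquiv.toCommRingCatIso.hom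
  refine CurvLocusLib.gor_of_equiv ((asIso (e'.stalkMap w)).commRingCatIsoToRingEquiv) ?_
  exact CurvLocusLib.gor_of_equiv
    (Spec.stalkIso (CommRingCat.of (L ⊗[k] K)) (e' w)).symm.commRingCatIsoToRingEquiv
    (LocCoh.IsGorensteinRing.isGorensteinLocalRing_localization (e' w).asIdeal)

variable {X S X' T : Scheme.{u}} {f : X ⟶ S} {f' : X' ⟶ T} {g' : X' ⟶ X} {g : T ⟶ S}

/-- Gorensteinness of the local rings of the fibres along a base change. -/
theorem gor_fibre_iff (hc : IsPullback g' f' f g) [LocallyOfFiniteType g] (x' : X')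
    (hN : IsLocallyNoetherian (f.fiber (g (f' x')))) :
    LocCoh.IsGorensteinLocalRing
        (↑(X'.presheaf.stalk x') ⧸ (maximalIdeal (T.presheaf.stalk (f' x'))).map (FibFlat.sm f' x' (f' x') rfl)) ↔
      LocCoh.IsGorensteinLocalRing
        (↑(X.presheaf.stalk (g' x')) ⧸
          (maximalIdeal (S.presheaf.stalk (f (g' x')))).map (FibFlat.sm f (g' x') (f (g' x')) rfl)) := by
  have hy : f (g' x') = g (f' x') := by rw [← Scheme.Hom.comp_apply, hc.w, Scheme.Hom.comp_apply]
  have hI : LocCoh.IsGorensteinLocalRing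
        (↑(X.presheaf.stalk (g' x')) ⧸
          (maximalIdeal (S.presheaf.stalk (f (g' x')))).map (FibFlat.sm f (g' x') (f (g' x')) rfl)) ↔
      LocCoh.IsGorensteinLocalRing
        (↑(X.presheaf.stalk (g' x')) ⧸
          (maximalIdeal (S.presheaf.stalk (g (f' x')))).map (FibFlat.sm f (g' x') (g (f' x')) hy)) :=
    gor_congr (Ideal.quotEquivOfEq (FibFlat.map_max_sm f (g' x') _ hy))
  rw [hI]
  obtain ⟨e, he, hι⟩ := ConsPropLib.exists_fibre_pullback hc (f' x')
  let z' := f'.asFiber x'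
  have hz' : f'.fiberι (f' x') z' = x' := f'.fiberι_asFiber x'
  have hz : f.fiberι (g (f' x')) (e z') = g' x' := by
    rw [← Scheme.Hom.comp_apply, hι, Scheme.Hom.comp_apply, hz']
  obtain ⟨E'⟩ := Triage.CMMor.exists_equiv_fibre_stalk_aux f' x' (f' x') rfl z' hz'
  obtain ⟨E⟩ := Triage.CMMor.exists_equiv_fibre_stalk_aux f (g' x') (g (f' x')) hy (e z') hz
  haveI := Triage.CMMor.isNoetherianRing_fibre_stalk_sm f (g' x') (g (f' x')) hy hN
  haveI := Triage.CMBC.isNoetherianRing_fibre_stalk_of_isPullback hc x' hN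
  haveI : IsNoetherianRing ((f'.fiber (f' x')).presheaf.stalk z') := isNoetherianRing_of_ringEquiv _ E'
  rw [gor_congr E', gor_congr E]
  haveI : Flat e := by
    have h1 : Flat (Spec.map (g.residueFieldMap (f' x'))) := by
      rw [Flat.SpecMap_iff]
      let := (g.residueFieldMap (f' x')).hom.toAlgebra
      exact RingHom.flat_algebraMap_iff.2 inferInstance
    exact MorphismProperty.of_isPullback (P := (@Flat : MorphismProperty Scheme.{u})) he.flip h1
  letI : Algebra ((f.fiber (g (f' x'))).presheaf.stalk (e z')) ((f'.fiber (f' x')).presheaf.stalk z') :=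
    (e.stalkMap z').hom.toAlgebra
  haveI : IsLocalHom (algebraMap ((f.fiber (g (f' x'))).presheaf.stalk (e z')) ((f'.fiber (f' x')).presheaf.stalk z')) :=
    inferInstanceAs (IsLocalHom (e.stalkMap z').hom)
  haveI : Module.Flat ((f.fiber (g (f' x'))).presheaf.stalk (e z')) ((f'.fiber (f' x')).presheaf.stalk z') :=
    Flat.stalkMap e z'
  haveI := isNoetherianRing_of_ringEquiv _ E
  rw [S0344.result ((f.fiber (g (f' x'))).presheaf.stalk (e z')) ((f'.fiber (f' x')).presheaf.stalk z')]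
  refine ⟨And.left, fun h => ⟨h, ?_⟩⟩
  refine (gor_congr (Triage.CMMor.exists_equiv_fibre_stalk e z').some).2 ?_
  -- the fibre of `e` is the base change of a field extension
  let F := f.fiber (g (f' x'))
  let k := S.residueField (g (f' x'))
  obtain ⟨φ, hφ⟩ := Spec.map_surjective (F.fromSpecResidueField (e z') ≫ f.fiberToSpecResidueField (g (f' x')))
  letI : Field k := inferInstance
  letI : Algebra k (F.residueField (e z')) := φ.hom.toAlgebra
  letI : Algebra k (T.residueField (f' x')) := (g.residueFieldMap (f' x')).hom.toAlgebra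
  haveI : Algebra.EssFiniteType k (T.residueField (f' x')) := Triage.CMBC.essFiniteType_residueFieldMap g (f' x')
  refine gor_stalk_of_field_pullback (k := k) (K := F.residueField (e z')) (L := T.residueField (f' x'))
    (a := pullback.snd e (F.fromSpecResidueField (e z')))
    (b := pullback.fst e (F.fromSpecResidueField (e z')) ≫ f'.fiberToSpecResidueField (f' x')) ?_ _
  show IsPullback _ _ (Spec.map φ) (Spec.map (g.residueFieldMap (f' x')))
  rw [hφ]
  exact (IsPullback.of_hasPullback e (F.fromSpecResidueField (e z'))).flip.paste_vert he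


/-- Composition. -/
theorem comp {X Y Z : Scheme.{u}} (f : X ⟶ Y) (g : Y ⟶ Z) (x : X)
    (hN : IsNoetherianRing (↑(X.presheaf.stalk x) ⧸
      (maximalIdeal (Z.presheaf.stalk ((f ≫ g) x))).map ((f ≫ g).stalkMap x).hom))
    : (Dual3.IsGorensteinAt f x → Dual3.IsGorensteinAt g (f x) → Dual3.IsGorensteinAt (f ≫ g) x) ∧
      (Dual3.IsGorensteinAt (f ≫ g) x → (f.stalkMap x).hom.Flat →
        Dual3.IsGorensteinAt f x ∧ Dual3.IsGorensteinAt g (f x)) := by
  have hs : (f ≫ g) x = g (f x) := Scheme.Hom.comp_apply f g x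
  haveI : IsNoetherianRing (↑(X.presheaf.stalk x) ⧸ (maximalIdeal (Z.presheaf.stalk (g (f x)))).map
      ((FibFlat.sm f x (f x) rfl).comp (FibFlat.sm g (f x) (g (f x)) rfl))) := by
    rw [← FibFlat.sm_comp f g x (f x) (g (f x)) rfl rfl]
    rw [← FibFlat.sm_self (f ≫ g) x] at hN
    exact hN
  rw [gorAt_iff_sm f x (f x) rfl, gorAt_iff_sm g (f x) (g (f x)) rfl, gorAt_iff_sm (f ≫ g) x (g (f x)) hs,
    FibFlat.sm_comp f g x (f x) (g (f x)) rfl rfl]
  refine ⟨fun hf hg => ⟨hg.1.comp hf.1, (fibre_comp _ _ hf.1).2 ⟨hg.2, hf.2⟩⟩, fun h hfl => ?_⟩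
  have hfl' : (FibFlat.sm f x (f x) rfl).Flat := (FibFlat.sm_flat_iff f x (f x) rfl).2 hfl
  obtain ⟨hB, hC⟩ := (fibre_comp _ _ hfl').1 h.2
  exact ⟨⟨hfl', hC⟩, ⟨Triage.CMMor.flat_of_comp _ _ hfl' h.1, hB⟩⟩

/-- Base change. -/
theorem baseChange (hc : IsPullback g' f' f g) [LocallyOfFiniteType g] (x' : X')
    (hN : IsLocallyNoetherian (f.fiber (g (f' x')))) :
    (Dual3.IsGorensteinAt f (g' x') → Dual3.IsGorensteinAt f' x') ∧
      ((f.stalkMap (g' x')).hom.Flat → Dual3.IsGorensteinAt f' x' → Dual3.IsGorensteinAt f (g' x')) ∧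
      ((g.stalkMap (f' x')).hom.Flat → Dual3.IsGorensteinAt f' x' → Dual3.IsGorensteinAt f (g' x')) := by
  have key := gor_fibre_iff hc x' hN
  rw [gorAt_iff_sm f' x' (f' x') rfl, gorAt_iff_sm f (g' x') (f (g' x')) rfl]
  refine ⟨fun h => ⟨?_, key.2 h.2⟩, fun hfl h => ⟨?_, key.1 h.2⟩, fun hflat h => ⟨?_, key.1 h.2⟩⟩
  · exact (FibFlat.sm_flat_iff f' x' (f' x') rfl).2
      (Triage.CMBC.flat_stalk_of_isPullback hc x' ((FibFlat.sm_flat_iff f (g' x') (f (g' x')) rfl).1 h.1))
  · exact (FibFlat.sm_flat_iff f (g' x') (f (g' x')) rfl).2 hfl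
  · have hg' : (g'.stalkMap x').hom.Flat := Triage.CMBC.flat_stalk_of_isPullback hc.flip x' hflat
    have hy : (g' ≫ f) x' = f (g' x') := Scheme.Hom.comp_apply g' f x'
    have h1 : (FibFlat.sm (g' ≫ f) x' (f (g' x')) hy).Flat := by
      rw [FibFlat.sm_congr hc.w x' (f (g' x')) hy]
      rw [FibFlat.sm_flat_iff]
      rw [Scheme.Hom.stalkMap_comp, CommRingCat.hom_comp]
      exact RingHom.Flat.comp hflat ((FibFlat.sm_flat_iff f' x' (f' x') rfl).1 h.1)
    rw [FibFlat.sm_comp g' f x' (g' x') (f (g' x')) rfl rfl] at h1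
    exact Triage.CMMor.flat_of_comp _ _ ((FibFlat.sm_flat_iff g' x' (g' x') rfl).2 hg') h1

end Groth.Agent.AlgSpDec.GorComp
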