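import Groth.Agent.AlgSpDec.GorComp
import Groth.Agent.S1803
import Groth.Agent.ConsPropLib.Fibre

/-!
# The Gorenstein property at a point and arbitrary base change (flat, locally of finite type case)
-/

set_option autoImplicit false
set_option linter.style.haveILetI false
set_option backward.isDefEq.respectTransparency false

universe u

open CategoryTheory CategoryTheory.Limits AlgebraicGeometry IsLocalRing TensorProduct

namespace Groth.Agent.AlgSpDec.GorField

open Groth.Agent GorComp

/-- Gorensteinness of local rings of schemes locally of finite type over a field under field extensions. -/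
theorem gor_field_bc {k K : Type u} [Field k] [Field K] [Algebra k K] {F F' : Scheme.{u}}
    (s : F ⟶ Spec (CommRingCat.of k)) [LocallyOfFiniteType s] {e : F' ⟶ F} {s' : F' ⟶ Spec (CommRingCat.of K)}
    (h : IsPullback e s' s (Spec.map (CommRingCat.ofHom (algebraMap k K)))) (z : F') :
    LocCoh.IsGorensteinLocalRing (F'.presheaf.stalk z) ↔
      LocCoh.IsGorensteinLocalRing (F.presheaf.stalk (e z)) := by
  obtain ⟨U, hU, hzU, -⟩ :=
    exists_isAffineOpen_mem_and_subset (U := (⊤ : F.Opens)) (x := e z) trivial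
  let C := Γ(F, U)
  obtain ⟨φ, hφ⟩ := Spec.map_surjective (hU.fromSpec ≫ s)
  letI : Algebra k C := φ.hom.toAlgebra
  haveI : Algebra.FiniteType k C := by
    have : LocallyOfFiniteType (Spec.map φ) := by rw [hφ]; infer_instance
    exact (HasRingHomProperty.Spec_iff (P := @LocallyOfFiniteType)).1 this
  let a : Spec (CommRingCat.of (C ⊗[k] K)) ⟶ Spec (CommRingCat.of C) :=
    Spec.map (CommRingCat.ofHom (algebraMap C (C ⊗[k] K)))
  let b : Spec (CommRingCat.of (C ⊗[k] K)) ⟶ Spec (CommRingCat.of K) :=
    Spec.map (CommRingCat.ofHom (Algebra.TensorProduct.includeRight (R := k) (A := C) (B := K)).toRingHom)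
  have hab : IsPullback a b (Spec.map φ) (Spec.map (CommRingCat.ofHom (algebraMap k K))) :=
    IsPullback.of_iso_pullback ⟨by
      rw [← Spec.map_comp, ← Spec.map_comp]
      congr 1
      ext c
      exact Algebra.TensorProduct.tmul_one_eq_one_tmul c⟩
      (pullbackSpecIso k C K).symm (pullbackSpecIso_inv_fst k C K) (pullbackSpecIso_inv_snd k C K)
  rw [hφ] at hab
  let j : Spec (CommRingCat.of (C ⊗[k] K)) ⟶ F' := h.lift (a ≫ hU.fromSpec) b (by
    rw [Category.assoc]; exact hab.w)
  have hj : IsPullback a j hU.fromSpec e :=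
    IsPullback.of_bot (by rw [h.lift_snd]; exact hab) (h.lift_fst _ _ _).symm h
  haveI : IsOpenImmersion j := MorphismProperty.of_isPullback (P := @IsOpenImmersion) hj inferInstance
  obtain ⟨c, hc⟩ : e z ∈ Set.range hU.fromSpec := by rw [hU.range_fromSpec]; exact hzU
  obtain ⟨w, -, hw⟩ := Scheme.exists_preimage_of_isPullback hj c z hc
  subst hw
  have hew : hU.fromSpec (a w) = e (j w) := by
    exact congr($(hj.w) w)
  rw [gor_congr ((asIso (j.stalkMap w)).commRingCatIsoToRingEquiv.trans
      (Spec.stalkIso (CommRingCat.of (C ⊗[k] K)) w).commRingCatIsoToRingEquiv),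
    gor_congr ((F.presheaf.stalkCongr (.of_eq hew.symm)).commRingCatIsoToRingEquiv.trans
      ((asIso (hU.fromSpec.stalkMap (a w))).commRingCatIsoToRingEquiv.trans
        (Spec.stalkIso (CommRingCat.of C) (a w)).commRingCatIsoToRingEquiv))]
  exact (S1803.result k K C w).symm

/-- The Gorenstein locus commutes with base change for flat morphisms locally of finite type. -/
theorem gorAt_iff_baseChange {X S X' T : Scheme.{u}} {f : X ⟶ S} {f' : X' ⟶ T} {g' : X' ⟶ X} {g : T ⟶ S}
    (hc : IsPullback g' f' f g) [Flat f] [LocallyOfFiniteType f] (x' : X') :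
    Dual3.IsGorensteinAt f' x' ↔ Dual3.IsGorensteinAt f (g' x') := by
  haveI : Flat f' := MorphismProperty.of_isPullback (P := (@Flat : MorphismProperty Scheme.{u})) hc ‹_›
  have hy : f (g' x') = g (f' x') := by rw [← Scheme.Hom.comp_apply, hc.w, Scheme.Hom.comp_apply]
  rw [gorAt_iff_sm f' x' (f' x') rfl, gorAt_iff_sm f (g' x') (g (f' x')) hy]
  have hfl : (FibFlat.sm f (g' x') (g (f' x')) hy).Flat :=
    (FibFlat.sm_flat_iff f (g' x') (g (f' x')) hy).2 (Flat.stalkMap f _)
  have hfl' : (FibFlat.sm f' x' (f' x') rfl).Flat :=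
    (FibFlat.sm_flat_iff f' x' (f' x') rfl).2 (Flat.stalkMap f' _)
  obtain ⟨e, he, hι⟩ := ConsPropLib.exists_fibre_pullback hc (f' x')
  let z' := f'.asFiber x'
  have hz' : f'.fiberι (f' x') z' = x' := f'.fiberι_asFiber x'
  have hz : f.fiberι (g (f' x')) (e z') = g' x' := by
    rw [← Scheme.Hom.comp_apply, hι, Scheme.Hom.comp_apply, hz']
  obtain ⟨E'⟩ := Triage.CMMor.exists_equiv_fibre_stalk_aux f' x' (f' x') rfl z' hz'
  obtain ⟨E⟩ := Triage.CMMor.exists_equiv_fibre_stalk_aux f (g' x') (g (f' x')) hy (e z') hz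
  rw [gor_congr E', gor_congr E]
  letI : Algebra (S.residueField (g (f' x'))) (T.residueField (f' x')) :=
    (g.residueFieldMap (f' x')).hom.toAlgebra
  have key := gor_field_bc (k := S.residueField (g (f' x'))) (K := T.residueField (f' x'))
    (f.fiberToSpecResidueField (g (f' x'))) he z'
  exact and_congr (iff_of_true hfl' hfl) key

end Groth.Agent.AlgSpDec.GorField
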