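import Groth.Agent.QFD.Frobenius
import Groth.Agent.QFD.GorFibre
import Groth.Agent.QFD.BaseChange
import Mathlib.RingTheory.LocalRing.Module

/-!
# Openness of the Gorenstein locus of a finite projective algebra
-/

set_option autoImplicit false
set_option linter.style.haveILetI false

universe u

open IsLocalRing TensorProduct

namespace Groth.Agent.AlgSpDec.GorFinite

open Groth.Agent

attribute [local instance] Algebra.TensorProduct.rightAlgebra

/-- A module is cyclic near a prime. -/
def Cyc (B : Type u) [CommRing B] (M : Type u) [AddCommGroup M] [Module B M] (q : PrimeSpectrum B) : Prop :=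
  ∃ m : M, q ∉ Module.support B (M ⧸ Submodule.span B {m})

theorem isOpen_cyc (B : Type u) [CommRing B] (M : Type u) [AddCommGroup M] [Module B M] [Module.Finite B M] :
    IsOpen {q | Cyc B M q} := by
  rw [show {q | Cyc B M q} = ⋃ m : M, (Module.support B (M ⧸ Submodule.span B {m}))ᶜ by ext; simp [Cyc]]
  exact isOpen_iUnion fun m => Module.isClosed_support.isOpen_compl

/-- The dual of a finite projective algebra is finite over the algebra. -/
theorem finite_omega {A B : Type u} [CommRing A] [CommRing B] [Algebra A B] [Module.Finite A B]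
    [Module.Projective A B] : Module.Finite B (Disc.Omega A B) := by
  classical
  obtain ⟨T, hT⟩ := Module.Finite.fg_top (R := A) (M := B →ₗ[A] A)
  refine ⟨⟨T.image fun φ => (⟨φ⟩ : Disc.Omega A B), ?_⟩⟩
  rw [eq_top_iff]
  rintro ⟨φ⟩ -
  have hφ : φ ∈ Submodule.span A (T : Set (B →ₗ[A] A)) := hT ▸ Submodule.mem_top
  refine Submodule.span_induction (p := fun φ _ => (⟨φ⟩ : Disc.Omega A B) ∈ Submodule.span B _)
    (fun φ hφ => Submodule.subset_span (Finset.mem_image_of_mem _ hφ))
    (Submodule.zero_mem _) (fun φ ψ _ _ h1 h2 => Submodule.add_mem _ h1 h2) (fun a φ _ h => ?_) hφ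
  have he : (⟨a • φ⟩ : Disc.Omega A B) = algebraMap A B a • ⟨φ⟩ := by
    refine Disc.Omega.ext (LinearMap.ext fun x => ?_)
    rw [Disc.Omega.smul_toLinearMap_apply, ← Algebra.smul_def, map_smul]
    rfl
  rw [he]
  exact Submodule.smul_mem _ _ h

/-- At a point where the dual is cyclic a finite algebra over a field is Gorenstein. -/
theorem gorenstein_of_cyclic {k C : Type u} [Field k] [CommRing C] [Algebra k C] [Module.Finite k C]
    (Q : Ideal C) [Q.IsPrime] (φ₀ : Disc.Omega k C)
    (h : ∀ φ : Disc.Omega k C, ∃ s ∉ Q, ∃ c : C, s • φ = c • φ₀) :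
    LocCoh.IsGorensteinLocalRing (Localization.AtPrime Q) := by
  haveI : IsArtinianRing C := isArtinian_of_tower k inferInstance
  have hsurj : Function.Surjective (algebraMap C (Localization.AtPrime Q)) :=
    IsArtinianRing.localization_surjective Q.primeCompl _
  let π : C →ₗ[k] Localization.AtPrime Q := (IsScalarTower.toAlgHom k C (Localization.AtPrime Q)).toLinearMap
  haveI : Module.Finite k (Localization.AtPrime Q) := Module.Finite.of_surjective π hsurj
  obtain ⟨t, ht, htk⟩ : ∃ t ∉ Q, ∀ x : C, algebraMap C (Localization.AtPrime Q) x = 0 → t * x = 0 := by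
    classical
    obtain ⟨T, hT⟩ := (IsNoetherian.noetherian (RingHom.ker (algebraMap C (Localization.AtPrime Q))) : Submodule.FG _)
    have h1 : ∀ z : T, ∃ v : Q.primeCompl, (v : C) * (z : C) = 0 := fun z =>
      (IsLocalization.map_eq_zero_iff Q.primeCompl (Localization.AtPrime Q) _).mp
        (RingHom.mem_ker.mp (hT ▸ Submodule.subset_span z.2))
    choose v hv using h1
    refine ⟨((∏ z, v z : Q.primeCompl) : C), (∏ z, v z).2, fun x hx => ?_⟩
    have hx' : x ∈ Submodule.span C (T : Set C) := hT ▸ RingHom.mem_ker.mpr hx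
    refine Submodule.span_induction (p := fun x _ => ((∏ z, v z : Q.primeCompl) : C) * x = 0)
      (fun z hz => ?_) (mul_zero _) (fun a b _ _ ha hb => by rw [mul_add, ha, hb, add_zero])
      (fun r a _ ha => by rw [smul_eq_mul, mul_left_comm, ha, mul_zero]) hx'
    rw [Submonoid.coe_finsetProd, ← Finset.mul_prod_erase _ _ (Finset.mem_univ (⟨z, hz⟩ : T)), mul_right_comm,
      hv ⟨z, hz⟩, zero_mul]
  have hker : LinearMap.ker π ≤ LinearMap.ker (t • φ₀).toLinearMap := fun x hx => by
    rw [LinearMap.mem_ker, Disc.Omega.smul_toLinearMap_apply, htk x hx, map_zero]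
  choose sec hsec using hsurj
  let e := π.quotKerEquivOfSurjective fun y => ⟨sec y, hsec y⟩
  let lam : Localization.AtPrime Q →ₗ[k] k := (LinearMap.ker π).liftQ _ hker ∘ₗ e.symm.toLinearMap
  have hlam : ∀ x : C, lam (π x) = φ₀.toLinearMap (t * x) := fun x => by
    have h2 : e.symm (π x) = Submodule.Quotient.mk x := by rw [LinearEquiv.symm_apply_eq]; rfl
    simp only [lam, LinearMap.comp_apply, LinearEquiv.coe_coe, h2, Submodule.liftQ_apply,
      Disc.Omega.smul_toLinearMap_apply]
  have hπ : ∀ x, π x = algebraMap C (Localization.AtPrime Q) x := fun _ => rfl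
  let Ψ : Localization.AtPrime Q →ₗ[k] (Localization.AtPrime Q →ₗ[k] k) :=
    { toFun := fun c => lam ∘ₗ LinearMap.mulLeft k c
      map_add' := fun x y => by ext z; simp [add_mul]
      map_smul' := fun a x => by ext z; simp }
  have hΨ : Function.Surjective Ψ := fun ψ => by
    obtain ⟨s, hs, c, hc⟩ := h ⟨ψ ∘ₗ π⟩
    obtain ⟨w, hw⟩ := (IsLocalization.map_units (Localization.AtPrime Q)
      (⟨s, hs⟩ * ⟨t, ht⟩ : Q.primeCompl)).exists_left_inv
    refine ⟨algebraMap C (Localization.AtPrime Q) c * w, LinearMap.ext fun y => ?_⟩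
    obtain ⟨x, hx⟩ : ∃ x, algebraMap C (Localization.AtPrime Q) x = w * y := ⟨sec _, hsec _⟩
    have h1 := congrArg (fun φ : Disc.Omega k C => φ.toLinearMap (t * x)) hc
    simp only [Disc.Omega.smul_toLinearMap_apply, LinearMap.comp_apply, hπ, map_mul, hx] at h1
    change lam (algebraMap C (Localization.AtPrime Q) c * w * y) = ψ y
    rw [mul_assoc, ← hx, ← map_mul, ← hπ, hlam, show t * (c * x) = c * (t * x) by ring, ← h1]
    congr 1
    rw [← mul_assoc, ← mul_assoc]
    simp only [Submonoid.coe_mul, map_mul] at hw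
    linear_combination y * hw
  exact QFD.gorenstein_of_frobenius lam
    ⟨(LinearMap.injective_iff_surjective_of_finrank_eq_finrank (f := Ψ) Subspace.dual_finrank_eq.symm).2 hΨ, hΨ⟩

/-- At a Gorenstein point the dual of a finite algebra over a field is cyclic. -/
theorem exists_generator {k C : Type u} [Field k] [CommRing C] [Algebra k C] [Module.Finite k C]
    (Q : Ideal C) [Q.IsPrime] (hQ : LocCoh.IsGorensteinLocalRing (Localization.AtPrime Q)) :
    ∃ φ₀ : Disc.Omega k C, ∀ φ : Disc.Omega k C, ∃ s ∉ Q, ∃ c : C, s • φ = c • φ₀ := by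
  obtain ⟨θ⟩ := QFD.exists_omega_atPrime_equiv (k := k) Q hQ
  haveI : IsLocalizedModule Q.primeCompl (TensorProduct.mk C (Localization.AtPrime Q) (Disc.Omega k C) 1) :=
    (isLocalizedModule_iff_isBaseChange _ (Localization.AtPrime Q) _).mpr (TensorProduct.isBaseChange _ _ _)
  let g := TensorProduct.mk C (Localization.AtPrime Q) (Disc.Omega k C) 1
  obtain ⟨⟨φ₀, s₀⟩, h₀⟩ := IsLocalizedModule.surj Q.primeCompl g (θ.symm 1)
  refine ⟨φ₀, fun φ => ?_⟩
  obtain ⟨⟨c, s⟩, hcs⟩ := IsLocalization.surj Q.primeCompl (θ (g φ))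
  have h1 : g (((s : C) * (s₀ : C)) • φ) = g (c • φ₀) := by
    apply θ.injective
    have h0 : algebraMap C (Localization.AtPrime Q) (s₀ : C) = θ (g φ₀) := by
      rw [← h₀, Submonoid.smul_def, ← algebraMap_smul (Localization.AtPrime Q), map_smul θ, θ.apply_symm_apply,
        smul_eq_mul, mul_one]
    rw [map_smul g, map_smul g, ← algebraMap_smul (Localization.AtPrime Q) ((s : C) * (s₀ : C)),
      ← algebraMap_smul (Localization.AtPrime Q) c, map_smul θ, map_smul θ, ← h0, smul_eq_mul, smul_eq_mul,
      map_mul]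
    rw [← hcs]
    ring
  obtain ⟨v, hv⟩ := (IsLocalizedModule.eq_iff_exists Q.primeCompl g).1 h1
  refine ⟨(v : C) * ((s : C) * (s₀ : C)), (v * (s * s₀)).2, (v : C) * c, ?_⟩
  rw [Submonoid.smul_def, Submonoid.smul_def] at hv
  rw [mul_smul, mul_smul (v : C) c]
  exact hv

theorem subsingleton_tensor_of_field {B : Type u} [CommRing B] (K L : Type u) [Field K] [Field L] [Algebra B K]
    [Algebra B L] [Algebra K L] [IsScalarTower B K L] (N : Type u) [AddCommGroup N] [Module B N]
    (h : ∀ n : N, (1 : L) ⊗ₜ[B] n = 0) : Subsingleton (K ⊗[B] N) := by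
  refine subsingleton_of_forall_eq 0 fun z => ?_
  have hz : ∀ z : K ⊗[B] N, AlgebraTensorModule.cancelBaseChange B K L L N (1 ⊗ₜ z) = 0 := by
    intro z
    induction z using TensorProduct.induction_on with
    | zero => simp
    | tmul r n =>
      rw [AlgebraTensorModule.cancelBaseChange_tmul, ← mul_one (r • (1 : L)), ← smul_eq_mul,
        ← TensorProduct.smul_tmul', h, smul_zero]
    | add x y hx hy => rw [tmul_add, map_add, hx, hy, add_zero]
  exact Module.FaithfullyFlat.tensorProduct_mk_injective (A := K) (B := L) _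
    (((AlgebraTensorModule.cancelBaseChange B K L L N).injective
      ((hz z).trans (map_zero _).symm)).trans (tmul_zero _ _).symm)

theorem tensor_eq_zero_of_smul {B : Type u} [CommRing B] (C L : Type u) [CommRing C] [Field L] [Algebra B C]
    [Algebra B L] [Algebra C L] [IsScalarTower B C L] {M : Type u} [AddCommGroup M] [Module B M] {m φ : M}
    {s c : C} (hs : algebraMap C L s ≠ 0) (h : s • ((1 : C) ⊗ₜ[B] φ) = c • ((1 : C) ⊗ₜ[B] m)) :
    (1 : L) ⊗ₜ[B] (Submodule.mkQ (Submodule.span B {m}) φ) = 0 := by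
  have hm : Submodule.mkQ (Submodule.span B {m}) m = 0 :=
    (Submodule.Quotient.mk_eq_zero _).2 (Submodule.mem_span_singleton_self m)
  have h1 := congrArg (TensorProduct.map ((Algebra.linearMap C L).restrictScalars B)
    (Submodule.mkQ (Submodule.span B {m}))) h
  simp only [TensorProduct.smul_tmul', smul_eq_mul, mul_one, TensorProduct.map_tmul,
    LinearMap.coe_restrictScalars, Algebra.linearMap_apply, hm, tmul_zero] at h1
  have h2 := congrArg (fun z => (algebraMap C L s)⁻¹ • z) h1
  simpa [TensorProduct.smul_tmul', inv_mul_cancel₀ hs] using h2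

/-- The Gorenstein points of the fibres of a finite projective algebra. -/
theorem gor_fibre_iff_cyc {A B : Type u} [CommRing A] [CommRing B] [Algebra A B] [Module.Finite A B]
    [Module.Projective A B] (p : Ideal A) [p.IsPrime]
    (Q : PrimeSpectrum (p.ResidueField ⊗[A] B)) (q : PrimeSpectrum B)
    (hq : Q.asIdeal.comap (algebraMap B (p.ResidueField ⊗[A] B)) = q.asIdeal) :
    LocCoh.IsGorensteinLocalRing (Localization.AtPrime Q.asIdeal) ↔ Cyc B (Disc.Omega A B) q := by
  haveI := finite_omega (A := A) (B := B)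
  have hB : ∀ b : B, algebraMap B (p.ResidueField ⊗[A] B) b = 1 ⊗ₜ b := fun _ => rfl
  have hbij := QFD.bcLin_bijective_of_projective (A := A) (A₁ := p.ResidueField) (B' := B)
    (B'₁ := p.ResidueField ⊗[A] B) inferInstance
  let L := LinearEquiv.ofBijective _ hbij
  let im : Disc.Omega A B → Disc.Omega p.ResidueField (p.ResidueField ⊗[A] B) := fun φ => L (1 ⊗ₜ φ)
  have him : ∀ (b : B) φ, im (b • φ) = algebraMap B (p.ResidueField ⊗[A] B) b • im φ := fun b φ => by
    simp only [im]
    rw [← map_smul, TensorProduct.smul_tmul', smul_eq_mul, mul_one, Algebra.algebraMap_eq_smul_one,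
      TensorProduct.smul_tmul]
  constructor
  · intro hG
    obtain ⟨φ₀, hφ₀⟩ := exists_generator (k := p.ResidueField) Q.asIdeal hG
    -- lift the generator, up to a unit
    have hlift : ∀ z : (p.ResidueField ⊗[A] B) ⊗[B] Disc.Omega A B,
        ∃ a ∉ p, ∃ m : Disc.Omega A B, algebraMap A (p.ResidueField ⊗[A] B) a • z = 1 ⊗ₜ m := by
      have hC : ∀ z : p.ResidueField ⊗[A] B, ∃ a ∉ p, ∃ b : B,
          algebraMap A (p.ResidueField ⊗[A] B) a * z = algebraMap B (p.ResidueField ⊗[A] B) b := by
        intro z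
        induction z using TensorProduct.induction_on with
        | zero => exact ⟨1, p.one_notMem, 0, by simp⟩
        | tmul r b =>
          obtain ⟨num, den, hden, hr⟩ := IsFractionRing.div_surjective (A := A ⧸ p) r
          obtain ⟨den, rfl⟩ := Ideal.Quotient.mk_surjective den
          obtain ⟨num, rfl⟩ := Ideal.Quotient.mk_surjective num
          have hd : den ∉ p := fun h =>
            nonZeroDivisors.ne_zero hden (Ideal.Quotient.eq_zero_iff_mem.2 h)
          refine ⟨den, hd, num • b, ?_⟩
          rw [hB, Algebra.TensorProduct.algebraMap_apply, Algebra.TensorProduct.tmul_mul_tmul, one_mul,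
            ← TensorProduct.smul_tmul, ← Algebra.algebraMap_eq_smul_one]
          congr 1
          rw [← hr, IsScalarTower.algebraMap_apply A (A ⧸ p) p.ResidueField den,
            IsScalarTower.algebraMap_apply A (A ⧸ p) p.ResidueField num, Ideal.Quotient.algebraMap_eq,
            mul_div_cancel₀]
          exact IsFractionRing.to_map_ne_zero_of_mem_nonZeroDivisors hden
        | add x y hx hy =>
          obtain ⟨a, ha, b, hab⟩ := hx
          obtain ⟨a', ha', b', hab'⟩ := hy
          refine ⟨a * a', p.primeCompl.mul_mem ha ha', algebraMap A B a' * b + algebraMap A B a * b', ?_⟩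
          rw [map_add, map_mul, map_mul, map_mul, ← hab, ← hab', ← IsScalarTower.algebraMap_apply,
            ← IsScalarTower.algebraMap_apply]
          ring
      intro z
      induction z using TensorProduct.induction_on with
      | zero => exact ⟨1, p.one_notMem, 0, by simp⟩
      | tmul c φ =>
        obtain ⟨a, ha, b, hab⟩ := hC c
        refine ⟨a, ha, b • φ, ?_⟩
        rw [TensorProduct.smul_tmul', smul_eq_mul, hab, ← TensorProduct.smul_tmul, Algebra.smul_def, mul_one]
      | add x y hx hy =>
        obtain ⟨a, ha, m, hm⟩ := hx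
        obtain ⟨a', ha', m', hm'⟩ := hy
        refine ⟨a * a', p.primeCompl.mul_mem ha ha', algebraMap A B a' • m + algebraMap A B a • m', ?_⟩
        have e : ∀ (a : A) (m : Disc.Omega A B), (1 : p.ResidueField ⊗[A] B) ⊗ₜ[B] (algebraMap A B a • m) =
            algebraMap A (p.ResidueField ⊗[A] B) a • (1 ⊗ₜ[B] m) := fun a m => by
          rw [TensorProduct.smul_tmul', smul_eq_mul, mul_one, ← TensorProduct.smul_tmul, Algebra.smul_def,
            mul_one, ← IsScalarTower.algebraMap_apply]
        rw [tmul_add, e, e, ← hm, ← hm', smul_smul, smul_smul, smul_add, map_mul]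
        congr 1
        rw [mul_comm]
    have hunit : ∀ a ∉ p, IsUnit (algebraMap A (p.ResidueField ⊗[A] B) a) := fun a ha => by
      rw [IsScalarTower.algebraMap_apply A p.ResidueField (p.ResidueField ⊗[A] B)]
      refine (Ne.isUnit fun h => ha ?_).map _
      rwa [← Ideal.ker_algebraMap_residueField p, RingHom.mem_ker]
    obtain ⟨a, ha, m, hm⟩ := hlift (L.symm φ₀)
    have hgen : ∀ φ, ∃ s ∉ Q.asIdeal, ∃ c, s • φ = c • im m := fun φ => by
      obtain ⟨s, hs, c, hc⟩ := hφ₀ φ
      obtain ⟨w, hw⟩ := (hunit a ha).exists_left_inv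
      refine ⟨s, hs, c * w, ?_⟩
      rw [hc]
      simp only [im, ← hm, map_smul, L.apply_symm_apply, smul_smul]
      rw [mul_assoc, hw, mul_one]
    refine ⟨m, ?_⟩
    rw [Module.mem_support_iff_nontrivial_residueField_tensorProduct, not_nontrivial_iff_subsingleton]
    -- the residue field of `q` factors through the fibre
    letI : Algebra B Q.asIdeal.ResidueField :=
      ((algebraMap _ Q.asIdeal.ResidueField).comp (algebraMap B (p.ResidueField ⊗[A] B))).toAlgebra
    haveI : IsScalarTower B (p.ResidueField ⊗[A] B) Q.asIdeal.ResidueField := .of_algebraMap_eq fun _ => rfl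
    letI : Algebra q.asIdeal.ResidueField Q.asIdeal.ResidueField :=
      (Ideal.ResidueField.map q.asIdeal Q.asIdeal _ hq.symm).toAlgebra
    haveI : IsScalarTower B q.asIdeal.ResidueField Q.asIdeal.ResidueField := .of_algebraMap_eq fun b =>
      (Ideal.ResidueField.map_algebraMap q.asIdeal Q.asIdeal _ hq.symm b).symm
    refine subsingleton_tensor_of_field q.asIdeal.ResidueField Q.asIdeal.ResidueField _ fun n => ?_
    obtain ⟨φ, rfl⟩ := Submodule.mkQ_surjective _ n
    obtain ⟨s, hs, c, hc⟩ := hgen (im φ)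
    simp only [im, ← map_smul, L.injective.eq_iff] at hc
    exact tensor_eq_zero_of_smul (p.ResidueField ⊗[A] B) Q.asIdeal.ResidueField
      (fun h => hs (by rwa [← Ideal.ker_algebraMap_residueField Q.asIdeal, RingHom.mem_ker])) hc
  · rintro ⟨m, hm⟩
    obtain ⟨f, hfq, hf⟩ : ∃ f ∉ q.asIdeal, ∀ φ, f • φ ∈ Submodule.span B {m} := by
      rw [Module.notMem_support_iff] at hm
      have : ¬ Module.annihilator B (Disc.Omega A B ⧸ Submodule.span B {m}) ≤ q.asIdeal := fun hle => by
        have := Module.mem_support_iff_of_finite.2 hle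
        exact (Module.notMem_support_iff.2 hm) this
      obtain ⟨f, hf, hfq⟩ := Set.not_subset.1 this
      exact ⟨f, hfq, fun φ => (Submodule.Quotient.mk_eq_zero _).1
        ((Submodule.Quotient.mk_smul _ f φ).trans ((Module.mem_annihilator.1 hf) (Submodule.Quotient.mk φ)))⟩
    refine gorenstein_of_cyclic Q.asIdeal (im m) fun ψ => ?_
    refine ⟨algebraMap B _ f, fun h => hfq (hq.le h), ?_⟩
    obtain ⟨z, rfl⟩ := L.surjective ψ
    induction z using TensorProduct.induction_on with
    | zero => exact ⟨0, by simp⟩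
    | tmul c φ =>
      obtain ⟨b, hb⟩ := Submodule.mem_span_singleton.1 (hf φ)
      refine ⟨c * algebraMap B _ b, ?_⟩
      rw [mul_smul, ← him, hb, him]
      simp only [im, ← map_smul, TensorProduct.smul_tmul', smul_eq_mul, mul_one]
      rw [mul_comm]
    | add x y hx hy =>
      obtain ⟨c, hc⟩ := hx
      obtain ⟨c', hc'⟩ := hy
      exact ⟨c + c', by rw [map_add, smul_add, hc, hc', add_smul]⟩

end Groth.Agent.AlgSpDec.GorFinite
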