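import Groth.Agent.AlgSpDec.GorSpace
import Groth.Agent.AlgSpDec.GorComp

/-!
# Locally Noetherian fibres of morphisms of algebraic spaces, in charts
-/

set_option autoImplicit false
set_option linter.style.haveILetI false
set_option backward.isDefEq.respectTransparency false
set_option backward.isDefEq.respectTransparency.types false

universe u

open CategoryTheory CategoryTheory.Limits AlgebraicGeometry Opposite AlgSp IsLocalRing
  Groth.Agent.AlgSpLib Groth.Agent.AlgSpDec.GorAt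

namespace Groth.Agent.AlgSpDec.GorNoeth

/-- The local ring of the fibre through the point is Noetherian. -/
def NoethFib {X Y : Scheme.{u}} (h : X ⟶ Y) (x : X) : Prop :=
  IsNoetherianRing (X.presheaf.stalk x ⧸ (maximalIdeal (Y.presheaf.stalk (h x))).map (h.stalkMap x).hom)

variable {X Y Z : Scheme.{u}}

theorem noeth_comp_right_iff (k : X ⟶ Y) (e : Y ⟶ Z) [Etale e] (x : X) :
    NoethFib (k ≫ e) x ↔ NoethFib k x := by
  have e' : (maximalIdeal (Z.presheaf.stalk ((k ≫ e) x))).map ((k ≫ e).stalkMap x).hom =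
      (maximalIdeal (Y.presheaf.stalk (k x))).map (k.stalkMap x).hom := by
    have hm : (maximalIdeal (Z.presheaf.stalk (e (k x)))).map (e.stalkMap (k x)).hom =
        maximalIdeal (Y.presheaf.stalk (k x)) := MorLib.WT.map_maximalIdeal_stalkMap e (k x)
    rw [← hm, Ideal.map_map, Scheme.Hom.stalkMap_comp]
    rfl
  exact ⟨fun h => @isNoetherianRing_of_ringEquiv _ _ _ _ (Ideal.quotEquivOfEq e') h,
    fun h => @isNoetherianRing_of_ringEquiv _ _ _ _ (Ideal.quotEquivOfEq e'.symm) h⟩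

theorem noeth_comp_left_iff (r : X ⟶ Y) [Etale r] (h : Y ⟶ Z) (x : X) :
    NoethFib (r ≫ h) x ↔ NoethFib h (r x) := by
  set I : Ideal (Y.presheaf.stalk (r x)) :=
    (maximalIdeal (Z.presheaf.stalk (h (r x)))).map (h.stalkMap (r x)).hom
  have e' : (maximalIdeal (Z.presheaf.stalk ((r ≫ h) x))).map ((r ≫ h).stalkMap x).hom =
      I.map (r.stalkMap x).hom := by
    rw [Ideal.map_map, Scheme.Hom.stalkMap_comp]
    rfl
  constructor
  · intro hN
    haveI : IsNoetherianRing (X.presheaf.stalk x ⧸ I.map (r.stalkMap x).hom) :=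
      @isNoetherianRing_of_ringEquiv _ _ _ _ (Ideal.quotEquivOfEq e') hN
    exact Triage.CMMor.isNoetherian_fibre_of_flat (r.stalkMap x).hom (Flat.stalkMap r x) I
  · intro hN
    haveI : IsNoetherianRing (Y.presheaf.stalk (r x) ⧸ I) := hN
    letI := (r.stalkMap x).hom.toAlgebra
    haveI : Algebra.EssFiniteType (Y.presheaf.stalk (r x)) (X.presheaf.stalk x) :=
      LocallyOfFiniteType.stalkMap r x
    haveI : Algebra.EssFiniteType (Y.presheaf.stalk (r x))
        (X.presheaf.stalk x ⧸ I.map (algebraMap (Y.presheaf.stalk (r x)) (X.presheaf.stalk x))) :=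
      Algebra.EssFiniteType.comp _ (X.presheaf.stalk x) _
    letI : Algebra (Y.presheaf.stalk (r x) ⧸ I)
        (X.presheaf.stalk x ⧸ I.map (algebraMap (Y.presheaf.stalk (r x)) (X.presheaf.stalk x))) :=
      (Ideal.quotientMap _ (algebraMap (Y.presheaf.stalk (r x)) (X.presheaf.stalk x)) Ideal.le_comap_map).toAlgebra
    haveI : IsScalarTower (Y.presheaf.stalk (r x)) (Y.presheaf.stalk (r x) ⧸ I)
        (X.presheaf.stalk x ⧸ I.map (algebraMap (Y.presheaf.stalk (r x)) (X.presheaf.stalk x))) :=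
      .of_algebraMap_eq fun _ => rfl
    haveI := Algebra.EssFiniteType.of_comp (Y.presheaf.stalk (r x)) (Y.presheaf.stalk (r x) ⧸ I)
      (X.presheaf.stalk x ⧸ I.map (algebraMap (Y.presheaf.stalk (r x)) (X.presheaf.stalk x)))
    exact @isNoetherianRing_of_ringEquiv _ _ _ _ (Ideal.quotEquivOfEq e'.symm)
      (Algebra.EssFiniteType.isNoetherianRing (Y.presheaf.stalk (r x) ⧸ I) _)

variable {S : Scheme.{u}}

/-- Noetherianity of the fibre ring is independent of the chart. -/
theorem noeth_iff_of_charts {F G : Sp S} {f : F ⟶ G} {U V U₁ V₁ : Over S} {a : (yon S).obj U ⟶ F}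
    {b : (yon S).obj V ⟶ G} {h : U ⟶ V} {a₁ : (yon S).obj U₁ ⟶ F}
    {b₁ : (yon S).obj V₁ ⟶ G} {h₁ : U₁ ⟶ V₁} (ha : RepWith @Etale a) (hb : RepWith @Etale b)
    (w : a ≫ f = (yon S).map h ≫ b) (ha₁ : RepWith @Etale a₁) (hb₁ : RepWith @Etale b₁)
    (w₁ : a₁ ≫ f = (yon S).map h₁ ≫ b₁) {u : U.left} {u₁ : U₁.left}
    (hu : Points.ofPt a u = Points.ofPt a₁ u₁) :
    NoethFib h.left u ↔ NoethFib h₁.left u₁ := by
  obtain ⟨z, hz, hz₁⟩ := exists_ofPt_of_eq (ha.rep.isPullback' a₁) hu
  subst hz hz₁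
  set r := ha.rep.fst' a₁
  set r₁ := ha.rep.snd a₁
  have hr₁ : Etale r₁.left := ha.property_snd a₁
  have hr : Etale r.left := ha₁.2 a _ _ (ha.rep.isPullback' a₁).flip
  let e := hb.rep.fst' b₁
  let e₁ := hb.rep.snd b₁
  have he₁ : Etale e₁.left := hb.property_snd b₁
  have he : Etale e.left := hb₁.2 b _ _ (hb.rep.isPullback' b₁).flip
  obtain ⟨k, hk, hk₁⟩ : ∃ k, k ≫ e = r ≫ h ∧ k ≫ e₁ = r₁ ≫ h₁ := by
    obtain ⟨k, hk⟩ := (yon S).map_surjective ((hb.rep.isPullback' b₁).lift ((yon S).map (r ≫ h))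
      ((yon S).map (r₁ ≫ h₁)) (by
        rw [Functor.map_comp, Functor.map_comp, Category.assoc, Category.assoc, ← w, ← w₁, ← Category.assoc,
          ← Category.assoc]
        exact congrArg (· ≫ f) (ha.rep.isPullback' a₁).w))
    exact ⟨k, (yon S).map_injective (by rw [Functor.map_comp, hk, IsPullback.lift_fst]),
      (yon S).map_injective (by rw [Functor.map_comp, hk, IsPullback.lift_snd])⟩
  have hk' : k.left ≫ e.left = r.left ≫ h.left := congrArg Over.Hom.left hk
  have hk₁' : k.left ≫ e₁.left = r₁.left ≫ h₁.left := congrArg Over.Hom.left hk₁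
  rw [← noeth_comp_left_iff r.left h.left z, ← noeth_comp_left_iff r₁.left h₁.left z, ← hk', ← hk₁',
    noeth_comp_right_iff, noeth_comp_right_iff]

/-- With locally Noetherian fibres, the fibres of a covering chart are locally Noetherian. -/
theorem isLocallyNoetherian_fiber {X Y : Sp S} {f : X ⟶ Y}
    (hf : ∀ (k : FieldPt Y) (Xk : Sp S) (a : Xk ⟶ X) (b : Xk ⟶ (yon S).obj k.pt),
      IsPullback a b f k.toHom → IsLocNoethSp Xk)
    {U V : Over S} {b : (yon S).obj V ⟶ Y} {e : (yon S).obj U ⟶ pullback f b} {h : U ⟶ V}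
    (he : RepWith @Etale e) (hes : RepWith @Surjective e) (hh : e ≫ pullback.snd f b = (yon S).map h)
    (v : V.left) : IsLocallyNoetherian (h.left.fiber v) := by
  let cv : Over.mk (V.left.fromSpecResidueField v ≫ V.hom) ⟶ V :=
    Over.homMk (V.left.fromSpecResidueField v) rfl
  have sq := IsPullback.of_hasPullback f ((yon S).map cv ≫ b)
  obtain ⟨W, c', h', a', sW, ha', -, -, -⟩ :=
    exists_chart_baseChange (b := b) (b' := 𝟙 _) (c := cv) sq (Category.id_comp _) hh he hes
      (repWith_id _ _) (repWith_id _ _)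
  have := isLocallyNoetherian_chart ha' (hf (FieldPt.ofPt b v) _ _ _ (by
    rw [FieldPt.toHom_ofPt]; exact IsPullback.of_hasPullback f _))
  have sWl : IsPullback c'.left h'.left h.left (V.left.fromSpecResidueField v) := sW.map (Over.forget S)
  exact isLocallyNoetherian_of_isOpenImmersion sWl.isoPullback.inv

/-- With locally Noetherian fibres, the fibre rings in every chart are Noetherian. -/
theorem noethFib_chart {X Y : Sp S} (hX : IsAlgSpace X) (hY : IsAlgSpace Y) {f : X ⟶ Y}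
    (hf : ∀ (k : FieldPt Y) (Xk : Sp S) (a : Xk ⟶ X) (b : Xk ⟶ (yon S).obj k.pt),
      IsPullback a b f k.toHom → IsLocNoethSp Xk)
    {U V : Over S} {a : (yon S).obj U ⟶ X} {b : (yon S).obj V ⟶ Y} {h : U ⟶ V} (ha : RepWith @Etale a)
    (hb : RepWith @Etale b) (w : a ≫ f = (yon S).map h ≫ b) (u : U.left) : NoethFib h.left u := by
  obtain ⟨V₁, b₁, hb₁, hbs₁⟩ := hY.atlas
  obtain ⟨U₁, e, h₁, he, hes, hh⟩ := exists_chart_over hX hY f b₁
  have w₁ : (e ≫ pullback.fst f b₁) ≫ f = (yon S).map h₁ ≫ b₁ := by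
    rw [Category.assoc, pullback.condition, ← Category.assoc, hh]
  obtain ⟨u₁, hu₁⟩ := surjective_ofPt (repWith_comp hes (repWith_fst f hbs₁)) (Points.ofPt a u)
  refine (noeth_iff_of_charts ha hb w (repWith_comp he (repWith_fst f hb₁)) hb₁ w₁ hu₁.symm).2 ?_
  exact Triage.CMMor.isNoetherianRing_fibre_stalk h₁.left u₁ (isLocallyNoetherian_fiber hf he hes hh _)

end Groth.Agent.AlgSpDec.GorNoeth
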