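import Groth.Agent.AlgSpDec.GorFinite
import Groth.Agent.AlgSpDec.GorField
import Groth.Agent.CMOpen5.Affine
import Groth.Agent.LC.GorRing
import Groth.Agent.AlgSpPts.Sep
import Mathlib.RingTheory.Etale.QuasiFinite
import Mathlib.RingTheory.Flat.Basic

/-!
# Openness of the Gorenstein locus of a flat morphism locally of finite presentation
-/

set_option autoImplicit false
set_option linter.style.haveILetI false
set_option backward.isDefEq.respectTransparency false

universe u

open CategoryTheory CategoryTheory.Limits AlgebraicGeometry IsLocalRing TensorProduct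

namespace Groth.Agent.AlgSpDec.GorOpen

open Groth.Agent GorAt GorComp GorField GorFinite

/-- Over a field a morphism is Gorenstein at a point iff the local ring is. -/
theorem gorAt_field_iff {k : Type u} [Field k] {W : Scheme.{u}} (h : W ⟶ Spec (CommRingCat.of k)) (w : W) :
    Dual3.IsGorensteinAt h w ↔ LocCoh.IsGorensteinLocalRing (W.presheaf.stalk w) := by
  obtain ⟨hfl, ⟨e⟩⟩ := CurvLocusLib.fibre_of_etale_base h (𝟙 _) w
  exact ⟨fun H => CurvLocusLib.gor_of_equiv e.symm H.2, fun H => ⟨hfl, CurvLocusLib.gor_of_equiv e H⟩⟩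

theorem isPullback_spec (A R B : Type u) [CommRing A] [CommRing R] [CommRing B] [Algebra A R] [Algebra A B] :
    IsPullback (Spec.map (CommRingCat.ofHom (algebraMap R (R ⊗[A] B))))
      (Spec.map (CommRingCat.ofHom (Algebra.TensorProduct.includeRight (R := A) (A := R) (B := B)).toRingHom))
      (Spec.map (CommRingCat.ofHom (algebraMap A R))) (Spec.map (CommRingCat.ofHom (algebraMap A B))) :=
  IsPullback.of_iso_pullback ⟨by
    rw [← Spec.map_comp, ← Spec.map_comp]
    congr 1
    ext c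
    exact Algebra.TensorProduct.tmul_one_eq_one_tmul c⟩
    (pullbackSpecIso A R B).symm (pullbackSpecIso_inv_fst A R B) (pullbackSpecIso_inv_snd A R B)

attribute [local instance] Algebra.TensorProduct.rightAlgebra in
theorem gor_spec_finite_iff {A B : Type u} [CommRing A] [CommRing B] [Algebra A B] [Module.Finite A B]
    [Module.Projective A B] (q : Spec (CommRingCat.of B)) :
    Dual3.IsGorensteinAt (Spec.map (CommRingCat.ofHom (algebraMap A B))) q ↔ Cyc B (Disc.Omega A B) q := by
  haveI : Flat (Spec.map (CommRingCat.ofHom (algebraMap A B))) :=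
    (HasRingHomProperty.Spec_iff (P := @Flat)).2 (RingHom.flat_algebraMap_iff.2 inferInstance)
  haveI : LocallyOfFiniteType (Spec.map (CommRingCat.ofHom (algebraMap A B))) :=
    (HasRingHomProperty.Spec_iff (P := @LocallyOfFiniteType)).2
      (RingHom.finiteType_algebraMap.2 inferInstance)
  let p : Ideal A := q.asIdeal.comap (algebraMap A B)
  let s : Spec (CommRingCat.of p.ResidueField) := IsLocalRing.closedPoint p.ResidueField
  have hs : Spec.map (CommRingCat.ofHom (algebraMap A p.ResidueField)) s =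
      Spec.map (CommRingCat.ofHom (algebraMap A B)) q := by
    refine PrimeSpectrum.ext ?_
    show Ideal.comap (algebraMap A p.ResidueField) (IsLocalRing.maximalIdeal p.ResidueField) = p
    rw [isField_iff_maximalIdeal_eq.mp (Field.toIsField p.ResidueField), ← RingHom.ker_eq_comap_bot,
      Ideal.ker_algebraMap_residueField]
  have sq := (isPullback_spec A p.ResidueField B).flip
  obtain ⟨Q, hQq, -⟩ := Scheme.exists_preimage_of_isPullback sq q s hs.symm
  rw [← hQq, ← gorAt_iff_baseChange sq Q, gorAt_field_iff,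
    gor_congr (Spec.stalkIso (CommRingCat.of (p.ResidueField ⊗[A] B)) Q).commRingCatIsoToRingEquiv]
  exact gor_fibre_iff_cyc p Q _ rfl

/-- Around a quasi-finite point of a flat finitely presented algebra the Gorenstein locus is open. -/
theorem exists_open_spec {A B : Type u} [CommRing A] [CommRing B] [Algebra A B] [Module.Flat A B]
    [Algebra.FinitePresentation A B] (q : Spec (CommRingCat.of B)) [Algebra.QuasiFiniteAt A q.asIdeal]
    (hq : Dual3.IsGorensteinAt (Spec.map (CommRingCat.ofHom (algebraMap A B))) q) :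
    ∃ O : Set (Spec (CommRingCat.of B)), IsOpen O ∧ q ∈ O ∧
      ∀ z ∈ O, Dual3.IsGorensteinAt (Spec.map (CommRingCat.ofHom (algebraMap A B))) z := by
  haveI : Flat (Spec.map (CommRingCat.ofHom (algebraMap A B))) :=
    (HasRingHomProperty.Spec_iff (P := @Flat)).2 (RingHom.flat_algebraMap_iff.2 inferInstance)
  haveI : LocallyOfFiniteType (Spec.map (CommRingCat.ofHom (algebraMap A B))) :=
    (HasRingHomProperty.Spec_iff (P := @LocallyOfFiniteType)).2
      (RingHom.finiteType_algebraMap.2 inferInstance)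
  let p : Ideal A := q.asIdeal.comap (algebraMap A B)
  haveI : q.asIdeal.LiesOver p := ⟨rfl⟩
  obtain ⟨R, _, _, _, P, _, _, e, -, P', _, -, hP'q, heP', -, hfin, -⟩ :=
    Algebra.exists_etale_isIdempotentElem_forall_liesOver_eq p q.asIdeal
  let T := Localization.Away e
  haveI : Module.Finite R T := hfin
  haveI : Algebra.FinitePresentation (R ⊗[A] B) T := IsLocalization.Away.finitePresentation e
  haveI : Algebra.FinitePresentation R T := Algebra.FinitePresentation.trans R (R ⊗[A] B) T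
  haveI : Module.Flat (R ⊗[A] B) T := IsLocalization.flat T (Submonoid.powers e)
  haveI : Module.Flat R T := Module.Flat.trans R (R ⊗[A] B) T
  haveI : Module.FinitePresentation R T := Module.FinitePresentation.of_finite_of_finitePresentation R T
  haveI : Module.Projective R T := Module.Flat.projective_of_finitePresentation
  let ι : Spec (CommRingCat.of T) ⟶ Spec (CommRingCat.of (R ⊗[A] B)) :=
    Spec.map (CommRingCat.ofHom (algebraMap (R ⊗[A] B) T))
  let a : Spec (CommRingCat.of (R ⊗[A] B)) ⟶ Spec (CommRingCat.of R) :=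
    Spec.map (CommRingCat.ofHom (algebraMap R (R ⊗[A] B)))
  let b : Spec (CommRingCat.of (R ⊗[A] B)) ⟶ Spec (CommRingCat.of B) :=
    Spec.map (CommRingCat.ofHom (Algebra.TensorProduct.includeRight (R := A) (A := R) (B := B)).toRingHom)
  have sq : IsPullback b a (Spec.map (CommRingCat.ofHom (algebraMap A B)))
      (Spec.map (CommRingCat.ofHom (algebraMap A R))) := (isPullback_spec A R B).flip
  haveI : Etale (Spec.map (CommRingCat.ofHom (algebraMap A R))) :=
    (HasRingHomProperty.Spec_iff (P := @Etale)).2 (RingHom.etale_algebraMap.2 inferInstance)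
  haveI : Etale b := MorphismProperty.of_isPullback (P := @Etale) sq.flip inferInstance
  haveI : IsOpenImmersion ι := IsOpenImmersion.of_isLocalization e
  have hιa : ι ≫ a = Spec.map (CommRingCat.ofHom (algebraMap R T)) := by
    rw [← Spec.map_comp]
    rfl
  have key : ∀ t, Cyc T (Disc.Omega R T) t ↔
      Dual3.IsGorensteinAt (Spec.map (CommRingCat.ofHom (algebraMap A B))) (b (ι t)) := fun t => by
    rw [← gor_spec_finite_iff, ← hιa, gorAt_comp_left_iff, gorAt_iff_baseChange sq]
  haveI : (P'.map (algebraMap (R ⊗[A] B) T)).IsPrime :=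
    IsLocalization.isPrime_of_isPrime_disjoint (Submonoid.powers e) _ _ ‹_›
      ((Ideal.disjoint_powers_iff_notMem_of_isPrime _).2 heP')
  let t₀ : Spec (CommRingCat.of T) := ⟨P'.map (algebraMap (R ⊗[A] B) T), inferInstance⟩
  have ht₀ : b (ι t₀) = q := by
    refine PrimeSpectrum.ext ?_
    show ((P'.map (algebraMap (R ⊗[A] B) T)).comap (algebraMap (R ⊗[A] B) T)).comap
      (Algebra.TensorProduct.includeRight (R := A) (A := R) (B := B)).toRingHom = q.asIdeal
    have h1 : (P'.map (algebraMap (R ⊗[A] B) T)).comap (algebraMap (R ⊗[A] B) T) = P' :=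
      IsLocalization.comap_map_of_isPrime_disjoint (Submonoid.powers e) T ‹_›
        ((Ideal.disjoint_powers_iff_notMem_of_isPrime _).2 heP')
    rw [h1]
    exact hP'q
  haveI := finite_omega (A := R) (B := T)
  refine ⟨(ι ≫ b) '' {t | Cyc T (Disc.Omega R T) t},
    (ι ≫ b).isOpenMap _ (isOpen_cyc T (Disc.Omega R T)), ⟨t₀, (key t₀).2 (ht₀.symm ▸ hq), ht₀⟩, ?_⟩
  rintro _ ⟨t, ht, rfl⟩
  exact (key t).1 ht

/-- The Gorenstein locus of a flat locally quasi-finite morphism of finite presentation is open. -/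
theorem isOpen_gor_lqf {U Y : Scheme.{u}} (g : U ⟶ Y) [Flat g] [LocallyOfFinitePresentation g]
    [LocallyQuasiFinite g] : IsOpen {z | Dual3.IsGorensteinAt g z} := by
  refine isOpen_iff_forall_mem_open.2 fun z hz => ?_
  obtain ⟨V, hV, hzV, -⟩ := exists_isAffineOpen_mem_and_subset (U := (⊤ : Y.Opens)) (x := g z) trivial
  obtain ⟨W, hW, hzW, hWV⟩ := exists_isAffineOpen_mem_and_subset (U := g ⁻¹ᵁ V) (x := z) hzV
  replace hWV : W ≤ g ⁻¹ᵁ V := hWV
  letI : Algebra Γ(Y, V) Γ(U, W) := (g.appLE V W hWV).hom.toAlgebra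
  have hsq : Spec.map (CommRingCat.ofHom (algebraMap Γ(Y, V) Γ(U, W))) ≫ hV.fromSpec = hW.fromSpec ≫ g :=
    hV.SpecMap_appLE_fromSpec g hW hWV
  haveI : Algebra.FinitePresentation Γ(Y, V) Γ(U, W) := g.finitePresentation_appLE hV hW hWV
  haveI : Module.Flat Γ(Y, V) Γ(U, W) := g.flat_appLE hV hW hWV
  haveI : Algebra.QuasiFinite Γ(Y, V) Γ(U, W) := by
    have h1 : (g.appLE V W hWV).hom.QuasiFinite := LocallyQuasiFinite.quasiFinite_appLE hV hW hWV
    exact RingHom.quasiFinite_algebraMap.1 h1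
  obtain ⟨q, rfl⟩ : z ∈ Set.range hW.fromSpec := by rw [hW.range_fromSpec]; exact hzW
  have hiff : ∀ w, Dual3.IsGorensteinAt (Spec.map (CommRingCat.ofHom (algebraMap Γ(Y, V) Γ(U, W)))) w ↔
      Dual3.IsGorensteinAt g (hW.fromSpec w) := fun w => by
    rw [← gorAt_comp_left_iff hW.fromSpec g w, ← hsq, gorAt_comp_right_iff]
  obtain ⟨O, hO, hqO, hOG⟩ := exists_open_spec q ((hiff q).2 hz)
  refine ⟨hW.fromSpec '' O, ?_, hW.fromSpec.isOpenEmbedding.isOpenMap _ hO, ⟨q, hqO, rfl⟩⟩
  rintro _ ⟨w, hw, rfl⟩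
  exact (hiff w).1 (hOG w hw)

theorem flat_affineSpace (I : Type u) (S : Scheme.{u}) : Flat (𝔸(I; S) ↘ S) := by
  haveI : Flat (terminal.from (Spec (CommRingCat.of (MvPolynomial I (ULift.{u} ℤ))))) := by
    have := isIso_of_isTerminal specULiftZIsTerminal.{u} terminalIsTerminal (terminal.from _)
    haveI : Flat (Spec.map (CommRingCat.ofHom (MvPolynomial.C : ULift.{u} ℤ →+* MvPolynomial I (ULift.{u} ℤ)))) := by
     rw [HasRingHomProperty.Spec_iff (P := @Flat)]
     change RingHom.Flat (algebraMap (ULift.{u} ℤ) (MvPolynomial I (ULift.{u} ℤ)))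
     rw [RingHom.flat_algebraMap_iff]
     infer_instance
    rw [← terminal.comp_from (Spec.map (CommRingCat.ofHom (MvPolynomial.C : ULift.{u} ℤ →+* MvPolynomial I (ULift.{u} ℤ))))]
    exact inferInstanceAs (Flat (Spec.map (CommRingCat.ofHom (MvPolynomial.C : ULift.{u} ℤ →+* MvPolynomial I (ULift.{u} ℤ))) ≫ terminal.from (Spec (CommRingCat.of (ULift.{u} ℤ)))))
  exact inferInstanceAs (Flat (Limits.pullback.fst (terminal.from S) (terminal.from (Spec (CommRingCat.of (MvPolynomial I (ULift.{u} ℤ)))))))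

/-- Affine space is Gorenstein over the base. -/
theorem gorAt_affineSpace {Y : Scheme.{u}} (n : ℕ) (p : 𝔸(ULift.{u} (Fin n); Y)) :
    Dual3.IsGorensteinAt (𝔸(ULift.{u} (Fin n); Y) ↘ Y) p := by
  haveI : ∀ T : Scheme.{u}, Flat (𝔸(ULift.{u} (Fin n); T) ↘ T) := flat_affineSpace _
  let y := (𝔸(ULift.{u} (Fin n); Y) ↘ Y) p
  let k := Y.residueField y
  obtain ⟨w, hw, -⟩ := Scheme.exists_preimage_of_isPullback (AffineSpace.isPullback_map (Y.fromSpecResidueField y))
    p (IsLocalRing.closedPoint k) (Scheme.fromSpecResidueField_apply _ _).symm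
  rw [← hw, ← gorAt_iff_baseChange (AffineSpace.isPullback_map (Y.fromSpecResidueField y)) w]
  let e := (AffineSpace.SpecIso (ULift.{u} (Fin n)) k).hom
  rw [show 𝔸(ULift.{u} (Fin n); Spec k) ↘ Spec k =
      e ≫ Spec.map (CommRingCat.ofHom MvPolynomial.C) from by
        rw [← AffineSpace.SpecIso_inv_over, Iso.hom_inv_id_assoc],
    gorAt_comp_left_iff, gorAt_field_iff (k := k)]
  haveI := GorComp.gorensteinRing_field k
  haveI : LocCoh.IsGorensteinRing (MvPolynomial (ULift.{u} (Fin n)) k) :=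
    LC.gorensteinRing_mvPolynomial k (ULift.{u} (Fin n))
  exact CurvLocusLib.gor_of_equiv
    (Spec.stalkIso (CommRingCat.of (MvPolynomial (ULift.{u} (Fin n)) k)) (e w)).symm.commRingCatIsoToRingEquiv
    (LocCoh.IsGorensteinRing.isGorensteinLocalRing_localization (e w).asIdeal)

/-- The Gorenstein locus of a flat morphism locally of finite presentation is open. -/
theorem isOpen_gor {X Y : Scheme.{u}} (f : X ⟶ Y) [Flat f] [LocallyOfFinitePresentation f] :
    IsOpen {x | Dual3.IsGorensteinAt f x} := by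
  refine isOpen_iff_forall_mem_open.2 fun x hx => ?_
  have hcm : MoreMor.IsCMAt f x := (Triage.CMMor.isCMAt_iff f x).2
    ⟨hx.1, haveI := ((GorAt.gorAt_iff f x).1 hx).2; S0341.result _⟩
  obtain ⟨n, U, hxU, g, hg, hqf, hflat⟩ := (CMOpen5.isCMAt_iff f x).1 hcm
  haveI : LocallyOfFinitePresentation (g ≫ (𝔸(ULift.{u} (Fin n); Y) ↘ Y)) := by rw [hg]; infer_instance
  haveI : LocallyOfFinitePresentation g :=
    AlgSpPts.locallyOfFinitePresentation_of_comp g (𝔸(ULift.{u} (Fin n); Y) ↘ Y)
  let W : (U : Scheme.{u}).Opens := ⟨{z | (g.stalkMap z).hom.Flat}, FlatLocus.isOpen_flat_locus g⟩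
  haveI : Flat (W.ι ≫ g) := Flat.of_stalkMap _ fun z => (FibFlat.flat_stalk_open_comp W.ι g z).2 z.2
  have hiff : ∀ w : W.toScheme, Dual3.IsGorensteinAt (W.ι ≫ g) w ↔ Dual3.IsGorensteinAt f (U.ι (W.ι w)) := by
    intro w
    rw [← gorAt_comp_left_iff U.ι f (W.ι w), ← hg, gorAt_comp_left_iff W.ι g w]
    haveI : LocallyOfFiniteType (g ≫ (𝔸(ULift.{u} (Fin n); Y) ↘ Y)) := inferInstance
    obtain ⟨h1, h2⟩ := GorComp.comp g (𝔸(ULift.{u} (Fin n); Y) ↘ Y) (W.ι w)
      (Triage.CMMor.isNoetherianRing_fibre_stalk _ _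
        (LocallyOfFiniteType.isLocallyNoetherian (Scheme.Hom.fiberToSpecResidueField _ _)))
    exact ⟨fun hh => h1 hh (gorAt_affineSpace n _), fun hh => (h2 hh w.2).1⟩
  haveI : LocallyQuasiFinite g := hqf
  refine ⟨(W.ι ≫ U.ι) '' {w | Dual3.IsGorensteinAt (W.ι ≫ g) w}, ?_,
    (W.ι ≫ U.ι).isOpenEmbedding.isOpenMap _ (isOpen_gor_lqf (W.ι ≫ g)),
    ⟨⟨⟨x, hxU⟩, hflat⟩, (hiff _).2 hx, rfl⟩⟩
  rintro _ ⟨w, hw, rfl⟩
  exact (hiff w).1 hw

end Groth.Agent.AlgSpDec.GorOpen
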