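import Groth.Agent.AlgSpDec.GorAt
import Groth.Agent.AlgSpDec.Fibres

/-!
# Gorenstein algebraic spaces and Gorenstein fibres
-/

set_option autoImplicit false
set_option linter.style.haveILetI false
set_option backward.isDefEq.respectTransparency false
set_option backward.isDefEq.respectTransparency.types false

universe u

open CategoryTheory CategoryTheory.Limits AlgebraicGeometry Opposite AlgSp IsLocalRing
  Groth.Agent.AlgSpLib

namespace Groth.Agent.AlgSpDec.GorAt

variable {S : Scheme.{u}}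

/-- Gorenstein local rings along an étale morphism. -/
theorem gor_stalk_iff_of_etale {U X : Scheme.{u}} (a : U ⟶ X) [Etale a] [IsLocallyNoetherian X] (u : U) :
    LocCoh.IsGorensteinLocalRing (U.presheaf.stalk u) ↔
      LocCoh.IsGorensteinLocalRing (X.presheaf.stalk (a u)) := by
  refine ⟨fun h => ?_, (CurvLocusLib.cm_gor_of_etale a u).2⟩
  haveI := LocallyOfFiniteType.isLocallyNoetherian a
  letI := (a.stalkMap u).hom.toAlgebra
  haveI : IsLocalHom (algebraMap (X.presheaf.stalk (a u)) (U.presheaf.stalk u)) :=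
    inferInstanceAs <| IsLocalHom (a.stalkMap u).hom
  haveI : Module.Flat (X.presheaf.stalk (a u)) (U.presheaf.stalk u) := Flat.stalkMap a u
  exact ((S0344.result (X.presheaf.stalk (a u)) (U.presheaf.stalk u)).1 h).1

/-- Every chart of a Gorenstein algebraic space is Gorenstein. -/
theorem gor_chart {X : Sp S} (hX : EtaleLocally Dual3.IsGorenstein X) {U : Over S}
    {a : (yon S).obj U ⟶ X} (ha : RepWith @Etale a) :
    Dual3.IsGorenstein U.left := by
  obtain ⟨U₀, a₀, ha₀, ha₀', hN₀, hG₀⟩ := hX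
  have hU : IsLocallyNoetherian U.left := isLocallyNoetherian_chart ha ⟨U₀, a₀, ha₀, ha₀', hN₀⟩
  refine ⟨hU, fun u => ?_⟩
  obtain ⟨u₀, hu₀⟩ := surjective_ofPt ha₀' (Points.ofPt a u)
  obtain ⟨z, hz, hz₀⟩ := exists_ofPt_of_eq (ha.rep.isPullback' a₀) hu₀.symm
  have hr₁ : Etale (ha.rep.snd a₀).left := ha.property_snd a₀
  have hr : Etale (ha.rep.fst' a₀).left := ha₀.2 a _ _ (ha.rep.isPullback' a₀).flip
  have := hN₀
  rw [← hz]
  exact (gor_stalk_iff_of_etale (ha.rep.fst' a₀).left z).1
    ((gor_stalk_iff_of_etale (ha.rep.snd a₀).left z).2 (hG₀ _))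

/-- The local ring at a point of a base change to the residue field of a point. -/
theorem exists_equiv_pullback_stalk {U V W T : Scheme.{u}} (h : U ⟶ V) (v : V) (p : W ⟶ U) (q : W ⟶ T)
    (eT : T ≅ Spec (V.residueField v)) (sq : IsPullback p q h (eT.hom ≫ V.fromSpecResidueField v))
    (w : W) :
    Nonempty ((↑(U.presheaf.stalk (p w)) ⧸ (maximalIdeal (V.presheaf.stalk (h (p w)))).map (h.stalkMap (p w)).hom) ≃+*
      ↑(W.presheaf.stalk w)) := by
  have sq' : IsPullback p (q ≫ eT.hom) h (V.fromSpecResidueField v) :=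
    IsPullback.of_iso sq (Iso.refl W) (Iso.refl U) eT (Iso.refl V) (by simp) (by simp) (by simp) (by simp)
  let e : W ≅ h.fiber v := sq'.isoPullback
  have he : h.fiberι v (e.hom w) = p w := by
    rw [← Scheme.Hom.comp_apply]
    exact congr($(sq'.isoPullback_hom_fst) w)
  have hv : h (p w) = v := by
    have h1 : (p ≫ h) w = ((q ≫ eT.hom) ≫ V.fromSpecResidueField v) w := congr($(sq'.w) w)
    rw [Scheme.Hom.comp_apply, Scheme.Hom.comp_apply, Scheme.fromSpecResidueField_apply] at h1
    exact h1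
  subst hv
  obtain ⟨φ⟩ := Triage.CMMor.exists_equiv_fibre_stalk_aux h (p w) (h (p w)) rfl (e.hom w) he
  rw [FibFlat.sm_self] at φ
  exact ⟨φ.trans (asIso (e.hom.stalkMap w)).commRingCatIsoToRingEquiv⟩

/-- The chart of the fibre of a morphism over a point of a chart of the target. -/
theorem exists_fibre_chart {X Y : Sp S} (f : X ⟶ Y) {U V : Over S} {b : (yon S).obj V ⟶ Y}
    {e : (yon S).obj U ⟶ pullback f b} {h : U ⟶ V} (he : RepWith @Etale e) (hes : RepWith @Surjective e)
    (hh : e ≫ pullback.snd f b = (yon S).map h) (v : V.left) {Xv : Sp S} (a : Xv ⟶ X)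
    (c : Xv ⟶ (yon S).obj (Over.mk (V.left.fromSpecResidueField v ≫ V.hom)))
    (sq : IsPullback a c f ((yon S).map (Over.homMk (V.left.fromSpecResidueField v) rfl :
      Over.mk (V.left.fromSpecResidueField v ≫ V.hom) ⟶ V) ≫ b)) :
    ∃ (W : Over S) (a' : (yon S).obj W ⟶ Xv) (p : W ⟶ U), RepWith @Etale a' ∧ RepWith @Surjective a' ∧
      (∀ w : W.left, h.left (p.left w) = v ∧
        Nonempty ((↑(U.left.presheaf.stalk (p.left w)) ⧸
            (maximalIdeal (V.left.presheaf.stalk (h.left (p.left w)))).map (h.left.stalkMap (p.left w)).hom) ≃+*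
          ↑(W.left.presheaf.stalk w))) ∧
      ∀ u : U.left, h.left u = v → ∃ w, p.left w = u := by
  let cv : Over.mk (V.left.fromSpecResidueField v ≫ V.hom) ⟶ V :=
    Over.homMk (V.left.fromSpecResidueField v) rfl
  obtain ⟨W, p, h', a', sW, ha', has', -, -⟩ :=
    exists_chart_baseChange (b := b) (b' := 𝟙 _) (c := cv) sq (Category.id_comp _) hh he hes
      (repWith_id _ _) (repWith_id _ _)
  have sWl : IsPullback p.left h'.left h.left (V.left.fromSpecResidueField v) := sW.map (Over.forget S)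
  refine ⟨W, a', p, ha', has', fun w => ⟨?_, ?_⟩, fun u hu => ?_⟩
  · have h1 := congr($(sWl.w) w)
    rw [Scheme.Hom.comp_apply, Scheme.Hom.comp_apply] at h1
    exact h1.trans (Scheme.fromSpecResidueField_apply _ _)
  · exact exists_equiv_pullback_stalk h.left v p.left h'.left (Iso.refl _)
      (by simpa using sWl) w
  · obtain ⟨y, hy, -⟩ := Scheme.Pullback.exists_preimage_pullback (f := h.left)
      (g := V.left.fromSpecResidueField v) u (IsLocalRing.closedPoint (V.left.residueField v))
      (by rw [Scheme.fromSpecResidueField_apply]; exact hu)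
    refine ⟨sWl.isoPullback.inv y, ?_⟩
    rw [← Scheme.Hom.comp_apply, sWl.isoPullback_inv_fst, hy]

theorem gorAt_of_fibre {U V W : Scheme.{u}} {h : U ⟶ V} {u : U} {w : W} (hfl : (h.stalkMap u).hom.Flat)
    (φ : (↑(U.presheaf.stalk u) ⧸ (maximalIdeal (V.presheaf.stalk (h u))).map (h.stalkMap u).hom) ≃+*
      ↑(W.presheaf.stalk w))
    (hw : LocCoh.IsGorensteinLocalRing (W.presheaf.stalk w)) : Dual3.IsGorensteinAt h u :=
  (gorAt_iff h u).2 ⟨hfl, CurvLocusLib.gor_of_equiv φ.symm hw⟩

end Groth.Agent.AlgSpDec.GorAt
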