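import Groth.Agent.AlgSpDec.MonoRep
import Groth.Agent.AlgSpDec.AffineRep
import Groth.Agent.AlgSpPts.Dim
import Mathlib.RingTheory.Ideal.GoingUp
import Mathlib.AlgebraicGeometry.Morphisms.Integral

/-! Dimension along integral morphisms of algebraic spaces. -/

set_option autoImplicit false
set_option backward.isDefEq.respectTransparency false
set_option backward.isDefEq.respectTransparency.types false

open CategoryTheory Limits Opposite AlgebraicGeometry MorphismProperty AlgSp Groth.Agent.AlgSpLib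
  Groth.Agent.AlgSpPts Order

namespace Groth.Agent.AlgSpDec

universe u

attribute [local instance] specializationOrder

theorem eq_of_specializes_of_isIntegralHom_affine {X Y : Scheme.{u}} [IsAffine X] [IsAffine Y]
    (h : X ⟶ Y) [IsIntegralHom h] {a b : ↥X} (hs : b ⤳ a) (he : h a = h b) : a = b := by
  let φ := Spec.preimage (X.isoSpec.inv ≫ h ≫ Y.isoSpec.hom)
  have hφ : Spec.map φ = X.isoSpec.inv ≫ h ≫ Y.isoSpec.hom := Spec.map_preimage _
  have hi : φ.hom.IsIntegral := by
    rw [← IsIntegralHom.SpecMap_iff, hφ]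
    infer_instance
  apply X.isoSpec.hom.homeomorph.injective
  change X.isoSpec.hom a = X.isoSpec.hom b
  have hc : Spec.map φ (X.isoSpec.hom a) = Spec.map φ (X.isoSpec.hom b) := by
    have ha : ∀ c : ↥X, Spec.map φ (X.isoSpec.hom c) = Y.isoSpec.hom (h c) := fun c => by
      rw [hφ, ← Scheme.Hom.comp_apply, ← Scheme.Hom.comp_apply]
      simp
    rw [ha, ha, he]
  have hle := (PrimeSpectrum.le_iff_specializes _ _).2 (hs.map X.isoSpec.hom.continuous)
  rcases eq_or_lt_of_le hle with h1 | h1
  · exact h1.symm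
  · exfalso
    algebraize [φ.hom]
    have hlt := Ideal.IsIntegral.comap_lt_comap (R := (Γ(Y, ⊤) : Type u)) h1
    exact hlt.ne (congrArg PrimeSpectrum.asIdeal hc).symm

variable {S : Scheme.{u}} {X Y : Sp S}

theorem dim_le_of_isIntegralMor (hX : IsAlgSpace X) (hY : IsAlgSpace Y) {f : X ⟶ Y}
    (hf : IsIntegralMor f) : AlgSp.dim X ≤ AlgSp.dim Y := by
  refine dim_le_iff.2 fun U a ha u => ?_
  obtain ⟨V, b, v, hV, hb, hv⟩ := exists_affine_chart_at hY (Points.map f (Points.ofPt a u))
  obtain ⟨W, i, fst, sq, hW, hi⟩ := hf hV b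
  obtain ⟨z, hz1, hz2⟩ := exists_point_of_isPullback sq (x := Points.ofPt a u)
    (y := Points.ofScheme V v) (by rw [hv.symm]; exact Points.ofPt_eq_map_ofScheme b v)
  obtain ⟨w, rfl⟩ := (Points.schemeHomeo W).surjective z
  have hfst : RepWith @Etale fst := repWith_of_isPullback sq.flip hb
  have hwu : Points.ofPt fst w = Points.ofPt a u := by
    rw [Points.ofPt_eq_map_ofScheme, ← hz1]; rfl
  rw [← coheight_eq_of_charts hfst ha hwu]
  refine le_trans ?_ (coheight_le_dim hb (i.left w))
  have hm : StrictMono (i.left : ↥W.left → ↥V.left) := fun p q hpq => by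
    have hs : q ⤳ p := hpq.le
    refine lt_of_le_of_ne (hs.map i.left.continuous : i.left q ⤳ i.left p) fun he => hpq.ne ?_
    exact eq_of_specializes_of_isIntegralHom_affine i.left hs he
  exact WithBot.coe_le_coe.2 (coheight_le_coheight_apply_of_strictMono _ hm w)

theorem exists_le_of_isClosedMap {A B : Scheme.{u}} (h : A ⟶ B) (hc : IsClosedMap h) {a : ↥A} {b : ↥B}
    (hb : b < h a) : ∃ a', a' < a ∧ h a' = b := by
  obtain ⟨a', ha', he⟩ := hc.specializingMap (show h a ⤳ b from hb.le)
  exact ⟨a', lt_of_le_of_ne (ha' : a ⤳ a') fun e => hb.ne (by rw [← he, e]), he⟩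

theorem exists_lift_series {A B : Scheme.{u}} (h : A ⟶ B) (hc : IsClosedMap h) (hs : Function.Surjective h)
    (p : LTSeries ↥B) : ∃ a : ↥A, h a = p.head ∧ (p.length : ℕ∞) ≤ coheight a := by
  induction p using RelSeries.inductionOn with
  | singleton x =>
    obtain ⟨a, rfl⟩ := hs x
    exact ⟨a, rfl, by simp⟩
  | cons p x hx ih =>
    obtain ⟨a, ha, hl⟩ := ih
    obtain ⟨a', ha', he⟩ := exists_le_of_isClosedMap h hc (show x < h a by rw [ha]; exact hx)
    refine ⟨a', by simp [he], ?_⟩
    have h2 := coheight_add_one_le ha'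
    simp only [RelSeries.cons_length, Nat.cast_add, Nat.cast_one]
    exact le_trans (add_le_add hl le_rfl) h2

theorem le_dim_of_isIntegralMor_surjective (hY : IsAlgSpace Y) {f : X ⟶ Y}
    (hf : IsIntegralMor f) (hs : IsSurjectiveMor f) : AlgSp.dim Y ≤ AlgSp.dim X := by
  refine dim_le_iff.2 fun V b hb v => ?_
  obtain ⟨V', hV', hvV, -⟩ :=
    exists_isAffineOpen_mem_and_subset (U := (⊤ : V.left.Opens)) (x := v) trivial
  let ι : Over.mk (V'.ι ≫ V.hom) ⟶ V := Over.homMk V'.ι rfl
  have hV'e : Etale ι.left := by change Etale V'.ι; infer_instance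
  have hb' : RepWith @Etale ((yon S).map ι ≫ b) := repWith_comp ((repWith_yon_map_iff _ ι).2 hV'e) hb
  obtain ⟨W, i, fst, sq, hW, hi⟩ := hf (Z := Over.mk (V'.ι ≫ V.hom)) hV' ((yon S).map ι ≫ b)
  have hfst : RepWith @Etale fst := repWith_of_isPullback sq.flip hb'
  have hsurj : Function.Surjective i.left := fun x => by
    obtain ⟨c, hc⟩ := surjective_map_of_isPullback sq hs (Points.ofScheme _ x)
    obtain ⟨w, rfl⟩ := (Points.schemeHomeo W).surjective c
    refine ⟨w, ?_⟩
    have hc' := congrArg (Points.toScheme _) hc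
    rw [Points.toScheme_ofScheme] at hc'
    rw [← hc', ← Points.toScheme_ofPt i w, Points.ofPt_eq_map_ofScheme]
    rfl
  have hcl : IsClosedMap i.left := i.left.isClosedMap
  let v' : ↥(Over.mk (V'.ι ≫ V.hom)).left := ⟨v, hvV⟩
  rw [show coheight v = coheight v' from (coheight_eq_of_etale ι.left v').symm]
  refine le_trans ?_ (show (⨆ w : ↥W.left, (coheight w : WithBot ℕ∞)) ≤ AlgSp.dim X from
    iSup_le fun w => coheight_le_dim hfst w)
  have key : ∀ p : LTSeries ↥(Over.mk (V'.ι ≫ V.hom)).left, (p.length : WithBot ℕ∞) ≤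
      ⨆ w : ↥W.left, (coheight w : WithBot ℕ∞) := fun p => by
    obtain ⟨a, -, ha⟩ := exists_lift_series i.left hcl hsurj p
    exact le_trans (WithBot.coe_le_coe.2 ha) (le_iSup (fun w : ↥W.left => (coheight w : WithBot ℕ∞)) a)
  refine le_trans (coheight_le_krullDim _) ?_
  exact iSup_le key

end Groth.Agent.AlgSpDec
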