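import Groth.Prelude.Def_AlgSpMor6
import Groth.Agent.AlgSpDec.FlatWhere
import Groth.Agent.CurvLocusLib.LocP
import Groth.Agent.KRegLib.Descend
import Groth.Agent.KRegLib.FlatBase
import Groth.Agent.S9699

/-! The locus in the target where the base change is a local complete intersection morphism. -/

set_option autoImplicit false
set_option backward.isDefEq.respectTransparency false
set_option backward.isDefEq.respectTransparency.types false

open CategoryTheory Limits Opposite AlgebraicGeometry MorphismProperty AlgSp Groth.Agent.AlgSpLib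
  Groth.Agent.AlgSpPts

namespace Groth.Agent.AlgSpDec.KoszulWhere

universe u

section Schemes

variable {X Y Z : Scheme.{u}}

theorem exists_open_forall_isKoszulAt (f : X ⟶ Y) {x : X} (h : Synt.IsKoszulAt f x) :
    ∃ U : X.Opens, x ∈ U ∧ ∀ y ∈ U, Synt.IsKoszulAt f y := by
  obtain ⟨U, P, i, π, hx, hl, hi, hπ, hc⟩ := h
  exact ⟨U, hx, fun y hy => ⟨U, P, i, π, hy, hl, hi, hπ, hc⟩⟩

theorem isKoszulAt_open_comp_iff {W : Scheme.{u}} (j : W ⟶ X) [IsOpenImmersion j] (f : X ⟶ Y) (w : W) :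
    Synt.IsKoszulAt (j ≫ f) w ↔ Synt.IsKoszulAt f (j w) := by
  constructor
  · intro h
    obtain ⟨⟨V, hV⟩, ⟨U, hU⟩, hw, e, hc⟩ := KRegLib.exists_chart_of_isKoszulAt _ w h
    have e₁ : j ''ᵁ U ≤ f ⁻¹ᵁ V := by
      rintro _ ⟨u, hu, rfl⟩
      exact e hu
    refine KRegLib.isKoszulAt_of_chart f _ _ (hU.image_of_isOpenImmersion j) V hV e₁ ⟨w, hw, rfl⟩ ?_
    have := Scheme.Hom.appLE_comp_appLE j f V (j ''ᵁ U) U e₁ (j.preimage_image_eq U).ge
    rw [← this, ← Scheme.Hom.appIso_hom', CommRingCat.hom_comp] at hc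
    exact (RingHom.RespectsIso.cancel_right_isIso KRegLib.lci_propertyIsLocal.respectsIso
      (f.appLE V (j ''ᵁ U) e₁) (j.appIso U).hom).1 hc
  · intro h
    obtain ⟨U, hU, hUK⟩ := exists_open_forall_isKoszulAt f h
    obtain ⟨V, hV, hwV, -⟩ := exists_isAffineOpen_mem_and_subset (U := ⊤) (x := f (j w)) trivial
    have hr := (KRegLib.forall_isKoszulAt_iff f)
    obtain ⟨⟨V₁, hV₁⟩, ⟨U₁, hU₁⟩, hw₁, e, hc⟩ := KRegLib.exists_chart_of_isKoszulAt f _ h
    obtain ⟨s, hs, hsw⟩ := hU₁.exists_basicOpen_le (V := j.opensRange ⊓ U₁) ⟨j w, ⟨w, rfl⟩, hw₁⟩ hw₁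
    have hsA : IsAffineOpen (X.basicOpen s) := hU₁.basicOpen s
    have e₂ : X.basicOpen s ≤ f ⁻¹ᵁ V₁ := (X.basicOpen_le s).trans e
    have hc' : KRegLib.RingHomIsLCI (f.appLE V₁ (X.basicOpen s) e₂).hom := by
      rw [← Scheme.Hom.appLE_map f e (homOfLE (X.basicOpen_le s)).op, CommRingCat.hom_comp]
      have := hU₁.isLocalization_basicOpen s
      exact KRegLib.lci_targetAway _ s _ hc
    set A := j ⁻¹ᵁ X.basicOpen s with hA'
    have hA : j ''ᵁ A = X.basicOpen s := by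
      rw [hA', j.image_preimage_eq_opensRange_inf, inf_eq_right]
      exact fun y hy => (hs hy).1
    have hAa : IsAffineOpen A := hsA.preimage_of_isOpenImmersion j fun y hy => (hs hy).1
    refine KRegLib.isKoszulAt_of_chart (j ≫ f) w A hAa V₁ hV₁ (fun y hy => e₂ hy) hsw ?_
    have e₁ : j ''ᵁ A ≤ f ⁻¹ᵁ V₁ := hA.le.trans e₂
    rw [← Scheme.Hom.appLE_comp_appLE j f V₁ (j ''ᵁ A) A e₁ (j.preimage_image_eq A).ge,
      ← Scheme.Hom.appIso_hom', CommRingCat.hom_comp]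
    refine KRegLib.lci_propertyIsLocal.respectsIso.1 _ (j.appIso A).commRingCatIsoToRingEquiv ?_
    generalize j ''ᵁ A = B at e₁ hA ⊢
    subst hA
    exact hc'

theorem forall_open_comp {W : Scheme.{u}} (j : W ⟶ X) [IsOpenImmersion j] (f : X ⟶ Y)
    (h : ∀ w : W, Synt.IsKoszulAt f (j w)) : ∀ w, Synt.IsKoszulAt (j ≫ f) w :=
  fun w => (isKoszulAt_open_comp_iff j f w).2 (h w)

theorem isKoszulAt_comp_left_iff (r : X ⟶ Y) [Etale r] (h : Y ⟶ Z) (x : X) :
    Synt.IsKoszulAt (r ≫ h) x ↔ Synt.IsKoszulAt h (r x) := by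
  constructor
  · intro hK
    obtain ⟨W, hx, hW⟩ := exists_open_forall_isKoszulAt _ hK
    let O : Y.Opens := ⟨Set.range (W.ι ≫ r), (W.ι ≫ r).isOpenMap.isOpen_range⟩
    let l : (W : Scheme.{u}) ⟶ O := IsOpenImmersion.lift O.ι (W.ι ≫ r) (by rw [Scheme.Opens.range_ι]; rfl)
    have hl : l ≫ O.ι = W.ι ≫ r := IsOpenImmersion.lift_fac _ _ _
    have : Etale l := by
      have : Etale (l ≫ O.ι) := by rw [hl]; infer_instance
      exact IsEtLocal.cancel_right (P := @Etale) l O.ι this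
    have : Surjective l := ⟨fun o => by
      obtain ⟨w, hw⟩ := o.2
      exact ⟨w, O.ι.isOpenEmbedding.injective (by rw [← Scheme.Hom.comp_apply, hl, hw]; rfl)⟩⟩
    have h1 : ∀ w, Synt.IsKoszulAt (l ≫ O.ι ≫ h) w := by
      rw [← Category.assoc, hl, Category.assoc]
      exact forall_open_comp W.ι (r ≫ h) fun w => hW _ w.2
    have h2 := KRegLib.isKoszulAt_of_syntomic_precomp l (S9699.result l) (O.ι ≫ h) h1
      ⟨r x, ⟨⟨x, hx⟩, rfl⟩⟩
    exact (isKoszulAt_open_comp_iff O.ι h _).1 h2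
  · intro hK
    obtain ⟨U, hx, hU⟩ := exists_open_forall_isKoszulAt _ hK
    have h1 := KRegLib.isKoszulAt_syntomic_comp (r ∣_ U) (S9699.result (r ∣_ U)) (U.ι ≫ h)
      (forall_open_comp U.ι h fun u => hU _ u.2) ⟨x, hx⟩
    rw [← Category.assoc, morphismRestrict_ι, Category.assoc] at h1
    exact (isKoszulAt_open_comp_iff _ (r ≫ h) _).1 h1

theorem isKoszulAt_comp_right_iff (k : X ⟶ Y) (e : Y ⟶ Z) [Etale e] (x : X) :
    Synt.IsKoszulAt (k ≫ e) x ↔ Synt.IsKoszulAt k x := by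
  constructor
  · intro hK
    obtain ⟨U, hx, hU⟩ := exists_open_forall_isKoszulAt _ hK
    have h1 := KRegLib.isKoszulAt_of_comp_smooth (U.ι ≫ k) e
      (by rw [Category.assoc]; exact forall_open_comp U.ι (k ≫ e) fun u => hU _ u.2) ⟨x, hx⟩
    exact (isKoszulAt_open_comp_iff _ k _).1 h1
  · intro hK
    obtain ⟨U, hx, hU⟩ := exists_open_forall_isKoszulAt _ hK
    have h1 := S8661.result (U.ι ≫ k) e (forall_open_comp U.ι k fun u => hU _ u.2)
      (fun y => CurvLocusLib.isKoszulAt_of_smooth e y) ⟨x, hx⟩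
    rw [Category.assoc] at h1
    exact (isKoszulAt_open_comp_iff _ (k ≫ e) _).1 h1

end Schemes

variable {S : Scheme.{u}} {X Y Z : Sp S} {f : X ⟶ Y}

/-- The Koszul points of a morphism of algebraic spaces. -/
def Kosz (f : X ⟶ Y) : Set (Points X) := {x | LocPAt (fun h u => Synt.IsKoszulAt h u) f x}

theorem isLCIMor_iff : IsLCIMor f ↔ ∀ x, x ∈ Kosz f :=
  ⟨fun h _ _ _ a b k u ha hb w _ => h a b k ha hb w u,
    fun h _ _ a b k ha hb w u => h (Points.ofPt a u) a b k u ha hb w rfl⟩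

theorem mem_kosz_iff {U V : Over S} {a : (yon S).obj U ⟶ X} {b : (yon S).obj V ⟶ Y} {h : U ⟶ V}
    (ha : RepWith @Etale a) (hb : RepWith @Etale b) (w : a ≫ f = (yon S).map h ≫ b) (u : U.left) :
    Points.ofPt a u ∈ Kosz f ↔ Synt.IsKoszulAt h.left u := by
  refine ⟨fun H => H a b h u ha hb w rfl, fun H U₁ V₁ a₁ b₁ h₁ u₁ ha₁ hb₁ w₁ hu₁ => ?_⟩
  obtain ⟨z, hz, hz₁⟩ := exists_ofPt_of_eq (ha.rep.isPullback' a₁) hu₁.symm
  subst hz hz₁
  set r := ha.rep.fst' a₁
  set r₁ := ha.rep.snd a₁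
  have hr₁ : Etale r₁.left := ha.property_snd a₁
  have hr : Etale r.left := ha₁.2 a _ _ (ha.rep.isPullback' a₁).flip
  let e := hb.rep.fst' b₁
  let e₁ := hb.rep.snd b₁
  have he₁ : Etale e₁.left := hb.property_snd b₁
  have he : Etale e.left := hb₁.2 b _ _ (hb.rep.isPullback' b₁).flip
  obtain ⟨k, hk, hk₁⟩ : ∃ k, k ≫ e = r ≫ h ∧ k ≫ e₁ = r₁ ≫ h₁ := by
    obtain ⟨k, hk⟩ := (yon S).map_surjective ((hb.rep.isPullback' b₁).lift ((yon S).map (r ≫ h))
      ((yon S).map (r₁ ≫ h₁)) (by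
        rw [Functor.map_comp, Functor.map_comp, Category.assoc, Category.assoc, ← w, ← w₁, ← Category.assoc,
          ← Category.assoc]
        exact congrArg (· ≫ f) (ha.rep.isPullback' a₁).w))
    exact ⟨k, (yon S).map_injective (by rw [Functor.map_comp, hk, IsPullback.lift_fst]),
      (yon S).map_injective (by rw [Functor.map_comp, hk, IsPullback.lift_snd])⟩
  have hk' : k.left ≫ e.left = r.left ≫ h.left := congrArg Over.Hom.left hk
  have hk₁' : k.left ≫ e₁.left = r₁.left ≫ h₁.left := congrArg Over.Hom.left hk₁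
  have h1 := isKoszulAt_comp_left_iff r.left h.left z
  have h2 := isKoszulAt_comp_left_iff r₁.left h₁.left z
  rw [← hk', isKoszulAt_comp_right_iff] at h1
  rw [← hk₁', isKoszulAt_comp_right_iff] at h2
  exact h2.1 (h1.2 H)

theorem isOpen_kosz_and_baseChange (hX : IsAlgSpace X) (hY : IsAlgSpace Y) (hZ : IsAlgSpace Z)
    (f : X ⟶ Y) (h : Y ⟶ Z)
    (hfp : LocP @LocallyOfFinitePresentation (f ≫ h)) (hfl : LocP @Flat (f ≫ h))
    (hq1 : LocP @Flat h) (hq2 : LocP @LocallyOfFinitePresentation h) :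
    IsOpen (Kosz f) ∧
    ∀ {X' Y' Z' : Sp S}, IsAlgSpace X' → IsAlgSpace Y' → IsAlgSpace Z' →
      ∀ (g : Z' ⟶ Z) (f' : X' ⟶ Y') (h' : Y' ⟶ Z') (pX : X' ⟶ X) (pY : Y' ⟶ Y),
      IsPullback pY h' h g → IsPullback pX f' f pY →
      Kosz f' = Points.map pX ⁻¹' Kosz f := by
  obtain ⟨W, w, hw, hws⟩ := hZ.atlas
  obtain ⟨V, e, k, he, hes, hk⟩ := exists_chart_over hY hZ h w
  have hb : RepWith @Etale (e ≫ pullback.fst h w) := repWith_comp he (repWith_fst h hw)
  have hbs : RepWith @Surjective (e ≫ pullback.fst h w) := repWith_comp hes (repWith_fst h hws)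
  obtain ⟨U, eX, m, heX, heXs, hm⟩ := exists_chart_over hX hY f (e ≫ pullback.fst h w)
  have ha : RepWith @Etale (eX ≫ pullback.fst f _) := repWith_comp heX (repWith_fst f hb)
  have has : RepWith @Surjective (eX ≫ pullback.fst f _) := repWith_comp heXs (repWith_fst f hbs)
  have wk : (e ≫ pullback.fst h w) ≫ h = (yon S).map k ≫ w := by
    rw [Category.assoc, pullback.condition, ← Category.assoc, hk]
  have wm : (eX ≫ pullback.fst f _) ≫ f = (yon S).map m ≫ (e ≫ pullback.fst h w) := by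
    rw [Category.assoc, pullback.condition, ← Category.assoc, hm]
  have wmk : (eX ≫ pullback.fst f _) ≫ f ≫ h = (yon S).map (m ≫ k) ≫ w := by
    rw [← Category.assoc, wm, Category.assoc, wk, Functor.map_comp, Category.assoc]
  have : Flat k.left := hq1 _ _ _ hb hw wk
  have : LocallyOfFinitePresentation k.left := hq2 _ _ _ hb hw wk
  have hmfp : LocallyOfFinitePresentation (m.left ≫ k.left) := hfp _ w _ ha hw wmk
  have hmfl : Flat (m.left ≫ k.left) := hfl _ w _ ha hw wmk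
  refine ⟨(isOpen_iff_chart ha has).2 ?_, fun {X' Y' Z'} hX' hY' hZ' g f' h' pX pY sY sX => Set.ext fun x' => ?_⟩
  · refine isOpen_iff_forall_mem_open.2 fun u hu => ?_
    obtain ⟨O, hu', hO⟩ := exists_open_forall_isKoszulAt _ ((mem_kosz_iff ha hb wm u).1 hu)
    exact ⟨O, fun v hv => (mem_kosz_iff ha hb wm v).2 (hO v hv), O.isOpen, hu'⟩
  obtain ⟨W', e₀, cW, he₀, hes₀, hcW⟩ := exists_chart_over hZ' hZ g w
  have hw' : RepWith @Etale (e₀ ≫ pullback.fst g w) := repWith_comp he₀ (repWith_fst g hw)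
  have hws' : RepWith @Surjective (e₀ ≫ pullback.fst g w) := repWith_comp hes₀ (repWith_fst g hws)
  have hcw : (e₀ ≫ pullback.fst g w) ≫ g = (yon S).map cW ≫ w := by
    rw [Category.assoc, pullback.condition, ← Category.assoc, hcW]
  obtain ⟨V', cV, k', b', sV, hb', hbs', hbk', hbc⟩ :=
    exists_chart_baseChange sY hcw hk he hes hw' hws'
  obtain ⟨U', cU, m', a', sU, ha', has', ham', hac⟩ :=
    exists_chart_baseChange sX hbc hm heX heXs hb' hbs'
  obtain ⟨u', rfl⟩ := surjective_ofPt has' x'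
  have hpx : Points.map pX (Points.ofPt a' u') = Points.ofPt (eX ≫ pullback.fst f _) (cU.left u') := by
    rw [Points.map_ofPt, hac, ofPt_comp]
  simp only [Set.mem_preimage]
  rw [hpx, mem_kosz_iff ha hb wm, mem_kosz_iff ha' hb' ham' u']
  exact KRegLib.isKoszulAt_baseChange_iff m.left k.left (sV.map (Over.forget S)) (sU.map (Over.forget S)) u'

end Groth.Agent.AlgSpDec.KoszulWhere
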