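import Groth.Agent.AlgSpDec.LimEventClosed
import Groth.Agent.AlgSpDec.ImmCover
import Mathlib.AlgebraicGeometry.AffineTransitionLimit
import Mathlib.AlgebraicGeometry.Morphisms.Immersion

/-!
# Immersions into a limit
-/

set_option backward.isDefEq.respectTransparency false
set_option backward.isDefEq.respectTransparency.types false

universe u

open CategoryTheory Limits Opposite AlgebraicGeometry AlgSp Groth.Agent.AlgSpLib Groth.Agent.AlgSpPts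

namespace Groth.Agent.AlgSpDec.LimImm

theorem exists_immersion_stage {J : Type u} [SmallCategory J] [IsCofiltered J] {E : J ⥤ Scheme.{u}}
    (c : Cone E) (hc : IsLimit c) [∀ j, IsAffine (E.obj j)] [IsAffine c.pt] {T V : Scheme.{u}} [IsAffine V]
    [CompactSpace T]
    (q : T ⟶ c.pt) [IsImmersion q] (r : ∀ j, E.obj j ⟶ V) (hr : ∀ {j k} (f : j ⟶ k), E.map f ≫ r k = r j)
    [∀ j, LocallyOfFiniteType (q ≫ c.π.app j ≫ r j)] :
    ∃ j, ∀ k, (k ⟶ j) → IsImmersion (q ≫ c.π.app k) := by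
  classical
  haveI : ∀ {i j : J} (f : i ⟶ j), IsAffineHom (E.map f) := fun f => inferInstance
  obtain ⟨O, C, hO, hC, hOC⟩ := IsImmersion.isLocallyClosed_range (f := q)
  obtain ⟨W, hWc, hWo, hRW, hWO⟩ := PrespectralSpace.exists_isCompact_and_isOpen_between
    (isCompact_range q.continuous) hO (hOC ▸ Set.inter_subset_left)
  obtain ⟨a, A, hA, hA'⟩ := exists_preimage_eq E c hc ⟨W, hWo⟩ hWc
  -- affine pieces of the open at stage `a`
  obtain ⟨s, hsf, hs⟩ : ∃ s : Set (E.obj a).affineOpens, s.Finite ∧ A ≤ ⨆ U ∈ s, U.1 ∧ ∀ U ∈ s, U.1 ≤ A := by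
    obtain ⟨s, hsf, e⟩ := (Scheme.isBasis_affineOpens (E.obj a)).exists_finite_of_isCompact hA
      |> fun ⟨s, hs, hf, e⟩ => (⟨{U : (E.obj a).affineOpens | U.1 ∈ s}, (hf.preimage Subtype.val_injective.injOn),
        le_of_eq e |>.trans (sSup_le fun U hU => le_iSup₂_of_le ⟨U, hs hU⟩ hU le_rfl),
        fun U hU => e.ge.trans' (le_sSup hU)⟩ : ∃ s : Set (E.obj a).affineOpens, s.Finite ∧
          A ≤ (⨆ U ∈ s, U.1) ∧ ∀ U ∈ s, U.1 ≤ A)
    exact ⟨s, hsf, e⟩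
  -- stage for each piece
  have step : ∀ U ∈ s, ∃ j : Over a, ∀ k : Over a, (k ⟶ j) →
      IsClosedImmersion ((q ∣_ (c.π.app a ⁻¹ᵁ U.1)) ≫ (opensCone E c a U.1).π.app k) := by
    intro U hU
    haveI : ∀ k, IsAffine ((opensDiagram E a U.1).obj k) := fun k => U.2.preimage _
    haveI : IsAffine (((Functor.const J).obj c.pt).obj a) := ‹IsAffine c.pt›
    haveI : IsAffineHom (c.π.app a) := isAffineHom_of_isAffine _
    haveI : IsAffine (opensCone E c a U.1).pt := U.2.preimage (c.π.app a)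
    have hle : c.π.app a ⁻¹ᵁ U.1 ≤ ⟨W, hWo⟩ := hA' ▸ Scheme.Hom.preimage_mono _ (hs.2 U hU)
    haveI : IsClosedImmersion (q ∣_ (c.π.app a ⁻¹ᵁ U.1)) := by
      haveI : IsImmersion (q ∣_ (c.π.app a ⁻¹ᵁ U.1)) := IsZariskiLocalAtTarget.restrict ‹_› _
      refine IsClosedImmersion.of_isPreimmersion _ ?_
      rw [morphismRestrict_base]
      refine (congrArg IsClosed ((Set.range_restrictPreimage _ q).trans ?_)).mpr
        (hC.preimage continuous_subtype_val)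
      rw [hOC]
      exact Set.ext fun w => ⟨fun h => h.2, fun h => ⟨hWO (hle w.2), h⟩⟩
    haveI : ∀ k : Over a, LocallyOfFiniteType ((q ∣_ (c.π.app a ⁻¹ᵁ U.1)) ≫ (opensCone E c a U.1).π.app k ≫
        ((E.map k.hom ⁻¹ᵁ U.1).ι ≫ r k.left)) := fun k => by
      have e : (q ∣_ (c.π.app a ⁻¹ᵁ U.1)) ≫ (opensCone E c a U.1).π.app k ≫
          ((E.map k.hom ⁻¹ᵁ U.1).ι ≫ r k.left) = (q ⁻¹ᵁ (c.π.app a ⁻¹ᵁ U.1)).ι ≫ q ≫ c.π.app k.left ≫ r k.left := by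
        simp
      rw [e]
      infer_instance
    exact exists_closedImmersion_stage (opensCone E c a U.1) (isLimitOpensCone E c hc a U.1) _
      (fun k => (E.map k.hom ⁻¹ᵁ U.1).ι ≫ r k.left) fun {j k} f => by simp [hr]
  choose j hj using step
  obtain ⟨j₀, hj₀⟩ := IsCofiltered.inf_objs_exists (hsf.toFinset.attach.image fun U : {x // x ∈ hsf.toFinset} => j U.1 (hsf.mem_toFinset.1 U.2))
  refine ⟨j₀.left, fun k φ => ?_⟩
  let k' : Over a := Over.mk (φ ≫ j₀.hom)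
  let qk := q ≫ c.π.app k
  let Ak : (E.obj k).Opens := E.map k'.hom ⁻¹ᵁ A
  have hqA : ∀ U : (E.obj a).Opens, qk ⁻¹ᵁ (E.map k'.hom ⁻¹ᵁ U) = q ⁻¹ᵁ (c.π.app a ⁻¹ᵁ U) := fun U => by
    rw [← Scheme.Hom.comp_preimage, ← Scheme.Hom.comp_preimage, Category.assoc, c.w]
  have hr' : Set.range qk ⊆ Set.range Ak.ι := by
    rintro _ ⟨x, rfl⟩
    rw [Scheme.Opens.range_ι]
    show x ∈ qk ⁻¹ᵁ Ak
    rw [hqA, hA']
    exact hRW ⟨x, rfl⟩
  let q' := IsOpenImmersion.lift Ak.ι qk hr'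
  have hq' : q' ≫ Ak.ι = qk := IsOpenImmersion.lift_fac _ _ _
  suffices IsClosedImmersion q' by rw [← show q' ≫ Ak.ι = q ≫ c.π.app k from hq']; infer_instance
  refine (IsZariskiLocalAtTarget.iff_of_iSup_eq_top (P := @IsClosedImmersion)
    (fun U : s => Ak.ι ⁻¹ᵁ (E.map k'.hom ⁻¹ᵁ U.1.1)) ?_).2 fun U => ?_
  · refine top_le_iff.1 fun x _ => ?_
    have hx : E.map k'.hom x.1 ∈ A := x.2
    obtain ⟨V, hV, hxV⟩ : ∃ V : (E.obj a).affineOpens, V ∈ s ∧ E.map k'.hom x.1 ∈ V.1 := by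
      have := hs.1 hx
      simpa only [TopologicalSpace.Opens.mem_iSup, exists_prop] using this
    exact TopologicalSpace.Opens.mem_iSup.2 ⟨⟨V, hV⟩, hxV⟩
  · obtain ⟨f⟩ := hj₀ (Finset.mem_image_of_mem (fun U : {x // x ∈ hsf.toFinset} => j U.1 (hsf.mem_toFinset.1 U.2))
      (Finset.mem_attach hsf.toFinset ⟨U.1, hsf.mem_toFinset.2 U.2⟩))
    have hk := hj U.1 U.2 k' ((Over.homMk φ rfl : k' ⟶ j₀) ≫ f)
    -- the square defining the restriction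
    have sq₁ : IsPullback (q' ∣_ (Ak.ι ⁻¹ᵁ (E.map k'.hom ⁻¹ᵁ U.1.1))) _ _ q' := isPullback_morphismRestrict _ _
    let m := (Ak.ι ⁻¹ᵁ (E.map k'.hom ⁻¹ᵁ U.1.1)).ι ≫ Ak.ι
    let n : ((Ak.ι ⁻¹ᵁ (E.map k'.hom ⁻¹ᵁ U.1.1)) : Scheme.{u}) ⟶ (E.map k'.hom ⁻¹ᵁ U.1.1 : Scheme.{u}) :=
      IsOpenImmersion.lift (E.map k'.hom ⁻¹ᵁ U.1.1).ι m (by
        rintro _ ⟨x, rfl⟩
        rw [Scheme.Opens.range_ι]
        exact x.2)
    have hn : IsIso n := by
      have : IsOpenImmersion (n ≫ (E.map k'.hom ⁻¹ᵁ U.1.1).ι) := by rw [IsOpenImmersion.lift_fac]; infer_instance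
      have : IsOpenImmersion n := IsOpenImmersion.of_comp n (E.map k'.hom ⁻¹ᵁ U.1.1).ι
      refine (isIso_iff_isOpenImmersion_and_surjective n).2 ⟨this, ⟨fun y => ?_⟩⟩
      have hy : y.1 ∈ Ak := hs.2 U.1 U.2 y.2
      refine ⟨⟨⟨y.1, hy⟩, y.2⟩, (E.map k'.hom ⁻¹ᵁ U.1.1).ι.isOpenEmbedding.injective ?_⟩
      rw [← Scheme.Hom.comp_apply, IsOpenImmersion.lift_fac]
      rfl
    have e : ((q' ∣_ (Ak.ι ⁻¹ᵁ (E.map k'.hom ⁻¹ᵁ U.1.1))) ≫ n) =
        (T.isoOfEq (by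
          rw [← Scheme.Hom.comp_preimage, hq']
          exact hqA U.1.1)).hom ≫ ((q ∣_ (c.π.app a ⁻¹ᵁ U.1.1)) ≫ (opensCone E c a U.1.1).π.app k') := by
      rw [← cancel_mono (E.map k'.hom ⁻¹ᵁ U.1.1).ι, Category.assoc, IsOpenImmersion.lift_fac]
      simp [m, hq', qk, k']
    rw [← MorphismProperty.cancel_right_of_respectsIso @IsClosedImmersion _ n, e]
    haveI := hk
    infer_instance

end Groth.Agent.AlgSpDec.LimImm
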