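import Groth.Agent.AlgSpDec.Fibres
import Groth.Agent.AlgSpDec.MonoTfae
import Groth.Agent.AlgSpLib.Descent2
import Groth.Agent.AlgSpLib.FpqcDescent
import Groth.Agent.AlgSpVal.DvrSep
import Groth.Agent.SchTorsor.Props
import Mathlib.AlgebraicGeometry.Morphisms.QuasiFinite

/-! Locally Noetherian fibres of morphisms of algebraic spaces. -/

set_option autoImplicit false
set_option backward.isDefEq.respectTransparency false
set_option backward.isDefEq.respectTransparency.types false

open CategoryTheory Limits Opposite AlgebraicGeometry MorphismProperty AlgSp Groth.Agent.AlgSpLib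
  Groth.Agent.AlgSpPts

namespace Groth.Agent.AlgSpDec.LocNoethFibre

universe u

variable {S : Scheme.{u}} {X Y : Sp S}

theorem subsingleton_pt (p : FieldPt Y) : Subsingleton ↥p.pt.left :=
  inferInstanceAs (Subsingleton (PrimeSpectrum p.K))

theorem isLocNoethSp_pt {K : Type u} [Field K] (str : Spec (CommRingCat.of K) ⟶ S) :
    IsLocNoethSp ((yon S).obj (Over.mk str)) :=
  ⟨Over.mk str, 𝟙 _, repWith_id _ _, repWith_id _ _, inferInstanceAs (IsLocallyNoetherian (Spec (CommRingCat.of K)))⟩

theorem isLocNoethSp_fibre (hX : IsAlgSpace X) (hY : IsAlgSpace Y) {f : X ⟶ Y} (hf : LocP @LocallyOfFiniteType f)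
    {p : FieldPt Y} {P : Sp S} {fst : P ⟶ X} {snd : P ⟶ (yon S).obj p.pt} (hP : IsPullback fst snd f p.toHom) :
    IsLocNoethSp P := by
  have hT := IsAlgSpace.yon_obj (S := S) p.pt
  exact AlgSpVal.isLocNoethSp_of_lft (isAlgSpace_of_isPullback hP hX hT hY) hT snd
    (locP_of_isPullback hP hX hY hT hf) (isLocNoethSp_pt p.str)

/-- Local Noetherianity descends along extensions of the base field. -/
theorem isLocNoethSp_of_extension {A B : Over S} (j : B ⟶ A) [Flat j.left] [Surjective j.left] [UniversallyOpen j.left]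
    {Q P : Sp S} (hQ : IsAlgSpace Q) {q : Q ⟶ (yon S).obj A} {u : P ⟶ Q} {v : P ⟶ (yon S).obj B}
    (sq : IsPullback u v q ((yon S).map j)) (hP : IsLocNoethSp P) : IsLocNoethSp Q := by
  obtain ⟨U, a, ha, ha'⟩ := hQ.atlas
  obtain ⟨h, hh⟩ := (yon S).map_surjective (a ≫ q)
  have sU : IsPullback ((yon S).map (pullback.fst h j)) ((yon S).map (pullback.snd h j)) ((yon S).map h)
      ((yon S).map j) := (IsPullback.of_hasPullback h j).map (yon S)
  let a' : (yon S).obj (pullback h j) ⟶ P :=
    sq.lift ((yon S).map (pullback.fst h j) ≫ a) ((yon S).map (pullback.snd h j))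
      (by rw [Category.assoc, ← hh]; exact sU.w)
  have s' : IsPullback ((yon S).map (pullback.fst h j)) a' a u := by
    refine IsPullback.of_bot ?_ (sq.lift_fst _ _ _).symm sq
    rw [sq.lift_snd, ← hh]
    exact sU
  have : IsLocallyNoetherian (pullback h j).left := isLocallyNoetherian_chart (repWith_of_isPullback s' ha) hP
  have sl := (IsPullback.of_hasPullback h j).map (Over.forget S)
  have : Flat (pullback.fst h j).left := MorphismProperty.of_isPullback sl.flip ‹Flat j.left›
  have : Surjective (pullback.fst h j).left := MorphismProperty.of_isPullback sl.flip ‹Surjective j.left›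
  have : UniversallyOpen (pullback.fst h j).left := MorphismProperty.of_isPullback sl.flip ‹UniversallyOpen j.left›
  exact ⟨U, a, ha, ha', isLocallyNoetherian_of_flat (pullback.fst h j).left⟩

theorem field_extension_props {K : Type u} [Field K] {str : Spec (CommRingCat.of K) ⟶ S} {B : Over S}
    [hB : Nonempty ↥B.left] (j : B ⟶ Over.mk str) : Flat j.left ∧ Surjective j.left ∧ UniversallyOpen j.left := by
  have : Subsingleton ↥(Spec (CommRingCat.of K)) := inferInstanceAs (Subsingleton (PrimeSpectrum K))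
  let g : B.left ⟶ Spec (CommRingCat.of K) := j.left
  exact ⟨(inferInstance : Flat g), ⟨fun x => ⟨hB.some, Subsingleton.elim (α := PrimeSpectrum K) _ _⟩⟩,
    (inferInstance : UniversallyOpen g)⟩

/-- A monomorphism from a nonempty algebraic space to the spectrum of a field is an isomorphism. -/
theorem isIso_of_mono_field {K : Type u} [Field K] {str : Spec (CommRingCat.of K) ⟶ S} {Z : Sp S} (hZ : IsAlgSpace Z)
    [Nonempty (Points Z)] (m : Z ⟶ (yon S).obj (Over.mk str)) [Mono m] : IsIso m := by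
  obtain ⟨U, a, ha, ha'⟩ := hZ.atlas
  obtain ⟨q, hq⟩ := (yon S).map_surjective (a ≫ m)
  obtain ⟨u, -⟩ := surjective_ofPt ha' (Classical.arbitrary (Points Z))
  obtain ⟨O, hO, huO, -⟩ := exists_isAffineOpen_mem_and_subset (U := (⊤ : U.left.Opens)) (x := u) trivial
  let U₀ : Over S := Over.mk (O.ι ≫ U.hom)
  let ι₀ : U₀ ⟶ U := Over.homMk O.ι rfl
  have : Nonempty ↥U₀.left := ⟨⟨u, huO⟩⟩
  obtain ⟨hfl, hsu, -⟩ := field_extension_props (ι₀ ≫ q)
  have : IsAffine U₀.left := hO
  have : IsAffine (Over.mk str).left := inferInstanceAs (IsAffine (Spec (CommRingCat.of K)))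
  have hqc : QuasiCompact (ι₀ ≫ q).left := inferInstance
  have sa := ha.rep.isPullback' ((yon S).map ι₀ ≫ a)
  have sb : IsPullback (ha.rep.fst' ((yon S).map ι₀ ≫ a)) (ha.rep.snd ((yon S).map ι₀ ≫ a)) q (ι₀ ≫ q) := by
    refine IsPullback.of_map (yon S) ?_ ?_
    · apply (yon S).map_injective
      simp only [Functor.map_comp, hq]
      rw [← Category.assoc, sa.w]
      simp only [Category.assoc]
    · rw [Functor.map_comp, hq]
      refine ⟨⟨by rw [← Category.assoc, sa.w]; simp only [Category.assoc]⟩, ⟨PullbackCone.IsLimit.mk _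
        (fun s => sa.lift s.fst s.snd ((cancel_mono m).1 (by simpa [Category.assoc] using s.condition)))
        (fun s => sa.lift_fst _ _ _) (fun s => sa.lift_snd _ _ _)
        (fun s n h1 h2 => sa.hom_ext (by rw [sa.lift_fst, h1]) (by rw [sa.lift_snd, h2]))⟩⟩
  have hq' : Etale q.left :=
    MorphismProperty.of_isPullback_of_descendsAlong
      (P := (@Etale : MorphismProperty Scheme.{u}))
      (Q := (@Surjective ⊓ @Flat ⊓ @QuasiCompact : MorphismProperty Scheme.{u}))
      ((sb.map (Over.forget S)).flip) ⟨⟨hsu, hfl⟩, hqc⟩ (ha.property_snd _)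
  refine isIso_of_mono_of_etale_surjective hZ (IsAlgSpace.yon_obj _) m
    (locP_of_chart (h := q) ha ha' (repWith_id _ _) (by rw [hq, Category.comp_id]) hq') fun t => ?_
  have : Subsingleton ↥(Over.mk str).left := inferInstanceAs (Subsingleton (PrimeSpectrum K))
  have : Subsingleton (Points ((yon S).obj (Over.mk str))) := (Points.schemeHomeo _).toEquiv.symm.subsingleton
  exact ⟨Classical.arbitrary _, Subsingleton.elim _ _⟩

theorem isLocNoethSp_fibre_of_mono (hX : IsAlgSpace X) (hY : IsAlgSpace Y) {f : X ⟶ Y} {p p₀ : FieldPt Y}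
    (hpp : Points.mk p = Points.mk p₀) [Mono p₀.toHom]
    (hN : ∀ ⦃P : Sp S⦄ (fst : P ⟶ X) (snd : P ⟶ (yon S).obj p.pt), IsPullback fst snd f p.toHom → IsLocNoethSp P)
    {Q : Sp S} {qf : Q ⟶ X} {qs : Q ⟶ (yon S).obj p₀.pt} (hQ : IsPullback qf qs f p₀.toHom) : IsLocNoethSp Q := by
  have hT := IsAlgSpace.yon_obj (S := S) p.pt
  have hT₀ := IsAlgSpace.yon_obj (S := S) p₀.pt
  have sZ := IsPullback.of_hasPullback p.toHom p₀.toHom
  have hne : Nonempty (Points (pullback p.toHom p₀.toHom)) := by
    obtain ⟨z, -, -⟩ := exists_point_of_isPullback sZ (x := Points.ofScheme p.pt (IsLocalRing.closedPoint p.K))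
      (y := Points.ofScheme p₀.pt (IsLocalRing.closedPoint p₀.K)) (by
        rw [← Points.ofPt_eq_map_ofScheme, ← Points.ofPt_eq_map_ofScheme, Points.ofPt_toHom, Points.ofPt_toHom, hpp])
    exact ⟨z⟩
  have : Mono (pullback.fst p.toHom p₀.toHom) := inferInstance
  have := isIso_of_mono_field (isAlgSpace_pullback hT hT₀ hY _ _) (pullback.fst p.toHom p₀.toHom)
  obtain ⟨j, hj⟩ := (yon S).map_surjective (inv (pullback.fst p.toHom p₀.toHom) ≫ pullback.snd p.toHom p₀.toHom)
  have : Nonempty ↥p.pt.left := ⟨IsLocalRing.closedPoint p.K⟩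
  obtain ⟨h1, h2, h3⟩ := field_extension_props (str := p₀.str) j
  have e : (yon S).map j ≫ p₀.toHom = p.toHom := by
    rw [hj, Category.assoc, ← pullback.condition, IsIso.inv_hom_id_assoc]
  have sq := IsPullback.of_hasPullback qs ((yon S).map j)
  refine isLocNoethSp_of_extension j (isAlgSpace_of_isPullback hQ hX hT₀ hY) sq ?_
  have := sq.paste_horiz hQ
  rw [e] at this
  exact hN _ _ this

theorem isLocNoethSp_fibre_chart (hX : IsAlgSpace X) (hY : IsAlgSpace Y) {f : X ⟶ Y} {p : FieldPt Y}
    (hN : ∀ ⦃P : Sp S⦄ (fst : P ⟶ X) (snd : P ⟶ (yon S).obj p.pt), IsPullback fst snd f p.toHom → IsLocNoethSp P)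
    {V : Over S} {b : (yon S).obj V ⟶ Y} (hb : RepWith @Etale b) {v : ↥V.left} (hv : Points.ofPt b v = Points.mk p)
    {Q : Sp S} {qf : Q ⟶ X} {qs : Q ⟶ (yon S).obj (FieldPt.ofPt b v).pt}
    (hQ : IsPullback qf qs f (FieldPt.ofPt b v).toHom) : IsLocNoethSp Q := by
  let W := hb.rep.pullback p.toHom
  let fW : W ⟶ V := hb.rep.fst' p.toHom
  let sW : W ⟶ p.pt := hb.rep.snd p.toHom
  have sq := hb.rep.isPullback' p.toHom
  obtain ⟨w, hw, -⟩ := exists_ofPt_of_eq sq (u := v) (v := IsLocalRing.closedPoint p.K)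
    (by rw [Points.ofPt_toHom, hv])
  have hsW : Etale sW.left := hb.property_snd p.toHom
  have hsub := subsingleton_pt p
  have : DiscreteTopology ↥W.left := by
    have h1 := sW.left.isDiscrete_preimage_singleton (IsLocalRing.closedPoint p.K)
    rw [show sW.left ⁻¹' {IsLocalRing.closedPoint p.K} = Set.univ from
      Set.eq_univ_of_forall fun x => Subsingleton.elim (α := ↥p.pt.left) _ _] at h1
    exact isDiscrete_univ_iff.1 h1
  let r := FieldPt.ofPt b v
  let K₁ : Over S := Over.mk (W.left.fromSpecResidueField w ≫ W.hom)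
  let ι₁ : K₁ ⟶ W := Over.homMk (W.left.fromSpecResidueField w) rfl
  have : IsClosedImmersion ι₁.left := IsClosedImmersion.of_isPreimmersion (W.left.fromSpecResidueField w) (isClosed_discrete _)
  have hι : LocallyOfFiniteType (ι₁ ≫ sW).left := inferInstanceAs (LocallyOfFiniteType (ι₁.left ≫ sW.left))
  subst hw
  let j : K₁ ⟶ r.pt := Over.homMk (Spec.map (fW.left.residueFieldMap w)) (by
    change Spec.map _ ≫ V.left.fromSpecResidueField _ ≫ V.hom = W.left.fromSpecResidueField w ≫ W.hom
    rw [Scheme.Hom.SpecMap_residueFieldMap_fromSpecResidueField_assoc]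
    exact congrArg (_ ≫ ·) (Over.w fW))
  have hj : (yon S).map j ≫ r.toHom = (yon S).map (ι₁ ≫ sW) ≫ p.toHom := by
    rw [FieldPt.toHom_ofPt, ← Category.assoc, ← Functor.map_comp,
      show j ≫ Over.homMk (V.left.fromSpecResidueField (fW.left w)) rfl = ι₁ ≫ fW from
        Over.OverMorphism.ext (Scheme.Hom.SpecMap_residueFieldMap_fromSpecResidueField _ _),
      Functor.map_comp, Functor.map_comp, Category.assoc, Category.assoc, sq.w]
  have : Nonempty ↥K₁.left := ⟨IsLocalRing.closedPoint (W.left.residueField w)⟩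
  obtain ⟨h1, h2, h3⟩ := field_extension_props (str := r.str) j
  have hr := IsAlgSpace.yon_obj (S := S) r.pt
  have hK := IsAlgSpace.yon_obj (S := S) K₁
  have hT := IsAlgSpace.yon_obj (S := S) p.pt
  refine isLocNoethSp_of_extension j (isAlgSpace_of_isPullback hQ hX hr hY) (IsPullback.of_hasPullback qs _) ?_
  have s₁ := (IsPullback.of_hasPullback qs ((yon S).map j)).paste_horiz hQ
  rw [hj] at s₁
  have sP := IsPullback.of_hasPullback f p.toHom
  let μ := sP.lift (pullback.fst qs ((yon S).map j) ≫ qf)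
    (pullback.snd qs ((yon S).map j) ≫ (yon S).map (ι₁ ≫ sW)) (s₁.w.trans (Category.assoc _ _ _).symm)
  have s₂ : IsPullback μ (pullback.snd qs ((yon S).map j)) (pullback.snd f p.toHom) ((yon S).map (ι₁ ≫ sW)) :=
    IsPullback.of_right (by rw [sP.lift_fst]; exact s₁) (sP.lift_snd _ _ _) sP
  have hP := isAlgSpace_pullback hX hT hY f p.toHom
  exact AlgSpVal.isLocNoethSp_of_lft (isAlgSpace_of_isPullback s₂ hP hK hT) hP μ
    (locP_of_isPullback s₂.flip hK hT hP (locP_of_repWith ((repWith_yon_map_iff _ _).2 hι))) (hN _ _ sP)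

end Groth.Agent.AlgSpDec.LocNoethFibre
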