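import Groth.Agent.AlgSpDec.DistPushout
import Groth.Prelude.Def_W4SpPerfMV

/-!
Mayer–Vietoris for sheaves of abelian groups on the small étale site and an elementary
distinguished square.
-/

set_option autoImplicit false
set_option maxHeartbeats 800000
set_option backward.isDefEq.respectTransparency false
set_option backward.isDefEq.respectTransparency.types false

universe u

open CategoryTheory CategoryTheory.Limits AlgebraicGeometry AlgSp Opposite Groth.Agent.AlgSpLib Groth.Agent.AlgSpPts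

namespace Groth.Agent.AlgSpDec.MVEt

variable {S : Scheme.{u}}

section glue

variable {X : Sp S} (P : AbEt X) {E E₁ E₂ : EtOver X} (g₁ : E₁ ⟶ E) (g₂ : E₂ ⟶ E)
  (hs : ∀ r : E.obj.left.left, r ∈ Set.range g₁.hom.left.left ∨ r ∈ Set.range g₂.hom.left.left)

local notation:max "res(" g ", " x ")" => P.obj.map (Quiver.Hom.op g) x

theorem res_comp {A B C : EtOver X} (f : A ⟶ B) (g : B ⟶ C) (x : P.obj.obj (op C)) :
    res(f ≫ g, x) = res(f, res(g, x)) := by
  rw [op_comp, Functor.map_comp]; rfl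

include hs in
theorem eq_of_pair {s t : P.obj.obj (op E)} (h₁ : res(g₁, s) = res(g₁, t)) (h₂ : res(g₂, s) = res(g₂, t)) :
    s = t := by
  have h := ((isSheaf_iff_isSheaf_of_type _ _).1
    ((sheafCompose (etTop X) (CategoryTheory.forget AddCommGrpCat.{u + 1})).obj P).property)
  refine (h (Sieve.ofArrows (fun i : Bool => bif i then E₁ else E₂) (Bool.rec g₂ g₁ ·))
    (ofArrows_mem_etTop _ _ fun r => by
      rcases hs r with hr | hr
      · exact ⟨true, hr⟩
      · exact ⟨false, hr⟩)).isSeparatedFor.ext fun Y f hf => ?_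
  obtain ⟨i, a, rfl⟩ := (Sieve.mem_ofArrows_iff _ _ f).1 hf
  cases i
  · exact (res_comp P a g₂ s).trans ((congrArg (fun x => res(a, x)) h₂).trans (res_comp P a g₂ t).symm)
  · exact (res_comp P a g₁ s).trans ((congrArg (fun x => res(a, x)) h₁).trans (res_comp P a g₁ t).symm)

include hs in
theorem exists_of_pair (s₁ : P.obj.obj (op E₁)) (s₂ : P.obj.obj (op E₂))
    (h₁₁ : ∀ (Z : EtOver X) (p q : Z ⟶ E₁), p ≫ g₁ = q ≫ g₁ → res(p, s₁) = res(q, s₁))
    (h₁₂ : ∀ (Z : EtOver X) (p : Z ⟶ E₁) (q : Z ⟶ E₂), p ≫ g₁ = q ≫ g₂ → res(p, s₁) = res(q, s₂))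
    (h₂₂ : ∀ (Z : EtOver X) (p q : Z ⟶ E₂), p ≫ g₂ = q ≫ g₂ → res(p, s₂) = res(q, s₂)) :
    ∃ s : P.obj.obj (op E), res(g₁, s) = s₁ ∧ res(g₂, s) = s₂ := by
  have h := ((isSheaf_iff_isSheaf_of_type _ _).1
    ((sheafCompose (etTop X) (CategoryTheory.forget AddCommGrpCat.{u + 1})).obj P).property)
  have hF := h (Sieve.ofArrows (fun i : Bool => bif i then E₁ else E₂) (Bool.rec g₂ g₁ ·))
    (ofArrows_mem_etTop _ _ fun r => by
      rcases hs r with hr | hr
      · exact ⟨true, hr⟩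
      · exact ⟨false, hr⟩)
  rw [← Presieve.isSheafFor_iff_generate, Presieve.isSheafFor_arrows_iff] at hF
  obtain ⟨s, hs', -⟩ := hF (Bool.rec s₂ s₁ ·) (by
    rintro (_ | _) (_ | _) Z p q e
    · exact h₂₂ Z p q e
    · exact (h₁₂ Z q p e.symm).symm
    · exact h₁₂ Z p q e
    · exact h₁₁ Z p q e)
  exact ⟨s, hs' true, hs' false⟩

end glue

variable {X : Space S} {U V : EtOver X.obj} (hsq : IsElemDistSq U.obj.hom V.obj.hom)

include hsq

theorem hom_ext_U {Z : EtOver X.obj} (a b : Z ⟶ U) : a = b := by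
  haveI : Mono U.obj.hom := mono_of_openImmersion hsq.1
  exact EtOver.hom_ext _ _ ((yon S).map_injective
    ((cancel_mono U.obj.hom).1 ((EtOver.w a).trans (EtOver.w b).symm)))

theorem cover (W : EtOver X.obj) (r : W.obj.left.left) :
    r ∈ Set.range (prod.snd : U ⨯ W ⟶ W).hom.left.left ∨ r ∈ Set.range (prod.snd : V ⨯ W ⟶ W).hom.left.left := by
  have key : ∀ Y : EtOver X.obj, Points.ofPt W.obj.hom r ∈ Set.range (Points.map Y.obj.hom) →
      r ∈ Set.range (prod.snd : Y ⨯ W ⟶ W).hom.left.left := fun Y hY => by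
    obtain ⟨z, hz⟩ := (AlgSpQMod.ofPt_mem_range_iff Y.property W.obj.hom r).1 hY
    refine ⟨(prod.lift (EtOver.prodSnd W Y) (EtOver.prodFst W Y)).hom.left.left z, ?_⟩
    exact (congrArg (fun k : EtOver.prodObj W Y ⟶ W => k.hom.left.left z)
      (prod.lift_snd (EtOver.prodSnd W Y) (EtOver.prodFst W Y))).trans hz
  by_cases hr : Points.ofPt W.obj.hom r ∈ Set.range (Points.map U.obj.hom)
  · exact Or.inl (key U hr)
  obtain ⟨hj, hf, T, Q, i, p₁, p₂, ⟨hi, hrange, -⟩, sqT, hp₁⟩ := hsq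
  obtain ⟨t, ht⟩ : Points.ofPt W.obj.hom r ∈ Set.range (Points.map i) := hrange.symm ▸ hr
  refine Or.inr (key V ⟨Points.map (inv p₁ ≫ p₂) t, ?_⟩)
  rw [← Points.map_comp, Category.assoc, ← sqT.w, IsIso.inv_hom_id_assoc, ht]

theorem exists_agree {E : EtOver X.obj} (c₁ c₂ : E ⟶ V) :
    ∃ (E₀ : EtOver X.obj) (k : E₀ ⟶ E), k ≫ c₁ = k ≫ c₂ ∧ ∀ r : E.obj.left.left,
      r ∈ Set.range k.hom.left.left ∨ r ∈ Set.range (prod.snd : U ⨯ E ⟶ E).hom.left.left := by
  obtain ⟨hj, hf, T, Q, i, p₁, p₂, ⟨hi, hrange, -⟩, sqT, hp₁⟩ := hsq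
  let f := V.obj.hom
  have hd : RepWith @IsOpenImmersion (pullback.diagonal f) :=
    (Groth.Agent.S10262.result (X := ⟨(yon S).obj V.obj.left, IsAlgSpace.yon_obj _⟩) (Y := X)
      (ObjectProperty.homMk f)).1
      (locP_mono (P := @Etale) (Q := @LocallyOfFiniteType ⊓ @FormallyUnramified)
        (fun _ _ g hg => by haveI : Etale g := hg; exact ⟨inferInstance, inferInstance⟩)
        ((isEtaleMor_iff_locP (IsAlgSpace.yon_obj _) X.property f).1 hf))
  have h : (yon S).map c₁.hom.left ≫ f = (yon S).map c₂.hom.left ≫ f :=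
    (EtOver.w c₁).trans (EtOver.w c₂).symm
  let ξ : (yon S).obj E.obj.left ⟶ pullback f f := pullback.lift _ _ h
  let e₁ := hd.rep.snd ξ
  haveI : IsOpenImmersion e₁.left := hd.property_snd ξ
  have h₁ : hd.rep.fst ξ = (yon S).map (e₁ ≫ c₁.hom.left) := by
    have := (hd.rep.isPullback ξ).w =≫ pullback.fst f f
    simpa [ξ, e₁] using this
  have h₂ : hd.rep.fst ξ = (yon S).map (e₁ ≫ c₂.hom.left) := by
    have := (hd.rep.isPullback ξ).w =≫ pullback.snd f f
    simpa [ξ, e₁] using this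
  let E₀ : EtOver X.obj := EtOver.mk ((yon S).map e₁ ≫ E.obj.hom)
    ((repWith_isMultiplicative (S := S) @Etale).comp_mem _ _
      ((repWith_yon_map_iff @Etale e₁).2 inferInstance) E.property)
  let k : E₀ ⟶ E := EtOver.homMk e₁ rfl
  refine ⟨E₀, k, EtOver.hom_ext _ _ ((yon S).map_injective (h₁.symm.trans h₂)), fun r => ?_⟩
  by_cases hr : Points.ofPt E.obj.hom r ∈ Set.range (Points.map U.obj.hom)
  · right
    obtain ⟨z, hz⟩ := (AlgSpQMod.ofPt_mem_range_iff U.property E.obj.hom r).1 hr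
    exact ⟨(prod.lift (EtOver.prodSnd E U) (EtOver.prodFst E U)).hom.left.left z,
      (congrArg (fun l : EtOver.prodObj E U ⟶ E => l.hom.left.left z)
        (prod.lift_snd (EtOver.prodSnd E U) (EtOver.prodFst E U))).trans hz⟩
  left
  let K := E.obj.left.left.residueField r
  let m₀ : Over.mk (E.obj.left.left.fromSpecResidueField r ≫ E.obj.left.hom) ⟶ E.obj.left :=
    Over.homMk (E.obj.left.left.fromSpecResidueField r) rfl
  have hk : m₀.left (IsLocalRing.closedPoint K) = r := Scheme.fromSpecResidueField_apply _ _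
  have hw₁ := EtOver.w c₁
  obtain ⟨y, hy⟩ := DistPushout.exists_lift_field hi ((yon S).map m₀ ≫ E.obj.hom) (IsLocalRing.closedPoint K) (by
    rw [ofPt_comp, hk, hrange]; exact hr)
  let l₁ := sqT.lift y ((yon S).map m₀ ≫ (yon S).map c₁.hom.left) (by rw [hy, Category.assoc, EtOver.w c₁])
  let l₂ := sqT.lift y ((yon S).map m₀ ≫ (yon S).map c₂.hom.left) (by rw [hy, Category.assoc, EtOver.w c₂])
  have hl : l₁ = l₂ := by rw [← cancel_mono p₁, sqT.lift_fst, sqT.lift_fst]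
  have hk12 : (yon S).map m₀ ≫ (yon S).map c₁.hom.left = (yon S).map m₀ ≫ (yon S).map c₂.hom.left := by
    have := congrArg (· ≫ p₂) hl
    rwa [sqT.lift_snd, sqT.lift_snd] at this
  obtain ⟨m, hm⟩ := (yon S).map_surjective ((hd.rep.isPullback ξ).lift
      ((yon S).map m₀ ≫ (yon S).map c₁.hom.left) ((yon S).map m₀) (by
    refine pullback.hom_ext ?_ ?_
    · simp [ξ]
    · simpa [ξ] using hk12))
  have hmk : m ≫ e₁ = m₀ := (yon S).map_injective (by
    rw [Functor.map_comp, hm]; exact (hd.rep.isPullback ξ).lift_snd _ _ _)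
  exact ⟨m.left (IsLocalRing.closedPoint K), by
    show e₁.left _ = r
    rw [← Scheme.Hom.comp_apply, ← Over.comp_left, hmk, hk]⟩

variable (P : AbEt X.obj)

local notation:max "res(" g ", " x ")" => P.obj.map (Quiver.Hom.op g) x

local notation "UV" => EtOver.prodObj U V

theorem lift_UV {Z : EtOver X.obj} (a : Z ⟶ U) (b : Z ⟶ V) :
    ∃ z : Z ⟶ UV, z ≫ EtOver.prodFst U V = a ∧ z ≫ EtOver.prodSnd U V = b :=
  ⟨(EtOver.prodIsLimit U V).lift (BinaryFan.mk a b), (EtOver.prodIsLimit U V).fac _ ⟨WalkingPair.left⟩,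
    (EtOver.prodIsLimit U V).fac _ ⟨WalkingPair.right⟩⟩

theorem hom_ext_UV {Z : EtOver X.obj} (z z' : Z ⟶ UV) (h : z ≫ EtOver.prodSnd U V = z' ≫ EtOver.prodSnd U V) :
    z = z' :=
  (EtOver.prodIsLimit U V).hom_ext (by rintro ⟨_ | _⟩; exacts [hom_ext_U hsq _ _, h])

theorem sep {W : EtOver X.obj} (s : P.obj.obj (op W)) (hU : res((prod.snd : U ⨯ W ⟶ W), s) = 0)
    (hV : res((prod.snd : V ⨯ W ⟶ W), s) = 0) : s = 0 :=
  eq_of_pair P _ _ (cover hsq W) (by rw [hU, map_zero]) (by rw [hV, map_zero])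

theorem exact {W : EtOver X.obj} (a : P.obj.obj (op (U ⨯ W))) (b : P.obj.obj (op (V ⨯ W)))
    (h : res(prod.map (EtOver.prodFst U V) (𝟙 W), a) = res(prod.map (EtOver.prodSnd U V) (𝟙 W), b)) :
    ∃ s : P.obj.obj (op W), res((prod.snd : U ⨯ W ⟶ W), s) = a ∧ res((prod.snd : V ⨯ W ⟶ W), s) = b := by
  have mixed : ∀ (Z : EtOver X.obj) (p : Z ⟶ U ⨯ W) (q : Z ⟶ V ⨯ W),
      p ≫ prod.snd = q ≫ prod.snd → res(p, a) = res(q, b) := fun Z p q e => by
    obtain ⟨z, hz₁, hz₂⟩ := lift_UV hsq (p ≫ prod.fst) (q ≫ prod.fst)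
    have hp : prod.lift z (p ≫ prod.snd) ≫ prod.map (EtOver.prodFst U V) (𝟙 W) = p := by ext <;> simp [hz₁]
    have hq : prod.lift z (p ≫ prod.snd) ≫ prod.map (EtOver.prodSnd U V) (𝟙 W) = q := by ext <;> simp [hz₂, e]
    conv_lhs => rw [← hp, res_comp, h]
    conv_rhs => rw [← hq, res_comp]
  refine exists_of_pair P _ _ (cover hsq W) a b (fun Z p q e => ?_) mixed fun Z p q e => ?_
  · rw [show p = q from prod.hom_ext (hom_ext_U hsq _ _) e]
  obtain ⟨Z₀, k, hk, hcov⟩ := exists_agree hsq (p ≫ prod.fst) (q ≫ prod.fst)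
  refine eq_of_pair P _ _ hcov ?_ ?_
  · rw [← res_comp, ← res_comp, show k ≫ p = k ≫ q from
      prod.hom_ext (by simpa using hk) (by simp [e])]
  · let w : U ⨯ Z ⟶ U ⨯ W := prod.lift prod.fst (prod.snd ≫ p ≫ prod.snd)
    rw [← res_comp, ← res_comp, ← mixed _ w (prod.snd ≫ p) (by simp [w]),
      ← mixed _ w (prod.snd ≫ q) (by simp [w, e])]

theorem surj {W : EtOver X.obj} (s : P.obj.obj (op (UV ⨯ W))) :
    ∀ (W' : EtOver X.obj) (q : W' ⟶ W),
      ((∃ c : W' ⟶ U, True) ∨ ∃ c : W' ⟶ V, True) →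
      ∃ (a : P.obj.obj (op (U ⨯ W'))) (b : P.obj.obj (op (V ⨯ W'))),
        res(prod.map (EtOver.prodFst U V) (𝟙 W'), a) - res(prod.map (EtOver.prodSnd U V) (𝟙 W'), b) =
          res(prod.map (𝟙 UV) q, s) := by
  rintro W' q (⟨c, -⟩ | ⟨c, -⟩)
  · obtain ⟨z, hz₁, hz₂⟩ := lift_UV hsq (prod.snd ≫ c) (prod.fst : V ⨯ W' ⟶ V)
    let m : V ⨯ W' ⟶ UV ⨯ W := prod.lift z (prod.snd ≫ q)
    refine ⟨0, -res(m, s), ?_⟩
    rw [map_zero, map_neg, zero_sub, neg_neg, ← res_comp]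
    suffices e : prod.map (EtOver.prodSnd U V) (𝟙 W') ≫ m = prod.map (𝟙 UV) q by rw [e]
    apply prod.hom_ext
    · apply hom_ext_UV hsq
      simp [m, hz₂]
    · simp [m]
  · obtain ⟨n₀, hn₁, hn₂⟩ := lift_UV hsq (prod.fst : U ⨯ W' ⟶ U) (prod.snd ≫ c)
    let n : U ⨯ W' ⟶ UV ⨯ W := prod.lift n₀ (prod.snd ≫ q)
    let E := V ⨯ W'
    obtain ⟨E₀, k, hk, hcov⟩ := exists_agree hsq (prod.fst : E ⟶ V) (prod.snd ≫ c)
    obtain ⟨r₀, hr₁, hr₂⟩ := lift_UV hsq (prod.fst : U ⨯ E ⟶ U) (prod.snd ≫ prod.fst)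
    obtain ⟨r₁, hr₁', hr₂'⟩ := lift_UV hsq (prod.fst : U ⨯ E ⟶ U) (prod.snd ≫ prod.snd ≫ c)
    let r : U ⨯ E ⟶ UV ⨯ W := prod.lift r₀ (prod.snd ≫ prod.snd ≫ q)
    let r' : U ⨯ E ⟶ UV ⨯ W := prod.lift r₁ (prod.snd ≫ prod.snd ≫ q)
    obtain ⟨b, -, hb⟩ := exists_of_pair P _ _ hcov 0 (res(r', s) - res(r, s))
      (fun Z x y e => by rw [map_zero, map_zero])
      (fun Z x y e => by
        have : y ≫ r' = y ≫ r := by
          apply prod.hom_ext
          · apply hom_ext_UV hsq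
            simp only [r, r', Category.assoc, prod.lift_fst, hr₂, hr₂']
            rw [← Category.assoc y, ← Category.assoc y, ← e, Category.assoc, Category.assoc, hk]
          · simp [r, r']
        rw [map_zero, map_sub, ← res_comp, ← res_comp, this, sub_self])
      (fun Z x y e => by rw [show x = y from prod.hom_ext (hom_ext_U hsq _ _) e])
    refine ⟨res(n, s), b, ?_⟩
    let z : UV ⨯ W' ⟶ U ⨯ E := prod.lift (prod.fst ≫ EtOver.prodFst U V) (prod.map (EtOver.prodSnd U V) (𝟙 W'))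
    have hz : prod.map (EtOver.prodSnd U V) (𝟙 W') = z ≫ prod.snd := by simp [z]
    have hz' : z ≫ r' = prod.map (EtOver.prodFst U V) (𝟙 W') ≫ n := by
      apply prod.hom_ext
      · apply hom_ext_UV hsq
        simp [z, r', n, E, hr₂', hn₂]
      · simp [z, r', n, E]
    have hz'' : z ≫ r = prod.map (𝟙 UV) q := by
      apply prod.hom_ext
      · apply hom_ext_UV hsq
        simp [z, r, E, hr₂]
      · simp [z, r, E]
    rw [hz, res_comp P z (prod.snd) b, hb, map_sub, ← res_comp, ← res_comp, ← res_comp, hz', hz'',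
      sub_sub_cancel]

end Groth.Agent.AlgSpDec.MVEt
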