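import Groth.Agent.AlgSpDec.MonoRep
import Groth.Agent.AlgSpDec.FreeQuotSep
import Groth.Agent.AlgSpPts.InjEtale

/-!
# Monomorphisms from points with finite relation fibres
-/

set_option backward.isDefEq.respectTransparency false
set_option backward.isDefEq.respectTransparency.types false

universe u

open CategoryTheory Limits Opposite AlgebraicGeometry AlgSp Groth.Agent.AlgSpLib Groth.Agent.AlgSpPts

namespace Groth.Agent.AlgSpDec

variable {S : Scheme.{u}} {X : Sp S}

/-- Shrinking one side of a fibre product of schemes over a sheaf along a finite map is finite. -/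
theorem exists_finite_refine {T T₁ T₂ P P' : Over S} {π₁ : (yon S).obj T₁ ⟶ X} {π₂ : (yon S).obj T₂ ⟶ X}
    {a : P ⟶ T₁} {b : P ⟶ T₂} (sq : IsPullback ((yon S).map a) ((yon S).map b) π₁ π₂)
    (e : T ⟶ T₁) [IsFinite e.left] {a' : P' ⟶ T} {b' : P' ⟶ T₂}
    (sq' : IsPullback ((yon S).map a') ((yon S).map b') ((yon S).map e ≫ π₁) π₂) :
    ∃ m : P' ⟶ P, IsFinite m.left ∧ m ≫ a = a' ≫ e ∧ m ≫ b = b' := by
  obtain ⟨m, hm⟩ := (yon S).map_surjective (sq.lift ((yon S).map (a' ≫ e)) ((yon S).map b')
    (by rw [Functor.map_comp, Category.assoc]; exact sq'.w))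
  have hma : m ≫ a = a' ≫ e := (yon S).map_injective (by rw [Functor.map_comp, hm, sq.lift_fst])
  have hmb : m ≫ b = b' := (yon S).map_injective (by rw [Functor.map_comp, hm, sq.lift_snd])
  have sq₂ : IsPullback a'.left m.left e.left a.left := isPullback_of_yon
    (IsPullback.of_bot (by rw [← Functor.map_comp, hmb]; exact sq')
      (by rw [← Functor.map_comp, ← Functor.map_comp, hma]) sq)
  exact ⟨m, MorphismProperty.of_isPullback sq₂ ‹_›, hma, hmb⟩

/-- A point with finite relation fibre over some pair of lifts has a monomorphic representative. -/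
theorem exists_mono_of_finite_relation (hX : IsAlgSpace X) {U : Over S} {φ : (yon S).obj U ⟶ X}
    (hφ : RepWith @Etale φ) {u u' : ↥U.left} (he : Points.ofPt φ u = Points.ofPt φ u')
    (hfin : ∀ (R : Over S) (s t : R ⟶ U), IsPullback ((yon S).map t) ((yon S).map s) φ φ →
          {r : ↥R.left | s.left r = u ∧ t.left r = u'}.Finite) :
    ∃ p : FieldPt X, Points.mk p = Points.ofPt φ u ∧ Mono p.toHom := by
  let R := hφ.rep.pullback φ
  let t : R ⟶ U := hφ.rep.fst' φ
  let s : R ⟶ U := hφ.rep.snd φ
  have sqR : IsPullback ((yon S).map t) ((yon S).map s) φ φ := hφ.rep.isPullback' φ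
  have : Etale s.left := hφ.property_snd φ
  have : Etale t.left := hφ.property _ _ _ sqR.flip
  obtain ⟨r₀, hr₀t, hr₀s⟩ := exists_ofPt_of_eq sqR he.symm
  have hF := hfin R s t sqR
  let Tu : Over S := Over.mk (U.left.fromSpecResidueField u ≫ U.hom)
  let Tu' : Over S := Over.mk (U.left.fromSpecResidueField u' ≫ U.hom)
  let T : Over S := Over.mk (R.left.fromSpecResidueField r₀ ≫ R.hom)
  let ju : Tu ⟶ U := CategoryTheory.Over.homMk (U.left.fromSpecResidueField u) rfl
  let ju' : Tu' ⟶ U := CategoryTheory.Over.homMk (U.left.fromSpecResidueField u') rfl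
  let jr : T ⟶ R := CategoryTheory.Over.homMk (R.left.fromSpecResidueField r₀) rfl
  have lift : ∀ (f : R ⟶ U) (v : ↥U.left) (_ : Etale f.left) (hv : f.left r₀ = v),
      ∃ e : T ⟶ Over.mk (U.left.fromSpecResidueField v ≫ U.hom), IsFinite e.left ∧
        e ≫ CategoryTheory.Over.homMk (U.left.fromSpecResidueField v) rfl = jr ≫ f := by
    rintro f v _ rfl
    refine ⟨CategoryTheory.Over.homMk (Spec.map (f.left.residueFieldMap r₀)) ?_, ?_, Over.OverMorphism.ext ?_⟩
    · change _ ≫ _ ≫ U.hom = R.left.fromSpecResidueField r₀ ≫ R.hom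
      rw [Scheme.Hom.SpecMap_residueFieldMap_fromSpecResidueField_assoc, CategoryTheory.Over.w]
    · exact (IsFinite.SpecMap_iff _).2 (MorLib.GF.finite_residueFieldMap f.left r₀)
    · exact Scheme.Hom.SpecMap_residueFieldMap_fromSpecResidueField _ _
  obtain ⟨e, hef, hej⟩ := lift s u ‹_› hr₀s
  obtain ⟨e', hef', hej'⟩ := lift t u' ‹_› hr₀t
  let π : (yon S).obj Tu ⟶ X := (yon S).map ju ≫ φ
  let π' : (yon S).obj Tu' ⟶ X := (yon S).map ju' ≫ φ
  let q : (yon S).obj T ⟶ X := (yon S).map jr ≫ (yon S).map s ≫ φ
  have hqe : (yon S).map e ≫ π = q := by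
    change (yon S).map e ≫ (yon S).map ju ≫ φ = _
    rw [← Functor.map_comp_assoc, show e ≫ ju = _ from hej, Functor.map_comp_assoc]
  have hqe' : (yon S).map e' ≫ π' = q := by
    change (yon S).map e' ≫ (yon S).map ju' ≫ φ = _
    rw [← Functor.map_comp_assoc, show e' ≫ ju' = _ from hej', Functor.map_comp_assoc, sqR.w]
  -- the product of the two residue fields over the space
  have hπ : Representable π := representable_from_yon' hX _
  let V := hφ.rep.pullback π
  let vU : V ⟶ U := hφ.rep.fst' π
  let vK : V ⟶ Tu := hφ.rep.snd π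
  have sqV : IsPullback ((yon S).map vU) ((yon S).map vK) φ π := hφ.rep.isPullback' π
  have : Etale vK.left := hφ.property_snd π
  let P := hπ.pullback π'
  let a : P ⟶ Tu := hπ.fst' π'
  let b : P ⟶ Tu' := hπ.snd π'
  have sqP : IsPullback ((yon S).map a) ((yon S).map b) π π' := hπ.isPullback' π'
  obtain ⟨l, hl⟩ := (yon S).map_surjective (sqV.lift ((yon S).map (b ≫ ju')) ((yon S).map a)
    (by rw [Functor.map_comp, Category.assoc]; exact sqP.w.symm))
  have hlU : l ≫ vU = b ≫ ju' := (yon S).map_injective (by rw [Functor.map_comp, hl, sqV.lift_fst])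
  have hlK : l ≫ vK = a := (yon S).map_injective (by rw [Functor.map_comp, hl, sqV.lift_snd])
  have sqT : IsPullback b.left l.left ju'.left vU.left := isPullback_of_yon
    (IsPullback.of_bot (by rw [← Functor.map_comp, hlK]; exact sqP.flip)
      (by rw [← Functor.map_comp, ← Functor.map_comp, hlU]) sqV)
  have : IsPreimmersion ju'.left := inferInstanceAs (IsPreimmersion (U.left.fromSpecResidueField u'))
  have : IsPreimmersion ju.left := inferInstanceAs (IsPreimmersion (U.left.fromSpecResidueField u))
  have : IsPreimmersion l.left := MorphismProperty.of_isPullback sqT ‹_›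
  obtain ⟨k, hk⟩ := (yon S).map_surjective (sqR.lift ((yon S).map vU) ((yon S).map (vK ≫ ju))
    (by rw [Functor.map_comp, Category.assoc]; exact sqV.w))
  have hkt : k ≫ t = vU := (yon S).map_injective (by rw [Functor.map_comp, hk, sqR.lift_fst])
  have hks : k ≫ s = vK ≫ ju := (yon S).map_injective (by rw [Functor.map_comp, hk, sqR.lift_snd])
  have sqk : IsPullback vK.left k.left ju.left s.left := isPullback_of_yon
    (IsPullback.of_bot (by rw [← Functor.map_comp, hkt]; exact sqV.flip)
      (by rw [← Functor.map_comp, ← Functor.map_comp, hks]) sqR.flip)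
  have : IsPreimmersion k.left := MorphismProperty.of_isPullback sqk ‹_›
  have hPfin : Finite ↥P.left := by
    have hinj : Function.Injective (k.left ∘ l.left) := k.left.isEmbedding.injective.comp l.left.isEmbedding.injective
    refine Set.finite_univ_iff.1 ((hF.preimage hinj.injOn).subset fun z _ => ⟨?_, ?_⟩)
    · change s.left (k.left (l.left z)) = u
      rw [← Scheme.Hom.comp_apply, ← Over.comp_left, hks, Over.comp_left, Scheme.Hom.comp_apply]
      exact Scheme.fromSpecResidueField_apply _ _
    · change t.left (k.left (l.left z)) = u'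
      rw [← Scheme.Hom.comp_apply, ← Over.comp_left, hkt, ← Scheme.Hom.comp_apply, ← Over.comp_left, hlU,
        Over.comp_left, Scheme.Hom.comp_apply]
      exact Scheme.fromSpecResidueField_apply _ _
  have hd : DiscreteTopology ↥V.left := by
    have h1 := vK.left.isDiscrete_preimage_singleton (IsLocalRing.closedPoint (U.left.residueField u))
    rw [show vK.left ⁻¹' {IsLocalRing.closedPoint (U.left.residueField u)} = Set.univ from
      Set.eq_univ_of_forall fun x => Subsingleton.elim (α := ↥(Spec (U.left.residueField u))) _ _] at h1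
    exact isDiscrete_univ_iff.1 h1
  have : IsClosedImmersion l.left := .of_isPreimmersion _ (isClosed_discrete _)
  have : IsArtinianScheme Tu.left := inferInstanceAs (IsArtinianScheme (Spec (U.left.residueField u)))
  have : IsAffine Tu.left := inferInstanceAs (IsAffine (Spec (U.left.residueField u)))
  have hal : a.left = l.left ≫ vK.left := by rw [← Over.comp_left, hlK]
  have : QuasiCompact a.left := by
    have : CompactSpace ↥P.left := inferInstance
    exact HasAffineProperty.iff_of_isAffine.2 this
  have : LocallyQuasiFinite a.left := by rw [hal]; infer_instance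
  have : LocallyOfFiniteType a.left := by rw [hal]; infer_instance
  have : IsFinite a.left := IsFinite.of_locallyQuasiFinite a.left
  -- the self product of the refined point
  have hq : Representable q := representable_from_yon' hX _
  let M := hq.pullback π'
  let c₁ : M ⟶ T := hq.fst' π'
  let c₂ : M ⟶ Tu' := hq.snd π'
  have sqM : IsPullback ((yon S).map c₁) ((yon S).map c₂) q π' := hq.isPullback' π'
  obtain ⟨m, hm, hma, -⟩ := exists_finite_refine sqP e (by rw [hqe]; exact sqM)
  let G := hq.pullback q
  let g₁ : G ⟶ T := hq.fst' q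
  let g₂ : G ⟶ T := hq.snd q
  have sqG : IsPullback ((yon S).map g₁) ((yon S).map g₂) q q := hq.isPullback' q
  obtain ⟨n, hn, -, hnb⟩ := exists_finite_refine sqM.flip e' (by rw [hqe']; exact sqG.flip)
  have : IsFinite g₁.left := by
    have h : g₁.left ≫ e.left = n.left ≫ m.left ≫ a.left := by
      rw [← Over.comp_left, ← Over.comp_left, ← Over.comp_left, hma, reassoc_of% hnb]
    have : IsFinite (g₁.left ≫ e.left) := by rw [h]; infer_instance
    exact IsFinite.of_comp g₁.left e.left
  have : IsAffine T.left := inferInstanceAs (IsAffine (Spec (R.left.residueField r₀)))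
  have : IsAffine G.left := isAffine_of_isAffineHom g₁.left
  let e₀ : Over.mk (G.left.isoSpec.inv ≫ G.hom) ≅ G := Over.isoMk G.left.isoSpec.symm rfl
  have hfin' : IsFinite (e₀.hom ≫ g₁).left := by
    change IsFinite (G.left.isoSpec.inv ≫ g₁.left)
    infer_instance
  obtain ⟨p, i, hi, -, hmono⟩ := exists_mono_of_isPullback q hX (a₁ := e₀.hom ≫ g₂) (a₂ := e₀.hom ≫ g₁)
    (by
      rw [Functor.map_comp, Functor.map_comp]
      exact IsPullback.of_iso sqG.flip ((yon S).mapIso e₀).symm (Iso.refl _) (Iso.refl _) (Iso.refl _)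
        (by
          erw [Category.comp_id, ← Category.assoc, show ((yon S).mapIso e₀).symm.hom ≫ (yon S).map e₀.hom = 𝟙 _ from ((yon S).mapIso e₀).inv_hom_id, Category.id_comp])
        (by
          erw [Category.comp_id, ← Category.assoc, show ((yon S).mapIso e₀).symm.hom ≫ (yon S).map e₀.hom = 𝟙 _ from ((yon S).mapIso e₀).inv_hom_id, Category.id_comp])
        (by simp) (by simp))
    hfin'
  refine ⟨p, ?_, hmono⟩
  let c : ↥T.left := IsLocalRing.closedPoint (R.left.residueField r₀)
  have h1 : Points.ofPt q c = Points.mk p := by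
    rw [← hi, ofPt_comp]; exact Points.ofPt_toHom p _
  rw [← h1]
  change Points.ofPt ((yon S).map jr ≫ (yon S).map s ≫ φ) c = _
  rw [ofPt_comp, ofPt_comp, ← hr₀s]
  congr 2
  exact Scheme.fromSpecResidueField_apply _ _

end Groth.Agent.AlgSpDec
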