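import Groth.Agent.AlgSpDec.ConstrTop
import Groth.Agent.AlgSpDec.ConstrDescent
import Groth.Agent.AlgSpDec.PointsSpectral
import Groth.Agent.AlgSpDec.ArtinAffine

/-!
Constructible subsets of the point space of a quasi-separated algebraic space.
-/

set_option backward.isDefEq.respectTransparency false
set_option backward.isDefEq.respectTransparency.types false

universe u

open CategoryTheory CategoryTheory.Limits AlgebraicGeometry AlgSp Groth.Agent.AlgSpLib Groth.Agent.AlgSpPts TopologicalSpace Topology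

namespace Groth.Agent.AlgSpDec

variable {S : Scheme.{u}} {X : Sp S}

theorem exists_affine_chart_within (hX : IsAlgSpace X) {x : Points X} {O : Set (Points X)} (hO : IsOpen O)
    (hx : x ∈ O) : ∃ (U : Over S) (a : (yon S).obj U ⟶ X), IsAffine U.left ∧ RepWith @Etale a ∧
      x ∈ Set.range (Points.ofPt a) ∧ Set.range (Points.ofPt a) ⊆ O := by
  obtain ⟨U, a, u, -, ha, rfl⟩ := exists_affine_chart_at hX x
  obtain ⟨W, hW, huW, hWO⟩ := exists_isAffineOpen_mem_and_subset
    (U := ⟨Points.ofPt a ⁻¹' O, hO.preimage (Points.continuous_ofPt a)⟩) (x := u) hx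
  let ι : Over.mk (W.ι ≫ U.hom) ⟶ U := Over.homMk W.ι rfl
  refine ⟨_, (yon S).map ι ≫ a, hW, repWith_comp ((repWith_yon_map_iff _ ι).2
    (inferInstanceAs (Etale W.ι))) ha, ⟨(⟨u, huW⟩ : W.toScheme), ofPt_comp _ _ _⟩, ?_⟩
  rintro _ ⟨w, rfl⟩
  rw [ofPt_comp]
  exact hWO (w : W.toScheme).2

theorem isCompact_preimage_range [QuasiSeparatedSpace ↥S] (hqs : IsQuasiSeparatedSp X) {U V : Over S}
    [CompactSpace ↥U.left] [CompactSpace ↥V.left] {a : (yon S).obj U ⟶ X} {b : (yon S).obj V ⟶ X}
    (hb : RepWith @Etale b) : IsCompact (Points.ofPt a ⁻¹' Set.range (Points.ofPt b)) := by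
  have sq := hb.rep.isPullback' a
  haveI : QuasiCompact (hb.rep.snd a).left := quasiCompact_fibreProd hqs sq
  haveI : CompactSpace ↥(hb.rep.pullback a).left := QuasiCompact.compactSpace_of_compactSpace (hb.rep.snd a).left
  have : Points.ofPt a ⁻¹' Set.range (Points.ofPt b) = Set.range (hb.rep.snd a).left := by
    ext u
    constructor
    · rintro ⟨v, hv⟩
      obtain ⟨r, -, hr⟩ := exists_ofPt_of_eq sq hv
      exact ⟨r, hr⟩
    · rintro ⟨r, rfl⟩
      exact ⟨(hb.rep.fst' a).left r, by rw [← ofPt_comp, ← ofPt_comp, sq.w]⟩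
  rw [this]
  exact isCompact_range (hb.rep.snd a).left.continuous

theorem isCompact_preimage_ofPt [QuasiSeparatedSpace ↥S] (hX : IsAlgSpace X) (hqs : IsQuasiSeparatedSp X)
    {U : Over S} [CompactSpace ↥U.left] (a : (yon S).obj U ⟶ X) {O : Set (Points X)} (hO : IsOpen O)
    (hc : IsCompact O) : IsCompact (Points.ofPt a ⁻¹' O) := by
  choose V b hV hb hx hbO using fun x : O => exists_affine_chart_within hX hO x.2
  obtain ⟨t, ht⟩ := hc.elim_finite_subcover (fun x => Set.range (Points.ofPt (b x)))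
    (fun x => (isOpenMap_ofPt (hb x)).isOpen_range) (fun x h => Set.mem_iUnion.2 ⟨⟨x, h⟩, hx ⟨x, h⟩⟩)
  have : Points.ofPt a ⁻¹' O = ⋃ x ∈ (t : Set O), Points.ofPt a ⁻¹' Set.range (Points.ofPt (b x)) := by
    rw [← Set.preimage_iUnion₂]
    congr 1
    exact subset_antisymm ht (Set.iUnion₂_subset fun x _ => hbO x)
  rw [this]
  exact t.finite_toSet.isCompact_biUnion fun x _ => by
    haveI := hV x
    exact isCompact_preimage_range hqs (hb x)

theorem prespectralSpace_qs_points [QuasiSeparatedSpace ↥S] (hX : IsAlgSpace X) (hqs : IsQuasiSeparatedSp X) :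
    PrespectralSpace (Points X) ∧ QuasiSeparatedSpace (Points X) := by
  let B : Set (Set (Points X)) := {A | ∃ (U : Over S) (a : (yon S).obj U ⟶ X), IsAffine U.left ∧ RepWith @Etale a ∧
    A = Set.range (Points.ofPt a)}
  have hBo : ∀ A ∈ B, IsOpen A := by
    rintro _ ⟨U, a, -, ha, rfl⟩; exact (isOpenMap_ofPt ha).isOpen_range
  have hBc : ∀ A ∈ B, IsCompact A := by
    rintro _ ⟨U, a, hU, -, rfl⟩
    exact isCompact_range (Points.continuous_ofPt a)
  have hB : IsTopologicalBasis B := isTopologicalBasis_of_isOpen_of_nhds hBo fun x O hx hO => by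
    obtain ⟨U, a, hU, ha, hxa, haO⟩ := exists_affine_chart_within hX hO hx
    exact ⟨_, ⟨U, a, hU, ha, rfl⟩, hxa, haO⟩
  refine ⟨.of_isTopologicalBasis hB hBc,
    .of_isTopologicalBasis (b := fun A : B => A.1) (by simpa using hB) fun i j => ?_⟩
  obtain ⟨⟨A, U, a, hU, ha, rfl⟩, ⟨A', V, b, hV, -, rfl⟩⟩ := i, j
  exact isCompact_range_inter hX hqs ha

theorem etale_locallyConstructible_iff [QuasiSeparatedSpace ↥S] (hX : IsAlgSpace X) (hqs : IsQuasiSeparatedSp X)
    (E : Set (Points X)) :
    (∀ (U : Over S) (a : (yon S).obj U ⟶ X), RepWith @Etale a → IsLocallyConstructible (Points.ofPt a ⁻¹' E)) ↔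
      IsLocallyConstructible E := by
  obtain ⟨hP, hQ⟩ := prespectralSpace_qs_points hX hqs
  have hd := isDecent_of_isQuasiSeparatedSp hX hqs
  haveI := t0Space_points hX hd
  haveI := quasiSober_points hX hd
  have key : ∀ {U : Over S} {a : (yon S).obj U ⟶ X} [IsAffine U.left] (ha : RepWith @Etale a),
      IsCompact (Set.range (Points.ofPt a)) ∧ IsOpen (Set.range (Points.ofPt a)) ∧
      IsSpectralMap (Set.rangeFactorization (Points.ofPt a)) := fun {U a} _ ha => by
    have ho := (isOpenMap_ofPt ha).isOpen_range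
    refine ⟨isCompact_range (Points.continuous_ofPt a), ho,
      ⟨(Points.continuous_ofPt a).subtype_mk _, fun s hs hsc => ?_⟩⟩
    convert isCompact_preimage_ofPt hX hqs a (ho.isOpenEmbedding_subtypeVal.isOpenMap s hs)
      (hsc.image continuous_subtype_val) using 1
    ext u
    exact ⟨fun h => ⟨_, h, rfl⟩, fun ⟨z, hz, e⟩ => by
      rw [Set.mem_preimage, show Set.rangeFactorization (Points.ofPt a) u = z from Subtype.ext e.symm]; exact hz⟩
  constructor
  · intro h x
    obtain ⟨U, a, hU, ha, hxa, -⟩ := exists_affine_chart_within hX isOpen_univ (Set.mem_univ x)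
    obtain ⟨hc, ho, hsp⟩ := key ha
    refine ⟨_, ho.mem_nhds hxa, ho, ?_⟩
    haveI := isCompact_iff_compactSpace.1 hc
    haveI : PrespectralSpace ↥(Set.range (Points.ofPt a)) := ho.isOpenEmbedding_subtypeVal.prespectralSpace
    haveI : QuasiSeparatedSpace ↥(Set.range (Points.ofPt a)) := ho.isOpenEmbedding_subtypeVal.quasiSeparatedSpace
    haveI : QuasiSober ↥(Set.range (Points.ofPt a)) := ho.isOpenEmbedding_subtypeVal.quasiSober
    exact isConstructible_of_preimage hsp Set.rangeFactorization_surjective (h U a ha).isConstructible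
  · intro h U a ha u
    obtain ⟨W, hW, huW, -⟩ := exists_isAffineOpen_mem_and_subset (U := (⊤ : U.left.Opens)) (x := u) trivial
    refine ⟨W, W.isOpen.mem_nhds huW, W.isOpen, ?_⟩
    let ι : Over.mk (W.ι ≫ U.hom) ⟶ U := Over.homMk W.ι rfl
    haveI : IsAffine (Over.mk (W.ι ≫ U.hom)).left := hW
    haveI : IsAffine W.toScheme := hW
    let a' := (yon S).map ι ≫ a
    obtain ⟨hc, ho, hsp⟩ := key (a := a') (repWith_comp ((repWith_yon_map_iff _ ι).2
      (inferInstanceAs (Etale W.ι))) ha)
    haveI := isCompact_iff_compactSpace.1 hc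
    haveI : PrespectralSpace ↥(Set.range (Points.ofPt a')) := ho.isOpenEmbedding_subtypeVal.prespectralSpace
    haveI : QuasiSeparatedSpace ↥(Set.range (Points.ofPt a')) := ho.isOpenEmbedding_subtypeVal.quasiSeparatedSpace
    have h1 := (h.preimage_of_isOpenEmbedding ho.isOpenEmbedding_subtypeVal).isConstructible.preimage
      hsp.continuous fun s hs hs' => by
        exact (QuasiSeparatedSpace.isRetrocompact_iff_isCompact (hs.preimage hsp.continuous)).2
          (hs'.isCompact.preimage_of_isOpen hsp hs)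
    have e : (Subtype.val ⁻¹' (Points.ofPt a ⁻¹' E) : Set ↥(W : Set U.left)) = Points.ofPt a' ⁻¹' E := by
      ext w
      show Points.ofPt a (W.ι w) ∈ E ↔ Points.ofPt a' w ∈ E
      rw [show Points.ofPt a' w = Points.ofPt a (W.ι w) from ofPt_comp _ _ _]
    exact e ▸ h1

end Groth.Agent.AlgSpDec
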