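import Groth.Agent.AlgSpDec.DiagPieces
import Groth.Agent.AlgSpDec.RedInduced

/-!
A closed subspace covered by finitely many proper closed subspaces is proper.
-/

set_option backward.isDefEq.respectTransparency false
set_option backward.isDefEq.respectTransparency.types false

universe u

open CategoryTheory CategoryTheory.Limits AlgebraicGeometry AlgSp Groth.Agent.AlgSpLib Groth.Agent.AlgSpPts Topology

namespace Groth.Agent.AlgSpDec.ProperUnion

variable {S : Scheme.{u}}

theorem univClosed_of_finite_surjective {F G : Sp S} (f : F ⟶ G) {n : ℕ} (Fk : Fin n → Sp S) (w : ∀ k, Fk k ⟶ F)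
    (hs : ∀ x, ∃ k z, Points.map (w k) z = x) (h : ∀ k, IsUnivClosedMor (w k ≫ f)) : IsUnivClosedMor f := by
  intro Z Z' hZ g fst snd sq A hA
  let m : ∀ k, pullback (w k) fst ⟶ Z' := fun k => pullback.snd (w k) fst
  have hsq : ∀ k, IsPullback (pullback.fst (w k) fst) (m k ≫ snd) (w k ≫ f) g := fun k =>
    (IsPullback.of_hasPullback (w k) fst).paste_vert sq
  have e : Points.map snd '' A = ⋃ k, Points.map (m k ≫ snd) '' (Points.map (m k) ⁻¹' A) := by
    ext t
    constructor
    · rintro ⟨z, hz, rfl⟩
      obtain ⟨k, x, hx⟩ := hs (Points.map fst z)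
      obtain ⟨p, -, hp⟩ := exists_point_of_isPullback (IsPullback.of_hasPullback (w k) fst) hx
      exact Set.mem_iUnion.2 ⟨k, p, show Points.map (m k) p ∈ A from hp.symm ▸ hz, by rw [Points.map_comp, hp]⟩
    · intro ht
      obtain ⟨k, p, hp, rfl⟩ := Set.mem_iUnion.1 ht
      exact ⟨_, hp, (Points.map_comp _ _ _).symm⟩
  rw [e]
  exact isClosed_iUnion_of_finite fun k => h k hZ g _ _ (hsq k) _ (hA.preimage (Points.continuous_map (m k)))

theorem exists_proper_union {X Y : Space S} (f : X ⟶ Y) (hf : LocP @LocallyOfFiniteType f.hom) {n : ℕ}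
    (Z : Fin n → Space S) (i : ∀ k, Z k ⟶ X) (hi : ∀ k, RepWith @IsClosedImmersion (i k).hom)
    (hZ : ∀ k, IsProperMor (i k ≫ f).hom) :
    ∃ (W : Space S) (j : W ⟶ X), RepWith @IsClosedImmersion j.hom ∧
      Set.range (Points.map j.hom) = ⋃ k, Set.range (Points.map (i k).hom) ∧ IsProperMor (j ≫ f).hom := by
  have huc : ∀ {A B : Sp S} (e : A ⟶ B), RepWith @IsClosedImmersion e → IsUnivClosedMor e := fun e he =>
    isUnivClosedMor_of_repWith_universallyClosed
      (repWith_mono (fun A B p (_ : IsClosedImmersion p) => inferInstanceAs (UniversallyClosed p)) _ he)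
  have hT : IsClosed (⋃ k, Set.range (Points.map (i k).hom)) := isClosed_iUnion_of_finite fun k =>
    (isClosedMap_map (repWith_mono (fun _ _ e (_ : IsClosedImmersion e) => inferInstanceAs (UniversallyClosed e)) _
      (hi k))).isClosed_range
  obtain ⟨W, j, hj, hjr, -⟩ := exists_reduced_induced X.property hT
  refine ⟨W, ObjectProperty.homMk j, hj, hjr, ?_⟩
  show IsProperMor (j ≫ f.hom)
  let F : Fin n → Sp S := fun k => pullback (i k).hom j
  have hF : ∀ k, IsAlgSpace (F k) := fun k => isAlgSpace_pullback (Z k).property W.property X.property _ _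
  let w : ∀ k, F k ⟶ W.obj := fun k => pullback.snd (i k).hom j
  have hw : ∀ k, RepWith @IsClosedImmersion (w k) := fun k =>
    repWith_of_isPullback (IsPullback.of_hasPullback (i k).hom j) (hi k)
  have hs : ∀ x, ∃ k z, Points.map (w k) z = x := fun x => by
    obtain ⟨k, z, hz⟩ := Set.mem_iUnion.1 (hjr.subset ⟨x, rfl⟩)
    obtain ⟨p, -, hp⟩ := exists_point_of_isPullback (IsPullback.of_hasPullback (i k).hom j) hz
    exact ⟨k, p, hp⟩
  have hFp : ∀ k, IsProperMor (w k ≫ j ≫ f.hom) := fun k => by
    have := isProperMor_comp (hF k) (Z k).property Y.property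
      (isProperMor_of_closedImmersion (repWith_of_isPullback (IsPullback.of_hasPullback (i k).hom j).flip hj)) (hZ k)
    convert this using 1
    show _ = pullback.fst (i k).hom j ≫ (i k).hom ≫ f.hom
    rw [← Category.assoc (pullback.fst (i k).hom j), pullback.condition, Category.assoc]
  have huc' : IsUnivClosedMor (j ≫ f.hom) :=
    univClosed_of_finite_surjective _ F w hs fun k => (hFp k).2.2
  refine ⟨DiagPieces.isSeparatedMor_of_univClosed_diag W.property Y.property
      (univClosed_of_finite_surjective _ F w hs fun k => huc _ ?_),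
    ⟨locP_comp W.property X.property Y.property (isProperMor_of_closedImmersion hj).2.1.1 hf,
      isQuasiCompactMor_of_univClosed W.property Y.property huc'⟩, huc'⟩
  have : (RepWith (S := S) @IsClosedImmersion).IsStableUnderComposition := ⟨fun _ _ => repWith_comp⟩
  have hm : RepWith @IsClosedImmersion (pullback.map (w k ≫ j ≫ f.hom) (w k ≫ j ≫ f.hom) (j ≫ f.hom) (j ≫ f.hom)
      (w k) (w k) (𝟙 Y.obj) (Category.comp_id _) (Category.comp_id _)) :=
    MorphismProperty.pullbackMap (hw k) (hw k) rfl rfl
  have := repWith_comp (hFp k).1 hm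
  convert this using 1
  apply pullback.hom_ext <;> simp

end Groth.Agent.AlgSpDec.ProperUnion
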