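import Groth.Agent.AlgSpDec.Fibres
import Groth.Agent.AlgSpDec.Basic
import Groth.Agent.AlgSpDec.EtCompact
import Mathlib.RingTheory.Ideal.KrullsHeightTheorem
import Mathlib.Topology.JacobsonSpace
import Mathlib.Topology.Spectral.Basic

/-!
# Proper generizations of a point of a decent locally Noetherian space
-/

set_option autoImplicit false
set_option backward.isDefEq.respectTransparency false
set_option backward.isDefEq.respectTransparency.types false

universe u

open CategoryTheory Limits Opposite AlgebraicGeometry AlgSp Topology TopologicalSpace Groth.Agent.AlgSpLib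

namespace Groth.Agent.AlgSpDec.Punctured

/-- Between two primes at distance at least two there is a prime avoiding a given element. -/
theorem exists_prime_between {A : Type*} [CommRing A] [IsNoetherianRing A] {p q m : Ideal A} [p.IsPrime] [q.IsPrime]
    [m.IsPrime] (hpq : p < q) (hqm : q < m) {f : A} (hf : f ∉ p) :
    ∃ P : Ideal A, P.IsPrime ∧ p < P ∧ P < m ∧ f ∉ P := by
  by_cases hfq : f ∉ q
  · exact ⟨q, inferInstance, hpq, hqm, hfq⟩
  rw [not_not] at hfq
  let π := Ideal.Quotient.mk p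
  have hmap : ∀ {I : Ideal A}, p ≤ I → (I.map π).comap π = I := fun {I} h => by
    rw [Ideal.comap_map_of_surjective _ Ideal.Quotient.mk_surjective, ← RingHom.ker_eq_comap_bot, Ideal.mk_ker]
    exact sup_eq_left.2 h
  have hprime : ∀ {I : Ideal A} [I.IsPrime], p ≤ I → (I.map π).IsPrime := fun {I} _ h =>
    Ideal.map_isPrime_of_surjective Ideal.Quotient.mk_surjective (by rw [Ideal.mk_ker]; exact h)
  have hm' := hprime (I := m) (hpq.trans hqm).le
  have hq' := hprime (I := q) hpq.le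
  have hlt : q.map π < m.map π := lt_of_le_of_ne (Ideal.map_mono hqm.le) fun h => hqm.ne (by
    rw [← hmap hpq.le, h, hmap (hpq.trans hqm).le])
  have hq0 : q.map π ≠ ⊥ := fun h => hpq.ne (by
    rw [← hmap hpq.le, h, ← RingHom.ker_eq_comap_bot, Ideal.mk_ker])
  suffices ∃ P : Ideal (A ⧸ p), P.IsPrime ∧ P ≠ ⊥ ∧ P < m.map π ∧ π f ∉ P by
    obtain ⟨P, hP, hP0, hPm, hfP⟩ := this
    refine ⟨P.comap π, hP.comap π, lt_of_le_of_ne (fun r hr => by show π r ∈ P; rw [Ideal.Quotient.eq_zero_iff_mem.2 hr]; exact P.zero_mem)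
      fun h => hP0 ?_, lt_of_le_of_ne ((Ideal.comap_mono hPm.le).trans_eq (hmap (hpq.trans hqm).le)) fun h => hPm.ne ?_, hfP⟩
    · rw [← Ideal.map_comap_of_surjective π Ideal.Quotient.mk_surjective P, ← h, Ideal.map_quotient_self]
    · rw [← Ideal.map_comap_of_surjective π Ideal.Quotient.mk_surjective P, h]
  have hf0 : π f ≠ 0 := fun h => hf (Ideal.Quotient.eq_zero_iff_mem.1 h)
  have h2 : ∀ P : Ideal (A ⧸ p), P.IsPrime → P.height ≤ 1 → ∀ Q : Ideal (A ⧸ p), Q.IsPrime → Q ≤ P → Q ≠ ⊥ → Q = P := by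
    intro P _ hP Q _ hQP hQ0
    by_contra hne
    have h1 := Ideal.height_add_one_le_of_lt_of_isPrime (lt_of_le_of_ne hQP hne)
    have h3 : (1 : ℕ∞) ≤ Q.height := Order.one_le_iff_ne_zero.2 fun h => hQ0 (Ideal.height_eq_zero_iff_eq_bot.1 h)
    have := ((add_le_add_left h3 1).trans h1).trans hP
    exact absurd this (by decide)
  let T := (Ideal.span {π f}).minimalPrimes
  have hT : T.Finite := Ideal.finite_minimalPrimes_of_isNoetherianRing _ _
  have hTh : ∀ P ∈ T, P.height ≤ 1 := fun P hP => Ideal.height_le_one_of_isPrincipal_of_mem_minimalPrimes _ P hP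
  have hTf : ∀ P ∈ T, π f ∈ P := fun P hP => hP.1.2 (Ideal.mem_span_singleton_self _)
  obtain ⟨g, hgm, hg⟩ : ∃ g ∈ m.map π, ∀ P ∈ T, g ∉ P := by
    by_contra! hcon
    have hsub : (m.map π : Set (A ⧸ p)) ⊆ ⋃ P ∈ (hT.toFinset : Set (Ideal (A ⧸ p))), (P : Set (A ⧸ p)) := fun g hg => by
      obtain ⟨P, hP, hgP⟩ := hcon g hg
      exact Set.mem_iUnion₂.2 ⟨P, by simpa using hP, hgP⟩
    obtain ⟨P, hP, hmP⟩ := (Ideal.subset_union_prime ⊥ ⊥ fun P hP _ _ => (hT.mem_toFinset.1 hP).1.1).1 hsub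
    have hPT : P ∈ T := hT.mem_toFinset.1 hP
    have : P.IsPrime := hPT.1.1
    exact (hlt.trans_le hmP).ne (h2 P this (hTh P hPT) _ hq' (hlt.le.trans hmP) hq0)
  have hg0 : g ≠ 0 := by
    obtain ⟨P, hP, -⟩ := Ideal.exists_minimalPrimes_le (I := Ideal.span {π f}) (J := m.map π)
      ((Ideal.span_singleton_le_iff_mem _).2 (hlt.le (Ideal.mem_map_of_mem π hfq)))
    intro h
    exact hg P hP (h ▸ P.zero_mem)
  obtain ⟨P, hP, hPm⟩ := Ideal.exists_minimalPrimes_le (I := Ideal.span {g}) (J := m.map π)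
    ((Ideal.span_singleton_le_iff_mem _).2 hgm)
  have hPp : P.IsPrime := hP.1.1
  have hgP : g ∈ P := hP.1.2 (Ideal.mem_span_singleton_self g)
  have hPh := Ideal.height_le_one_of_isPrincipal_of_mem_minimalPrimes _ P hP
  refine ⟨P, hPp, fun h => hg0 (by simpa [h] using hgP), lt_of_le_of_ne hPm ?_, fun hfP => ?_⟩
  · rintro rfl
    exact hlt.ne (h2 _ hPp hPh _ hq' hlt.le hq0)
  · obtain ⟨Q, hQ, hQP⟩ := Ideal.exists_minimalPrimes_le (I := Ideal.span {π f}) (J := P)
      ((Ideal.span_singleton_le_iff_mem _).2 hfP)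
    have := h2 P hPp hPh Q hQ.1.1 hQP (fun h => hf0 (by simpa [h] using hTf Q hQ))
    exact hg Q hQ (this ▸ hgP)

variable {S : Scheme.{u}}

theorem properties (X : Space S) (hd : IsDecent X.obj) (hN : IsLocNoethSp X.obj) (x : Points X.obj) :
    NoetherianSpace {x' : Points X.obj // x' ⤳ x ∧ x' ≠ x} ∧
      SpectralSpace {x' : Points X.obj // x' ⤳ x ∧ x' ≠ x} ∧
      QuasiSober {x' : Points X.obj // x' ⤳ x ∧ x' ≠ x} ∧
      JacobsonSpace {x' : Points X.obj // x' ⤳ x ∧ x' ≠ x} := by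
  let W := {x' : Points X.obj // x' ⤳ x ∧ x' ≠ x}
  obtain ⟨U, a, u, hU, ha, rfl⟩ := exists_affine_chart_at X.property x
  have hT := t0Space_points X.property hd
  have hS := quasiSober_points X.property hd
  haveI := isLocallyNoetherian_chart ha hN
  haveI : CompactSpace ↥U.left := inferInstance
  haveI : IsNoetherian U.left := {}
  haveI : NoetherianSpace ↥U.left := inferInstance
  have hlift : ∀ w : W, ∃ v, v ⤳ u ∧ Points.ofPt a v = w.1 := fun w => exists_specializes_lift_of_isDecent hd ha w.2.1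
  let U' := {v : ↥U.left // Points.ofPt a v ⤳ Points.ofPt a u ∧ Points.ofPt a v ≠ Points.ofPt a u}
  let π : U' → W := fun v => ⟨Points.ofPt a v.1, v.2⟩
  have hN' : NoetherianSpace W := by
    haveI : NoetherianSpace U' := NoetherianSpace.set (α := ↥U.left) _
    refine noetherianSpace_of_surjective π
      ((Points.continuous_ofPt a).comp continuous_subtype_val |>.subtype_mk _) fun w => ?_
    obtain ⟨v, hv, hva⟩ := hlift w
    exact ⟨⟨v, by rw [hva]; exact w.2⟩, Subtype.ext hva⟩
  haveI := hN'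
  haveI hT' : T0Space W := Subtype.t0Space
  have hQ : QuasiSober W := ⟨fun {Z} hZ hZc => by
    have h1 : IsIrreducible (closure (Subtype.val '' Z)) := (hZ.image _ continuous_subtype_val.continuousOn).closure
    obtain ⟨ξ, hξ⟩ := QuasiSober.sober h1 isClosed_closure
    obtain ⟨z, hz⟩ := hZ.nonempty
    have hsp : ξ ⤳ z.1 := hξ.specializes (subset_closure ⟨z, hz, rfl⟩)
    have hξx : ξ ≠ Points.ofPt a u := by
      rintro rfl
      exact z.2.2 ((z.2.1.antisymm hsp).eq)
    refine ⟨⟨ξ, hsp.trans z.2.1, hξx⟩, ?_⟩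
    have hcl : closure (Subtype.val '' Z) = closure {ξ} := hξ.def.symm
    show closure {_} = Z
    rw [IsInducing.subtypeVal.closure_eq_preimage_closure_image, Set.image_singleton, ← hcl]
    exact (IsInducing.subtypeVal.closure_eq_preimage_closure_image Z).symm.trans hZc.closure_eq⟩
  haveI := hQ
  refine ⟨hN', {}, hQ, ?_⟩
  have key : ∀ (w : W) (O : Set (Points X.obj)), IsOpen O → w.1 ∈ O →
      (∀ v : W, v.1 ∈ O → w ⤳ v → v = w) → ∀ v : W, w ⤳ v → v = w := by
    intro w O hO hwO hmax v hwv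
    by_contra hne
    have hwv' : w.1 ⤳ v.1 := hwv.map continuous_subtype_val
    obtain ⟨v', hv'u, hv'⟩ := hlift v
    obtain ⟨w', hw'v, hw'⟩ := exists_specializes_lift_of_isDecent hd ha (u := v') (hv'.symm ▸ hwv')
    let φ := Scheme.homeoOfIso U.left.isoSpec
    haveI : IsNoetherianRing Γ(U.left, ⊤) := IsLocallyNoetherian.component_noetherian ⟨⊤, isAffineOpen_top U.left⟩
    have hlt : ∀ {y z : ↥U.left}, y ⤳ z → y ≠ z → (φ y).asIdeal < (φ z).asIdeal := fun {y z} h hne =>
      lt_of_le_of_ne ((PrimeSpectrum.le_iff_specializes _ _).2 (h.map φ.continuous))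
        fun e => hne (φ.injective (PrimeSpectrum.ext e))
    have h1 := hlt hw'v (fun e => hne (Subtype.ext (hv'.symm.trans ((congrArg _ e.symm).trans hw'))))
    have h2 := hlt hv'u (fun e => v.2.2 (hv'.symm.trans (congrArg _ e)))
    obtain ⟨_, ⟨f, rfl⟩, hfw, hfO⟩ := PrimeSpectrum.isTopologicalBasis_basic_opens.exists_subset_of_mem_open
      (show φ w' ∈ φ.symm ⁻¹' (Points.ofPt a ⁻¹' O) by simpa [hw'] using hwO)
      ((hO.preimage (Points.continuous_ofPt a)).preimage φ.symm.continuous)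
    obtain ⟨P, hP, hpP, hPm, hfP⟩ := exists_prime_between h1 h2 hfw
    let z := φ.symm ⟨P, hP⟩
    have hz : φ z = ⟨P, hP⟩ := φ.apply_symm_apply _
    have hzu : z ⤳ u := by
      rw [← φ.isInducing.specializes_iff, ← PrimeSpectrum.le_iff_specializes, hz]; exact hPm.le
    have hwz : w' ⤳ z := by
      rw [← φ.isInducing.specializes_iff, ← PrimeSpectrum.le_iff_specializes, hz]; exact hpP.le
    have hzx : Points.ofPt a z ≠ Points.ofPt a u := fun e =>
      hPm.ne (by rw [eq_of_specializes_of_isDecent hd ha e.symm hzu, hz])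
    have hzO : Points.ofPt a z ∈ O := hfO (show (⟨P, hP⟩ : PrimeSpectrum _) ∈ PrimeSpectrum.basicOpen f from hfP)
    have := hmax ⟨_, hzu.map (Points.continuous_ofPt a), hzx⟩ hzO
      ((subtype_specializes_iff _ _).2 (hw' ▸ hwz.map (Points.continuous_ofPt a)))
    have e : Points.ofPt a z = Points.ofPt a w' := (congrArg Subtype.val this).trans hw'.symm
    exact hpP.ne (by rw [← eq_of_specializes_of_isDecent hd ha e hwz, hz])
  rw [jacobsonSpace_iff_locallyClosed]
  intro Z hZne hZ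
  obtain ⟨O', C, hO', hC, rfl⟩ := hZ
  obtain ⟨O, hO, rfl⟩ := isOpen_induced_iff.1 hO'
  obtain ⟨w, ⟨hwO, hwC⟩, hmin⟩ := (InvImage.wf (fun w : W => (⟨closure {w}, isClosed_closure⟩ : Closeds W))
    wellFounded_lt).has_min _ hZne
  refine ⟨w, ⟨hwO, hwC⟩, ?_⟩
  show IsClosed {w}
  refine closure_subset_iff_isClosed.1 fun v hv => key w O hO hwO (fun v' hv'O hwv' => ?_) v
    (specializes_iff_mem_closure.2 hv)
  by_contra hne
  refine hmin v' ⟨hv'O, hC.closure_subset_iff.2 (Set.singleton_subset_iff.2 hwC) (specializes_iff_mem_closure.1 hwv')⟩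
    (show (⟨closure {v'}, isClosed_closure⟩ : Closeds W) < ⟨closure {w}, isClosed_closure⟩ from ?_)
  refine lt_of_le_of_ne (closure_minimal (Set.singleton_subset_iff.2 (specializes_iff_mem_closure.1 hwv')) isClosed_closure)
    fun e => hne ?_
  have e' : closure {v'} = closure ({w} : Set W) := congrArg (fun c : Closeds W => (c : Set W)) e
  exact (((specializes_iff_mem_closure.2 (e' ▸ subset_closure (Set.mem_singleton w))).antisymm hwv').eq)

end Groth.Agent.AlgSpDec.Punctured
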