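import Groth.Agent.AlgSpDec.EtPushClosedFull
import Groth.Agent.AlgSpDec.EtSite
import Groth.Agent.AlgSpPts.Imm
import Mathlib.CategoryTheory.Sites.DenseSubsite.InducedTopology

/-!
# The essential image of direct image along universal embeddings

A sheaf on the etale site of `X` is a direct image from `Z` exactly when it is a sheaf for the topology
induced by base change, and this amounts to the values on the objects with empty base change being
singletons.
-/

set_option backward.isDefEq.respectTransparency false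
set_option backward.isDefEq.respectTransparency.types false
set_option autoImplicit false

universe v' u' u

open CategoryTheory CategoryTheory.Limits AlgebraicGeometry Opposite AlgSp Groth.Agent.AlgSpLib

namespace Groth.Agent.AlgSpDec.PushEmb

variable {S : Scheme.{u}} {Z X : Sp S} {i : Z ⟶ X} (hf : Representable i)

theorem exists_arrow_of_mem {E : EtOver X} (R : Sieve E) (hR : R ∈ etTop X E) (x : ↥E.obj.left.left) :
    ∃ (Y : EtOver X) (g : Y ⟶ E), R g ∧ x ∈ Set.range g.hom.left.left := by
  obtain ⟨P, hP, hPR⟩ := (etPre X).mem_toGrothendieck_iff_of_isStableUnderComposition.1 hR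
  obtain ⟨ι, Y, g, rfl⟩ := P.exists_eq_ofArrows
  obtain ⟨j, hj⟩ := (ofArrows_mem_etPre_iff Y g).1 hP x
  exact ⟨Y j, g j, hPR _ _ (Presieve.ofArrows.mk j), hj⟩

/-- Morphisms of etale schemes that agree after base change agree on an open containing the image. -/
theorem isLocallyFaithful : (EtOver.bc hf).IsLocallyFaithful (etTop Z) where
  functorPushforward_equalizer_mem {U V} f₁ f₂ e := by
    have sq := U.property.rep.isPullback' V.obj.hom
    let p₀ := U.property.rep.fst' V.obj.hom
    let q₀ := U.property.rep.snd V.obj.hom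
    have hp₀ : Etale p₀.left := V.property.property _ _ _ sq.flip
    let sec : ∀ f : U ⟶ V, ∃ s : U.obj.left ⟶ _, s ≫ p₀ = 𝟙 _ ∧ s ≫ q₀ = f.hom.left := fun f => by
      obtain ⟨l₀, hl₁, hl₂⟩ := sq.exists_lift ((yon S).map (𝟙 U.obj.left)) ((yon S).map f.hom.left) (by
        erw [(yon S).map_id, Category.id_comp]
        exact (EtOver.w f).symm)
      obtain ⟨l, rfl⟩ := (yon S).map_surjective l₀
      rw [← Functor.map_comp] at hl₁ hl₂
      exact ⟨l, (yon S).map_injective hl₁, (yon S).map_injective hl₂⟩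
    obtain ⟨s₁, hs₁, hs₁'⟩ := sec f₁
    obtain ⟨s₂, hs₂, hs₂'⟩ := sec f₂
    have hsp : s₂.left ≫ p₀.left = 𝟙 _ := congrArg CommaMorphism.left hs₂
    have : Etale s₂.left := by
      refine MorphismProperty.HasOfPostcompProperty.of_postcomp (W := @Etale) s₂.left p₀.left hp₀ ?_
      rw [hsp]
      infer_instance
    have : IsSplitMono s₂.left := ⟨⟨⟨_, hsp⟩⟩⟩
    have : IsOpenImmersion s₂.left := IsOpenImmersion.of_flat_of_mono _
    let O : U.obj.left.left.Opens := s₁.left ⁻¹ᵁ s₂.left.opensRange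
    let o : etOpen U O ⟶ U := etOpenι U O
    let ι₀ : (etOpen U O).obj.left ⟶ U.obj.left := o.hom.left
    let h : (etOpen U O).obj.left.left ⟶ U.obj.left.left := IsOpenImmersion.lift s₂.left (ι₀.left ≫ s₁.left) (by
      rintro _ ⟨y, rfl⟩
      have : ι₀.left y ∈ (O : Set ↥U.obj.left.left) := (range_etOpenι U O).le ⟨y, rfl⟩
      exact this)
    have hh : h ≫ s₂.left = ι₀.left ≫ s₁.left := IsOpenImmersion.lift_fac _ _ _
    have hι : h = ι₀.left := by
      have := congrArg (· ≫ p₀.left) hh
      simp only [Category.assoc] at this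
      rw [hsp, show s₁.left ≫ p₀.left = 𝟙 _ from congrArg CommaMorphism.left hs₁] at this
      exact (Category.comp_id h).symm.trans (this.trans (Category.comp_id _))
    have hιs : ι₀ ≫ s₂ = ι₀ ≫ s₁ := Over.OverMorphism.ext (by rw [Over.comp_left, Over.comp_left, ← hh, hι])
    have hoeq : o ≫ f₁ = o ≫ f₂ := EtOver.hom_ext _ _ (by
      show ι₀ ≫ f₁.hom.left = ι₀ ≫ f₂.hom.left
      rw [← hs₁', ← hs₂', ← Category.assoc, ← Category.assoc, hιs])
    let π := hf.snd U.obj.hom
    have hπs : π ≫ s₁ = π ≫ s₂ := by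
      refine (yon S).map_injective (sq.hom_ext ?_ ?_) <;> rw [← Functor.map_comp, ← Functor.map_comp] <;>
        congr 1 <;> rw [Category.assoc, Category.assoc]
      · rw [hs₁, hs₂]
      · rw [hs₁', hs₂', ← EtOver.bcMap_snd hf f₁, ← EtOver.bcMap_snd hf f₂]
        exact congrArg (fun k : (EtOver.bc hf).obj U ⟶ _ => k.hom.left ≫ hf.snd V.obj.hom) e
    refine GrothendieckTopology.superset_covering _ ?_
      (ofArrows_mem_etTop (fun _ : PUnit.{u + 1} => (EtOver.bc hf).obj (etOpen U O))
        (fun _ => (EtOver.bc hf).map o) fun x => ?_)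
    · rintro Y k hk
      obtain ⟨_, k', rfl⟩ := (Sieve.mem_ofArrows_iff _ _ k).1 hk
      exact Sieve.downward_closed _ (Sieve.image_mem_functorPushforward _ _ hoeq) k'
    · have hsq := EtOver.isPullback_bcMap_left hf o
      have hx : π.left x ∈ Set.range ι₀.left := by
        refine (range_etOpenι U O).ge ?_
        refine ⟨π.left x, ?_⟩
        rw [← Scheme.Hom.comp_apply, ← Scheme.Hom.comp_apply, ← Over.comp_left, ← Over.comp_left, hπs]
      obtain ⟨z, hz⟩ := hx
      obtain ⟨y, hy, -⟩ := Scheme.exists_preimage_of_isPullback hsq x z hz.symm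
      exact ⟨⟨⟩, y, hy⟩

/-- An etale scheme misses the image of `i` exactly when its base change is empty. -/
theorem disjoint_iff_isEmpty (E : EtOver X) :
    Disjoint (Set.range (Points.map E.obj.hom)) (Set.range (Points.map i)) ↔
      IsEmpty ↥((EtOver.bc hf).obj E).obj.left.left := by
  have hr := Groth.Agent.AlgSpPts.range_preimage (hf.isPullback E.obj.hom)
  constructor
  · intro hd
    refine ⟨fun y => ?_⟩
    have hy : (hf.snd E.obj.hom).left y ∈ Set.range (hf.snd E.obj.hom).left := ⟨y, rfl⟩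
    rw [← hr] at hy
    refine Set.disjoint_left.1 hd ?_ hy
    exact ⟨Points.ofScheme _ ((hf.snd E.obj.hom).left y), (Points.ofPt_eq_map_ofScheme _ _).symm⟩
  · intro he
    refine Set.disjoint_left.2 fun x hx hx' => ?_
    obtain ⟨q, rfl⟩ := hx
    obtain ⟨t, rfl⟩ := (Points.schemeEquiv E.obj.left).surjective q
    have ht : t ∈ Points.ofPt E.obj.hom ⁻¹' Set.range (Points.map i) := by
      rw [Set.mem_preimage, Points.ofPt_eq_map_ofScheme]
      exact hx'
    rw [hr] at ht
    obtain ⟨y, -⟩ := ht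
    exact he.false y

theorem isEmpty_bc_of_hom {E E' : EtOver X} (g : E' ⟶ E) (h : IsEmpty ↥((EtOver.bc hf).obj E).obj.left.left) :
    IsEmpty ↥((EtOver.bc hf).obj E').obj.left.left :=
  ⟨fun y => h.false (((EtOver.bc hf).map g).hom.left.left y)⟩

section Induced

variable [(EtOver.bc hf).IsCoverDense (etTop Z)] [(EtOver.bc hf).IsLocallyFull (etTop Z)]
  [(EtOver.bc hf).IsLocallyFaithful (etTop Z)]

theorem unique_of_isSheaf {P : (EtOver X)ᵒᵖ ⥤ Type (u + 1)}
    (hP : Presieve.IsSheaf ((EtOver.bc hf).inducedTopology (etTop Z)) P) (E : EtOver X)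
    (he : IsEmpty ↥((EtOver.bc hf).obj E).obj.left.left) : Nonempty (Unique (P.obj (op E))) := by
  have hmem : (⊥ : Sieve E) ∈ (EtOver.bc hf).inducedTopology (etTop Z) E := by
    rw [Functor.mem_inducedTopology_iff_of_isCoverDense]
    refine GrothendieckTopology.superset_covering _ ?_
      (ofArrows_mem_etTop (fun i : PEmpty.{u + 1} => (EtOver.bc hf).obj E) (fun i => i.elim) fun x => he.elim x)
    intro Y k hk
    obtain ⟨j, -⟩ := (Sieve.mem_ofArrows_iff _ _ k).1 hk
    exact j.elim
  obtain ⟨t, -, ht⟩ := hP ⊥ hmem (fun Y f hk => False.elim hk) (fun Y₁ Y₂ W g₁ g₂ f₁ f₂ h₁ => False.elim h₁)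
  exact ⟨⟨⟨t⟩, fun a => ht a fun Y f hk => False.elim hk⟩⟩

theorem isSheaf_of_unique {P : (EtOver X)ᵒᵖ ⥤ Type (u + 1)} (hP : Presieve.IsSheaf (etTop X) P)
    (hC : ∀ E : EtOver X, IsClosed (Set.range (hf.snd E.obj.hom).left))
    (hU : ∀ E : EtOver X, IsEmpty ↥((EtOver.bc hf).obj E).obj.left.left → Nonempty (Unique (P.obj (op E)))) :
    Presieve.IsSheaf ((EtOver.bc hf).inducedTopology (etTop Z)) P := by
  intro E R hR
  rw [Functor.mem_inducedTopology_iff_of_isCoverDense] at hR
  let R' : Sieve E :=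
    { arrows := fun Y k => R k ∨ IsEmpty ↥((EtOver.bc hf).obj Y).obj.left.left
      downward_closed := fun hk g => hk.imp (fun h => R.downward_closed h g) (isEmpty_bc_of_hom hf g) }
  have hR' : R' ∈ etTop X E := by
    let O : E.obj.left.left.Opens := ⟨_, (hC E).isOpen_compl⟩
    have key : ∀ x : ↥E.obj.left.left, ∃ (Y : EtOver X) (k : Y ⟶ E), R' k ∧ x ∈ Set.range k.hom.left.left := by
      intro x
      by_cases hx : x ∈ Set.range (hf.snd E.obj.hom).left
      · obtain ⟨y, rfl⟩ := hx
        obtain ⟨W, g, hg, w, hw⟩ := exists_arrow_of_mem _ hR y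
        obtain ⟨Y, r, h, hr, rfl⟩ := hg
        refine ⟨Y, r, Or.inl hr, (hf.snd Y.obj.hom).left (h.hom.left.left w), ?_⟩
        rw [← hw]
        exact (congrArg (fun k => k.left (h.hom.left.left w)) (EtOver.bcMap_snd hf r)).symm
      · refine ⟨etOpen E O, etOpenι E O, Or.inr ⟨fun y => ?_⟩, (range_etOpenι E O).ge hx⟩
        have h₂ := (EtOver.isPullback_bcMap_left hf (etOpenι E O)).w
        have hmem : (etOpenι E O).hom.left.left ((hf.snd (etOpen E O).obj.hom).left y) ∈ (O : Set _) :=
          (range_etOpenι E O).le ⟨_, rfl⟩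
        exact hmem ⟨_, congrArg (fun k => k y) h₂⟩
    choose Y k hk hx using key
    refine GrothendieckTopology.superset_covering _ ?_ (ofArrows_mem_etTop Y k fun x => ⟨x, hx x⟩)
    intro W g hg
    obtain ⟨j, g', rfl⟩ := (Sieve.mem_ofArrows_iff _ _ g).1 hg
    exact R'.downward_closed (hk j) g'
  intro x hx
  classical
  let x' : Presieve.FamilyOfElements P R'.arrows := fun Y k hk =>
    if h : R k then x k h else (hU Y (hk.resolve_left h)).some.default
  have hsub : ∀ Y, IsEmpty ↥((EtOver.bc hf).obj Y).obj.left.left → Subsingleton (P.obj (op Y)) :=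
    fun Y h => have := (hU Y h).some; inferInstance
  have hx' : x'.Compatible := by
    intro Y₁ Y₂ W g₁ g₂ k₁ k₂ h₁ h₂ e
    by_cases hW : IsEmpty ↥((EtOver.bc hf).obj W).obj.left.left
    · exact (hsub W hW).elim _ _
    · have hk₁ : R k₁ := h₁.resolve_right fun h => hW (isEmpty_bc_of_hom hf g₁ h)
      have hk₂ : R k₂ := h₂.resolve_right fun h => hW (isEmpty_bc_of_hom hf g₂ h)
      simp only [x', dif_pos hk₁, dif_pos hk₂]
      exact hx g₁ g₂ hk₁ hk₂ e
  obtain ⟨t, ht, huniq⟩ := hP R' hR' x' hx'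
  refine ⟨t, fun Y k hk => (ht k (Or.inl hk)).trans (dif_pos hk), fun a ha => huniq a fun Y k hk => ?_⟩
  by_cases h : R k
  · exact (ha k h).trans (dif_pos h).symm
  · exact (hsub Y (hk.resolve_left h)).elim _ _

variable (A : Type u') [Category.{v'} A]
  [∀ W : (EtOver Z)ᵒᵖ, HasLimitsOfShape (StructuredArrow W (EtOver.bc hf).op) A]

/-- Direct images are exactly the sheaves for the induced topology. -/
theorem essImage_iff_isSheaf (G : EtSh X A) :
    (pushEt hf A).essImage G ↔ Presheaf.IsSheaf ((EtOver.bc hf).inducedTopology (etTop Z)) G.obj := by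
  constructor
  · rintro ⟨F, ⟨e⟩⟩
    exact (Presheaf.isSheaf_of_iso_iff ((sheafToPresheaf _ _).mapIso e)).1
      ((EtOver.bc hf).op_comp_isSheaf ((EtOver.bc hf).inducedTopology (etTop Z)) (etTop Z) F)
  · intro h
    let e := (EtOver.bc hf).sheafInducedTopologyEquivOfIsCoverDense (etTop Z) A
    let G' : Sheaf ((EtOver.bc hf).inducedTopology (etTop Z)) A := ⟨G.obj, h⟩
    let t := (sheafToPresheaf _ _).mapIso (e.unitIso.app G')
    let F := e.functor.obj G'
    let t' : (sheafToPresheaf (etTop X) A).obj G ≅ (sheafToPresheaf (etTop X) A).obj ((pushEt hf A).obj F) := t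
    exact ⟨F, ⟨((sheafToPresheaf (etTop X) A).preimageIso t').symm⟩⟩

end Induced

end Groth.Agent.AlgSpDec.PushEmb
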