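import Mathlib
import Groth.Agent.RingPO.ChartPushout
import Groth.Agent.RingPO.Sep

/-!
# Glueing etale morphisms over a pushout along a closed immersion
-/

universe u

open CategoryTheory Limits AlgebraicGeometry TensorProduct

namespace RingPO

variable {X Y Z P X' Y' Z' P' : Scheme.{u}} {i : Z ⟶ X} [IsClosedImmersion i] {j : Z ⟶ Y} [IsAffineHom j]
  {a : X ⟶ P} {b : Y ⟶ P} [IsAffineHom a] [IsAffineHom b]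
  {i' : Z' ⟶ X'} [IsClosedImmersion i'] {j' : Z' ⟶ Y'} [IsAffineHom j'] {a' : X' ⟶ P'} {b' : Y' ⟶ P'}
  [IsAffineHom a'] [IsAffineHom b'] {f : X' ⟶ X} {g : Y' ⟶ Y} {c : Z' ⟶ Z} {h : P' ⟶ P}

/-- Etale schemes over the pieces glue to an etale scheme over the pushout with cartesian squares. -/
theorem etale_glue (hP : IsPushout i j a b) (hcP : ∀ y : Y, ∃ k : Chart i j, y ∈ k.V) (hP' : IsPushout i' j' a' b')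
    (hcP' : ∀ y : Y', ∃ k : Chart i' j', y ∈ k.V) (hX : IsPullback i' c f i) (hY : IsPullback j' c g j)
    (ha : a' ≫ h = f ≫ a) (hb : b' ≫ h = g ≫ b) [Etale f] [Etale g] :
    Etale h ∧ IsPullback f a' a h ∧ IsPullback g b' b h := by
  let ι := { p : P.affineOpens × P'.affineOpens // p.2.1 ≤ h ⁻¹ᵁ p.1.1 }
  have e₁ : ∀ p : ι, a' ⁻¹ᵁ p.1.2.1 ≤ f ⁻¹ᵁ a ⁻¹ᵁ p.1.1.1 := fun p => by
    rw [← Scheme.Hom.comp_preimage, ← ha, Scheme.Hom.comp_preimage]; exact a'.preimage_mono p.2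
  have e₂ : ∀ p : ι, b' ⁻¹ᵁ p.1.2.1 ≤ g ⁻¹ᵁ b ⁻¹ᵁ p.1.1.1 := fun p => by
    rw [← Scheme.Hom.comp_preimage, ← hb, Scheme.Hom.comp_preimage]; exact b'.preimage_mono p.2
  have spec := fun p : ι => chart_spec hP hcP hP' hcP' hX hY ha hb p.1.1 p.1.2 p.2 (e₁ p) (e₂ p)
  have hcov : ∀ x, ∃ p : ι, x ∈ p.1.2.1 := by
    intro x
    obtain ⟨U, hU, hxU, -⟩ := exists_isAffineOpen_mem_and_subset (x := h x) (U := (⊤ : P.Opens)) (by simp)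
    obtain ⟨U', hU', hxU', hle⟩ := exists_isAffineOpen_mem_and_subset (x := x) (U := h ⁻¹ᵁ U) hxU
    exact ⟨⟨(⟨U, hU⟩, ⟨U', hU'⟩), hle⟩, hxU'⟩
  have hcov' : ∀ x, ∃ p : ι, x ∈ Set.range p.1.2.2.fromSpec := fun x => by
    obtain ⟨p, hp⟩ := hcov x
    exact ⟨p, by rw [p.1.2.2.range_fromSpec]; exact hp⟩
  haveI hopen : ∀ p : ι, IsOpenImmersion p.1.2.2.fromSpec := fun p => IsAffineOpen.isOpenImmersion_fromSpec p.1.2.2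
  refine ⟨?_, ?_, ?_⟩
  · refine (HasRingHomProperty.iff_exists_appLE (P := @Etale)
      (fun R S T _ _ _ _ r _ φ hφ => RingHom.Etale.stableUnderComposition _ _
        (RingHom.etale_algebraMap.2 (Algebra.Etale.of_isLocalizationAway r)) hφ)).mpr fun x => ?_
    obtain ⟨p, hp⟩ := hcov x
    obtain ⟨⟨U, U'⟩, e⟩ := p
    refine ⟨U, U', hp, e, ?_⟩
    set c₀ := chartOver hP U.2
    have hF := isFibreProd_of_affineOpen hP hcP U.2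
    set W : Z.Opens := i ⁻¹ᵁ a ⁻¹ᵁ U.1 with hW
    have eW : W = j ⁻¹ᵁ b ⁻¹ᵁ U.1 := by
      rw [hW, ← Scheme.Hom.comp_preimage, hP.w, Scheme.Hom.comp_preimage]
    have hF2 : IsFibreProd (i.appLE (a ⁻¹ᵁ U.1) W le_rfl).hom (j.appLE (b ⁻¹ᵁ U.1) W eW.le).hom
        (a.appLE U (a ⁻¹ᵁ U.1) le_rfl).hom (b.appLE U (b ⁻¹ᵁ U.1) le_rfl).hom := hF
    have hA := (spec ⟨(U, U'), e⟩).2.1
    have hB := (spec ⟨(U, U'), e⟩).1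
    letI : Algebra Γ(P, U) Γ(Y, b ⁻¹ᵁ U.1) := (b.appLE U (b ⁻¹ᵁ U.1) le_rfl).hom.toAlgebra
    letI : Algebra Γ(P, U) Γ(X, a ⁻¹ᵁ U.1) := (a.appLE U (a ⁻¹ᵁ U.1) le_rfl).hom.toAlgebra
    letI : Algebra Γ(Y, b ⁻¹ᵁ U.1) Γ(Z, W) := (j.appLE (b ⁻¹ᵁ U.1) W eW.le).hom.toAlgebra
    letI : Algebra Γ(X, a ⁻¹ᵁ U.1) Γ(Z, W) := (i.appLE (a ⁻¹ᵁ U.1) W le_rfl).hom.toAlgebra
    letI : Algebra Γ(P, U) Γ(Z, W) :=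
      ((b.appLE U (b ⁻¹ᵁ U.1) le_rfl) ≫ (j.appLE (b ⁻¹ᵁ U.1) W eW.le)).hom.toAlgebra
    haveI : IsScalarTower Γ(P, U) Γ(Y, b ⁻¹ᵁ U.1) Γ(Z, W) := IsScalarTower.of_algebraMap_eq' rfl
    haveI : IsScalarTower Γ(P, U) Γ(X, a ⁻¹ᵁ U.1) Γ(Z, W) :=
      IsScalarTower.of_algebraMap_eq' (RingHom.ext fun z => (hF2.comm z).symm)
    letI : Algebra Γ(P, U) Γ(P', U') := (h.appLE U U' e).hom.toAlgebra
    letI : Algebra Γ(P', U') Γ(Y', b' ⁻¹ᵁ U'.1) := (b'.appLE U' (b' ⁻¹ᵁ U'.1) le_rfl).hom.toAlgebra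
    letI : Algebra Γ(P', U') Γ(X', a' ⁻¹ᵁ U'.1) := (a'.appLE U' (a' ⁻¹ᵁ U'.1) le_rfl).hom.toAlgebra
    letI : Algebra Γ(Y, b ⁻¹ᵁ U.1) Γ(Y', b' ⁻¹ᵁ U'.1) := (g.appLE (b ⁻¹ᵁ U.1) (b' ⁻¹ᵁ U'.1) (e₂ ⟨(U, U'), e⟩)).hom.toAlgebra
    letI : Algebra Γ(X, a ⁻¹ᵁ U.1) Γ(X', a' ⁻¹ᵁ U'.1) := (f.appLE (a ⁻¹ᵁ U.1) (a' ⁻¹ᵁ U'.1) (e₁ ⟨(U, U'), e⟩)).hom.toAlgebra
    letI : Algebra Γ(P, U) Γ(Y', b' ⁻¹ᵁ U'.1) :=
      ((b.appLE U (b ⁻¹ᵁ U.1) le_rfl) ≫ (g.appLE (b ⁻¹ᵁ U.1) (b' ⁻¹ᵁ U'.1) (e₂ ⟨(U, U'), e⟩))).hom.toAlgebra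
    haveI : IsScalarTower Γ(P, U) Γ(Y, b ⁻¹ᵁ U.1) Γ(Y', b' ⁻¹ᵁ U'.1) := IsScalarTower.of_algebraMap_eq' rfl
    haveI : IsScalarTower Γ(P, U) Γ(P', U') Γ(Y', b' ⁻¹ᵁ U'.1) :=
      IsScalarTower.of_algebraMap_eq' (congrArg CommRingCat.Hom.hom hB.w)
    letI : Algebra Γ(P, U) Γ(X', a' ⁻¹ᵁ U'.1) :=
      ((a.appLE U (a ⁻¹ᵁ U.1) le_rfl) ≫ (f.appLE (a ⁻¹ᵁ U.1) (a' ⁻¹ᵁ U'.1) (e₁ ⟨(U, U'), e⟩))).hom.toAlgebra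
    haveI : IsScalarTower Γ(P, U) Γ(X, a ⁻¹ᵁ U.1) Γ(X', a' ⁻¹ᵁ U'.1) := IsScalarTower.of_algebraMap_eq' rfl
    haveI : IsScalarTower Γ(P, U) Γ(P', U') Γ(X', a' ⁻¹ᵁ U'.1) :=
      IsScalarTower.of_algebraMap_eq' (congrArg CommRingCat.Hom.hom hA.w)
    haveI : Algebra.IsPushout Γ(P, U) Γ(Y, b ⁻¹ᵁ U.1) Γ(P', U') Γ(Y', b' ⁻¹ᵁ U'.1) :=
      CommRingCat.isPushout_iff_isPushout.mp hB
    haveI : Algebra.IsPushout Γ(P, U) Γ(X, a ⁻¹ᵁ U.1) Γ(P', U') Γ(X', a' ⁻¹ᵁ U'.1) :=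
      CommRingCat.isPushout_iff_isPushout.mp hA
    haveI : Algebra.Etale Γ(Y, b ⁻¹ᵁ U.1) Γ(Y', b' ⁻¹ᵁ U'.1) :=
      HasRingHomProperty.appLE @Etale g ‹_› ⟨_, U.2.preimage b⟩ ⟨_, U'.2.preimage b'⟩ (e₂ ⟨(U, U'), e⟩)
    haveI : Algebra.Etale Γ(X, a ⁻¹ᵁ U.1) Γ(X', a' ⁻¹ᵁ U'.1) :=
      HasRingHomProperty.appLE @Etale f ‹_› ⟨_, U.2.preimage a⟩ ⟨_, U'.2.preimage a'⟩ (e₁ ⟨(U, U'), e⟩)
    haveI := Algebra.Etale.of_equiv (Algebra.IsPushout.equiv Γ(P, U) Γ(Y, b ⁻¹ᵁ U.1) Γ(P', U') Γ(Y', b' ⁻¹ᵁ U'.1)).symm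
    haveI := Algebra.Etale.of_equiv (Algebra.IsPushout.equiv Γ(P, U) Γ(X, a ⁻¹ᵁ U.1) Γ(P', U') Γ(X', a' ⁻¹ᵁ U'.1)).symm
    exact Milnor.etale_of_pair (isFibreSquare_of_isFibreProd hF2) Γ(P', U')
  · refine isPullback_of_cover ha.symm (fun p : ι => Spec Γ(_, p.1.2.1))
      (fun p : ι => Spec Γ(_, a' ⁻¹ᵁ p.1.2.1)) (fun p => p.1.2.2.fromSpec) hcov'
      (fun p => (p.1.2.2.preimage a').fromSpec)
      (fun p => Spec.map (a'.appLE p.1.2 _ le_rfl)) (fun p => isPullback_fromSpec _ p.1.2.2)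
      (fun p => ?_)
    have h2 := (isPullback_SpecMap_of_isPushout _ _ _ _ (spec p).2.1).paste_horiz
      (isPullback_fromSpec a p.1.1.2)
    rwa [(p.1.1.2.preimage a).SpecMap_appLE_fromSpec f (p.1.2.2.preimage a') (e₁ p),
      p.1.1.2.SpecMap_appLE_fromSpec h p.1.2.2 p.2] at h2
  · refine isPullback_of_cover hb.symm (fun p : ι => Spec Γ(_, p.1.2.1))
      (fun p : ι => Spec Γ(_, b' ⁻¹ᵁ p.1.2.1)) (fun p => p.1.2.2.fromSpec) hcov'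
      (fun p => (p.1.2.2.preimage b').fromSpec)
      (fun p => Spec.map (b'.appLE p.1.2 _ le_rfl)) (fun p => isPullback_fromSpec _ p.1.2.2)
      (fun p => ?_)
    have h2 := (isPullback_SpecMap_of_isPushout _ _ _ _ (spec p).1).paste_horiz
      (isPullback_fromSpec b p.1.1.2)
    rwa [(p.1.1.2.preimage b).SpecMap_appLE_fromSpec g (p.1.2.2.preimage b') (e₂ p),
      p.1.1.2.SpecMap_appLE_fromSpec h p.1.2.2 p.2] at h2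

end RingPO
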