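import Groth.Agent.AlgSpDec.PushoutChart
import Groth.Agent.AlgSpDec.SpQuot
import Groth.Agent.AlgSpDec.AffineRep
import Groth.Agent.AlgSpDec.FiniteQuot
import Groth.Agent.AlgSpDec.ImmCover
import Groth.Agent.AlgSpLib.EtLift

/-!
# Existence of pushouts of algebraic spaces along thickenings
-/

set_option backward.isDefEq.respectTransparency false
set_option backward.isDefEq.respectTransparency.types false
set_option autoImplicit false

noncomputable section

universe u

open CategoryTheory CategoryTheory.Limits AlgebraicGeometry AlgSp TensorProduct Groth.Agent.AlgSpLib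
  Groth.Agent.AlgSpPts

namespace Groth.Agent.AlgSpDec

variable {S : Scheme.{u}}

/-- Kernel pairs of a cartesian square of morphisms. -/
theorem kernelPair_square {C : Type*} [Category C] {R₀ R₁ U V X Y : C} {l : U ⟶ V} {u : U ⟶ X} {v : V ⟶ Y} {f : X ⟶ Y}
    (sq : IsPullback l u v f) {t₀ s₀ : R₀ ⟶ U} (hu : IsPullback t₀ s₀ u u) {t₁ s₁ : R₁ ⟶ V}
    (hv : IsPullback t₁ s₁ v v) {m : R₀ ⟶ R₁} (hmt : m ≫ t₁ = t₀ ≫ l) (hms : m ≫ s₁ = s₀ ≫ l) :
    IsPullback m t₀ t₁ l := by
  refine IsPullback.of_right ?_ hmt hv.flip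
  rw [hms, sq.w]
  exact hu.flip.paste_horiz sq

/-- A square is cartesian when it is so on kernel pairs of coverings. -/
theorem isPullback_of_kernelPairs {X' P : Sp S} {U' V' R₁ R₂ : Over S} {q : (yon S).obj U' ⟶ X'}
    [Sheaf.IsLocallySurjective q] {t₁ s₁ : R₁ ⟶ U'} (sq₁ : IsPullback ((yon S).map t₁) ((yon S).map s₁) q q)
    {p : (yon S).obj V' ⟶ P} {t₂ s₂ : R₂ ⟶ V'} (sq₂ : IsPullback ((yon S).map t₂) ((yon S).map s₂) p p)
    {a : U' ⟶ V'} {k : R₁ ⟶ R₂} (hk : IsPullback k t₁ t₂ a) (hks : k ≫ s₂ = s₁ ≫ a) {g : X' ⟶ P}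
    (hg : q ≫ g = (yon S).map a ≫ p) : IsPullback ((yon S).map a) q p g := by
  let κ : (yon S).obj U' ⟶ pullback p g := pullback.lift ((yon S).map a) q hg.symm
  have hκ₁ : κ ≫ pullback.fst p g = (yon S).map a := pullback.lift_fst _ _ _
  have hκ₂ : κ ≫ pullback.snd p g = q := pullback.lift_snd _ _ _
  have : Mono κ := mono_of_yon_injective fun T x y h => by
    obtain ⟨x, rfl⟩ := (yon S).map_surjective x
    obtain ⟨y, rfl⟩ := (yon S).map_surjective y
    have h₁ : x ≫ a = y ≫ a := (yon S).map_injective (by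
      rw [Functor.map_comp, Functor.map_comp, ← hκ₁, reassoc_of% h])
    obtain ⟨r, hr₁, hr₂⟩ := exists_rel_lift sq₁ x y (by rw [← hκ₂, reassoc_of% h])
    obtain ⟨r', hr₁', hr₂'⟩ := exists_rel_lift sq₁ x x rfl
    have e : r ≫ k = r' ≫ k := (yon S).map_injective (sq₂.hom_ext
      (by rw [← Functor.map_comp, ← Functor.map_comp, Category.assoc, Category.assoc, hk.w, ← Category.assoc,
        ← Category.assoc, hr₁, hr₁'])
      (by rw [← Functor.map_comp, ← Functor.map_comp, Category.assoc, Category.assoc, hks, ← Category.assoc,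
        ← Category.assoc, hr₂, hr₂', h₁]))
    have : r = r' := hk.hom_ext e (hr₁.trans hr₁'.symm)
    rw [← hr₂, this, hr₂']
  have : Sheaf.IsLocallySurjective κ := isLocallySurjective_of_lifts κ fun T ξ => by
    obtain ⟨T', k', w, hk', hw⟩ := exists_fppf_lift_of_locallySurjective q (ξ ≫ pullback.snd p g)
    obtain ⟨w, rfl⟩ := (yon S).map_surjective w
    obtain ⟨v, hv⟩ := (yon S).map_surjective ((yon S).map k' ≫ ξ ≫ pullback.fst p g)
    obtain ⟨r', hr₁, hr₂⟩ := exists_rel_lift sq₂ (w ≫ a) v (by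
      rw [Functor.map_comp, Category.assoc, ← hg, reassoc_of% hw, hv, Category.assoc, Category.assoc,
        pullback.condition])
    obtain ⟨r, hr, hr'⟩ := hk.exists_lift r' w hr₁
    refine ⟨T', k', (yon S).map (r ≫ s₁), hk', pullback.hom_ext ?_ ?_⟩
    · rw [Category.assoc, hκ₁, ← Functor.map_comp, Category.assoc, ← hks, ← Category.assoc, hr, hr₂, hv,
        Category.assoc]
    · rw [Category.assoc, hκ₂, Functor.map_comp, Category.assoc, ← sq₁.w, ← Category.assoc, ← Functor.map_comp,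
        hr', hw, Category.assoc]
  have := isIso_of_mono_of_locallySurjective κ
  exact (IsPullback.of_hasPullback p g).of_iso (asIso κ).symm (Iso.refl _) (Iso.refl _) (Iso.refl _)
    (by simp [← hκ₁]) (by simp [← hκ₂]) (by simp) (by simp)

/-- Etaleness descends from the pieces to the pushout. -/
theorem ThickSq.etale_glue {U U' V V' Z X Y P : Over S} {i : U ⟶ U'} {j : U ⟶ V} {a : U' ⟶ V'} {b : V ⟶ V'}
    {i' : Z ⟶ X} {j' : Z ⟶ Y} {a' : X ⟶ P} {b' : Y ⟶ P} {f : X ⟶ U'} {g : Y ⟶ V} {c : Z ⟶ U} {h : P ⟶ V'}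
    (H : ThickSq i j a b) (H' : ThickSq i' j' a' b') (hX : IsPullback i' c f i)
    (hY : IsPullback j' c g j) (ha : a' ≫ h = f ≫ a) (hb : b' ≫ h = g ≫ b) (hf : Etale f.left) (hg : Etale g.left) :
    Etale h.left := by
  refine H.prop_glue H' hX hY ha hb @Etale ?_ hf hg
  intro B' B A' A _ _ _ _ _ _ _ _ _ _ _ hsq D' _ _ _ hB hA
  have := RingHom.etale_algebraMap.1 hB
  have := RingHom.etale_algebraMap.1 hA
  exact RingHom.etale_algebraMap.2 (RingPO.Milnor.etale_of_pair hsq D')

/-- A morphism is surjective after a thickening precomposition. -/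
theorem repWith_surjective_of_comp {F G H : Sp S} {h : F ⟶ G} {g : G ⟶ H} (hg : Representable g)
    (hc : RepWith @Surjective (h ≫ g)) : RepWith @Surjective g := by
  refine ⟨hg, fun T W y fst snd sq => ?_⟩
  let W₀ := hc.rep.pullback y
  obtain ⟨m, hm⟩ := (yon S).map_surjective (sq.lift (hc.rep.fst y ≫ h) ((yon S).map (hc.rep.snd y))
    (by rw [Category.assoc]; exact hc.rep.w y))
  have hms : m ≫ snd = hc.rep.snd y := (yon S).map_injective (by rw [Functor.map_comp, hm, sq.lift_snd])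
  have : Surjective (m.left ≫ snd.left) := by
    rw [← Over.comp_left, hms]; exact hc.property_snd y
  exact Surjective.of_comp m.left snd.left

/-- A chart of a thickening and an affine morphism. -/
theorem exists_pushout_data {X X' Y : Space S} (t : X ⟶ X') (ht : IsThickMor t.hom) (f : X ⟶ Y)
    (hf : IsAffineMor f.hom) {V : Over S} (v : (yon S).obj V ⟶ Y.obj) (hv : RepWith @Etale v)
    (hvs : RepWith @Surjective v) :
    ∃ (U U' : Over S) (i : U ⟶ U') (j : U ⟶ V) (uX : (yon S).obj U ⟶ X.obj) (uX' : (yon S).obj U' ⟶ X'.obj),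
      IsPullback ((yon S).map j) uX v f.hom ∧ IsPullback ((yon S).map i) uX uX' t.hom ∧ AlgSp.thick i.left ∧
      IsAffineHom j.left ∧ RepWith @Etale uX' ∧ RepWith @Surjective uX' := by
  have hfr := repWith_isAffineHom_of_isAffineMor hf
  let U := hfr.rep.pullback v
  let j : U ⟶ V := hfr.rep.snd v
  let uX : (yon S).obj U ⟶ X.obj := hfr.rep.fst v
  have sqU : IsPullback ((yon S).map j) uX v f.hom := (hfr.rep.isPullback v).flip
  have huX : RepWith @Etale uX := repWith_of_isPullback sqU hv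
  have huXs : RepWith @Surjective uX := repWith_of_isPullback sqU hvs
  obtain ⟨U', uX', ε, huX', hε⟩ := EtLift.exists_lift X.property X'.property ht uX huX
  obtain ⟨i, hi⟩ := (yon S).map_surjective (ε.hom ≫ pullback.snd t.hom uX')
  have sqU' : IsPullback ((yon S).map i) uX uX' t.hom :=
    (IsPullback.of_hasPullback t.hom uX').flip.of_iso ε.symm (Iso.refl _) (Iso.refl _) (Iso.refl _)
      (by simp [hi]) (by simp [← hε]) (by simp) (by simp)
  have hts : RepWith @Surjective t.hom := repWith_mono (P := AlgSp.thick) (fun _ _ k hk => hk.2) _ ht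
  have hus : RepWith @Surjective uX' := repWith_surjective_of_comp huX'.rep (h := (yon S).map i) (by
    rw [sqU'.w]; exact repWith_comp huXs hts)
  exact ⟨U, U', i, j, uX, uX', sqU, sqU', ht.property uX' _ _ sqU'.flip, hfr.property_snd v, huX', hus⟩

/-- The corner of the pushout of kernel pairs is an etale equivalence relation. -/
theorem exists_pushout_relation {U U' V V' : Over S} {i : U ⟶ U'} {j : U ⟶ V} {a : U' ⟶ V'} {b : V ⟶ V'}
    (H : ThickSq i j a b) {X X' Y : Sp S} {uX : (yon S).obj U ⟶ X} {uX' : (yon S).obj U' ⟶ X'}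
    {v : (yon S).obj V ⟶ Y} {t : X ⟶ X'} {f : X ⟶ Y} (sqU : IsPullback ((yon S).map j) uX v f)
    (sqU' : IsPullback ((yon S).map i) uX uX' t) (huX' : RepWith @Etale uX') (hv : RepWith @Etale v)
    {R₁ : Over S} {t₁ s₁ : R₁ ⟶ U'} (sq₁ : IsPullback ((yon S).map t₁) ((yon S).map s₁) uX' uX')
    {R₂ : Over S} {t₂ s₂ : R₂ ⟶ V} (sq₂ : IsPullback ((yon S).map t₂) ((yon S).map s₂) v v) :
    ∃ (R : Over S) (t' s' : R ⟶ V') (k₁ : R₁ ⟶ R) (k₂ : R₂ ⟶ R), IsEtaleEqvRel s' t' ∧
      IsPullback k₁ t₁ t' a ∧ k₁ ≫ s' = s₁ ≫ a ∧ IsPullback k₂ t₂ t' b ∧ k₂ ≫ s' = s₂ ≫ b := by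
  have huX : RepWith @Etale uX := repWith_of_isPullback sqU hv
  let R₀ := huX.rep.pullback uX
  let t₀ : R₀ ⟶ U := huX.rep.fst' uX
  let s₀ : R₀ ⟶ U := huX.rep.snd uX
  have sq₀ : IsPullback ((yon S).map t₀) ((yon S).map s₀) uX uX := huX.rep.isPullback' uX
  obtain ⟨iR, hiRt, hiRs⟩ := exists_rel_lift sq₁ (t₀ ≫ i) (s₀ ≫ i) (by
    rw [Functor.map_comp, Functor.map_comp, Category.assoc, Category.assoc, sqU'.w, reassoc_of% sq₀.w])
  obtain ⟨jR, hjRt, hjRs⟩ := exists_rel_lift sq₂ (t₀ ≫ j) (s₀ ≫ j) (by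
    rw [Functor.map_comp, Functor.map_comp, Category.assoc, Category.assoc, sqU.w, reassoc_of% sq₀.w])
  have h1t : IsPullback iR t₀ t₁ i := IsPullback.of_map_of_faithful (yon S) (kernelPair_square sqU' sq₀ sq₁
    (by rw [← Functor.map_comp, hiRt, Functor.map_comp]) (by rw [← Functor.map_comp, hiRs, Functor.map_comp]))
  have h1s : IsPullback iR s₀ s₁ i := IsPullback.of_map_of_faithful (yon S) (kernelPair_square sqU' sq₀.flip sq₁.flip
    (by rw [← Functor.map_comp, hiRs, Functor.map_comp]) (by rw [← Functor.map_comp, hiRt, Functor.map_comp]))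
  have h2t : IsPullback jR t₀ t₂ j := IsPullback.of_map_of_faithful (yon S) (kernelPair_square sqU sq₀ sq₂
    (by rw [← Functor.map_comp, hjRt, Functor.map_comp]) (by rw [← Functor.map_comp, hjRs, Functor.map_comp]))
  have h2s : IsPullback jR s₀ s₂ j := IsPullback.of_map_of_faithful (yon S) (kernelPair_square sqU sq₀.flip sq₂.flip
    (by rw [← Functor.map_comp, hjRs, Functor.map_comp]) (by rw [← Functor.map_comp, hjRt, Functor.map_comp]))
  have hthR : AlgSp.thick iR.left :=
    ⟨MorphismProperty.of_isPullback (h1t.map (Over.forget S)).flip H.closed,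
      MorphismProperty.of_isPullback (h1t.map (Over.forget S)).flip H.surj⟩
  have : IsAffineHom jR.left := MorphismProperty.of_isPullback (h2t.map (Over.forget S)).flip H.affine
  obtain ⟨R, k₁, k₂, HR⟩ := exists_thickSq iR hthR jR
  have wt : iR ≫ t₁ ≫ a = jR ≫ t₂ ≫ b := by
    rw [← Category.assoc, hiRt, Category.assoc, H.po.w, ← Category.assoc, ← hjRt, Category.assoc]
  have ws : iR ≫ s₁ ≫ a = jR ≫ s₂ ≫ b := by
    rw [← Category.assoc, hiRs, Category.assoc, H.po.w, ← Category.assoc, ← hjRs, Category.assoc]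
  let t' : R ⟶ V' := HR.po.desc (t₁ ≫ a) (t₂ ≫ b) wt
  let s' : R ⟶ V' := HR.po.desc (s₁ ≫ a) (s₂ ≫ b) ws
  have ht₁ : k₁ ≫ t' = t₁ ≫ a := HR.po.inl_desc _ _ _
  have ht₂ : k₂ ≫ t' = t₂ ≫ b := HR.po.inr_desc _ _ _
  have hs₁ : k₁ ≫ s' = s₁ ≫ a := HR.po.inl_desc _ _ _
  have hs₂ : k₂ ≫ s' = s₂ ≫ b := HR.po.inr_desc _ _ _
  obtain ⟨hct₁, hct₂⟩ := H.cube HR h1t h2t ht₁ ht₂
  have het : Etale t'.left := H.etale_glue HR h1t h2t ht₁ ht₂ (huX'.property uX' _ _ sq₁.flip) (hv.property v _ _ sq₂.flip)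
  have hes : Etale s'.left := H.etale_glue HR h1s h2s hs₁ hs₂ (huX'.property uX' _ _ sq₁) (hv.property v _ _ sq₂)
  -- the relation is injective
  have hinj : ∀ (T : Over S) (r r' : T ⟶ R), r ≫ t' = r' ≫ t' → r ≫ s' = r' ≫ s' → r = r' := by
    let jj : R.left ⟶ pullback V'.hom V'.hom :=
      pullback.lift t'.left s'.left ((Over.w t').trans (Over.w s').symm)
    have hj₁ : jj ≫ pullback.fst V'.hom V'.hom = t'.left := pullback.lift_fst _ _ _
    have hj₂ : jj ≫ pullback.snd V'.hom V'.hom = s'.left := pullback.lift_snd _ _ _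
    have : FormallyUnramified jj := by
      have : FormallyUnramified (jj ≫ pullback.fst V'.hom V'.hom) := by rw [hj₁]; infer_instance
      exact FormallyUnramified.of_comp jj (pullback.fst V'.hom V'.hom)
    have : LocallyOfFiniteType jj := by
      have : LocallyOfFiniteType (jj ≫ pullback.fst V'.hom V'.hom) := by rw [hj₁]; infer_instance
      exact locallyOfFiniteType_of_comp jj (pullback.fst V'.hom V'.hom)
    have : IsOpenImmersion (pullback.diagonal jj) := inferInstance
    have hcl : IsClosedImmersion b.left := H.thick_b.1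
    have hbs : Surjective k₂.left := HR.thick_b.2
    have : Surjective (pullback.diagonal jj) := ⟨fun x => by
      let p₁ := pullback.fst jj jj
      let q := pullback.fst p₁ k₂.left
      let r₁ := pullback.snd p₁ k₂.left
      obtain ⟨r, hr⟩ := hbs.surj (p₁ x)
      obtain ⟨z, hz, -⟩ := Scheme.exists_preimage_of_isPullback (IsPullback.of_hasPullback p₁ k₂.left) x r hr.symm
      have hq₁ : q ≫ pullback.fst jj jj ≫ t'.left = q ≫ pullback.snd jj jj ≫ t'.left := by
        rw [← hj₁, pullback.condition_assoc (f := jj) (g := jj)]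
      have hq₂ : q ≫ pullback.fst jj jj ≫ s'.left = q ≫ pullback.snd jj jj ≫ s'.left := by
        rw [← hj₂, pullback.condition_assoc (f := jj) (g := jj)]
      have hqr : q ≫ pullback.fst jj jj = r₁ ≫ k₂.left := pullback.condition
      have ht2 : k₂.left ≫ t'.left = t₂.left ≫ b.left := congrArg Over.Hom.left ht₂
      have hs2 : k₂.left ≫ s'.left = s₂.left ≫ b.left := congrArg Over.Hom.left hs₂
      have hctl : IsPullback k₂.left t₂.left t'.left b.left := hct₂.map (Over.forget S)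
      obtain ⟨r₂, hr₂, hr₂'⟩ := hctl.exists_lift (q ≫ pullback.snd jj jj) (r₁ ≫ t₂.left) (by
        rw [Category.assoc, ← hq₁, reassoc_of% hqr, ht2, Category.assoc])
      have heq : r₂ = r₁ := rel_ext sq₂ hr₂' ((cancel_mono b.left).1 (by
        rw [Category.assoc, Category.assoc, ← hs2, reassoc_of% hr₂, ← hq₂, reassoc_of% hqr]))
      have hq : q = (q ≫ pullback.fst jj jj) ≫ pullback.diagonal jj := by
        refine pullback.hom_ext (by simp) ?_
        rw [Category.assoc, pullback.diagonal_snd, Category.comp_id, hqr, ← hr₂, heq]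
      exact ⟨(q ≫ pullback.fst jj jj) z, by rw [← Scheme.Hom.comp_apply, ← hq]; exact hz⟩⟩
    have : IsIso (pullback.diagonal jj) := (isIso_iff_isOpenImmersion_and_surjective _).2 ⟨inferInstance, inferInstance⟩
    intro T r r' ht hs
    let l : T.left ⟶ pullback jj jj := pullback.lift r.left r'.left (pullback.hom_ext
      (by rw [Category.assoc, Category.assoc, hj₁]; exact congrArg Over.Hom.left ht)
      (by rw [Category.assoc, Category.assoc, hj₂]; exact congrArg Over.Hom.left hs))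
    refine Over.OverMorphism.ext ?_
    have h12 : pullback.fst jj jj = pullback.snd jj jj := by
      rw [← cancel_epi (pullback.diagonal jj), pullback.diagonal_fst, pullback.diagonal_snd]
    exact (pullback.lift_fst _ _ _).symm.trans ((congrArg (l ≫ ·) h12).trans (pullback.lift_snd _ _ _))
  -- maps into the corner from its pieces
  have desc : ∀ {Z Z₁ Z₂ Q : Over S} {i₃ : Z ⟶ Z₁} {j₃ : Z ⟶ Z₂} {a₃ : Z₁ ⟶ Q} {b₃ : Z₂ ⟶ Q},
      ThickSq i₃ j₃ a₃ b₃ → ∀ (y z : Q ⟶ V'),
      (∃ c₁ : Z₁ ⟶ R, c₁ ≫ t' = a₃ ≫ y ∧ c₁ ≫ s' = a₃ ≫ z) →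
      (∃ c₂ : Z₂ ⟶ R, c₂ ≫ t' = b₃ ≫ y ∧ c₂ ≫ s' = b₃ ≫ z) → ∃ c : Q ⟶ R, c ≫ t' = y ∧ c ≫ s' = z := by
    rintro Z Z₁ Z₂ Q i₃ j₃ a₃ b₃ H₃ y z ⟨c₁, hc₁, hc₁'⟩ ⟨c₂, hc₂, hc₂'⟩
    refine ⟨H₃.po.desc c₁ c₂ (hinj _ _ _ ?_ ?_), H₃.po.hom_ext ?_ ?_, H₃.po.hom_ext ?_ ?_⟩
    · rw [Category.assoc, Category.assoc, hc₁, hc₂, ← Category.assoc, H₃.po.w, Category.assoc]
    · rw [Category.assoc, Category.assoc, hc₁', hc₂', ← Category.assoc, H₃.po.w, Category.assoc]
    · rw [H₃.po.inl_desc_assoc, hc₁]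
    · rw [H₃.po.inr_desc_assoc, hc₂]
    · rw [H₃.po.inl_desc_assoc, hc₁']
    · rw [H₃.po.inr_desc_assoc, hc₂']
  obtain ⟨e, he₁, he₂⟩ := desc H (𝟙 _) (𝟙 _)
    (by
      obtain ⟨e₁, h₁, h₂⟩ := exists_rel_lift sq₁ (𝟙 U') (𝟙 U') rfl
      exact ⟨e₁ ≫ k₁, by rw [Category.assoc, ht₁, ← Category.assoc, h₁, Category.id_comp, Category.comp_id],
        by rw [Category.assoc, hs₁, ← Category.assoc, h₂, Category.id_comp, Category.comp_id]⟩)
    (by
      obtain ⟨e₂, h₁, h₂⟩ := exists_rel_lift sq₂ (𝟙 V) (𝟙 V) rfl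
      exact ⟨e₂ ≫ k₂, by rw [Category.assoc, ht₂, ← Category.assoc, h₁, Category.id_comp, Category.comp_id],
        by rw [Category.assoc, hs₂, ← Category.assoc, h₂, Category.id_comp, Category.comp_id]⟩)
  obtain ⟨σ, hσ₁, hσ₂⟩ := desc HR s' t'
    (by
      obtain ⟨σ₁, h₁, h₂⟩ := exists_rel_lift sq₁ s₁ t₁ sq₁.w.symm
      exact ⟨σ₁ ≫ k₁, by rw [Category.assoc, ht₁, ← Category.assoc, h₁, hs₁],
        by rw [Category.assoc, hs₁, ← Category.assoc, h₂, ht₁]⟩)
    (by
      obtain ⟨σ₂, h₁, h₂⟩ := exists_rel_lift sq₂ s₂ t₂ sq₂.w.symm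
      exact ⟨σ₂ ≫ k₂, by rw [Category.assoc, ht₂, ← Category.assoc, h₁, hs₂],
        by rw [Category.assoc, hs₂, ← Category.assoc, h₂, ht₂]⟩)
  -- composition
  let π₂ : pullback s' t' ⟶ R := pullback.snd s' t'
  let π₁ : pullback s' t' ⟶ R := pullback.fst s' t'
  have : Etale π₁.left :=
    MorphismProperty.of_isPullback ((IsPullback.of_hasPullback s' t').map (Over.forget S)).flip het
  let a₄ := pullback.fst π₁ k₁
  let g₁ := pullback.snd π₁ k₁
  let b₄ := pullback.fst π₁ k₂
  let g₂ := pullback.snd π₁ k₂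
  let i₄ := pullback.fst g₁ iR
  let g₀ := pullback.snd g₁ iR
  let j₄ : pullback g₁ iR ⟶ pullback π₁ k₂ := pullback.lift (i₄ ≫ a₄) (g₀ ≫ jR) (by
    rw [Category.assoc, pullback.condition, ← Category.assoc, pullback.condition, Category.assoc, HR.po.w,
      Category.assoc])
  obtain ⟨HQ, -⟩ := HR.baseChange (IsPullback.of_hasPullback π₁ k₁) (IsPullback.of_hasPullback π₁ k₂)
    (IsPullback.of_hasPullback g₁ iR) (j' := j₄) (pullback.lift_snd _ _ _) (pullback.lift_fst _ _ _).symm
  obtain ⟨m, hm₁, hm₂⟩ := desc HQ (π₁ ≫ t') (π₂ ≫ s')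
    (by
      have h₀ : (a₄ ≫ π₂) ≫ t' = (g₁ ≫ s₁) ≫ a := by
        rw [Category.assoc, ← pullback.condition, ← Category.assoc, pullback.condition, Category.assoc, hs₁,
          Category.assoc]
      obtain ⟨l, hl, hl'⟩ := hct₁.exists_lift (a₄ ≫ π₂) (g₁ ≫ s₁) h₀
      obtain ⟨c, h₁, h₂⟩ := exists_rel_lift sq₁ (g₁ ≫ t₁) (l ≫ s₁) (by
        rw [Functor.map_comp, Functor.map_comp, Category.assoc, Category.assoc, sq₁.w, ← Category.assoc,
          ← Functor.map_comp, ← hl', Functor.map_comp, Category.assoc, sq₁.w])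
      refine ⟨c ≫ k₁, ?_, ?_⟩
      · rw [Category.assoc, ht₁, ← Category.assoc, h₁, Category.assoc, ← ht₁, ← Category.assoc,
          ← pullback.condition, Category.assoc]
      · rw [Category.assoc, hs₁, ← Category.assoc, h₂, Category.assoc, ← hs₁, ← Category.assoc, hl, Category.assoc])
    (by
      have h₀ : (b₄ ≫ π₂) ≫ t' = (g₂ ≫ s₂) ≫ b := by
        rw [Category.assoc, ← pullback.condition, ← Category.assoc, pullback.condition, Category.assoc, hs₂,
          Category.assoc]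
      obtain ⟨l, hl, hl'⟩ := hct₂.exists_lift (b₄ ≫ π₂) (g₂ ≫ s₂) h₀
      obtain ⟨c, h₁, h₂⟩ := exists_rel_lift sq₂ (g₂ ≫ t₂) (l ≫ s₂) (by
        rw [Functor.map_comp, Functor.map_comp, Category.assoc, Category.assoc, sq₂.w, ← Category.assoc,
          ← Functor.map_comp, ← hl', Functor.map_comp, Category.assoc, sq₂.w])
      refine ⟨c ≫ k₂, ?_, ?_⟩
      · rw [Category.assoc, ht₂, ← Category.assoc, h₁, Category.assoc, ← ht₂, ← Category.assoc,
          ← pullback.condition, Category.assoc]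
      · rw [Category.assoc, hs₂, ← Category.assoc, h₂, Category.assoc, ← hs₂, ← Category.assoc, hl, Category.assoc])
  refine ⟨R, t', s', k₁, k₂, ⟨⟨hinj, fun T => ⟨fun x => ⟨x ≫ e, ?_, ?_⟩, ?_, ?_⟩⟩, hes, het⟩, hct₁, hs₁, hct₂, hs₂⟩
  · rw [Category.assoc, he₁, Category.comp_id]
  · rw [Category.assoc, he₂, Category.comp_id]
  · rintro x y ⟨r, hr₁, hr₂⟩
    exact ⟨r ≫ σ, by rw [Category.assoc, hσ₁, hr₂], by rw [Category.assoc, hσ₂, hr₁]⟩
  · rintro x y z ⟨r, hr₁, hr₂⟩ ⟨r', hr₁', hr₂'⟩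
    refine ⟨pullback.lift r r' (hr₂.trans hr₁'.symm) ≫ m, ?_, ?_⟩
    · rw [Category.assoc, hm₁, pullback.lift_fst_assoc, hr₁]
    · rw [Category.assoc, hm₂, pullback.lift_snd_assoc, hr₂']

/-- Pushouts along a thickening and an affine morphism exist, with a chart. -/
theorem exists_pushChart {X X' Y : Space S} (t : X ⟶ X') (ht : IsThickMor t.hom) (f : X ⟶ Y)
    (hf : IsAffineMor f.hom) :
    ∃ (P : Space S) (f' : X' ⟶ P) (t' : Y ⟶ P), IsPushout t f f' t' ∧
      Nonempty (PushChart t.hom f.hom f'.hom t'.hom) := by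
  obtain ⟨V, v, hv, hvs⟩ := Y.property.atlas
  obtain ⟨U, U', i, j, uX, uX', sqU, sqU', hi, hj, huX', hus⟩ := exists_pushout_data t ht f hf v hv hvs
  obtain ⟨V', a, b, H⟩ := exists_thickSq i hi j
  obtain ⟨R, t', s', k₁, k₂, hR, hct₁, hs₁, hct₂, hs₂⟩ := exists_pushout_relation H sqU sqU' huX' hv
    (huX'.rep.isPullback' uX') (hv.rep.isPullback' v)
  let sR := (yon S).map s'
  let tR := (yon S).map t'
  have hrel : IsEqvRelSp sR tR := by
    refine ⟨fun T r r' h h' => ?_, fun T => ⟨fun x => ?_, ?_, ?_⟩⟩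
    · obtain ⟨r, rfl⟩ := (yon S).map_surjective r
      obtain ⟨r', rfl⟩ := (yon S).map_surjective r'
      exact congrArg _ (hR.injective T r r' ((yon S).map_injective (by rw [Functor.map_comp, Functor.map_comp]; exact h))
        ((yon S).map_injective (by rw [Functor.map_comp, Functor.map_comp]; exact h')))
    · obtain ⟨x, rfl⟩ := (yon S).map_surjective x
      obtain ⟨r, h₁, h₂⟩ := (hR.equivalence T).refl x
      exact ⟨(yon S).map r, by rw [← Functor.map_comp, h₁], by rw [← Functor.map_comp, h₂]⟩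
    · intro x y h
      obtain ⟨x, rfl⟩ := (yon S).map_surjective x
      obtain ⟨y, rfl⟩ := (yon S).map_surjective y
      obtain ⟨r, h₁, h₂⟩ := h
      obtain ⟨r, rfl⟩ := (yon S).map_surjective r
      obtain ⟨r', h₁', h₂'⟩ := (hR.equivalence T).symm ⟨r, (yon S).map_injective ((Functor.map_comp _ _ _).trans h₁),
        (yon S).map_injective ((Functor.map_comp _ _ _).trans h₂)⟩
      exact ⟨(yon S).map r', by rw [← Functor.map_comp, h₁'], by rw [← Functor.map_comp, h₂']⟩
    · intro x y z h h'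
      obtain ⟨x, rfl⟩ := (yon S).map_surjective x
      obtain ⟨y, rfl⟩ := (yon S).map_surjective y
      obtain ⟨z, rfl⟩ := (yon S).map_surjective z
      obtain ⟨r, h₁, h₂⟩ := h
      obtain ⟨r, rfl⟩ := (yon S).map_surjective r
      obtain ⟨r', h₁', h₂'⟩ := h'
      obtain ⟨r', rfl⟩ := (yon S).map_surjective r'
      obtain ⟨r'', h₁'', h₂''⟩ := (hR.equivalence T).trans
        ⟨r, (yon S).map_injective ((Functor.map_comp _ _ _).trans h₁),
          (yon S).map_injective ((Functor.map_comp _ _ _).trans h₂)⟩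
        ⟨r', (yon S).map_injective ((Functor.map_comp _ _ _).trans h₁'),
          (yon S).map_injective ((Functor.map_comp _ _ _).trans h₂')⟩
      exact ⟨(yon S).map r'', by rw [← Functor.map_comp, h₁''], by rw [← Functor.map_comp, h₂'']⟩
  have : Etale s'.left := hR.etale_left
  have : Etale t'.left := hR.etale_right
  have hls : LocP @Flat sR ∧ LocP @LocallyOfFinitePresentation sR :=
    ⟨locP_of_repWith ((repWith_yon_map_iff _ _).2 inferInstance), locP_of_repWith ((repWith_yon_map_iff _ _).2 inferInstance)⟩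
  have hlt : LocP @Flat tR ∧ LocP @LocallyOfFinitePresentation tR :=
    ⟨locP_of_repWith ((repWith_yon_map_iff _ _).2 inferInstance), locP_of_repWith ((repWith_yon_map_iff _ _).2 inferInstance)⟩
  have hRa := IsAlgSpace.yon_obj R
  have hVa := IsAlgSpace.yon_obj V'
  have hP : IsAlgSpace (quotSp sR tR) := isAlgSpace_quotSp hRa hVa hrel hls hlt
  let p : (yon S).obj V' ⟶ quotSp sR tR := quotSpπ sR tR
  have sqR : IsPullback tR sR p p := isPullback_quotSpπ hRa hVa hrel hls hlt
  have : Epi p := inferInstanceAs (Epi (coequalizer.π sR tR))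
  have : Sheaf.IsLocallySurjective p := (Sheaf.isLocallySurjective_iff_epi p).2 inferInstance
  have hst : Surjective s'.left := ⟨fun x => by
    obtain ⟨e, -, he⟩ := exists_rel_lift sqR (𝟙 V') (𝟙 V') rfl
    exact ⟨e.left x, by rw [← Scheme.Hom.comp_apply, ← Over.comp_left, he, Over.id_left]; rfl⟩⟩
  have hpr : Representable p := representable_from_yon' hP _
  have := isLocalAtTarget_fppf (@Etale : MorphismProperty Scheme.{u})
  have := isLocalAtTarget_fppf (@Surjective : MorphismProperty Scheme.{u})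
  have hpe : RepWith @Etale p := repWith_of_locallySurjective hpr p sqR @Etale ((repWith_yon_map_iff _ _).2 inferInstance)
  have hps : RepWith @Surjective p := repWith_of_locallySurjective hpr p sqR @Surjective ((repWith_yon_map_iff _ _).2 hst)
  have hls₁ := isLocallySurjective_of_etale_surjective huX' hus
  have hls₂ := isLocallySurjective_of_etale_surjective hv hvs
  obtain ⟨f', hf'⟩ := exists_desc_of_kernelPair (huX'.rep.isPullback' uX') ((yon S).map a ≫ p) (by
    rw [← Functor.map_comp_assoc, ← Functor.map_comp_assoc, ← hct₁.w, ← hs₁, Functor.map_comp, Functor.map_comp,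
      Category.assoc, Category.assoc, sqR.w])
  obtain ⟨tY, htY⟩ := exists_desc_of_kernelPair (hv.rep.isPullback' v) ((yon S).map b ≫ p) (by
    rw [← Functor.map_comp_assoc, ← Functor.map_comp_assoc, ← hct₂.w, ← hs₂, Functor.map_comp, Functor.map_comp,
      Category.assoc, Category.assoc, sqR.w])
  let C : PushChart t.hom f.hom f' tY :=
    { U := U, U' := U', V := V, V' := V', i := i, j := j, a := a, b := b, sq := H, uX := uX, uX' := uX'
      v := v, p := p, sqU := sqU, sqU' := sqU'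
      sqa := isPullback_of_kernelPairs (huX'.rep.isPullback' uX') sqR hct₁ hs₁ hf'
      sqb := isPullback_of_kernelPairs (hv.rep.isPullback' v) sqR hct₂ hs₂ htY
      etale := hpe, surj := hps }
  exact ⟨⟨quotSp sR tR, hP⟩, ObjectProperty.homMk f', ObjectProperty.homMk tY, PushChart.isPushout C, ⟨C⟩⟩

/-- Every pushout along a thickening and an affine morphism has a chart. -/
theorem nonempty_pushChart {X X' Y P : Space S} {t : X ⟶ X'} {f : X ⟶ Y} {f' : X' ⟶ P} {t' : Y ⟶ P}
    (ht : IsThickMor t.hom) (hf : IsAffineMor f.hom) (h : IsPushout t f f' t') :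
    Nonempty (PushChart t.hom f.hom f'.hom t'.hom) := by
  obtain ⟨P₀, f₀, t₀, h₀, ⟨C⟩⟩ := exists_pushChart t ht f hf
  let e := IsPushout.isoIsPushout _ _ h₀ h
  exact ⟨C.ofIso ((ObjectProperty.ι _).mapIso e)
    (congrArg (·.hom) (IsPushout.inl_isoIsPushout_hom _ _ h₀ h))
    (congrArg (·.hom) (IsPushout.inr_isoIsPushout_hom _ _ h₀ h))⟩

/-- The structure map of the pushout from the base of the affine morphism is a thickening. -/
theorem PushChart.isThickMor {X X' Y P : Sp S} {t : X ⟶ X'} {f : X ⟶ Y} {f' : X' ⟶ P} {t' : Y ⟶ P}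
    (C : PushChart t f f' t') : IsThickMor t' := by
  have hc := repWith_isClosedImmersion_of_etale_cover C.etale C.surj C.sqb.flip
    ((repWith_yon_map_iff _ _).2 C.sq.thick_b.1)
  have := isLocallySurjective_of_etale_surjective C.etale C.surj
  have := isLocalAtTarget_fppf (@Surjective : MorphismProperty Scheme.{u})
  exact (repWith_inf_iff t').2
    ⟨hc, repWith_of_locallySurjective hc.rep C.p C.sqb.flip @Surjective ((repWith_yon_map_iff _ _).2 C.sq.thick_b.2)⟩

end Groth.Agent.AlgSpDec
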