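import Groth.Agent.AlgSpDec.PushoutExists

/-!
# Morphisms between pushouts along thickenings
-/

set_option backward.isDefEq.respectTransparency false
set_option backward.isDefEq.respectTransparency.types false
set_option autoImplicit false

noncomputable section

universe u

open CategoryTheory CategoryTheory.Limits AlgebraicGeometry AlgSp TensorProduct Groth.Agent.AlgSpLib
  Groth.Agent.AlgSpPts

namespace Groth.Agent.AlgSpDec

variable {S : Scheme.{u}}

/-- Affine morphisms are stable under base change. -/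
theorem isAffineMor_of_isPullback' {F G F' G' : Sp S} {f : F ⟶ G} {g : G' ⟶ G} {fst : F' ⟶ F} {snd : F' ⟶ G'}
    (sq : IsPullback fst snd f g) (hf : IsAffineMor f) : IsAffineMor snd := fun Z hZ z => by
  obtain ⟨W, i, q, hq, hW⟩ := hf hZ (z ≫ g)
  refine ⟨W, i, sq.lift q ((yon S).map i ≫ z) (by rw [Category.assoc]; exact hq.w),
    IsPullback.of_right (by rw [sq.lift_fst]; exact hq.flip.flip) (sq.lift_snd _ _ _) sq.flip.flip |>.flip.flip, hW⟩

/-- A square is cartesian when it is so over an etale covering of the corner. -/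
theorem isPullback_descend {V' W P X' U' U₁ : Sp S} {i : U' ⟶ V'} {u : U' ⟶ X'} {v : V' ⟶ P} {f : X' ⟶ P}
    (w : i ≫ v = u ≫ f) {d : W ⟶ V'} (hd : RepWith @Etale d) (hds : RepWith @Surjective d) {a : U₁ ⟶ W}
    {q : U₁ ⟶ U'} (sq₁ : IsPullback a q d i) (sq₂ : IsPullback a (q ≫ u) (d ≫ v) f) : IsPullback i u v f := by
  let θ : U' ⟶ pullback v f := pullback.lift i u w
  have hθ₁ : θ ≫ pullback.fst v f = i := pullback.lift_fst _ _ _
  have hθ₂ : θ ≫ pullback.snd v f = u := pullback.lift_snd _ _ _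
  have sq₃ : IsPullback a (q ≫ θ) d (pullback.fst v f) :=
    IsPullback.of_bot (by rw [Category.assoc, hθ₂]; exact sq₂) (by rw [Category.assoc, hθ₁, sq₁.w])
      (IsPullback.of_hasPullback v f)
  have := isLocallySurjective_of_etale_surjective (repWith_of_isPullback sq₃ hd) (repWith_of_isPullback sq₃ hds)
  have sq₄ : IsPullback q (𝟙 U₁) θ (q ≫ θ) :=
    IsPullback.of_bot (by rw [Category.id_comp, hθ₁]; exact sq₁.flip) (by rw [Category.id_comp]) sq₃.flip
  have := isIso_of_isPullback_locallySurjective sq₄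
  exact (IsPullback.of_hasPullback v f).of_iso (asIso θ).symm (Iso.refl _) (Iso.refl _) (Iso.refl _)
    (by simp [← hθ₁]) (by simp [← hθ₂]) (by simp) (by simp)

/-- Compatible charts of a morphism of pushouts with cartesian back faces. -/
theorem exists_compat_charts {X X' Y Y' U U' V V' : Space S} (t : X ⟶ X') (ht : IsThickMor t.hom) (f : X ⟶ Y)
    (hf : IsAffineMor f.hom) (f' : X' ⟶ Y') (t' : Y ⟶ Y') (hY' : IsPushout t f f' t') (v : V ⟶ Y) (u' : U' ⟶ X')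
    (uV : U ⟶ V) (uU' : U ⟶ U') (uX : U ⟶ X) (hUV : IsPullback uV.hom uX.hom v.hom f.hom)
    (hUU' : IsPullback uU'.hom uX.hom u'.hom t.hom) (iV : V ⟶ V') (iU' : U' ⟶ V') (hV' : IsPushout uV uU' iV iU')
    (v' : V' ⟶ Y') (hv'₁ : iV ≫ v' = v ≫ t') (hv'₂ : iU' ≫ v' = u' ≫ f') :
    ∃ (C : PushChart t.hom f.hom f'.hom t'.hom) (D : PushChart uU'.hom uV.hom iU'.hom iV.hom) (k : D.V' ⟶ C.V')
      (gU : D.U' ⟶ C.U') (gV : D.V ⟶ C.V) (g₀ : D.U ⟶ C.U),
      IsPullback D.i g₀ gU C.i ∧ IsPullback D.j g₀ gV C.j ∧ D.a ≫ k = gU ≫ C.a ∧ D.b ≫ k = gV ≫ C.b ∧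
      D.p ≫ v'.hom = (yon S).map k ≫ C.p ∧ D.uX' ≫ u'.hom = (yon S).map gU ≫ C.uX' ∧
      D.v ≫ v.hom = (yon S).map gV ≫ C.v := by
  obtain ⟨C⟩ := nonempty_pushChart ht hf hY'
  obtain ⟨D₀⟩ := nonempty_pushChart (f := uV) (t := uU') (repWith_of_isPullback hUU'.flip ht)
    (isAffineMor_of_isPullback' hUV.flip hf) hV'.flip
  have e₁ : iV.hom ≫ v'.hom = v.hom ≫ t'.hom := congrArg (·.hom) hv'₁
  have e₂ : iU'.hom ≫ v'.hom = u'.hom ≫ f'.hom := congrArg (·.hom) hv'₂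
  let W := C.etale.rep.pullback (D₀.p ≫ v'.hom)
  let e : W ⟶ D₀.V' := C.etale.rep.snd (D₀.p ≫ v'.hom)
  let k : W ⟶ C.V' := C.etale.rep.fst' (D₀.p ≫ v'.hom)
  have sqW : IsPullback ((yon S).map k) ((yon S).map e) C.p (D₀.p ≫ v'.hom) := C.etale.rep.isPullback' _
  have : Etale e.left := C.etale.property _ _ _ sqW
  have : Surjective e.left := C.surj.property _ _ _ sqW
  let a₁ := pullback.fst e D₀.a
  let g₁ := pullback.snd e D₀.a
  let b₁ := pullback.fst e D₀.b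
  let g₂ := pullback.snd e D₀.b
  let i₁ := pullback.fst g₁ D₀.i
  let h₀ := pullback.snd g₁ D₀.i
  let j₁ : pullback g₁ D₀.i ⟶ pullback e D₀.b := pullback.lift (i₁ ≫ a₁) (h₀ ≫ D₀.j) (by
    rw [Category.assoc, pullback.condition, ← Category.assoc, pullback.condition, Category.assoc, D₀.sq.po.w,
      Category.assoc])
  have hj : j₁ ≫ g₂ = h₀ ≫ D₀.j := pullback.lift_snd _ _ _
  have hij : i₁ ≫ a₁ = j₁ ≫ b₁ := (pullback.lift_fst _ _ _).symm
  obtain ⟨hR, sqj⟩ := D₀.sq.baseChange (IsPullback.of_hasPullback e D₀.a) (IsPullback.of_hasPullback e D₀.b)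
      (IsPullback.of_hasPullback g₁ D₀.i) hj hij
  let D : PushChart uU'.hom uV.hom iU'.hom iV.hom :=
    { U := _, U' := _, V := _, V' := W, i := i₁, j := j₁, a := a₁, b := b₁, sq := hR
      uX := (yon S).map h₀ ≫ D₀.uX
      uX' := (yon S).map g₁ ≫ D₀.uX'
      v := (yon S).map g₂ ≫ D₀.v
      p := (yon S).map e ≫ D₀.p
      sqU := (sqj.map (yon S)).paste_vert D₀.sqU
      sqU' := ((IsPullback.of_hasPullback g₁ D₀.i).map (yon S)).paste_vert D₀.sqU'
      sqa := ((IsPullback.of_hasPullback e D₀.a).map (yon S)).paste_vert D₀.sqa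
      sqb := ((IsPullback.of_hasPullback e D₀.b).map (yon S)).paste_vert D₀.sqb
      etale := repWith_comp ((repWith_yon_map_iff _ _).2 ‹Etale e.left›) D₀.etale
      surj := repWith_comp ((repWith_yon_map_iff _ _).2 ‹Surjective e.left›) D₀.surj }
  have hk : D.p ≫ v'.hom = (yon S).map k ≫ C.p := (Category.assoc _ _ _).trans sqW.w.symm
  obtain ⟨gU, hgU₀⟩ := (yon S).map_surjective (C.sqa.lift ((yon S).map (a₁ ≫ k)) (D.uX' ≫ u'.hom) (by
    rw [Functor.map_comp, Category.assoc, ← hk]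
    exact (D.sqa.w_assoc _).trans ((congrArg (D.uX' ≫ ·) e₂).trans (Category.assoc _ _ _).symm)))
  have hgU : gU ≫ C.a = a₁ ≫ k := (yon S).map_injective (by rw [Functor.map_comp, hgU₀, C.sqa.lift_fst])
  have hgU' : D.uX' ≫ u'.hom = (yon S).map gU ≫ C.uX' := by rw [hgU₀, C.sqa.lift_snd]
  obtain ⟨gV, hgV₀⟩ := (yon S).map_surjective (C.sqb.lift ((yon S).map (b₁ ≫ k)) (D.v ≫ v.hom) (by
    rw [Functor.map_comp, Category.assoc, ← hk]
    exact (D.sqb.w_assoc _).trans ((congrArg (D.v ≫ ·) e₁).trans (Category.assoc _ _ _).symm)))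
  have hgV : gV ≫ C.b = b₁ ≫ k := (yon S).map_injective (by rw [Functor.map_comp, hgV₀, C.sqb.lift_fst])
  have hgV' : D.v ≫ v.hom = (yon S).map gV ≫ C.v := by rw [hgV₀, C.sqb.lift_snd]
  obtain ⟨g₀, hg₀⟩ := (yon S).map_surjective (C.sqU.lift ((yon S).map (j₁ ≫ gV)) (D.uX ≫ uX.hom) (by
    rw [Functor.map_comp, Category.assoc, ← hgV']
    exact (D.sqU.w_assoc _).trans ((congrArg (D.uX ≫ ·) hUV.w).trans (Category.assoc _ _ _).symm)))
  have hg₀j : g₀ ≫ C.j = j₁ ≫ gV := (yon S).map_injective (by rw [Functor.map_comp, hg₀, C.sqU.lift_fst])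
  have hg₀x : (yon S).map g₀ ≫ C.uX = D.uX ≫ uX.hom := by rw [hg₀, C.sqU.lift_snd]
  have hg₀i : g₀ ≫ C.i = i₁ ≫ gU := (yon S).map_injective (C.sqa.hom_ext
    (by rw [← Functor.map_comp, ← Functor.map_comp, Category.assoc, Category.assoc, C.sq.po.w, ← Category.assoc,
      hg₀j, Category.assoc, hgV, hgU, ← Category.assoc, ← Category.assoc, hij])
    (by rw [Functor.map_comp, Functor.map_comp, Category.assoc, Category.assoc, C.sqU'.w, reassoc_of% hg₀x, ← hgU',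
      reassoc_of% D.sqU'.w, hUU'.w]))
  have sJ : IsPullback j₁ g₀ gV C.j := IsPullback.of_map (yon S) hg₀j.symm (IsPullback.of_bot (by
    rw [hg₀x, ← hgV']; exact D.sqU.paste_vert hUV) (by rw [← Functor.map_comp, ← Functor.map_comp, hg₀j]) C.sqU)
  have sI : IsPullback i₁ g₀ gU C.i := IsPullback.of_map (yon S) hg₀i.symm (IsPullback.of_bot (by
    rw [hg₀x, ← hgU']; exact D.sqU'.paste_vert hUU') (by rw [← Functor.map_comp, ← Functor.map_comp, hg₀i]) C.sqU')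
  exact ⟨C, D, k, gU, gV, g₀, sI, sJ, hgU.symm, hgV.symm, hk, hgU', hgV'⟩

/-- The front faces of a morphism of pushouts are cartesian. -/
theorem isPullback_faces {X X' Y Y' U U' V V' : Space S} (t : X ⟶ X') (ht : IsThickMor t.hom) (f : X ⟶ Y)
    (hf : IsAffineMor f.hom) (f' : X' ⟶ Y') (t' : Y ⟶ Y') (hY' : IsPushout t f f' t') (v : V ⟶ Y) (u' : U' ⟶ X')
    (uV : U ⟶ V) (uU' : U ⟶ U') (uX : U ⟶ X) (hUV : IsPullback uV.hom uX.hom v.hom f.hom)
    (hUU' : IsPullback uU'.hom uX.hom u'.hom t.hom) (iV : V ⟶ V') (iU' : U' ⟶ V') (hV' : IsPushout uV uU' iV iU')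
    (v' : V' ⟶ Y') (hv'₁ : iV ≫ v' = v ≫ t') (hv'₂ : iU' ≫ v' = u' ≫ f') :
    IsPullback iV.hom v.hom v'.hom t'.hom ∧ IsPullback iU'.hom u'.hom v'.hom f'.hom := by
  obtain ⟨C, D, k, gU, gV, g₀, sI, sJ, ha, hb, hk, hu, hv⟩ :=
    exists_compat_charts t ht f hf f' t' hY' v u' uV uU' uX hUV hUU' iV iU' hV' v' hv'₁ hv'₂
  obtain ⟨ca, cb⟩ := C.sq.cube D.sq sI sJ ha hb
  constructor
  · refine isPullback_descend (congrArg (·.hom) hv'₁) D.etale D.surj D.sqb ?_
    rw [hk, hv]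
    exact (cb.map (yon S)).paste_vert C.sqb
  · refine isPullback_descend (congrArg (·.hom) hv'₂) D.etale D.surj D.sqa ?_
    rw [hk, hu]
    exact (ca.map (yon S)).paste_vert C.sqa

/-- A property holding on the pieces holds on the pushout. -/
theorem locP_glue {X X' Y Y' U U' V V' : Space S} (t : X ⟶ X') (ht : IsThickMor t.hom) (f : X ⟶ Y)
    (hf : IsAffineMor f.hom) (f' : X' ⟶ Y') (t' : Y ⟶ Y') (hY' : IsPushout t f f' t') (v : V ⟶ Y) (u' : U' ⟶ X')
    (uV : U ⟶ V) (uU' : U ⟶ U') (uX : U ⟶ X) (hUV : IsPullback uV.hom uX.hom v.hom f.hom)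
    (hUU' : IsPullback uU'.hom uX.hom u'.hom t.hom) (iV : V ⟶ V') (iU' : U' ⟶ V') (hV' : IsPushout uV uU' iV iU')
    (v' : V' ⟶ Y') (hv'₁ : iV ≫ v' = v ≫ t') (hv'₂ : iU' ≫ v' = u' ≫ f')
    {Pr : MorphismProperty Scheme.{u}} [IsEtLocal Pr] {Q : ∀ {R T : Type u} [CommRing R] [CommRing T], (R →+* T) → Prop}
    [HasRingHomProperty Pr Q]
    (key : ∀ {B' B A' A : Type u} [CommRing B'] [CommRing B] [CommRing A'] [CommRing A] [Algebra B' B] [Algebra B' A']
      [Algebra B A] [Algebra A' A] [Algebra B' A] [IsScalarTower B' B A] [IsScalarTower B' A' A],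
      EtMil.IsFibreSquare B' B A' A → ∀ (D' : Type u) [CommRing D'] [Algebra B' D'],
      (LocP @Flat v'.hom → Module.Flat B' D') →
      Q (algebraMap B (B ⊗[B'] D')) → Q (algebraMap A' (A' ⊗[B'] D')) → Q (algebraMap B' D'))
    (hv : LocP Pr v.hom) (hu : LocP Pr u'.hom) : LocP Pr v'.hom := by
  obtain ⟨C, D, k, gU, gV, g₀, sI, sJ, ha, hb, hk, hu₁, hv₁⟩ :=
    exists_compat_charts t ht f hf f' t' hY' v u' uV uU' uX hUV hUU' iV iU' hV' v' hv'₁ hv'₂
  refine locP_of_chart D.etale D.surj C.etale hk (C.sq.prop_glue D.sq sI sJ ha hb Pr ?_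
    (hu D.uX' C.uX' gU D.etale_uX' C.etale_uX' hu₁) (hv D.v C.v gV D.etale_v C.etale_v hv₁))
  intro B' B A' A _ _ _ _ _ _ _ _ _ _ _ hsq D' _ _ hfl h₁ h₂
  exact key hsq D' (fun h => hfl (h D.p C.p k D.etale C.etale hk)) h₁ h₂

end Groth.Agent.AlgSpDec
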