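import Groth.Agent.AlgSpDec.PushoutEtaleGlue
import Groth.Agent.RingPO.BaseChange
import Groth.Agent.S10716

/-!
# Pushouts of schemes along closed immersions are pushouts of algebraic spaces
-/

set_option backward.isDefEq.respectTransparency false
set_option backward.isDefEq.respectTransparency.types false

noncomputable section

universe u

open CategoryTheory CategoryTheory.Limits AlgebraicGeometry AlgSp

namespace Groth.Agent.AlgSpDec

variable {S : Scheme.{u}} {Z X Y P : Over S} (i : Z ⟶ X) (j : Z ⟶ Y) (a : X ⟶ P) (b : Y ⟶ P)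

/-- A pushout of schemes along a closed immersion, with charts over every etale separated base change, is a
pushout of algebraic spaces. -/
theorem isPushout_ofScheme [IsClosedImmersion i.left] [IsAffineHom j.left] (hpo : IsPushout i j a b)
    (hc : ∀ y : ↥Y.left, ∃ k : RingPO.Chart i.left j.left, y ∈ k.V)
    (hc' : ∀ {Z' X' Y' : Scheme.{u}} (i' : Z' ⟶ X') (j' : Z' ⟶ Y') (f : X' ⟶ X.left) (g : Y' ⟶ Y.left)
      (c : Z' ⟶ Z.left) [IsClosedImmersion i'] [IsAffineHom j'] [Etale f] [Etale g] [IsSeparated f] [IsSeparated g],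
      IsPullback i' c f i.left → IsPullback j' c g j.left → ∀ y : ↥Y', ∃ k : RingPO.Chart i' j', y ∈ k.V) :
    IsPushout ((AlgSp.ofScheme S).map i) ((AlgSp.ofScheme S).map j) ((AlgSp.ofScheme S).map a)
      ((AlgSp.ofScheme S).map b) := by
  have hs : IsPushout i.left j.left a.left b.left := hpo.map (Over.forget S)
  haveI : IsAffineHom a.left := RingPO.isAffineHom_inl hs hc
  haveI : IsClosedImmersion b.left := RingPO.isClosedImmersion_inr hs hc
  let c₀ : Cocone (span i j) := PushoutCocone.mk a b hpo.w
  have h₁ : IsColimit ((Over.forget S).mapCocone c₀) :=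
    (isColimitMapCoconePushoutCoconeEquiv (Over.forget S) hpo.w).symm hs.isColimit
  have h₂ : ∀ x : ↥c₀.pt.left, ∃ (o : WalkingSpan) (y : ↥((span i j).obj o).left), (c₀.ι.app o).left y = x := by
    intro x
    rcases RingPO.exists_preimage_point hs hc x with ⟨y, hy⟩ | ⟨y, hy⟩
    · exact ⟨WalkingSpan.left, y, hy⟩
    · exact ⟨WalkingSpan.right, y, hy⟩
  have h₃ : ∀ (D' : WalkingSpan ⥤ Over S) (α : D' ⟶ span i j) (c' : Cocone D') (a' : c'.pt ⟶ c₀.pt), Etale a'.left →
      (∀ o, IsPullback (c'.ι.app o) (α.app o) a' (c₀.ι.app o)) →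
      Nonempty (IsColimit ((Over.forget S).mapCocone c')) := by
    intro D' α c' a' ha' hp
    have hX : IsPullback (α.app WalkingSpan.left).left (c'.ι.app WalkingSpan.left).left a.left a'.left :=
      ((hp WalkingSpan.left).map (Over.forget S)).flip
    have hY : IsPullback (α.app WalkingSpan.right).left (c'.ι.app WalkingSpan.right).left b.left a'.left :=
      ((hp WalkingSpan.right).map (Over.forget S)).flip
    have hZ : IsPullback (α.app WalkingSpan.zero).left (c'.ι.app WalkingSpan.zero).left (c₀.ι.app WalkingSpan.zero).left a'.left :=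
      ((hp WalkingSpan.zero).map (Over.forget S)).flip
    have e₀ : (c₀.ι.app WalkingSpan.zero).left = i.left ≫ a.left :=
      (congrArg Over.Hom.left (c₀.w WalkingSpan.Hom.fst)).symm
    have e₁ : (D'.map WalkingSpan.Hom.fst).left ≫ (α.app WalkingSpan.left).left =
        (α.app WalkingSpan.zero).left ≫ i.left := congrArg Over.Hom.left (α.naturality WalkingSpan.Hom.fst)
    have e₂ : (D'.map WalkingSpan.Hom.snd).left ≫ (α.app WalkingSpan.right).left =
        (α.app WalkingSpan.zero).left ≫ j.left := congrArg Over.Hom.left (α.naturality WalkingSpan.Hom.snd)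
    have f₁ : (D'.map WalkingSpan.Hom.fst).left ≫ (c'.ι.app WalkingSpan.left).left =
        (c'.ι.app WalkingSpan.zero).left := congrArg Over.Hom.left (c'.w WalkingSpan.Hom.fst)
    have f₂ : (D'.map WalkingSpan.Hom.snd).left ≫ (c'.ι.app WalkingSpan.right).left =
        (c'.ι.app WalkingSpan.zero).left := congrArg Over.Hom.left (c'.w WalkingSpan.Hom.snd)
    have hZX : IsPullback (α.app WalkingSpan.zero).left (D'.map WalkingSpan.Hom.fst).left i.left
        (α.app WalkingSpan.left).left := by
      refine IsPullback.flip (IsPullback.of_right ?_ e₁ hX.flip)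
      rw [f₁, ← e₀]
      exact hZ.flip
    haveI : Flat a'.left := inferInstance
    have hpush := RingPO.isPushout_baseChange hs hc (S := P.left) (𝟙 P.left) a'.left (Or.inr inferInstance)
      (pP := a'.left) (sT := 𝟙 c'.pt.left) (IsPullback.of_vert_isIso ⟨by rw [Category.id_comp, Category.comp_id]⟩)
      hX hY hZX e₂ (f₁.trans f₂.symm)
    refine ⟨{ desc := fun s => hpush.desc (s.ι.app WalkingSpan.left) (s.ι.app WalkingSpan.right)
                ((s.w WalkingSpan.Hom.fst).trans (s.w WalkingSpan.Hom.snd).symm)
              fac := fun s o => ?_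
              uniq := fun s m hm => hpush.hom_ext ?_ ?_ }⟩
    · rcases o with _ | (_ | _)
      · show (c'.ι.app WalkingSpan.zero).left ≫ _ = s.ι.app WalkingSpan.zero
        rw [← f₁, Category.assoc, hpush.inl_desc]
        exact s.w WalkingSpan.Hom.fst
      · exact hpush.inl_desc _ _ _
      · exact hpush.inr_desc _ _ _
    · exact (hm WalkingSpan.left).trans (hpush.inl_desc _ _ _).symm
    · exact (hm WalkingSpan.right).trans (hpush.inr_desc _ _ _).symm
  have h₄ : ∀ (D' : WalkingSpan ⥤ Over S) (α : D' ⟶ span i j), NatTrans.Equifibered α →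
      (∀ o, Etale (α.app o).left) → (∀ o, IsSeparated (α.app o).left) →
      ∃ (c' : Cocone D') (a' : c'.pt ⟶ c₀.pt), Etale a'.left ∧
        ∀ o, IsPullback (c'.ι.app o) (α.app o) a' (c₀.ι.app o) := by
    intro D' α hα he hsep
    have hX : IsPullback (D'.map WalkingSpan.Hom.fst).left (α.app WalkingSpan.zero).left (α.app WalkingSpan.left).left
        i.left := (hα WalkingSpan.Hom.fst).map (Over.forget S)
    have hY : IsPullback (D'.map WalkingSpan.Hom.snd).left (α.app WalkingSpan.zero).left (α.app WalkingSpan.right).left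
        j.left := (hα WalkingSpan.Hom.snd).map (Over.forget S)
    haveI : IsClosedImmersion (D'.map WalkingSpan.Hom.fst).left :=
      MorphismProperty.of_isPullback hX.flip ‹IsClosedImmersion i.left›
    haveI : IsAffineHom (D'.map WalkingSpan.Hom.snd).left :=
      MorphismProperty.of_isPullback hY.flip ‹IsAffineHom j.left›
    haveI := he WalkingSpan.left
    haveI := he WalkingSpan.right
    haveI := hsep WalkingSpan.left
    haveI := hsep WalkingSpan.right
    have hcY' := hc' _ _ _ _ _ hX hY
    have hP' := RingPO.isPushout_glued hcY'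
    haveI : IsAffineHom (RingPO.inX hcY') := RingPO.isAffineHom_inl hP' hcY'
    haveI : IsClosedImmersion (RingPO.inY hcY') := RingPO.isClosedImmersion_inr hP' hcY'
    obtain ⟨k, hkX, hkY⟩ : ∃ k : RingPO.glued (D'.map WalkingSpan.Hom.fst).left (D'.map WalkingSpan.Hom.snd).left ⟶ P.left,
        RingPO.inX hcY' ≫ k = (α.app WalkingSpan.left).left ≫ a.left ∧
        RingPO.inY hcY' ≫ k = (α.app WalkingSpan.right).left ≫ b.left :=
      ⟨hP'.desc _ _ (by rw [← Category.assoc, hX.w, Category.assoc, hs.w, ← Category.assoc, ← hY.w, Category.assoc]),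
        hP'.inl_desc _ _ _, hP'.inr_desc _ _ _⟩
    obtain ⟨hk, hpX, hpY⟩ := RingPO.etale_glue hs hc hP' hcY' hX hY hkX hkY
    let V : Over S := Over.mk (k ≫ P.hom)
    let a' : V ⟶ P := CategoryTheory.Over.homMk k rfl
    let cX : D'.obj WalkingSpan.left ⟶ V := CategoryTheory.Over.homMk (RingPO.inX hcY') (by
      show RingPO.inX hcY' ≫ k ≫ P.hom = _
      rw [← Category.assoc, hkX, Category.assoc, Over.w a]
      exact Over.w (α.app WalkingSpan.left))
    let cY : D'.obj WalkingSpan.right ⟶ V := CategoryTheory.Over.homMk (RingPO.inY hcY') (by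
      show RingPO.inY hcY' ≫ k ≫ P.hom = _
      rw [← Category.assoc, hkY, Category.assoc, Over.w b]
      exact Over.w (α.app WalkingSpan.right))
    have hwV : D'.map WalkingSpan.Hom.fst ≫ cX = D'.map WalkingSpan.Hom.snd ≫ cY := Over.OverMorphism.ext hP'.w
    have hl : IsPullback cX (α.app WalkingSpan.left) a' a :=
      IsPullback.of_map_of_faithful (Over.forget S) hpX.flip
    have hr : IsPullback cY (α.app WalkingSpan.right) a' b :=
      IsPullback.of_map_of_faithful (Over.forget S) hpY.flip
    refine ⟨{ pt := V
              ι := { app := fun o => match o with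
                      | none => D'.map WalkingSpan.Hom.fst ≫ cX
                      | some WalkingPair.left => cX
                      | some WalkingPair.right => cY
                     naturality := ?_ } }, a', hk, ?_⟩
    · intro o o' φ
      show _ = _ ≫ 𝟙 V
      rw [Category.comp_id]
      rcases φ with _ | _
      · rw [WidePushoutShape.hom_id, D'.map_id, Category.id_comp]
      · rename_i jj
        rcases jj with _ | _
        · rfl
        · exact hwV.symm
    · rintro (_ | (_ | _))
      · have := (hα WalkingSpan.Hom.fst).paste_horiz hl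
        exact this
      · exact hl
      · exact hr
  have key := (Groth.Agent.S10716.result (span i j) c₀ h₁ h₂ h₃ h₄).some
  exact IsPushout.of_isColimit' ⟨by rw [← Functor.map_comp, ← Functor.map_comp, hpo.w]⟩
    ((isColimitMapCoconePushoutCoconeEquiv (AlgSp.ofScheme S) hpo.w) key)

end Groth.Agent.AlgSpDec
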