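import Groth.Agent.FlatMisc.ProperRed
import Groth.Agent.AlgSpDec.ReducedStalk
import Groth.Agent.IsoNatLib.ProperInertia
import Groth.Prelude.Def_AlgSp4

/-!
# Reducedness of proper flat spaces over a discrete valuation ring with reduced special fibre
-/

set_option backward.isDefEq.respectTransparency false
set_option backward.isDefEq.respectTransparency.types false
set_option autoImplicit false

universe u

open CategoryTheory CategoryTheory.Limits AlgebraicGeometry AlgSp Groth.Agent.AlgSpLib

namespace Groth.Agent.AlgSpDec.ReducedOverDvr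

/-- A flat scheme locally of finite type over a DVR with reduced special fibre is reduced near the special fibre. -/
theorem exists_reduced_nhd {R : Type u} [CommRing R] [IsDomain R] [IsDiscreteValuationRing R] {U : Scheme.{u}}
    (f : U ⟶ Spec (CommRingCat.of R)) [LocallyOfFiniteType f] [Flat f]
    (hred : AlgebraicGeometry.IsReduced (f.fiber (IsLocalRing.closedPoint R))) (x : U)
    (hx : f x = IsLocalRing.closedPoint R) :
    ∃ W : U.Opens, x ∈ W ∧ AlgebraicGeometry.IsReduced W.toScheme := by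
  haveI : IsLocallyNoetherian U := LocallyOfFiniteType.isLocallyNoetherian f
  obtain ⟨_, ⟨V, hV, rfl⟩, hxV, -⟩ :=
    U.isBasis_affineOpens.exists_subset_of_mem_open (Set.mem_univ x) isOpen_univ
  replace hV : IsAffineOpen V := hV
  have hVU : V ≤ f ⁻¹ᵁ (⊤ : (Spec (CommRingCat.of R)).Opens) := fun _ _ => trivial
  let φ : R →+* Γ(U, V) := ((Scheme.ΓSpecIso (CommRingCat.of R)).inv ≫ f.appLE ⊤ V hVU).hom
  letI := φ.toAlgebra
  haveI : Module.Flat R Γ(U, V) := RingHom.Flat.comp
    (RingHom.Flat.of_bijective (ConcreteCategory.bijective_of_isIso (Scheme.ΓSpecIso (CommRingCat.of R)).inv))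
    (f.flat_appLE (isAffineOpen_top _) hV hVU)
  haveI : IsNoetherianRing Γ(U, V) := IsLocallyNoetherian.component_noetherian ⟨V, hV⟩
  let g := Spec.map (CommRingCat.ofHom (algebraMap R Γ(U, V)))
  have hg : g = hV.fromSpec ≫ f := by
    have h1 := (isAffineOpen_top (Spec (CommRingCat.of R))).SpecMap_appLE_fromSpec f hV hVU
    rw [← h1, IsAffineOpen.fromSpec_top, Scheme.isoSpec_Spec_inv, ← Spec.map_comp]
    rfl
  let P : PrimeSpectrum R := IsLocalRing.closedPoint R
  haveI hr2 : _root_.IsReduced (P.asIdeal.Fiber Γ(U, V)) := by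
    let Φ : g.fiber P ⟶ f.fiber P :=
      pullback.map g ((Spec (CommRingCat.of R)).fromSpecResidueField P) f ((Spec (CommRingCat.of R)).fromSpecResidueField P)
        hV.fromSpec (𝟙 _) (𝟙 _) (by rw [Category.comp_id]; exact hg) (by simp)
    haveI : IsOpenImmersion Φ := Scheme.pullback_map_isOpenImmersion _ _ _ _ _ _ _ _ _
    haveI : AlgebraicGeometry.IsReduced (f.fiber P) := hred
    haveI : AlgebraicGeometry.IsReduced (g.fiber P) := isReduced_of_isOpenImmersion Φ
    haveI : AlgebraicGeometry.IsReduced (Spec (CommRingCat.of (P.asIdeal.Fiber Γ(U, V)))) :=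
      @isReduced_of_isOpenImmersion _ _ (Spec.fiberToSpecResidueFieldIso R Γ(U, V) P).inv.left
        inferInstance (show AlgebraicGeometry.IsReduced (g.fiber P) from inferInstance)
    exact (affine_isReduced_iff (CommRingCat.of (P.asIdeal.Fiber Γ(U, V)))).mp inferInstance
  set q := hV.primeIdealOf ⟨x, hxV⟩
  have hq : (IsLocalRing.maximalIdeal R).map (algebraMap R Γ(U, V)) ≤ q.asIdeal := by
    rw [Ideal.map_le_iff_le_comap]
    have h1 : g.base q = IsLocalRing.closedPoint R := by
      rw [hg, Scheme.Hom.comp_apply]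
      show f (hV.fromSpec (hV.primeIdealOf ⟨x, hxV⟩)) = _
      rw [hV.fromSpec_primeIdealOf]
      exact hx
    exact le_of_eq (congrArg PrimeSpectrum.asIdeal h1).symm
  obtain ⟨s, hs⟩ := IsNoetherian.noetherian (nilradical Γ(U, V))
  choose t ht ht0 using fun a : s => FlatMisc.exists_notMem_mul_eq_zero_of_nilpotent hr2 q.asIdeal hq a.1
    (mem_nilradical.1 (hs.le (Submodule.subset_span a.2)))
  let t₀ := ∏ a : s, t a
  have ht₀ : t₀ ∉ q.asIdeal := fun h => by
    obtain ⟨a, -, ha⟩ := (q.isPrime.prod_mem_iff).1 h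
    exact ht a ha
  have hkill : ∀ z : Γ(U, V), IsNilpotent z → t₀ * z = 0 := fun z hz => by
    have hzs : z ∈ Submodule.span Γ(U, V) (s : Set Γ(U, V)) := hs.ge (mem_nilradical.2 hz)
    induction hzs using Submodule.span_induction with
    | mem a ha =>
      obtain ⟨c, hc⟩ := Finset.dvd_prod_of_mem t (Finset.mem_univ ⟨a, ha⟩)
      rw [show t₀ = t ⟨a, ha⟩ * c from hc, mul_comm (t ⟨a, ha⟩) c, mul_assoc, ht0 ⟨a, ha⟩, mul_zero]
    | zero => rw [mul_zero]
    | add a b ha hb iha ihb =>
      rw [mul_add, iha (mem_nilradical.1 (hs.le ha)), ihb (mem_nilradical.1 (hs.le hb)), add_zero]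
    | smul c a ha iha => rw [smul_eq_mul, mul_left_comm, iha (mem_nilradical.1 (hs.le ha)), mul_zero]
  refine ⟨U.basicOpen t₀, ?_, ?_⟩
  · have : hV.fromSpec q ∈ U.basicOpen t₀ := by
      rw [← Scheme.Hom.mem_preimage, hV.fromSpec_preimage_basicOpen]
      exact ht₀
    rwa [hV.fromSpec_primeIdealOf] at this
  · haveI := hV.isLocalization_basicOpen t₀
    haveI : _root_.IsReduced Γ(U, U.basicOpen t₀) := ⟨fun z hz => by
      obtain ⟨a, ⟨d, hd⟩, rfl⟩ := IsLocalization.exists_mk'_eq (Submonoid.powers t₀) z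
      rw [IsLocalization.mk'_eq_zero_iff]
      obtain ⟨n, hn⟩ := hz
      rw [← IsLocalization.mk'_pow, IsLocalization.mk'_eq_zero_iff] at hn
      obtain ⟨⟨e, ⟨k, rfl⟩⟩, hk⟩ := hn
      refine ⟨⟨t₀ * t₀ ^ k, ⟨k + 1, pow_succ' _ _⟩⟩, ?_⟩
      show t₀ * t₀ ^ k * a = 0
      rw [mul_assoc]
      refine hkill _ ⟨n + 1, ?_⟩
      change t₀ ^ k * a ^ n = 0 at hk
      rw [mul_pow, pow_succ' (t₀ ^ k), pow_succ a, mul_assoc, mul_left_comm ((t₀ ^ k) ^ n), ← mul_assoc (t₀ ^ k),
        show t₀ ^ k * a ^ n * ((t₀ ^ k) ^ n * a) = 0 by rw [hk, zero_mul]]⟩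
    haveI : IsAffine (U.basicOpen t₀).toScheme := hV.basicOpen t₀
    haveI : AlgebraicGeometry.IsReduced (Spec Γ(U, U.basicOpen t₀)) := (affine_isReduced_iff _).2 inferInstance
    exact isReduced_of_isOpenImmersion (hV.basicOpen t₀).isoSpec.hom

variable {R : Type u} [CommRing R] [IsDomain R] [IsDiscreteValuationRing R]
  {X : Sp (Spec (CommRingCat.of R))} (s : X ⟶ (yon (Spec (CommRingCat.of R))).obj (Over.mk (𝟙 _)))
  {U : Over (Spec (CommRingCat.of R))} {a : (yon _).obj U ⟶ X} {T : Over (Spec (CommRingCat.of R))}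

/-- The base change of an etale surjective chart to a scheme over the base is a chart of the fibre product. -/
theorem exists_bc_chart (ha : RepWith @Etale a) (has : RepWith @Surjective a) (η : T ⟶ Over.mk (𝟙 _))
    {XT : Sp (Spec (CommRingCat.of R))} {fst : XT ⟶ X} {snd : XT ⟶ (yon _).obj T}
    (sq : IsPullback fst snd s ((yon _).map η)) :
    ∃ (P : Over (Spec (CommRingCat.of R))) (p : (yon _).obj P ⟶ XT) (_ : P.left ≅ pullback U.hom T.hom),
      RepWith @Etale p ∧ RepWith @Surjective p := by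
  let P : Over (Spec (CommRingCat.of R)) := Over.mk (pullback.fst U.hom T.hom ≫ U.hom)
  let pU : P ⟶ U := Over.homMk (pullback.fst U.hom T.hom) rfl
  let pT : P ⟶ T := Over.homMk (pullback.snd U.hom T.hom) pullback.condition.symm
  obtain ⟨l, hl⟩ := (yon (Spec (CommRingCat.of R))).map_surjective (a ≫ s)
  have hl' : l.left = U.hom := (Category.comp_id _).symm.trans (Over.w l)
  have hη : η.left = T.hom := (Category.comp_id _).symm.trans (Over.w η)
  have sqO : IsPullback pU pT l η := IsPullback.of_map (Over.forget _)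
    (Over.OverMorphism.ext (by
      show pullback.fst U.hom T.hom ≫ l.left = pullback.snd U.hom T.hom ≫ η.left
      rw [hl', hη]; exact pullback.condition))
    (by
      show IsPullback (pullback.fst U.hom T.hom) (pullback.snd U.hom T.hom) l.left η.left
      rw [hl', hη]; exact IsPullback.of_hasPullback U.hom T.hom)
  have sq₁ := sqO.map (yon (Spec (CommRingCat.of R)))
  rw [hl] at sq₁
  obtain ⟨m, hm₁, hm₂⟩ := sq.exists_lift ((yon _).map pU ≫ a) ((yon _).map pT) (by
    rw [Category.assoc]; exact sq₁.w)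
  have sq₂ : IsPullback ((yon _).map pU) m a fst :=
    IsPullback.of_bot (by rw [hm₂]; exact sq₁) hm₁.symm sq
  exact ⟨P, m, Iso.refl _, repWith_of_isPullback sq₂ ha, repWith_of_isPullback sq₂ has⟩

theorem etaleLocally_isReduced (hX : IsAlgSpace X) (hs1 : IsProperMor s) (hs2 : LocP @Flat s)
    (h0 : ∀ (X0 : Sp (Spec (CommRingCat.of R))) (fst : X0 ⟶ X)
      (snd : X0 ⟶ (yon (Spec (CommRingCat.of R))).obj
        (Over.mk (Spec.map (CommRingCat.ofHom (IsLocalRing.residue R))))),
      IsPullback fst snd s ((yon (Spec (CommRingCat.of R))).map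
        (Over.homMk (Spec.map (CommRingCat.ofHom (IsLocalRing.residue R))) (Category.comp_id _) :
          Over.mk (Spec.map (CommRingCat.ofHom (IsLocalRing.residue R))) ⟶ Over.mk (𝟙 _))) →
      EtaleLocally (fun U => IsReduced U) X0) :
    EtaleLocally (fun U => IsReduced U) X ∧
      ∀ (T : Over (Spec (CommRingCat.of R))) (η : T ⟶ Over.mk (𝟙 _)) (_ : IsOpenImmersion T.hom)
        (XT : Sp (Spec (CommRingCat.of R))) (fst : XT ⟶ X) (snd : XT ⟶ (yon _).obj T),
        IsPullback fst snd s ((yon _).map η) → EtaleLocally (fun U => IsReduced U) XT := by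
  obtain ⟨U, a, ha, has⟩ := hX.atlas
  suffices hU : IsReduced U.left by
    refine ⟨⟨U, a, ha, has, hU⟩, fun T η hT XT fst snd sq => ?_⟩
    obtain ⟨P, p, e, hp, hps⟩ := exists_bc_chart s ha has η sq
    have : IsReduced (pullback U.hom T.hom) := isReduced_of_isOpenImmersion (pullback.fst U.hom T.hom)
    exact ⟨P, p, hp, hps, isReduced_of_isOpenImmersion e.hom⟩
  obtain ⟨l, hl⟩ := (yon (Spec (CommRingCat.of R))).map_surjective (a ≫ s)
  have hl' : l.left = U.hom := (Category.comp_id _).symm.trans (Over.w l)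
  have hid : RepWith @Etale (𝟙 ((yon (Spec (CommRingCat.of R))).obj (Over.mk (𝟙 _)))) := repWith_id _ _
  haveI : Flat U.hom := hl' ▸ hs2 a (𝟙 _) l ha hid (by rw [Category.comp_id, hl])
  haveI : LocallyOfFiniteType U.hom := hl' ▸ hs1.2.1.1 a (𝟙 _) l ha hid (by rw [Category.comp_id, hl])
  have hred : IsReduced (U.hom.fiber (IsLocalRing.closedPoint R)) := by
    let η : Over.mk (Spec.map (CommRingCat.ofHom (IsLocalRing.residue R))) ⟶ Over.mk (𝟙 _) :=
      Over.homMk (Spec.map (CommRingCat.ofHom (IsLocalRing.residue R))) (Category.comp_id _)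
    have sq := IsPullback.of_hasPullback s ((yon _).map η)
    obtain ⟨P, p, e, hp, hps⟩ := exists_bc_chart s ha has η sq
    haveI : IsReduced P.left := isReduced_chart (h0 _ _ _ sq) hp
    haveI : IsReduced (pullback U.hom (Spec.map (CommRingCat.ofHom (IsLocalRing.residue R)))) :=
      isReduced_of_isOpenImmersion e.inv
    let e' : (Spec (CommRingCat.of R)).residueField (IsLocalRing.closedPoint R) ≅
        CommRingCat.of (IsLocalRing.maximalIdeal R).ResidueField :=
      Scheme.Spec.residueFieldIso (CommRingCat.of R) (IsLocalRing.closedPoint R)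
    have hbij : Function.Bijective (algebraMap (R ⧸ IsLocalRing.maximalIdeal R) (IsLocalRing.maximalIdeal R).ResidueField) :=
      (IsLocalRing.maximalIdeal R).bijective_algebraMap_quotient_residueField
    let b : CommRingCat.of (IsLocalRing.ResidueField R) ≅ (Spec (CommRingCat.of R)).residueField (IsLocalRing.closedPoint R) :=
      (RingEquiv.ofBijective _ hbij).toCommRingCatIso ≪≫ e'.symm
    have hb : Spec.map b.hom ≫ Spec.map (CommRingCat.ofHom (IsLocalRing.residue R)) =
        (Spec (CommRingCat.of R)).fromSpecResidueField (IsLocalRing.closedPoint R) := by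
      rw [← Scheme.Spec.map_residueFieldIso_inv_eq_fromSpecResidueField, ← Spec.map_comp, ← Spec.map_comp]
      congr 1
    let Φ : U.hom.fiber (IsLocalRing.closedPoint R) ⟶
        pullback U.hom (Spec.map (CommRingCat.ofHom (IsLocalRing.residue R))) :=
      pullback.map _ _ _ _ (𝟙 _) (Spec.map b.hom) (𝟙 _) (by simp) (by rw [Category.comp_id, hb])
    exact isReduced_of_isOpenImmersion Φ
  have hclosed : IsClosedMap (Points.map s) :=
    hs1.2.2 (IsAlgSpace.yon_obj _) (𝟙 _) (𝟙 _) s (IsPullback.of_horiz_isIso ⟨by simp⟩)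
  have hsU : ∀ u : ↥U.left, Points.map s (Points.ofPt a u) = Points.ofScheme (Over.mk (𝟙 _)) (U.hom u) := fun u => by
    rw [Points.map_ofPt, ← hl, ← Category.comp_id ((yon _).map l), ofPt_comp, ← hl',
      Points.ofPt_eq_map_ofScheme, Points.map_id]
    rfl
  choose W hxW hW using exists_reduced_nhd U.hom hred
  haveI : ∀ u : ↥U.left, _root_.IsReduced (U.left.presheaf.stalk u) := by
    intro u
    have hy : Points.map s (Points.ofPt a u) ∈ Points.map s '' closure {Points.ofPt a u} :=
      ⟨_, subset_closure rfl, rfl⟩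
    let T₀ : Over (Spec (CommRingCat.of R)) := Over.mk (𝟙 _)
    have h1 : Points.ofScheme T₀ (IsLocalRing.closedPoint R) ∈ closure {Points.map s (Points.ofPt a u)} := by
      rw [hsU u]
      exact ((IsLocalRing.specializes_closedPoint (U.hom u : PrimeSpectrum R)).map
        (Points.schemeHomeo T₀).continuous).mem_closure
    obtain ⟨x, hx1, hx2⟩ :=
      (closure_minimal (Set.singleton_subset_iff.mpr hy) (hclosed _ isClosed_closure)) h1
    obtain ⟨u₀, rfl⟩ := surjective_ofPt has x
    have hu₀ : U.hom u₀ = IsLocalRing.closedPoint R := (Points.schemeEquiv T₀).injective ((hsU u₀).symm.trans hx2)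
    have hopen : IsOpen (Points.ofPt a '' (W u₀ hu₀ : Set ↥U.left)) := isOpenMap_ofPt ha _ (W u₀ hu₀).2
    obtain ⟨v, hv, hva⟩ := (specializes_iff_mem_closure.2 hx1).mem_open hopen ⟨u₀, hxW u₀ hu₀, rfl⟩
    haveI := hW u₀ hu₀
    refine isReduced_stalk_of_charts ha ha hva ?_
    exact isReduced_of_injective (((W u₀ hu₀).stalkIso ⟨v, hv⟩).inv).hom
      (ConcreteCategory.bijective_of_isIso ((W u₀ hu₀).stalkIso ⟨v, hv⟩).inv).1
  exact isReduced_of_isReduced_stalk U.left

end Groth.Agent.AlgSpDec.ReducedOverDvr
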