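import Groth.Agent.AlgSpDec.ImmCover
import Groth.Agent.AlgSpLib.LocP
import Groth.Agent.RegImmLib.EtDescent
import Groth.Agent.RegImmLib.KindComp
import Groth.Prelude.Def_AlgSpMor6

/-!
# Regular immersions of algebraic spaces
-/

set_option backward.isDefEq.respectTransparency false
set_option backward.isDefEq.respectTransparency.types false

universe u

open CategoryTheory Limits Opposite AlgebraicGeometry AlgSp Groth.Agent.AlgSpLib

namespace Groth.Agent.AlgSpDec

variable {S : Scheme.{u}} {F G : Sp S}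

theorem repWith_isImmersion_of_isRegImmMor {k : RegImm.Kind} {i : F ⟶ G} (hG : IsAlgSpace G)
    (h : IsRegImmMor k i) : RepWith @IsImmersion i := by
  obtain ⟨V, b, hb, hb'⟩ := hG.atlas
  have sq := h.1.isPullback b
  refine repWith_isImmersion_of_etale_cover hb hb' (fst := h.1.fst b) (snd := (yon S).map (h.1.snd b)) sq ?_
  exact (repWith_yon_map_iff _ _).2 (h.2 b _ _ hb sq).1

/-- Pullback squares of a representable morphism along a map are unique up to isomorphism. -/
theorem regImm_snd_congr {k : RegImm.Kind} {F G : Sp S} {f : F ⟶ G} {V W W' : Over S} {c : (yon S).obj V ⟶ G}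
    {fst : (yon S).obj W ⟶ F} {snd : W ⟶ V} {fst' : (yon S).obj W' ⟶ F} {snd' : W' ⟶ V}
    (sq : IsPullback fst ((yon S).map snd) f c) (sq' : IsPullback fst' ((yon S).map snd') f c) :
    ∃ e : W'.left ≅ W.left, e.hom ≫ snd.left = snd'.left := by
  let e := (yon S).preimageIso (sq'.isoIsPullback _ _ sq)
  refine ⟨(Over.forget S).mapIso e, ?_⟩
  have h : e.hom ≫ snd = snd' := (yon S).map_injective (by
    simp only [e, Functor.map_comp, Functor.preimageIso_hom, Functor.map_preimage]
    exact IsPullback.isoIsPullback_hom_snd _ _ _ _)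
  exact congrArg CommaMorphism.left h

theorem regImm_isPullback {k : RegImm.Kind} {X X' Y Y' : Scheme.{u}} {i : Y ⟶ X} {g : X' ⟶ X} [Flat g]
    {i' : Y' ⟶ X'} {g' : Y' ⟶ Y} (sq : IsPullback g' i' i g) (h : RegImm.IsRegularImmersion k i) :
    RegImm.IsRegularImmersion k i' :=
  ⟨MorphismProperty.of_isPullback (P := @IsImmersion) sq h.1, fun z' =>
    Groth.Agent.RegImmLib.isRegularImmersionAt_baseChange sq k z' (h.2 _)⟩

theorem regImm_of_iso {k : RegImm.Kind} {X Y Y' : Scheme.{u}} {i : Y ⟶ X} {i' : Y' ⟶ X} (e : Y' ≅ Y)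
    (he : e.hom ≫ i = i') (h : RegImm.IsRegularImmersion k i) : RegImm.IsRegularImmersion k i' :=
  regImm_isPullback (g := 𝟙 X) (g' := e.hom) (IsPullback.of_horiz_isIso ⟨by rw [Category.comp_id, he]⟩) h

/-- **Flat base change of a regular immersion of algebraic spaces.** -/
theorem isRegImmMor_of_isPullback {k : RegImm.Kind} (hk : k ≠ .regular) {Z X X' P : Sp S} (hX : IsAlgSpace X)
    (hX' : IsAlgSpace X') {i : Z ⟶ X} {g : X' ⟶ X} (hi : IsRegImmMor k i) (hg : LocP @Flat g)
    {fst : P ⟶ Z} {i' : P ⟶ X'} (sq : IsPullback fst i' i g) : IsRegImmMor k i' := by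
  have himm : RepWith @IsImmersion i' :=
    repWith_of_isPullback sq (repWith_isImmersion_of_isRegImmMor hX hi)
  refine ⟨himm.rep, fun V W b fst' snd hb sq' => ?_⟩
  obtain ⟨U, a, ha, ha'⟩ := hX.atlas
  let q := ha.rep.snd (b ≫ g)
  let r := ha.rep.fst' (b ≫ g)
  have hq : Etale q.left := ha.property_snd (b ≫ g)
  have hq' : Surjective q.left := ha'.property _ _ _ (ha.rep.isPullback (b ≫ g))
  have hw : (yon S).map r ≫ a = (yon S).map q ≫ b ≫ g := (ha.rep.isPullback' (b ≫ g)).w
  have hqb : RepWith @Etale ((yon S).map q ≫ b) :=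
    repWith_comp ((repWith_yon_map_iff _ q).2 hq) hb
  have hr : Flat r.left := hg ((yon S).map q ≫ b) a r hqb ha (by rw [Category.assoc, hw])
  have e₁ := ((IsPullback.of_hasPullback snd q).map (yon S)).paste_horiz (sq'.paste_horiz sq)
  have e₂ := ((IsPullback.of_hasPullback (hi.1.snd a) r).map (yon S)).paste_horiz (hi.1.isPullback a)
  rw [← hw] at e₁
  obtain ⟨e, he⟩ := regImm_snd_congr (k := k) e₂ e₁
  have h2 : RegImm.IsRegularImmersion k (pullback.snd (hi.1.snd a) r).left :=
    @regImm_isPullback k _ _ _ _ _ _ hr _ _ ((IsPullback.of_hasPullback (hi.1.snd a) r).map (Over.forget S))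
      (hi.2 a _ _ ha (hi.1.isPullback a))
  haveI : IsImmersion snd.left := himm.property b fst' snd sq'
  exact Groth.Agent.RegImmLib.isRegularImmersion_of_flat_open k hk snd.left q.left _ _
    ((IsPullback.of_hasPullback snd q).map (Over.forget S)) (regImm_of_iso e he h2)

end Groth.Agent.AlgSpDec
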