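import Groth.Agent.AlgSpDec.MonoPoint
import Groth.Agent.AlgSpDec.Glue
import Groth.Agent.AlgSpDec.Fibres
import Groth.Agent.AlgSpDec.SchImage
import Mathlib.Topology.Spectral.ConstructibleTopology

/-!
# Factorisation of reduced spaces through a residual space of a locally noetherian space
-/

set_option backward.isDefEq.respectTransparency false
set_option backward.isDefEq.respectTransparency.types false

universe u

open CategoryTheory Limits Opposite AlgebraicGeometry AlgSp Groth.Agent.AlgSpLib Groth.Agent.AlgSpPts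

namespace Groth.Agent.AlgSpDec

/-- In a spectral space a partition by closed sets with quasi-compact complements consists of open sets. -/
theorem isOpen_of_partition {B : Type u} [TopologicalSpace B] [CompactSpace B] [QuasiSober B] [PrespectralSpace B]
    [QuasiSeparatedSpace B] {ι : Type u} (Z : ι → Set B) (hc : ∀ i, IsClosed (Z i))
    (hk : ∀ i, IsCompact (Z i)ᶜ) (hd : ∀ i j b, b ∈ Z i → b ∈ Z j → i = j) (hcov : ∀ b, ∃ i, b ∈ Z i) (i : ι) :
    IsOpen (Z i) := by
  classical
  let π := WithTopology.ofTopology (t := constructibleTopology B)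
  have ho : ∀ j, IsOpen (π ⁻¹' Z j) := fun j => by
    rw [WithConstructibleTopology.isOpen_iff]
    convert IsCompact.isOpen_constructibleTopology_of_isClosed (hk j) (hc j) using 1
    ext; simp [π]
  obtain ⟨t, ht⟩ := (isCompact_univ (X := WithConstructibleTopology B)).elim_finite_subcover _ ho
    (fun x _ => Set.mem_iUnion.2 (hcov (π x)))
  have he : Z i = (⋃ j ∈ t.erase i, Z j)ᶜ := by
    ext b
    simp only [Set.mem_compl_iff, Set.mem_iUnion, not_exists]
    refine ⟨fun hb j hj hbj => (Finset.mem_erase.1 hj).1 (hd j i b hbj hb), fun h => ?_⟩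
    obtain ⟨j, hj, hbj⟩ := Set.mem_iUnion₂.1 (ht (Set.mem_univ (WithTopology.toTopology _ b)))
    have hbj' : b ∈ Z j := by simpa [π] using hbj
    by_cases hji : j = i
    · exact hji ▸ hbj'
    · exact (h j (Finset.mem_erase.2 ⟨hji, hj⟩) hbj').elim
  rw [he, isOpen_compl_iff]
  exact (t.erase i).finite_toSet.isClosed_biUnion fun j _ => hc j

/-- A map from an affine scheme to a noetherian affine scheme whose image has no specialisations is locally constant. -/
theorem isOpen_preimage_singleton_of_noSpec {B A : Scheme.{u}} [IsAffine B] [IsAffine A] [IsLocallyNoetherian A]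
    (g : B ⟶ A) (h : ∀ b b' : B, g b ⤳ g b' → g b = g b') (a : A) : IsOpen (g ⁻¹' {a}) := by
  by_cases ha : a ∈ Set.range g
  · obtain ⟨b₀, rfl⟩ := ha
    have hpre : ∀ c : ↥(Set.range g), g ⁻¹' {(c : ↥A)} = g ⁻¹' closure {(c : ↥A)} := by
      rintro ⟨_, b, rfl⟩
      ext b'
      exact ⟨fun hb => subset_closure hb, fun hb => (h b b' (specializes_iff_mem_closure.2 hb)).symm⟩
    have : IsNoetherian A := { }
    refine isOpen_of_partition (fun c : ↥(Set.range g) => g ⁻¹' {(c : ↥A)}) (fun c => ?_) (fun c => ?_)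
      (fun i j b hi hj => Subtype.ext (hi.symm.trans hj)) (fun b => ⟨⟨g b, b, rfl⟩, rfl⟩) ⟨g b₀, b₀, rfl⟩
    · rw [hpre c]; exact isClosed_closure.preimage g.continuous
    · rw [hpre c, ← Set.preimage_compl]
      exact g.isCompact_preimage (U := ⟨_, isClosed_closure.isOpen_compl⟩) (TopologicalSpace.NoetherianSpace.isCompact _)
  · rw [show g ⁻¹' {a} = ∅ from Set.eq_empty_iff_forall_notMem.2 fun b hb => ha ⟨b, hb⟩]
    exact isOpen_empty

variable {S : Scheme.{u}}

/-- A map from a reduced scheme to a locally noetherian space with image one point factors through any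
one-point monomorphism with that image. -/
theorem exists_factor_residual_scheme {X Z : Sp S} (hX : IsAlgSpace X) (hZ : IsAlgSpace Z) (i : Z ⟶ X) [Mono i]
    {x : Points X} (hi : x ∈ Set.range (Points.map i)) {U : Over S} [IsLocallyNoetherian U.left]
    {a : (yon S).obj U ⟶ X} (ha : RepWith @Etale a) {W : Over S} [IsReduced W.left] (g : W ⟶ U)
    (hg : ∀ w, Points.ofPt a (g.left w) = x) : ∃ l, l ≫ i = (yon S).map g ≫ a := by
  obtain ⟨z, hz⟩ := hi
  have hfac : ∀ v : ↥U.left, Points.ofPt a v = x → ∃ l, l ≫ i =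
      (yon S).map (Over.homMk (U.left.fromSpecResidueField v) rfl : Over.mk (U.left.fromSpecResidueField v ≫ U.hom) ⟶ U) ≫ a := by
    intro v hv
    let q := FieldPt.ofPt a v
    have hq : q.toHom = _ := FieldPt.toHom_ofPt a v
    obtain ⟨y, -, -⟩ := exists_point_of_isPullback (IsPullback.of_hasPullback q.toHom i)
      (x := Points.ofScheme q.pt (IsLocalRing.closedPoint q.K)) (y := z)
      ((((Points.ofPt_eq_map_ofScheme q.toHom (IsLocalRing.closedPoint q.K)).symm.trans
        (Points.ofPt_toHom q _)).trans hv).trans hz.symm)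
    have : IsIso (pullback.fst q.toHom i) := isIso_of_mono_field (str := q.str)
      (isAlgSpace_pullback (IsAlgSpace.yon_obj _) hZ hX _ _) (pullback.fst q.toHom i) y
    exact ⟨inv (pullback.fst q.toHom i) ≫ pullback.snd _ _, by
      rw [Category.assoc, ← pullback.condition, IsIso.inv_hom_id_assoc]; exact hq⟩
  have hloc : ∀ w : ↥W.left, ∃ O : W.left.Opens, w ∈ O ∧ ∃ l, l ≫ i =
      (yon S).map ((Over.homMk O.ι rfl : Over.mk (O.ι ≫ W.hom) ⟶ W) ≫ g) ≫ a := by
    intro w
    obtain ⟨A, hA, hwA, -⟩ := exists_isAffineOpen_mem_and_subset (U := (⊤ : U.left.Opens)) (x := g.left w) trivial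
    obtain ⟨B, hB, hwB, hBA⟩ := exists_isAffineOpen_mem_and_subset (U := g.left ⁻¹ᵁ A) (x := w) hwA
    have : IsAffine A.toScheme := hA
    have : IsAffine B.toScheme := hB
    let gB : B.toScheme ⟶ A.toScheme := IsOpenImmersion.lift A.ι (B.ι ≫ g.left) (by
      rw [Scheme.Opens.range_ι]; rintro _ ⟨o, rfl⟩; exact hBA o.2)
    have hgB : ∀ b, A.ι (gB b) = g.left (B.ι b) := fun b => by
      rw [← Scheme.Hom.comp_apply, IsOpenImmersion.lift_fac, Scheme.Hom.comp_apply]
    have hop : IsOpen (gB ⁻¹' {gB ⟨w, hwB⟩}) := isOpen_preimage_singleton_of_noSpec gB (fun b b' hs => by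
      refine A.ι.isOpenEmbedding.injective (eq_of_specializes_of_isLocallyNoetherian ha ?_
        (hs.map A.ι.continuous)).symm
      rw [hgB, hgB, hg, hg]) _
    let O : W.left.Opens := ⟨B.ι '' (gB ⁻¹' {gB ⟨w, hwB⟩}), B.ι.isOpenEmbedding.isOpenMap _ hop⟩
    have hwO : w ∈ O := ⟨⟨w, hwB⟩, rfl, rfl⟩
    refine ⟨O, hwO, ?_⟩
    have : IsReduced O.toScheme := isReduced_of_isOpenImmersion O.ι
    obtain ⟨l₀, hl₀⟩ := exists_factor_residueField (O.ι ≫ g.left) (g.left w) fun o => by
      obtain ⟨b, hb, hbo⟩ := o.2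
      rw [Scheme.Hom.comp_apply]
      change g.left o.1 = _
      rw [← hbo, ← hgB, Set.mem_singleton_iff.1 hb, hgB]
      rfl
    obtain ⟨l, hl⟩ := hfac (g.left w) (hg w)
    let l' : Over.mk (O.ι ≫ W.hom) ⟶ Over.mk (U.left.fromSpecResidueField (g.left w) ≫ U.hom) :=
      CategoryTheory.Over.homMk l₀ (by
        change l₀ ≫ _ ≫ U.hom = O.ι ≫ W.hom
        rw [reassoc_of% hl₀, CategoryTheory.Over.w])
    refine ⟨(yon S).map l' ≫ l, ?_⟩
    rw [Category.assoc, hl, ← Functor.map_comp_assoc]
    congr 2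
    exact Over.OverMorphism.ext hl₀
  choose O hmem l hl using hloc
  let 𝒰 : W.left.OpenCover := W.left.openCoverOfIsOpenCover O (TopologicalSpace.IsOpenCover.mk
    (top_unique fun w _ => TopologicalSpace.Opens.mem_iSup.2 ⟨w, hmem w⟩))
  let inc : ∀ w, Over.mk ((O w).ι ≫ W.hom) ⟶ W := fun w => CategoryTheory.Over.homMk (O w).ι rfl
  have hR : Sieve.ofArrows _ inc ∈ J S W :=
    mem_J_of_openCover (T := W) 𝒰 _ fun j => Sieve.ofArrows_mk _ inc j
  have hs : Presieve.IsSheafFor Z.obj (Presieve.ofArrows _ inc) :=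
    (Presieve.isSheafFor_iff_generate _).2 (((isSheaf_iff_isSheaf_of_type _ _).1 Z.property) _ hR)
  obtain ⟨t, ht, -⟩ := (Presieve.isSheafFor_arrows_iff _ _).1 hs
    (fun w => (J S).uliftYonedaEquiv (l w)) (fun w w' T p q hpq => by
      rw [uliftYonedaEquiv_precomp, uliftYonedaEquiv_precomp]
      congr 1
      rw [← cancel_mono i, Category.assoc, Category.assoc, hl, hl, ← Functor.map_comp_assoc,
        ← Functor.map_comp_assoc, reassoc_of% hpq])
  refine ⟨(J S).uliftYonedaEquiv.symm t, hom_ext_of_covering _ _ hR ?_⟩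
  rintro T φ ⟨_, r, _, ⟨w⟩, rfl⟩
  have hw : (yon S).map (inc w) ≫ (J S).uliftYonedaEquiv.symm t = l w := (J S).uliftYonedaEquiv.injective (by
    rw [← uliftYonedaEquiv_precomp, Equiv.apply_symm_apply, ht])
  rw [Functor.map_comp, Category.assoc, Category.assoc, reassoc_of% hw, hl, ← Functor.map_comp_assoc]
  simp [inc]

end Groth.Agent.AlgSpDec
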