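import Groth.Agent.AlgSpDec.LqfQuot
import Groth.Agent.AlgSpDec.SpQuot
import Groth.Agent.AlgSpDec.EtField
import Groth.Agent.AlgSpPts.Field
import Groth.Agent.AlgSpDec.MonoTfae
import Groth.Agent.CurvLocusLib.LocP

/-!
# A monomorphism from a one point space onto a given point
-/

set_option autoImplicit false
set_option backward.isDefEq.respectTransparency false
set_option backward.isDefEq.respectTransparency.types false

universe u

open CategoryTheory Limits Opposite AlgebraicGeometry MorphismProperty AlgSp Groth.Agent.AlgSpLib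
  Groth.Agent.AlgSpPts

namespace Groth.Agent.AlgSpDec.ResidualPoint

/-- A monomorphism to a discrete reduced scheme is an open immersion. -/
theorem isOpenImmersion_of_mono_discrete {P D : Scheme.{u}} (f : P ⟶ D) [Mono f] [DiscreteTopology D]
    [IsReduced D] : IsOpenImmersion f := by
  let O : D → D.Opens := fun w => ⟨{w}, isOpen_discrete _⟩
  refine IsZariskiLocalAtTarget.of_iSup_eq_top O ?_ fun w => ?_
  · exact eq_top_iff.2 fun w _ => TopologicalSpace.Opens.mem_iSup.2 ⟨w, rfl⟩
  rcases isEmpty_or_nonempty ↥(f ⁻¹ᵁ O w) with he | he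
  · have : IsEmpty ↥((f ⁻¹ᵁ O w : P.Opens) : Scheme.{u}) := he
    infer_instance
  · have hne : Nonempty ↥((f ⁻¹ᵁ O w : P.Opens) : Scheme.{u}) := he
    have hsub : Subsingleton ↥((O w : D.Opens) : Scheme.{u}) := ⟨fun a b => Subtype.ext (a.2.trans b.2.symm)⟩
    have : Nonempty ↥((O w : D.Opens) : Scheme.{u}) := ⟨⟨w, rfl⟩⟩
    have : IrreducibleSpace ↥((O w : D.Opens) : Scheme.{u}) :=
      { toNonempty := ⟨⟨w, rfl⟩⟩, isPreirreducible_univ := fun U V _ _ ⟨a, _, ha⟩ ⟨b, _, hb⟩ => ⟨a, trivial, ha, Subsingleton.elim b a ▸ hb⟩ }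
    have : IsIntegral ((O w : D.Opens) : Scheme.{u}) := isIntegral_of_irreducibleSpace_of_isReduced _
    let E : Scheme.{u} := ((O w : D.Opens) : Scheme.{u})
    have hOa : IsAffineOpen (O w) := by
      obtain ⟨W, hW, hw, -⟩ := exists_isAffineOpen_mem_and_subset (U := (⊤ : E.Opens)) (x := (⟨w, rfl⟩ : E)) trivial
      obtain rfl : W = ⊤ := eq_top_iff.2 fun y _ => Subsingleton.elim (α := E) ⟨w, rfl⟩ y ▸ hw
      have : IsAffine (⊤ : E.Opens).toScheme := hW
      exact IsAffine.of_isIso E.topIso.inv (Y := (⊤ : E.Opens).toScheme)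
    have : IsAffine E := hOa
    let K := Γ(E, ⊤)
    letI : Field K := (isField_of_isIntegral_of_subsingleton E).toField
    let g : ((f ⁻¹ᵁ O w : P.Opens) : Scheme.{u}) ⟶ Spec (CommRingCat.of K) := (f ∣_ O w) ≫ E.isoSpec.hom
    have : Mono (f ∣_ O w) := MorphismProperty.of_isPullback (P := MorphismProperty.monomorphisms Scheme.{u})
      (isPullback_morphismRestrict f (O w)).flip (inferInstanceAs (Mono f))
    have : Mono g := mono_comp _ _
    have : IsIso g := isIso_of_mono_to_field g
    have : IsIso (f ∣_ O w) := IsIso.of_isIso_comp_right (f ∣_ O w) E.isoSpec.hom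
    infer_instance

theorem discrete_reduced_of_etale_field {K : Type u} [Field K] {D : Scheme.{u}}
    (h : D ⟶ Spec (CommRingCat.of K)) [Etale h] : DiscreteTopology D ∧ IsReduced D := by
  refine ⟨?_, ?_⟩
  · have h3 := h.isDiscrete_preimage_singleton (IsLocalRing.closedPoint K)
    rw [show h ⁻¹' {IsLocalRing.closedPoint K} = Set.univ from
      Set.eq_univ_of_forall fun x => Subsingleton.elim (α := PrimeSpectrum K) _ _] at h3
    exact isDiscrete_univ_iff.1 h3
  · have : ∀ d : D, _root_.IsReduced (D.presheaf.stalk d) := fun d => by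
      letI := (IsLocalRing.isField_iff_maximalIdeal_eq.mpr (CurvLocusLib.maximalIdeal_eq_bot_of_etale h d)).toField
      infer_instance
    exact isReduced_of_isReduced_stalk D

/-- If one projection of the self product of an etale scheme is etale, restricting to a point keeps it etale. -/
theorem etale_restrict_point {S : Scheme.{u}} {X : Sp S} {U : Over S} {a : (yon S).obj U ⟶ X}
    (ha : RepWith @Etale a) (u : U.left) {R : Over S} {t s : R ⟶ Over.mk (U.left.fromSpecResidueField u ≫ U.hom)}
    (sq : IsPullback ((yon S).map t) ((yon S).map s)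
      ((yon S).map (Over.homMk (U.left.fromSpecResidueField u) rfl :
        Over.mk (U.left.fromSpecResidueField u ≫ U.hom) ⟶ U) ≫ a)
      ((yon S).map (Over.homMk (U.left.fromSpecResidueField u) rfl :
        Over.mk (U.left.fromSpecResidueField u ≫ U.hom) ⟶ U) ≫ a)) : Etale s.left := by
  let P : Over S := Over.mk (U.left.fromSpecResidueField u ≫ U.hom)
  let j : P ⟶ U := Over.homMk (U.left.fromSpecResidueField u) rfl
  let q : (yon S).obj P ⟶ X := (yon S).map j ≫ a
  let R₁ := ha.rep.pullback q
  let r₁ : R₁ ⟶ P := ha.rep.snd q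
  have hr₁ : Etale r₁.left := ha.property_snd q
  let l : R ⟶ R₁ := ha.rep.lift' (t ≫ j) s (by rw [Functor.map_comp, Category.assoc]; exact sq.w)
  have hl1 : l ≫ ha.rep.fst' q = t ≫ j := ha.rep.lift'_fst _ _ _
  have hl2 : l ≫ r₁ = s := ha.rep.lift'_snd _ _ _
  have : Mono j := by
    have : Mono j.left := inferInstanceAs (Mono (U.left.fromSpecResidueField u))
    exact (Over.forget S).mono_of_mono_map this
  have : Mono l := ⟨fun x y h => by
    have h1 : x ≫ t = y ≫ t := by
      rw [← cancel_mono j, Category.assoc, Category.assoc, ← hl1, reassoc_of% h]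
    have h2 : x ≫ s = y ≫ s := by rw [← hl2, reassoc_of% h]
    apply (yon S).map_injective
    apply sq.hom_ext
    · rw [← Functor.map_comp, ← Functor.map_comp, h1]
    · rw [← Functor.map_comp, ← Functor.map_comp, h2]⟩
  have : Mono l.left := inferInstanceAs (Mono ((Over.forget S).map l))
  obtain ⟨hd, hred⟩ := discrete_reduced_of_etale_field (K := U.left.residueField u) r₁.left
  have := isOpenImmersion_of_mono_discrete l.left
  have e : l.left ≫ r₁.left = s.left := congrArg Over.Hom.left hl2
  rw [← e]
  infer_instance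

theorem exists_mono_point {S : Scheme.{u}} (X : Space S) (x : Points X.obj) :
    ∃ (Z : AlgSp.Space S) (i : Z ⟶ X), Mono i.hom ∧ Set.range (AlgSp.Points.map i.hom) = {x} ∧
      ∃ (k : Type u) (_ : Field k) (str : Spec (CommRingCat.of k) ⟶ S) (p : (AlgSp.yon S).obj (Over.mk str) ⟶ Z.obj),
        AlgSp.LocP @LocallyOfFinitePresentation p ∧ AlgSp.LocP @Flat p ∧ AlgSp.IsSurjectiveMor p := by
  obtain ⟨U, a, u, -, ha, rfl⟩ := exists_affine_chart_at X.property x
  let P : Over S := Over.mk (U.left.fromSpecResidueField u ≫ U.hom)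
  let j : P ⟶ U := Over.homMk (U.left.fromSpecResidueField u) rfl
  let q : (yon S).obj P ⟶ X.obj := (yon S).map j ≫ a
  have hq : Representable q := X.property.representable_from_yon q
  let R := hq.pullback q
  let t : R ⟶ P := hq.fst' q
  let s : R ⟶ P := hq.snd q
  have sq : IsPullback ((yon S).map t) ((yon S).map s) q q := hq.isPullback' q
  have hs : Etale s.left := etale_restrict_point ha u sq
  have ht : Etale t.left := etale_restrict_point ha u sq.flip
  let π : (yon S).obj P ⟶ Limits.image q := factorThruImage q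
  have hπ : π ≫ image.ι q = q := image.fac q
  have : Epi π := inferInstance
  have : Sheaf.IsLocallySurjective π := (Sheaf.isLocallySurjective_iff_epi π).2 inferInstance
  have sqπ : IsPullback ((yon S).map t) ((yon S).map s) π π := by
    have hc : ∀ {T : Sp S} (x y : T ⟶ (yon S).obj P), x ≫ π = y ≫ π ↔ x ≫ q = y ≫ q := fun x y => by
      rw [← cancel_mono (image.ι q), Category.assoc, Category.assoc, hπ]
    exact ⟨⟨(hc _ _).2 sq.w⟩, ⟨PullbackCone.IsLimit.mk _ (fun c => sq.lift c.fst c.snd ((hc _ _).1 c.condition))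
      (fun c => sq.lift_fst _ _ _) (fun c => sq.lift_snd _ _ _)
      (fun c m h₁ h₂ => sq.hom_ext (by rw [sq.lift_fst, h₁]) (by rw [sq.lift_snd, h₂]))⟩⟩
  have hZ : IsAlgSpace (Limits.image q) := isAlgSpace_of_flat_kernelPair sqπ
  have hr : Representable π := hZ.representable_from_yon π
  have := isLocalAtTarget_fppf (@Flat : MorphismProperty Scheme.{u})
  have := isLocalAtTarget_fppf (@LocallyOfFinitePresentation : MorphismProperty Scheme.{u})
  have hfl := locP_of_repWith (repWith_of_locallySurjective hr _ sqπ @Flat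
    ((repWith_yon_map_iff _ _).2 (inferInstanceAs (Flat s.left))))
  have hfp := locP_of_repWith (repWith_of_locallySurjective hr _ sqπ @LocallyOfFinitePresentation
    ((repWith_yon_map_iff _ _).2 (inferInstanceAs (LocallyOfFinitePresentation s.left))))
  let i : (⟨Limits.image q, hZ⟩ : Space S) ⟶ X := ObjectProperty.homMk (image.ι q)
  have := isLocalAtTarget_fppf (@Surjective : MorphismProperty Scheme.{u})
  have hss : Surjective s.left := ⟨fun z => by
    obtain ⟨e, he⟩ := (yon S).map_surjective (sq.lift (𝟙 _) (𝟙 _) rfl)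
    have h2 : e ≫ s = 𝟙 P := (yon S).map_injective (by
      rw [Functor.map_comp, he, sq.lift_snd, CategoryTheory.Functor.map_id])
    exact ⟨e.left z, by rw [← Scheme.Hom.comp_apply, ← Over.comp_left, h2]; rfl⟩⟩
  have hsur : IsSurjectiveMor π := fun z => surjective_map_of_repWith
    (repWith_of_locallySurjective hr _ sqπ @Surjective ((repWith_yon_map_iff _ _).2 hss)) z
  refine ⟨⟨_, hZ⟩, i, inferInstanceAs (Mono (image.ι q)), ?_,
    U.left.residueField u, inferInstance, _, π, hfp, hfl, hsur⟩
  have hall : ∀ z, Points.map q z = Points.ofPt a u := fun z => by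
    rw [← Points.ofScheme_toScheme P z, ← Points.ofPt_eq_map_ofScheme, ofPt_comp]
    congr 1
    exact Scheme.fromSpecResidueField_apply _ _
  refine Set.Subset.antisymm ?_ ?_
  · rintro _ ⟨z, rfl⟩
    obtain ⟨w, rfl⟩ := hsur z
    show Points.map (image.ι q) (Points.map π w) = _
    rw [← Points.map_comp, hπ, hall]
  · rintro _ rfl
    obtain ⟨w⟩ : Nonempty (Points ((yon S).obj P)) :=
      ⟨Points.ofScheme P (IsLocalRing.closedPoint (U.left.residueField u))⟩
    refine ⟨Points.map π w, ?_⟩
    show Points.map (image.ι q) (Points.map π w) = _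
    rw [← Points.map_comp, hπ, hall]

end Groth.Agent.AlgSpDec.ResidualPoint
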