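import Groth.Agent.S10042
import Mathlib.AlgebraicGeometry.AffineScheme
import Mathlib.RingTheory.Spectrum.Prime.Topology

/-!
# A closed subset of an affine fibre product avoiding one fibre is separated from it by finitely many functions
-/

set_option autoImplicit false
set_option backward.isDefEq.respectTransparency false
set_option backward.isDefEq.respectTransparency.types false

universe u

open CategoryTheory Limits AlgebraicGeometry CommRingCat TopologicalSpace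
open scoped TensorProduct

namespace Groth.Agent.AlgSpDec.SepClosed

theorem exists_finset_closure {R A B C : Type u} [CommRing R] [CommRing A] [CommRing B] [CommRing C] [Algebra R A]
    [Algebra R B] (φ : A ⊗[R] B →+* C) (z : A ⊗[R] B) :
    ∃ G : Finset B, φ z ∈ Subring.closure
      (Set.range (fun x : A => φ (x ⊗ₜ 1)) ∪ (fun y : B => φ (1 ⊗ₜ y)) '' G) := by
  classical
  induction z using TensorProduct.induction_on with
  | zero => exact ⟨∅, by rw [map_zero]; exact zero_mem _⟩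
  | tmul x y =>
    refine ⟨{y}, ?_⟩
    rw [show (x ⊗ₜ[R] y) = (x ⊗ₜ 1) * (1 ⊗ₜ y) by simp, map_mul]
    exact mul_mem (Subring.subset_closure (Or.inl ⟨x, rfl⟩)) (Subring.subset_closure (Or.inr ⟨y, by simp, rfl⟩))
  | add x y hx hy =>
    obtain ⟨G, hG⟩ := hx
    obtain ⟨G', hG'⟩ := hy
    refine ⟨G ∪ G', ?_⟩
    rw [map_add]
    exact add_mem (Subring.closure_mono (Set.union_subset_union_right _ (Set.image_mono (by simp))) hG)
      (Subring.closure_mono (Set.union_subset_union_right _ (Set.image_mono (by simp))) hG')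

theorem isoSpec_inv_appTop_eq (X : Scheme.{u}) [IsAffine X] :
    X.isoSpec.inv.appTop = (Scheme.ΓSpecIso Γ(X, ⊤)).inv := by
  rw [← cancel_mono X.isoSpec.hom.appTop, ← Scheme.Hom.comp_appTop, Iso.hom_inv_id, Scheme.isoSpec_hom,
    Scheme.toSpecΓ_appTop, Iso.inv_hom_id]
  simp

set_option maxHeartbeats 800000 in
theorem exists_vector {W U V : Scheme.{u}} [IsAffine W] [IsAffine U] [IsAffine V] (h : U ⟶ W) (k : V ⟶ W)
    (v : ↥V) :
    ∃ (UV : Scheme.{u}) (e₁ : UV ⟶ U) (e₂ : UV ⟶ V), IsPullback e₁ e₂ h k ∧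
      ∀ T : Set ↥UV, IsClosed T → (∀ t ∈ T, e₂ t ≠ v) →
        ∃ (n : ℕ) (g : ULift.{u} (Fin n) → Γ(V, ⊤)),
          ∀ (P : Scheme.{u}) (p₁ : P ⟶ U) (p₂ : P ⟶ 𝔸(ULift.{u} (Fin n); W)) (m : UV ⟶ P),
            m ≫ p₁ = e₁ → m ≫ p₂ = e₂ ≫ AffineSpace.homOfVector k g →
            ∀ x ∈ closure (m '' T), p₂ x ≠ AffineSpace.homOfVector k g v := by
  classical
  letI := h.appTop.hom.toAlgebra
  letI := k.appTop.hom.toAlgebra
  let inl : Γ(U, ⊤) →+* Γ(U, ⊤) ⊗[Γ(W, ⊤)] Γ(V, ⊤) := Algebra.TensorProduct.includeLeftRingHom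
  let inr : Γ(V, ⊤) →+* Γ(U, ⊤) ⊗[Γ(W, ⊤)] Γ(V, ⊤) :=
    (Algebra.TensorProduct.includeRight : Γ(V, ⊤) →ₐ[Γ(W, ⊤)] Γ(U, ⊤) ⊗[Γ(W, ⊤)] Γ(V, ⊤)).toRingHom
  let UV : Scheme.{u} := Spec (CommRingCat.of (Γ(U, ⊤) ⊗[Γ(W, ⊤)] Γ(V, ⊤)))
  let e₁ : UV ⟶ U := Spec.map (CommRingCat.ofHom inl) ≫ U.isoSpec.inv
  let e₂ : UV ⟶ V := Spec.map (CommRingCat.ofHom inr) ≫ V.isoSpec.inv
  have sq : IsPullback e₁ e₂ h k := by
    have s0 := isPullback_SpecMap_of_isPushout _ _ _ _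
      (CommRingCat.isPushout_tensorProduct Γ(W, ⊤) Γ(U, ⊤) Γ(V, ⊤))
    refine s0.of_iso (Iso.refl _) U.isoSpec.symm V.isoSpec.symm W.isoSpec.symm ?_ ?_ ?_ ?_
    · rw [Iso.refl_hom, Category.id_comp]; rfl
    · rw [Iso.refl_hom, Category.id_comp]; rfl
    · exact Scheme.isoSpec_inv_naturality h
    · exact Scheme.isoSpec_inv_naturality k
  refine ⟨UV, e₁, e₂, sq, fun T hT hTv => ?_⟩
  let J := PrimeSpectrum.vanishingIdeal T
  let Γi := (Scheme.ΓSpecIso (CommRingCat.of (Γ(U, ⊤) ⊗[Γ(W, ⊤)] Γ(V, ⊤)))).inv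
  let M : Submonoid Γ(V, ⊤) :=
    { carrier := {x | v ∈ V.basicOpen x}
      one_mem' := by
        show v ∈ V.basicOpen 1
        rw [V.basicOpen_of_isUnit isUnit_one]; trivial
      mul_mem' := fun {x y} hx hy => by
        show v ∈ V.basicOpen (x * y)
        rw [Scheme.basicOpen_mul]; exact ⟨hx, hy⟩ }
  let N : Set Γ(V, ⊤) := {x | v ∉ V.basicOpen x}
  have he₂ : ∀ x, e₂.appTop x = Γi (inr x) := fun x => by
    have : e₂.appTop = CommRingCat.ofHom inr ≫ Γi := by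
      simp only [e₂, Γi, Scheme.Hom.comp_appTop, isoSpec_inv_appTop_eq]
      exact (Scheme.ΓSpecIso_inv_naturality _).symm
    rw [this]; rfl
  have he₁ : ∀ x, e₁.appTop x = Γi (inl x) := fun x => by
    have : e₁.appTop = CommRingCat.ofHom inl ≫ Γi := by
      simp only [e₁, Γi, Scheme.Hom.comp_appTop, isoSpec_inv_appTop_eq]
      exact (Scheme.ΓSpecIso_inv_naturality _).symm
    rw [this]; rfl
  have hb : ∀ (t : ↥UV) (x : Γ(V, ⊤)), e₂ t ∈ V.basicOpen x ↔ inr x ∉ (t : PrimeSpectrum _).asIdeal := fun t x => by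
    have h1 : e₂ ⁻¹ᵁ V.basicOpen x = UV.basicOpen (e₂.appTop x) := Scheme.preimage_basicOpen_top _ _
    show t ∈ e₂ ⁻¹ᵁ V.basicOpen x ↔ _
    rw [h1, he₂, basicOpen_eq_of_affine]
    rfl
  have hnd : ¬ Disjoint ((J ⊔ Ideal.span (inr '' N) : Ideal _) : Set _) (SetLike.coe (Submonoid.map inr.toMonoidHom M)) := by
    intro hd
    obtain ⟨P, hP, hle, hdP⟩ := Ideal.exists_le_prime_disjoint _ _ hd
    let t : ↥UV := (⟨P, hP⟩ : PrimeSpectrum _)
    have htT : t ∈ T := by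
      have : (⟨P, hP⟩ : PrimeSpectrum _) ∈ closure T := by
        rw [← PrimeSpectrum.zeroLocus_vanishingIdeal_eq_closure]
        exact fun z hz => (le_sup_left.trans hle) hz
      rwa [hT.closure_eq] at this
    refine hTv t htT (Inseparable.eq ((inseparable_iff_forall_isOpen (x := e₂ t) (y := v)).2 fun O hO => ?_))
    have key : ∀ x, e₂ t ∈ V.basicOpen x ↔ v ∈ V.basicOpen x := fun x => by
      rw [hb]
      constructor
      · intro hx
        by_contra hv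
        exact hx (le_sup_right.trans hle (Ideal.subset_span ⟨x, hv, rfl⟩))
      · intro hv hx
        exact Set.disjoint_left.1 hdP hx ⟨x, hv, rfl⟩
    constructor
    · intro hx
      obtain ⟨_, ⟨_, ⟨f, rfl⟩, rfl⟩, hxf, hle'⟩ := (isBasis_basicOpen V).exists_subset_of_mem_open hx hO
      exact hle' ((key f).1 hxf)
    · intro hx
      obtain ⟨_, ⟨_, ⟨f, rfl⟩, rfl⟩, hxf, hle'⟩ := (isBasis_basicOpen V).exists_subset_of_mem_open hx hO
      exact hle' ((key f).2 hxf)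
  obtain ⟨_, hs, s, hsM, rfl⟩ := Set.not_disjoint_iff.1 hnd
  obtain ⟨f, hf, z, hz, hfz⟩ := Submodule.mem_sup.1 hs
  obtain ⟨k', c, y, hy, rfl⟩ : ∃ (k' : ℕ) (c : Fin k' → Γ(U, ⊤) ⊗[Γ(W, ⊤)] Γ(V, ⊤)) (y : Fin k' → Γ(V, ⊤)),
      (∀ i, y i ∈ N) ∧ ∑ i, c i * inr (y i) = z := by
    obtain ⟨k', c, gen, hsum⟩ := (Submodule.mem_span_set' (R := Γ(U, ⊤) ⊗[Γ(W, ⊤)] Γ(V, ⊤))).1 hz
    choose y hy hy' using fun i => (gen i).2
    exact ⟨k', c, y, hy, by simp only [hy', ← hsum, smul_eq_mul]⟩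
  choose G hG using fun i => exists_finset_closure (RingHom.id (Γ(U, ⊤) ⊗[Γ(W, ⊤)] Γ(V, ⊤))) (c i)
  let G₀ := insert s (Finset.univ.image y ∪ Finset.univ.biUnion G)
  refine ⟨G₀.card, fun i => (G₀.equivFin.symm i.down).1, fun P p₁ p₂ m hm₁ hm₂ x hx hxv => ?_⟩
  let a := AffineSpace.homOfVector k (fun i : ULift.{u} (Fin G₀.card) => (G₀.equivFin.symm i.down).1)
  let X : ∀ g : Γ(V, ⊤), g ∈ G₀ → Γ(𝔸(ULift.{u} (Fin G₀.card); W), ⊤) :=
    fun g hg => AffineSpace.coord W ⟨G₀.equivFin ⟨g, hg⟩⟩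
  have haX : ∀ g hg, a.appTop (X g hg) = g := fun g hg => by
    simp only [a, X, AffineSpace.homOfVector_appTop_coord, Equiv.symm_apply_apply]
  have hmX : ∀ g hg, m.appTop (p₂.appTop (X g hg)) = Γi (inr g) := fun g hg => by
    show (p₂.appTop ≫ m.appTop) _ = _
    rw [← Scheme.Hom.comp_appTop, hm₂, Scheme.Hom.comp_appTop, ← he₂]
    show e₂.appTop (a.appTop (X g hg)) = _
    rw [haX]
  have hsG : s ∈ G₀ := Finset.mem_insert_self _ _
  have hyG : ∀ i, y i ∈ G₀ := fun i =>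
    Finset.mem_insert_of_mem (Finset.mem_union_left _ (Finset.mem_image_of_mem y (Finset.mem_univ i)))
  have hc : ∀ i, ∃ c₀ : Γ(P, ⊤), m.appTop c₀ = Γi (c i) := fun i => by
    have h2 : Γi.hom (c i) ∈ m.appTop.hom.range := by
      refine (Subring.closure_le (t := (m.appTop.hom.range).comap Γi.hom)).2 ?_ (hG i)
      rintro _ (⟨q, rfl⟩ | ⟨q, hq, rfl⟩)
      · refine ⟨p₁.appTop q, ?_⟩
        show (p₁.appTop ≫ m.appTop) q = _
        rw [← Scheme.Hom.comp_appTop, hm₁, he₁]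
        rfl
      · exact ⟨p₂.appTop (X q (Finset.mem_insert_of_mem (Finset.mem_union_right _
          (Finset.mem_biUnion.2 ⟨i, Finset.mem_univ i, hq⟩)))), hmX _ _⟩
    exact h2
  choose c₀ hc₀ using hc
  let f₀ : Γ(P, ⊤) := p₂.appTop (X s hsG) - ∑ i, c₀ i * p₂.appTop (X (y i) (hyG i))
  have hmf : m.appTop f₀ = Γi f := by
    simp only [f₀, map_sub, map_sum, map_mul, hmX, hc₀]
    have hf' : f = inr s - ∑ i, c i * inr (y i) := eq_sub_of_add_eq hfz
    rw [hf', map_sub, map_sum]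
    simp only [map_mul]
  have hzero : x ∉ P.basicOpen f₀ := by
    have : closure (m '' T) ⊆ ((P.basicOpen f₀ : Set ↥P))ᶜ := by
      refine closure_minimal ?_ (P.basicOpen f₀).2.isClosed_compl
      rintro _ ⟨t, ht, rfl⟩ hmt
      have h1 : t ∈ m ⁻¹ᵁ P.basicOpen f₀ := hmt
      rw [Scheme.preimage_basicOpen_top, hmf, basicOpen_eq_of_affine] at h1
      exact h1 ((PrimeSpectrum.mem_vanishingIdeal T f).1 hf _ ht)
    exact this hx
  have hxX : ∀ g hg, x ∈ P.basicOpen (p₂.appTop (X g hg)) ↔ v ∈ V.basicOpen g := fun g hg => by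
    rw [← Scheme.preimage_basicOpen_top p₂]
    change p₂.base x ∈ 𝔸(ULift.{u} (Fin G₀.card); W).basicOpen (X g hg) ↔ _
    rw [show p₂.base x = a v from hxv]
    have h9 := Scheme.preimage_basicOpen_top a (X g hg)
    rw [haX] at h9
    rw [← h9]
    exact Iff.rfl
  refine hzero ((Scheme.mem_basicOpen_top P f₀ x).2 ?_)
  rw [map_sub, map_sum]
  by_contra hu
  have hs' : IsUnit (P.presheaf.germ ⊤ x trivial (p₂.appTop (X s hsG))) :=
    (Scheme.mem_basicOpen_top P _ x).1 ((hxX s hsG).2 hsM)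
  have hn : ∀ i, ¬ IsUnit (P.presheaf.germ ⊤ x trivial (c₀ i * p₂.appTop (X (y i) (hyG i)))) := fun i h => by
    rw [map_mul] at h
    exact hy i ((hxX _ (hyG i)).1 ((Scheme.mem_basicOpen_top P _ x).2 (isUnit_of_mul_isUnit_right h)))
  have hsum : (∑ i, P.presheaf.germ ⊤ x trivial (c₀ i * p₂.appTop (X (y i) (hyG i)))) ∈
      IsLocalRing.maximalIdeal (P.presheaf.stalk x) :=
    Submodule.sum_mem _ fun i _ => (IsLocalRing.mem_maximalIdeal _).2 (hn i)
  have hm' := Ideal.add_mem _ ((IsLocalRing.mem_maximalIdeal _).2 hu) hsum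
  rw [sub_add_cancel] at hm'
  exact (IsLocalRing.mem_maximalIdeal _).1 hm' hs'

end Groth.Agent.AlgSpDec.SepClosed
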