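import Groth.Agent.AlgSpDec.FlatReflect
import Groth.Agent.AlgSpDec.SchImage
import Groth.Agent.AlgSpDec.SchImageChart
import Groth.Agent.S4667

/-!
# Fpqc descent of morphisms into separated algebraic spaces
-/

set_option backward.isDefEq.respectTransparency false
set_option backward.isDefEq.respectTransparency.types false

universe u

open CategoryTheory CategoryTheory.Limits AlgebraicGeometry Opposite AlgSp
open Groth.Agent.AlgSpLib Groth.Agent.AlgSpPts

namespace Groth.Agent.AlgSpDec

variable {S : Scheme.{u}}

/-- A section given on a faithfully flat affine covering and compatible on overlaps descends, for a separated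
algebraic space over an affine scheme. -/
theorem exists_section_of_flat_cover {T T' : Over S} [IsAffine T.left] [IsAffine T'.left] (π : T' ⟶ T)
    [Flat π.left] [Surjective π.left] {P : Sp S} (hP : IsAlgSpace P) (q : P ⟶ (yon S).obj T)
    (hq : IsSeparatedMor q) (γ : (yon S).obj T' ⟶ P) (hγ : γ ≫ q = (yon S).map π)
    (hagree : ∀ (V : Over S) (a b : V ⟶ T'), a ≫ π = b ≫ π → (yon S).map a ≫ γ = (yon S).map b ≫ γ) :
    ∃ s : (yon S).obj T ⟶ P, s ≫ q = 𝟙 _ ∧ (yon S).map π ≫ s = γ := by
  let P' : Sp S := pullback q ((yon S).map π)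
  have hP' : IsAlgSpace P' := isAlgSpace_pullback hP (IsAlgSpace.yon_obj T') (IsAlgSpace.yon_obj T) q _
  let σ : (yon S).obj T' ⟶ P' := pullback.lift γ (𝟙 _) (by rw [hγ, Category.id_comp])
  have hσ : RepWith @IsClosedImmersion σ :=
    section_property (f := pullback.snd q ((yon S).map π)) (pullback.lift_snd _ _ _)
      (isSeparatedMor_of_isPullback (IsPullback.of_hasPullback q _) hq)
  obtain ⟨U, b, hb, hbs⟩ := hP.atlas
  let ρ : U ⟶ T := (yon S).preimage (b ≫ q)
  have hρ : (yon S).map ρ = b ≫ q := (yon S).map_preimage _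
  let U' : Over S := Over.mk (pullback.fst ρ.left π.left ≫ U.hom)
  let u : U' ⟶ U := CategoryTheory.Over.homMk (pullback.fst ρ.left π.left) rfl
  let t : U' ⟶ T' := CategoryTheory.Over.homMk (pullback.snd ρ.left π.left) (by
    show pullback.snd _ _ ≫ T'.hom = pullback.fst _ _ ≫ U.hom
    rw [← Over.w π, ← pullback.condition_assoc, Over.w ρ])
  have squ : IsPullback ((yon S).map u) ((yon S).map t) ((yon S).map ρ) ((yon S).map π) :=
    IsPullback.map (yon S) (IsPullback.of_map_of_faithful (Over.forget S)
      (show IsPullback u.left t.left ρ.left π.left from IsPullback.of_hasPullback _ _))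
  rw [hρ] at squ
  let b' : (yon S).obj U' ⟶ P' := pullback.lift ((yon S).map u ≫ b) ((yon S).map t)
    (by rw [Category.assoc]; exact squ.w)
  have sqb : IsPullback ((yon S).map u) b' b (pullback.fst q ((yon S).map π)) :=
    IsPullback.of_bot (by rw [pullback.lift_snd]; exact squ) (pullback.lift_fst _ _ _).symm
      (IsPullback.of_hasPullback q _)
  have hb' : RepWith @Etale b' := repWith_of_isPullback sqb hb
  have hb's : RepWith @Surjective b' := repWith_of_isPullback sqb hbs
  have sqD := hσ.rep.isPullback b'
  let D : Over S := hσ.rep.pullback b'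
  let δ : D ⟶ U' := hσ.rep.snd b'
  let fD : (yon S).obj D ⟶ (yon S).obj T' := hσ.rep.fst b'
  have : IsClosedImmersion δ.left := hσ.property_snd b'
  let k : D ⟶ U := δ ≫ u
  have : IsAffineHom π.left := inferInstance
  have : QuasiCompact k.left := inferInstanceAs (QuasiCompact (δ.left ≫ pullback.fst ρ.left π.left))
  have sqk : IsPullback fD ((yon S).map k) γ b := by
    have h := sqD.paste_vert sqb.flip
    rw [pullback.lift_fst, ← Functor.map_comp] at h
    exact h
  let c : (yon S).obj D ⟶ pullback γ b := sqk.isoPullback.hom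
  have hk : c ≫ pullback.snd γ b = (yon S).map k := sqk.isoPullback_hom_snd
  obtain ⟨Z, j, hj⟩ := exists_schImage (IsAlgSpace.yon_obj T') hP γ
  have hker := schImage_chart (IsAlgSpace.yon_obj T') hP hb hbs (repWith_of_isIso @Etale c)
    (repWith_of_isIso @Surjective c) hk hj
  have hjc := hj.1
  obtain ⟨f', hf'⟩ := hj.2.1
  have : IsClosedImmersion (hjc.rep.snd b).left := hjc.property_snd b
  have : Mono j := mono_of_closedImmersion hjc
  have : Mono σ := mono_of_closedImmersion hσ
  let Q : Sp S := pullback (j ≫ q) ((yon S).map π)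
  let jm : Q ⟶ P' := pullback.lift (pullback.fst _ _ ≫ j) (pullback.snd _ _) (by
    rw [Category.assoc]; exact pullback.condition)
  have : Mono jm := ⟨fun x y h => pullback.hom_ext
    ((cancel_mono j).1 (by simpa [jm] using congrArg (· ≫ pullback.fst q ((yon S).map π)) h))
    (by simpa [jm] using congrArg (· ≫ pullback.snd q ((yon S).map π)) h)⟩
  obtain ⟨g, hg⟩ : ∃ g, g ≫ σ = jm := by
    refine exists_factor_of_cover (repWith_fst jm hb') (repWith_fst jm hb's) jm ?_
    -- reduce to the chart
    have : Epi (pullback.fst jm b') := AlgSpLib.epi_of_etale_surjective (repWith_fst jm hb') (repWith_fst jm hb's)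
    have sqQ : IsPullback (pullback.fst (j ≫ q) ((yon S).map π)) jm j (pullback.fst q ((yon S).map π)) :=
      IsPullback.of_bot (by rw [pullback.lift_snd]; exact IsPullback.of_hasPullback _ _)
        (pullback.lift_fst _ _ _).symm (IsPullback.of_hasPullback q _)
    -- the chart of the image
    let ZU := hjc.rep.pullback b
    let iZ : ZU ⟶ U := hjc.rep.snd b
    let W : Over S := pullback iZ u
    let wU : W ⟶ U' := pullback.snd iZ u
    have sqW : IsPullback ((yon S).map (pullback.fst iZ u)) ((yon S).map wU) ((yon S).map iZ) ((yon S).map u) :=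
      (IsPullback.of_hasPullback iZ u).map (yon S)
    have sqW' : IsPullback ((yon S).map (pullback.fst iZ u) ≫ hjc.rep.fst b) ((yon S).map wU) j
        (b' ≫ pullback.fst q ((yon S).map π)) := by
      rw [← sqb.w]
      exact sqW.paste_horiz (hjc.rep.isPullback b)
    let ω : pullback jm b' ⟶ (yon S).obj W := sqW'.lift (pullback.fst jm b' ≫ pullback.fst _ _) (pullback.snd jm b') (by
      rw [Category.assoc, sqQ.w, ← Category.assoc, pullback.condition, Category.assoc])
    obtain ⟨l, hl⟩ : ∃ l : W ⟶ D, l ≫ δ = wU := by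
      rw [factor_iff_ker_le]
      have : IsClosedImmersion iZ.left := hjc.property_snd b
      have h1 : wU.left.ker = iZ.left.ker.comap u.left := by
        have sq := (IsPullback.of_hasPullback iZ u).map (Over.forget S)
        have : Flat u.left := inferInstanceAs (Flat (pullback.fst ρ.left π.left))
        rw [← Groth.Agent.S4667.result iZ.left u.left, ← Scheme.Hom.ker_comp_of_isIso sq.isoPullback.hom]
        congr 1
        exact sq.isoPullback_hom_snd.symm
      let E : Over S := pullback k u
      have h2 : (pullback.snd k u : E ⟶ U').left.ker = k.left.ker.comap u.left := by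
        have sq := (IsPullback.of_hasPullback k u).map (Over.forget S)
        have : Flat u.left := inferInstanceAs (Flat (pullback.fst ρ.left π.left))
        rw [← Groth.Agent.S4667.result k.left u.left, ← Scheme.Hom.ker_comp_of_isIso sq.isoPullback.hom]
        congr 1
        exact sq.isoPullback_hom_snd.symm
      rw [h1, hker, ← h2, ← factor_iff_ker_le, factor_iff_of_isPullback sqD]
      refine ⟨(yon S).map (pullback.snd k u ≫ t), pullback.hom_ext ?_ (by simp [σ, b'])⟩
      simp only [σ, b', Category.assoc, pullback.lift_fst]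
      let t₁ : E ⟶ T' := pullback.fst k u ≫ (yon S).preimage fD
      let t₂ : E ⟶ T' := pullback.snd k u ≫ t
      have e1 : (yon S).map t₁ ≫ γ = (yon S).map (pullback.snd k u) ≫ (yon S).map u ≫ b := by
        simp only [t₁, Functor.map_comp, Functor.map_preimage, Category.assoc]
        rw [sqk.w, ← Functor.map_comp_assoc, ← Functor.map_comp_assoc, pullback.condition]
      have e2 : t₁ ≫ π = t₂ ≫ π := (yon S).map_injective (by
        rw [(yon S).map_comp t₁ π, (yon S).map_comp t₂ π, ← hγ, ← Category.assoc, e1, Category.assoc, Category.assoc]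
        rw [squ.w, ← hγ]
        simp only [t₂, Functor.map_comp, Category.assoc])
      rw [← e1, hagree E t₁ t₂ e2]
    refine ⟨ω ≫ (yon S).map l ≫ fD, ?_⟩
    rw [pullback.condition, Category.assoc, Category.assoc, sqD.w, ← Functor.map_comp_assoc, hl,
      sqW'.lift_snd_assoc]
  have hg1 : g ≫ γ = pullback.fst (j ≫ q) ((yon S).map π) ≫ j := by
    simpa [σ, jm] using congrArg (· ≫ pullback.fst q ((yon S).map π)) hg
  have hg2 : g = pullback.snd (j ≫ q) ((yon S).map π) := by
    simpa [σ, jm] using congrArg (· ≫ pullback.snd q ((yon S).map π)) hg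
  have hiso : IsIso (pullback.snd (j ≫ q) ((yon S).map π)) := by
    refine ⟨pullback.lift f' (𝟙 _) (by rw [reassoc_of% hf', hγ, Category.id_comp]), ?_, pullback.lift_snd _ _ _⟩
    refine pullback.hom_ext ((cancel_mono j).1 ?_) (by simp)
    rw [← hg2, Category.assoc, Category.assoc, pullback.lift_fst_assoc, hf', hg1, Category.id_comp]
  have : IsIso (j ≫ q) := isIso_of_flat_points Z.property (j ≫ q) (κ := Unit) (fun _ => T') (fun _ => π)
    (fun w => ⟨(), π.left.surjective w⟩) (fun _ => hiso) fun w => by
      obtain ⟨w', hw'⟩ := π.left.surjective w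
      exact ⟨T', π, w', hw', Flat.stalkMap _ _, hiso⟩
  refine ⟨inv (j ≫ q) ≫ j, by simp, ?_⟩
  rw [← hγ, ← hf', Category.assoc, Category.assoc, ← Category.assoc j q, IsIso.hom_inv_id_assoc]

end Groth.Agent.AlgSpDec
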