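import Groth.Agent.AlgSpDec.LqfScheme
import Groth.Agent.AlgSpDec.LqfQuot
import Groth.Agent.AlgSpDec.BddFibres
import Groth.Agent.AlgSpDec.AffineRep
import Groth.Agent.MorLib.WeightPositive
import Groth.Prelude.Def_AlgSpDec

/-!
# Splitting off quasi-finite parts after an etale base change
-/

set_option backward.isDefEq.respectTransparency false
set_option backward.isDefEq.respectTransparency.types false

universe u

open CategoryTheory Limits Opposite AlgebraicGeometry AlgSp Groth.Agent.AlgSpLib Groth.Agent.AlgSpPts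

namespace Groth.Agent.AlgSpDec.SplitOff

variable {S : Scheme.{u}} {X Y : Sp S}

/-- Quasi-finite at a point, for morphisms of schemes. -/
abbrev QfAt : ∀ (U V : Scheme.{u}), (U ⟶ V) → ↥U → Prop := fun U _ h u =>
  ∃ W : U.Opens, u ∈ W ∧ LocallyQuasiFinite (W.ι ≫ h) ∧ LocallyOfFiniteType (W.ι ≫ h)

/-- Over a chart of the target, a quasi-finite point has a quasi-finite affine chart. -/
theorem exists_qf_chart {f : X ⟶ Y} {V : Over S} {b : (yon S).obj V ⟶ Y} (hb : RepWith @Etale b)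
    {XV : Sp S} {q₁ : XV ⟶ X} {q₂ : XV ⟶ (yon S).obj V} (sqV : IsPullback q₁ q₂ f b) (z : Points XV)
    (hz : HasAtMor QfAt f (Points.map q₁ z)) :
    ∃ (B : Over S) (c : (yon S).obj B ⟶ XV) (z' : B.left) (ρ : B ⟶ V), IsAffine B.left ∧ RepWith @Etale c ∧
      Points.ofPt c z' = z ∧ (yon S).map ρ = c ≫ q₂ ∧ LocallyQuasiFinite ρ.left ∧ LocallyOfFiniteType ρ.left := by
  obtain ⟨U, V', a, b', h, u, ha, hb', hw, hu, O, huO, hO₁, hO₂⟩ := hz
  let Zs := hb.rep.pullback (a ≫ f)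
  let r₁ : Zs ⟶ V := hb.rep.fst' (a ≫ f)
  let r₂ : Zs ⟶ U := hb.rep.snd (a ≫ f)
  have sqZ : IsPullback ((yon S).map r₁) ((yon S).map r₂) b (a ≫ f) := hb.rep.isPullback' _
  obtain ⟨c, hc₁, hc₂⟩ := sqV.exists_lift ((yon S).map r₂ ≫ a) ((yon S).map r₁)
    (by rw [Category.assoc]; exact sqZ.w.symm)
  have sqc : IsPullback ((yon S).map r₂) c a q₁ :=
    (IsPullback.of_right (h₁₁ := c) (v₁₁ := (yon S).map r₂) (v₁₂ := q₁) (h₂₁ := a) (by rw [hc₂]; exact sqZ) hc₁ sqV.flip).flip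
  have hcE : RepWith @Etale c := repWith_of_isPullback sqc ha
  obtain ⟨w, hw₁, hw₂⟩ := exists_point_of_isPullback sqc (x := Points.ofScheme U u) (y := z)
    (by rw [← Points.ofPt_eq_map_ofScheme, hu])
  obtain ⟨z₀, rfl⟩ := (Points.schemeHomeo Zs).surjective w
  have hz₀u : r₂.left z₀ = u :=
    (Points.schemeHomeo U).injective ((Points.map_yon_map_apply r₂ z₀).symm.trans hw₁)
  let Rv := hb'.rep.pullback b
  let p₁ : Rv ⟶ V' := hb'.rep.fst' b
  let p₂ : Rv ⟶ V := hb'.rep.snd b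
  have sqR : IsPullback ((yon S).map p₁) ((yon S).map p₂) b' b := hb'.rep.isPullback' b
  have : Etale p₂.left := hb'.property_snd b
  obtain ⟨g, hg⟩ := (yon S).map_surjective (sqR.lift ((yon S).map (r₂ ≫ h)) ((yon S).map r₁)
    (by rw [Functor.map_comp, Category.assoc, ← hw]; exact sqZ.w.symm))
  have hg₁ : g ≫ p₁ = r₂ ≫ h := (yon S).map_injective (by rw [Functor.map_comp, hg, sqR.lift_fst])
  have hg₂ : g ≫ p₂ = r₁ := (yon S).map_injective (by rw [Functor.map_comp, hg, sqR.lift_snd])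
  have sq : IsPullback g.left r₂.left p₁.left h.left := isPullback_of_yon
    (IsPullback.of_right (by rw [← Functor.map_comp, hg₂, ← hw]; exact sqZ)
      (by rw [← Functor.map_comp, hg₁, Functor.map_comp]) sqR.flip)
  have sq' := (isPullback_morphismRestrict r₂.left O).paste_vert sq.flip
  let O' := r₂.left ⁻¹ᵁ O
  have a₁ : LocallyQuasiFinite (O'.ι ≫ g.left) := MorphismProperty.of_isPullback sq' hO₁
  have a₂ : LocallyOfFiniteType (O'.ι ≫ g.left) := MorphismProperty.of_isPullback sq' hO₂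
  obtain ⟨B, hB, hzB, hBO⟩ := exists_isAffineOpen_mem_and_subset (U := O') (x := z₀)
    (show r₂.left z₀ ∈ O from hz₀u ▸ huO)
  let Bo : Over S := Over.mk (B.ι ≫ Zs.hom)
  let jB : Bo ⟶ Zs := CategoryTheory.Over.homMk B.ι rfl
  have eB : B.ι ≫ r₁.left = Zs.left.homOfLE hBO ≫ (O'.ι ≫ g.left) ≫ p₂.left := by
    rw [Category.assoc, Scheme.homOfLE_ι_assoc, ← Over.comp_left, hg₂]
  refine ⟨Bo, (yon S).map jB ≫ c, ⟨z₀, hzB⟩, jB ≫ r₁, hB,
    repWith_comp ((repWith_yon_map_iff _ jB).2 (inferInstanceAs (Etale B.ι))) hcE, ?_, ?_, ?_, ?_⟩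
  · rw [ofPt_comp]
    change Points.ofPt c z₀ = z
    rw [Points.ofPt_eq_map_ofScheme]
    exact hw₂
  · rw [Functor.map_comp, Category.assoc, hc₂]
  · change LocallyQuasiFinite (B.ι ≫ r₁.left)
    rw [eB]; infer_instance
  · change LocallyOfFiniteType (B.ι ≫ r₁.left)
    rw [eB]; infer_instance

/-- Finitely many quasi-finite points lie in a quasi-compact open subscheme quasi-finite over the base. -/
theorem exists_scheme_nbhd {V : Over S} [IsAffine V.left] {XV : Sp S} (hXV : IsAlgSpace XV)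
    {q₂ : XV ⟶ (yon S).obj V} (hsep : IsSeparatedMor q₂) (hft : LocP @LocallyOfFiniteType q₂)
    (S₀ : Set (Points XV)) (hS : S₀.Finite)
    (h : ∀ z ∈ S₀, ∃ (B : Over S) (c : (yon S).obj B ⟶ XV) (z' : B.left) (ρ : B ⟶ V), IsAffine B.left ∧
      RepWith @Etale c ∧ Points.ofPt c z' = z ∧ (yon S).map ρ = c ≫ q₂ ∧ LocallyQuasiFinite ρ.left ∧
        LocallyOfFiniteType ρ.left) :
    ∃ (Q : Over S) (jQ : (yon S).obj Q ⟶ XV) (ρ : Q ⟶ V), RepWith @IsOpenImmersion jQ ∧
      (yon S).map ρ = jQ ≫ q₂ ∧ LocallyQuasiFinite ρ.left ∧ LocallyOfFiniteType ρ.left ∧ IsSeparated ρ.left ∧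
      QuasiCompact ρ.left ∧ S₀ ⊆ Set.range (Points.ofPt jQ) := by
  classical
  obtain ⟨n, e, he⟩ : ∃ (n : ℕ) (e : Fin n → Points XV), Set.range e = S₀ :=
    ⟨_, fun i => (hS.toFinset.equivFin.symm i).1, by
      ext z
      refine ⟨fun ⟨i, hi⟩ => hi ▸ hS.mem_toFinset.1 (hS.toFinset.equivFin.symm i).2, fun hz =>
        ⟨hS.toFinset.equivFin ⟨z, hS.mem_toFinset.2 hz⟩, by simp⟩⟩⟩
  let ι : Type u := ULift.{u} (Fin n)
  choose B c z' ρ hB hc hz hρ hq hl using fun i : ι => h (e i.down) (he ▸ ⟨i.down, rfl⟩)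
  let R := sigmaOver B
  obtain ⟨cR, hcR⟩ := exists_hom_sigma B c
  have hcRe : RepWith @Etale cR := repWith_etale_sigma (representable_from_yon' hXV cR) fun i => by
    rw [hcR]; exact hc i
  obtain ⟨P, j, a', hj, ha', ha'e, ha's⟩ := exists_image_chart hXV hcRe
  have : Mono j := mono_of_openImmersion hj
  have : ∀ i, IsAffine (B i).left := hB
  have : IsAffine R.left := inferInstanceAs (IsAffine (∐ fun i => (B i).left))
  obtain ⟨ρR, hρR⟩ := (yon S).map_surjective (a' ≫ j ≫ q₂)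
  have hρi : ∀ i, sigmaι B i ≫ ρR = ρ i := fun i => (yon S).map_injective (by
    rw [Functor.map_comp, hρR, reassoc_of% ha', reassoc_of% (hcR i), hρ])
  have hsum : LocallyQuasiFinite ρR.left ∧ LocallyOfFiniteType ρR.left := by
    constructor
    · refine IsZariskiLocalAtSource.of_openCover (P := @LocallyQuasiFinite) (sigmaOpenCover fun i => (B i).left) fun i => ?_
      change LocallyQuasiFinite ((sigmaι B i).left ≫ ρR.left)
      rw [← Over.comp_left, hρi]
      exact hq i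
    · refine IsZariskiLocalAtSource.of_openCover (P := @LocallyOfFiniteType) (sigmaOpenCover fun i => (B i).left) fun i => ?_
      change LocallyOfFiniteType ((sigmaι B i).left ≫ ρR.left)
      rw [← Over.comp_left, hρi]
      exact hl i
  obtain ⟨_, _⟩ := hsum
  have hsepP : IsSeparatedMor (j ≫ q₂) := isSeparatedMor_comp (isSeparatedMor_of_mono j) hsep
  obtain ⟨Q, ⟨eQ⟩⟩ := exists_rep_of_lqf hsepP ha'e ha's hρR
  obtain ⟨k, hk⟩ := (yon S).map_surjective (a' ≫ eQ.inv)
  obtain ⟨ρQ, hρQ⟩ := (yon S).map_surjective (eQ.hom ≫ j ≫ q₂)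
  have hkρ : k ≫ ρQ = ρR := (yon S).map_injective (by
    rw [Functor.map_comp, hk, hρQ, Category.assoc, Iso.inv_hom_id_assoc, hρR])
  have hks : Surjective k.left := (repWith_yon_map_iff _ k).1 (by
    rw [hk]; exact repWith_comp ha's (repWith_of_isIso _ _))
  have hjQ : RepWith @IsOpenImmersion (eQ.hom ≫ j) := repWith_comp (repWith_of_isIso _ _) hj
  have hsepQ : IsSeparated ρQ.left := (isSeparatedMor_yon_map_iff ρQ).1 (by
    rw [hρQ, ← Category.assoc]
    have : Mono (eQ.hom ≫ j) := mono_comp _ _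
    exact isSeparatedMor_comp (isSeparatedMor_of_mono _) hsep)
  have hlftQ : LocallyOfFiniteType ρQ.left := hft (eQ.hom ≫ j) (𝟙 _) ρQ
    (repWith_mono (fun _ _ g (_ : IsOpenImmersion g) => (inferInstance : Etale g)) _ hjQ) (repWith_id _ V)
    (by rw [Category.comp_id, hρQ, Category.assoc])
  have : CompactSpace ↥Q.left := ⟨by
    rw [← hks.surj.range_eq]; exact isCompact_range k.left.continuous⟩
  have : QuasiCompact ρQ.left := HasAffineProperty.iff_of_isAffine.2 ‹CompactSpace ↥Q.left›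
  have : QuasiCompact ρR.left := HasAffineProperty.iff_of_isAffine.2 (inferInstanceAs (CompactSpace ↥R.left))
  have hlqfQ : LocallyQuasiFinite ρQ.left := locallyQuasiFinite_iff_finite_preimage_singleton.2 fun v => by
    refine ((ρR.left.finite_preimage_singleton v).image k.left).subset fun q hq => ?_
    obtain ⟨r, rfl⟩ := hks.surj q
    exact ⟨r, by rw [← hkρ, Over.comp_left]; exact (Scheme.Hom.comp_apply _ _ _).trans hq, rfl⟩
  refine ⟨Q, eQ.hom ≫ j, ρQ, hjQ, by rw [hρQ, Category.assoc], hlqfQ, hlftQ, hsepQ, inferInstance, ?_⟩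
  rw [← he]
  rintro _ ⟨i, rfl⟩
  refine ⟨k.left ((sigmaι B ⟨i⟩).left (z' ⟨i⟩)), ?_⟩
  rw [← ofPt_comp, hk, Category.assoc, Iso.inv_hom_id_assoc, ha', ← ofPt_comp, hcR, hz]

/-- After an etale base change, finitely many quasi-finite points split off a finite open and closed part. -/
theorem exists_split {f : X ⟶ Y} {V : Over S} [IsAffine V.left] {b : (yon S).obj V ⟶ Y} (hb : RepWith @Etale b)
    (hX : IsAlgSpace X) (hY : IsAlgSpace Y) (hf1 : LocP @LocallyOfFiniteType f) (hf2 : IsSeparatedMor f)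
    {XV : Sp S} {q₁ : XV ⟶ X} {q₂ : XV ⟶ (yon S).obj V} (sqV : IsPullback q₁ q₂ f b) (v : V.left)
    (S₀ : Set (Points XV)) (hS : S₀.Finite) (hSv : ∀ z ∈ S₀, Points.map q₂ z = Points.ofScheme V v)
    (hqf : ∀ z ∈ S₀, HasAtMor QfAt f (Points.map q₁ z)) :
    ∃ (U : Over S) (hU : U ⟶ V) (u : U.left), RepWith @Etale ((yon S).map hU ≫ b) ∧ hU.left u = v ∧
      ∀ (P : Sp S) (prX : P ⟶ X) (prU : P ⟶ (yon S).obj U), IsPullback prX prU f ((yon S).map hU ≫ b) →
        ∃ (W : Over S) (jV : (yon S).obj W ⟶ P) (m : P ⟶ XV), m ≫ q₁ = prX ∧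
          IsPullback m prU q₂ ((yon S).map hU) ∧
          RepWith @IsOpenImmersion jV ∧ RepWith @IsClosedImmersion jV ∧ IsFiniteMor (jV ≫ prU) ∧
          (∀ z : Points ((yon S).obj W), Points.map (jV ≫ prU) z = Points.ofScheme U u →
            Points.map (jV ≫ m) z ∈ S₀) ∧
          ∀ w : Points P, Points.map prU w = Points.ofScheme U u → Points.map m w ∈ S₀ →
            w ∈ Set.range (Points.map jV) := by
  classical
  have hXV : IsAlgSpace XV := isAlgSpace_of_isPullback sqV hX (IsAlgSpace.yon_obj V) hY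
  have hsep : IsSeparatedMor q₂ := isSeparatedMor_of_isPullback sqV hf2
  have hft : LocP @LocallyOfFiniteType q₂ := locP_of_isPullback sqV hX hY (IsAlgSpace.yon_obj V) hf1
  obtain ⟨Q, jQ, ρ, hjQ, hρ, hlqf, hlft, hsepρ, hqc, hsub⟩ := exists_scheme_nbhd hXV hsep hft S₀ hS
    fun z hz => exists_qf_chart hb sqV z (hqf z hz)
  obtain ⟨Ω, _, _, vb, hvb⟩ := MorLib.GF.exists_geomPoint v
  haveI := MorLib.GF.finite_lifts ρ.left vb (ρ.left.finite_preimage_singleton _)
  let ι := {γ : MorLib.WT.Lifts ρ.left vb // Points.ofPt jQ (MorLib.GF.pt γ.1) ∈ S₀}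
  obtain ⟨T, V', k, π, h, vb', Wp, δ, hc, he, hvb', hp⟩ :=
    MorLib.WT.exists_decomp ρ.left vb (fun i : ι => i.1)
  let U : Over S := Over.mk (h ≫ V.hom)
  let hU : U ⟶ V := CategoryTheory.Over.homMk h rfl
  have : Etale hU.left := he
  refine ⟨U, hU, MorLib.GF.pt vb', repWith_comp ((repWith_yon_map_iff _ hU).2 he) hb, ?_, fun P prX prU sqP => ?_⟩
  · change h (MorLib.GF.pt vb') = v
    rw [← MorLib.GF.pt_comp, hvb', hvb]
  obtain ⟨m, hm₁, hm₂⟩ := sqV.exists_lift prX (prU ≫ (yon S).map hU) (by rw [Category.assoc]; exact sqP.w)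
  have sq' : IsPullback m prU q₂ ((yon S).map hU) := IsPullback.of_right (by rw [hm₁]; exact sqP) hm₂ sqV
  let To : Over S := Over.mk (π ≫ U.hom)
  let kO : To ⟶ Q := CategoryTheory.Over.homMk k (by
    change k ≫ Q.hom = π ≫ h ≫ V.hom
    rw [← CategoryTheory.Over.w ρ, reassoc_of% hc.w])
  let πO : To ⟶ U := CategoryTheory.Over.homMk π rfl
  have sqT : IsPullback ((yon S).map kO) ((yon S).map πO) ((yon S).map ρ) ((yon S).map hU) :=
    isPullback_yon_of_left kO πO ρ hU hc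
  obtain ⟨jT, hjT₁, hjT₂⟩ := sq'.exists_lift ((yon S).map kO ≫ jQ) ((yon S).map πO)
    (by rw [Category.assoc, ← hρ]; exact sqT.w)
  have sqJ : IsPullback ((yon S).map kO) jT jQ m := (IsPullback.of_right (h₁₁ := jT) (v₁₁ := (yon S).map kO)
    (by rw [hjT₂, ← hρ]; exact sqT.flip) hjT₁ sq'.flip).flip
  have hjTo : RepWith @IsOpenImmersion jT := repWith_of_isPullback sqJ hjQ
  let W' : T.Opens := ⨆ i, Wp i
  let Wo : Over S := Over.mk (W'.ι ≫ To.hom)
  let jW : Wo ⟶ To := CategoryTheory.Over.homMk W'.ι rfl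
  let jV := (yon S).map jW ≫ jT
  have hjV : RepWith @IsOpenImmersion jV :=
    repWith_comp ((repWith_yon_map_iff _ jW).2 (inferInstanceAs (IsOpenImmersion W'.ι))) hjTo
  haveI : LocallyQuasiFinite π := MorphismProperty.of_isPullback hc hlqf
  haveI : LocallyOfFiniteType π := MorphismProperty.of_isPullback hc hlft
  haveI : IsSeparated π := MorphismProperty.of_isPullback hc hsepρ
  haveI : UniversallyClosed (W'.ι ≫ π) := by
    refine MorLib.WT.universallyClosed_of_cover _ (fun i => W'.ι ⁻¹ᵁ Wp i) (fun t => by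
      obtain ⟨i, hi⟩ := TopologicalSpace.Opens.mem_iSup.mp (show (t.1 : T) ∈ ⨆ i, Wp i from t.2)
      exact ⟨i, hi⟩) fun i => ?_
    haveI := (hp i).1.finite
    have hle : Wp i ≤ W' := le_iSup Wp i
    haveI : IsIso (W'.ι ∣_ Wp i) := by
      haveI : Surjective (W'.ι ∣_ Wp i) := ⟨fun t => ⟨⟨⟨t.1, hle t.2⟩, t.2⟩, Subtype.ext (by
        show (Wp i).ι ((W'.ι ∣_ Wp i) _) = t.1
        rw [← Scheme.Hom.comp_apply, morphismRestrict_ι]; rfl)⟩⟩
      exact (isIso_iff_isOpenImmersion_and_surjective _).mpr ⟨inferInstance, inferInstance⟩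
    rw [← Category.assoc, ← morphismRestrict_ι, Category.assoc]
    infer_instance
  haveI : IsProper (W'.ι ≫ π) := ⟨⟩
  haveI hWf : IsFinite (W'.ι ≫ π) := IsFinite.of_isProper_of_locallyQuasiFinite _
  have hfinV : RepWith @IsFinite (jV ≫ prU) := by
    rw [show jV ≫ prU = (yon S).map (jW ≫ πO) by rw [Category.assoc, hjT₂, Functor.map_comp]]
    exact (repWith_yon_map_iff _ _).2 hWf
  have hjVf : RepWith @IsFinite jV := of_comp_of_diagonal (RepWith @IsFinite) jV prU hfinV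
    (repWith_mono (fun _ _ g (_ : IsClosedImmersion g) => (inferInstance : IsFinite g)) _
      (isSeparatedMor_of_isPullback sqP hf2))
  have hjVc : RepWith @IsClosedImmersion jV := ⟨hjV.1, fun A B g fst snd sq => by
    have : IsFinite snd.left := hjVf.property g fst snd sq
    have : IsOpenImmersion snd.left := hjV.property g fst snd sq
    change IsClosedImmersion snd.left
    have : Mono snd.left := inferInstance
    exact (IsClosedImmersion.iff_isFinite_and_mono _).2 ⟨‹IsFinite snd.left›, this⟩⟩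
  refine ⟨Wo, jV, m, hm₁, sq', hjV, hjVc, isFiniteMor_iff_repWith.2 hfinV, fun z hz => ?_, fun w hwu hwS => ?_⟩
  · obtain ⟨t, rfl⟩ := (Points.schemeHomeo Wo).surjective z
    have ht : π (W'.ι t) = MorLib.GF.pt vb' := by
      apply (Points.schemeHomeo U).injective
      rw [show jV ≫ prU = (yon S).map (jW ≫ πO) by rw [Category.assoc, hjT₂, Functor.map_comp]] at hz
      exact (Points.map_yon_map_apply (jW ≫ πO) t).symm.trans hz
    obtain ⟨i, hi⟩ := TopologicalSpace.Opens.mem_iSup.mp (show (W'.ι t : T) ∈ ⨆ i, Wp i from t.2)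
    obtain ⟨δ', hδ'⟩ := MorLib.WT.exists_lift_pt π vb' (W'.ι t) ht
    have heq : δ'.1 = δ i := (hp i).1.uniq δ'.1 δ'.2 (hδ'.symm ▸ hi)
    have hkt : k (W'.ι t) = MorLib.GF.pt i.1.1 := by
      rw [← hδ', ← MorLib.GF.pt_comp, heq, (hp i).2]
    change Points.map (jV ≫ m) (Points.ofScheme Wo t) ∈ S₀
    rw [← Points.ofPt_eq_map_ofScheme, Category.assoc, hjT₁, ofPt_comp, ofPt_comp]
    change Points.ofPt jQ (k (W'.ι t)) ∈ S₀
    rw [hkt]
    exact i.2
  · obtain ⟨q, hq⟩ := hsub hwS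
    obtain ⟨z, hz₁, hz₂⟩ := exists_point_of_isPullback sqJ (x := Points.ofScheme Q q) (y := w)
      (by rw [← Points.ofPt_eq_map_ofScheme]; exact hq)
    obtain ⟨t, rfl⟩ := (Points.schemeHomeo To).surjective z
    have hkt : k t = q := (Points.schemeHomeo Q).injective ((Points.map_yon_map_apply kO t).symm.trans hz₁)
    have hπt : π t = MorLib.GF.pt vb' := by
      apply (Points.schemeHomeo U).injective
      refine (Points.map_yon_map_apply πO t).symm.trans ?_
      rw [← hjT₂, Points.map_comp, show Points.map jT ((Points.schemeHomeo To) t) = w from hz₂]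
      exact hwu
    obtain ⟨δ', hδ'⟩ := MorLib.WT.exists_lift_pt π vb' t hπt
    let γ : MorLib.WT.Lifts ρ.left vb := ⟨δ'.1 ≫ k, by rw [Category.assoc, hc.w, reassoc_of% δ'.2, hvb']⟩
    have hγ : Points.ofPt jQ (MorLib.GF.pt γ.1) ∈ S₀ := by
      rw [show MorLib.GF.pt γ.1 = q from (MorLib.GF.pt_comp _ _).trans (hδ'.symm ▸ hkt), hq]
      exact hwS
    let i : ι := ⟨γ, hγ⟩
    have heq : δ'.1 = δ i := hc.hom_ext (hp i).2.symm (δ'.2.trans (hp i).1.over.symm)
    have hmem : t ∈ W' := TopologicalSpace.Opens.mem_iSup.mpr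
      ⟨i, hδ' ▸ heq ▸ (hp i).1.mem⟩
    refine ⟨Points.ofScheme Wo ⟨t, hmem⟩, ?_⟩
    rw [← Points.ofPt_eq_map_ofScheme, ofPt_comp, Points.ofPt_eq_map_ofScheme]
    exact hz₂

end Groth.Agent.AlgSpDec.SplitOff
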