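import Groth.Agent.AlgSpLib.RepBySp
import Groth.Agent.AlgSpDec.Glue
import Groth.Agent.AlgSpLib.Sheaf

/-!
# A Zariski sheaf covered fppf locally by subsheaves is an fppf sheaf
-/

set_option backward.isDefEq.respectTransparency false
set_option backward.isDefEq.respectTransparency.types false
set_option autoImplicit false

universe v u

open CategoryTheory CategoryTheory.Limits AlgebraicGeometry Opposite AlgSp Groth.Agent.AlgSpLib

namespace Groth.Agent.AlgSpDec.SubGlue

variable {S : Scheme.{u}}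

/-- Lying in a relatively sheafy subpresheaf is fppf local. -/
theorem mem_range_of_covering {F G : PSp S} (a : F ⟶ G) [Mono a] (ha : RepBySp a) {T : Over S}
    (y : G.obj (op T)) {R : Sieve T} (hR : R ∈ J S T)
    (h : ∀ ⦃T' : Over S⦄ (φ : T' ⟶ T), R φ → G.map φ.op y ∈ Set.range (a.app (op T'))) :
    y ∈ Set.range (a.app (op T)) := by
  let ξ : (pyon S).obj T ⟶ G := uliftYonedaEquiv.symm y
  have hξ : ∀ {T' : Over S} (φ : T' ⟶ T), ξ.app (op T') ⟨φ⟩ = G.map φ.op y := fun φ => rfl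
  have hP : ∀ T' : (Over S)ᵒᵖ, IsPullback ((pullback.fst a ξ).app T') ((pullback.snd a ξ).app T')
      (a.app T') (ξ.app T') := fun T' =>
    (IsPullback.of_hasPullback a ξ).map ((evaluation _ _).obj T')
  have hinj : ∀ T' : (Over S)ᵒᵖ, Function.Injective (a.app T') := fun T' =>
    (mono_iff_injective _).1 ((NatTrans.mono_iff_mono_app a).1 inferInstance T')
  have hz : ∀ {T' : Over S} (φ : T' ⟶ T) (_ : R.arrows φ), ∃ z : (pullback a ξ).obj (op T'),
      (pullback.snd a ξ).app _ z = ⟨φ⟩ := fun φ hφ => by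
    obtain ⟨b, hb⟩ := h φ hφ
    obtain ⟨z, -, hz⟩ := Types.exists_of_isPullback (hP _) b ⟨φ⟩ (hb.trans (hξ φ).symm)
    exact ⟨z, hz⟩
  let z : Presieve.FamilyOfElements (pullback a ξ) R.arrows := fun T' φ hφ => (hz φ hφ).choose
  have hext : ∀ {T' : Over S} (p q : (pullback a ξ).obj (op T')),
      (pullback.snd a ξ).app _ p = (pullback.snd a ξ).app _ q → p = q := fun {T'} p q e => by
    have hc : ∀ r, a.app (op T') ((pullback.fst a ξ).app _ r) = ξ.app (op T') ((pullback.snd a ξ).app _ r) := fun r =>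
      ConcreteCategory.congr_hom (hP (op T')).w r
    exact Types.ext_of_isPullback (hP (op T')) (hinj _ (by rw [hc, hc, e])) e
  have hzc : z.Compatible := fun Y₁ Y₂ Z g₁ g₂ f₁ f₂ h₁ h₂ e => hext _ _ (by
    rw [NatTrans.naturality_apply, NatTrans.naturality_apply, (hz f₁ h₁).choose_spec, (hz f₂ h₂).choose_spec]
    exact congrArg ULift.up e)
  obtain ⟨hPs, -⟩ := ha ξ _ _ (IsPullback.of_hasPullback a ξ)
  obtain ⟨z₀, hz₀, -⟩ := ((isSheaf_iff_isSheaf_of_type _ _).1 hPs) R hR z hzc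
  refine ⟨(pullback.fst a ξ).app _ z₀, ?_⟩
  have hs : (pullback.snd a ξ).app _ z₀ = ⟨𝟙 T⟩ :=
    (((isSheaf_iff_isSheaf_of_type _ _).1 ((yon S).obj T).property) R hR).isSeparatedFor.ext fun T' φ hφ => by
      show ((pyon S).obj T).map φ.op _ = ((pyon S).obj T).map φ.op _
      rw [← NatTrans.naturality_apply, hz₀ φ hφ, (hz φ hφ).choose_spec]
      exact congrArg ULift.up (Category.comp_id φ).symm
  refine (ConcreteCategory.congr_hom (hP _).w z₀).trans ?_
  show ξ.app (op T) ((pullback.snd a ξ).app _ z₀) = y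
  rw [hs, hξ, op_id, FunctorToTypes.map_id_apply]

variable {F : PSp S} (h1 : Presheaf.IsSheaf (QuotSh.J Scheme.zariskiPrecoverage S) F) {ι : Type v} {Fi : ι → PSp S}
  (m : ∀ i, Fi i ⟶ F) [∀ i, Mono (m i)] (ha : ∀ i, Presheaf.IsSheaf (J S) (Fi i)) (hb : ∀ i, RepBySp (m i))
  (hc : ∀ (T : Over S) (x : F.obj (op T)), ∃ R ∈ (J S) T,
    ∀ ⦃T' : Over S⦄ (f : T' ⟶ T), R.arrows f → ∃ i, F.map f.op x ∈ Set.range ((m i).app (op T')))

omit [∀ i, Mono (m i)] in
theorem mem_range_map {i : ι} {T T' : Over S} (φ : T' ⟶ T) {x : F.obj (op T)}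
    (hx : x ∈ Set.range ((m i).app (op T))) : F.map φ.op x ∈ Set.range ((m i).app (op T')) := by
  obtain ⟨a, rfl⟩ := hx
  exact ⟨(Fi i).map φ.op a, NatTrans.naturality_apply _ _ _⟩

include hb hc in
/-- A family on a covering sieve lies in single subsheaves over the opens of an open cover. -/
theorem exists_opens {T : Over S} {R : Sieve T} (hR : R ∈ J S T) (x : Presieve.FamilyOfElements F R.arrows)
    (hx : x.Compatible) (t : T.left) :
    ∃ (O : T.left.Opens) (i : ι), t ∈ O ∧ ∀ ⦃V : Over S⦄ (g : V ⟶ Over.mk (O.ι ≫ T.hom))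
      (hg : R (g ≫ Over.homMk O.ι rfl)), x _ hg ∈ Set.range ((m i).app (op V)) := by
  let R' : Sieve T :=
    { arrows := fun V φ => ∃ (h : R φ) (i : ι), x φ h ∈ Set.range ((m i).app (op V))
      downward_closed := by
        rintro V V' φ ⟨h, i, hi⟩ ψ
        refine ⟨R.downward_closed h ψ, i, ?_⟩
        rw [← show F.map ψ.op (x φ h) = x (ψ ≫ φ) (R.downward_closed h ψ) from by
          have := hx ψ (𝟙 V') h (R.downward_closed h ψ) (Category.id_comp _).symm
          rwa [op_id, FunctorToTypes.map_id_apply] at this]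
        exact mem_range_map m ψ hi }
  have hR' : R' ∈ J S T := by
    refine GrothendieckTopology.transitive _ hR _ fun V φ hφ => ?_
    obtain ⟨Q, hQ, hQ'⟩ := hc V (x φ hφ)
    refine GrothendieckTopology.superset_covering _ ?_ hQ
    intro W ψ hψ
    obtain ⟨i, hi⟩ := hQ' ψ hψ
    refine ⟨R.downward_closed hφ ψ, i, ?_⟩
    rwa [← show F.map ψ.op (x φ hφ) = x (ψ ≫ φ) (R.downward_closed hφ ψ) from by
      have := hx ψ (𝟙 W) hφ (R.downward_closed hφ ψ) (Category.id_comp _).symm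
      rwa [op_id, FunctorToTypes.map_id_apply] at this]
  have : (@Flat ⊓ @LocallyOfFinitePresentation : MorphismProperty Scheme.{u}).ContainsIdentities :=
    ⟨fun X => ⟨(inferInstance : Flat (𝟙 X)), (inferInstance : LocallyOfFinitePresentation (𝟙 X))⟩⟩
  have : Scheme.fppfPrecoverage.{u}.HasIsos :=
    inferInstanceAs ((Scheme.precoverage (@Flat ⊓ @LocallyOfFinitePresentation)).HasIsos)
  rw [GrothendieckTopology.mem_over_iff, Precoverage.mem_toGrothendieck_iff_of_isStableUnderComposition] at hR'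
  obtain ⟨R₀, hR₀, hle⟩ := hR'
  obtain ⟨κ, Xc, fc, rfl⟩ := R₀.exists_eq_ofArrows
  rw [Scheme.fppfPrecoverage, Scheme.ofArrows_mem_precoverage_iff] at hR₀
  obtain ⟨hsurj, hprop⟩ := hR₀
  obtain ⟨j, w, hw⟩ := hsurj t
  obtain ⟨hfl, hlfp⟩ := hprop j
  obtain ⟨hφR, i, hi⟩ := (Sieve.overEquiv_iff _ _).1 (hle _ _ (Presieve.ofArrows.mk j))
  let O : T.left.Opens := ⟨Set.range (fc j), (fc j).isOpenMap.isOpen_range⟩
  let k₀ : Xc j ⟶ (O : Scheme.{u}) := IsOpenImmersion.lift O.ι (fc j) (by simp [O])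
  have hk₀ : k₀ ≫ O.ι = fc j := IsOpenImmersion.lift_fac _ _ _
  let T' : Over S := Over.mk (fc j ≫ T.hom)
  let k : T' ⟶ Over.mk (O.ι ≫ T.hom) := Over.homMk k₀ (by
    show k₀ ≫ O.ι ≫ T.hom = fc j ≫ T.hom
    rw [reassoc_of% hk₀])
  have hfpp : fppf k.left := by
    have h₁ : Flat (k₀ ≫ O.ι) := hk₀ ▸ hfl
    have h₂ : LocallyOfFinitePresentation (k₀ ≫ O.ι) := hk₀ ▸ hlfp
    have : Flat k₀ := MorphismProperty.of_postcomp @Flat k₀ O.ι (inferInstance : IsOpenImmersion O.ι) h₁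
    have : LocallyOfFinitePresentation k₀ :=
      MorphismProperty.of_postcomp @LocallyOfFinitePresentation k₀ O.ι (inferInstance : IsOpenImmersion O.ι) h₂
    have : Surjective k₀ := ⟨fun z => by
      obtain ⟨v, hv⟩ : (O.ι z) ∈ Set.range (fc j) := z.2
      exact ⟨v, O.ι.isOpenEmbedding.injective (by rw [← Scheme.Hom.comp_apply, hk₀]; exact hv)⟩⟩
    exact fppf_of k₀
  refine ⟨O, i, ⟨w, hw⟩, fun V g hg => ?_⟩
  refine mem_range_of_covering (m i) (hb i) _
    ((J S).pullback_stable g (mem_J_of_fppf k hfpp (Sieve.generate (Presieve.singleton k))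
      ⟨T', 𝟙 T', k, Presieve.singleton_self k, Category.id_comp _⟩)) fun V' h hh => ?_
  obtain ⟨W, r, f, hf, hrf⟩ := hh
  obtain ⟨⟩ := hf
  have he : k ≫ (Over.homMk O.ι rfl : Over.mk (O.ι ≫ T.hom) ⟶ T) = Over.homMk (fc j) rfl :=
    Over.OverMorphism.ext hk₀
  have h' : h ≫ g ≫ (Over.homMk O.ι rfl : Over.mk (O.ι ≫ T.hom) ⟶ T) =
      r ≫ (Over.homMk (fc j) rfl : T' ⟶ T) := by
    rw [← he, reassoc_of% hrf]
  rw [hx h r hg hφR h']
  exact mem_range_map m r hi

include h1 ha hb hc in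
theorem isSheaf : Presheaf.IsSheaf (J S) F := by
  have hinj : ∀ i (T' : (Over S)ᵒᵖ), Function.Injective ((m i).app T') := fun i T' =>
    (mono_iff_injective _).1 ((NatTrans.mono_iff_mono_app (m i)).1 inferInstance T')
  have hz : ∀ {T : Over S} (O : T.left → T.left.Opens), (∀ t, t ∈ O t) →
      Sieve.ofArrows _ (fun t => (Over.homMk (O t).ι rfl : Over.mk ((O t).ι ≫ T.hom) ⟶ T)) ∈
        QuotSh.J Scheme.zariskiPrecoverage S T := by
    intro T O hO
    rw [GrothendieckTopology.mem_over_iff]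
    let 𝒰 : T.left.OpenCover := T.left.openCoverOfIsOpenCover O (TopologicalSpace.IsOpenCover.mk
      (top_unique fun w _ => TopologicalSpace.Opens.mem_iSup.2 ⟨w, hO w⟩))
    refine GrothendieckTopology.superset_covering _ ?_ (Precoverage.generate_mem_toGrothendieck 𝒰.mem₀)
    rw [Sieve.generate_le_iff]
    intro Y' w' hw'
    obtain ⟨t⟩ := hw'
    rw [Sieve.overEquiv_iff]
    exact Sieve.ofArrows_mk _ (fun t => (Over.homMk (O t).ι rfl : Over.mk ((O t).ι ≫ T.hom) ⟶ T)) t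
  have hFz := (isSheaf_iff_isSheaf_of_type _ _).1 h1
  have hsep : ∀ {T : Over S} {R : Sieve T}, R ∈ J S T → ∀ x y : F.obj (op T),
      (∀ ⦃V : Over S⦄ (φ : V ⟶ T), R φ → F.map φ.op x = F.map φ.op y) → x = y := by
    intro T R hR x y hxy
    let xf : Presieve.FamilyOfElements F (⊤ : Sieve T).arrows := fun V φ _ => F.map φ.op x
    have hxf : xf.Compatible := fun V₁ V₂ W g₁ g₂ f₁ f₂ _ _ e => by
      simp only [xf, ← FunctorToTypes.map_comp_apply, ← op_comp, e]
    choose O i hO hi using exists_opens m hb hc ((J S).top_mem T) xf hxf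
    refine (hFz _ (hz O hO)).isSeparatedFor.ext fun V φ hφ => ?_
    obtain ⟨t, k, rfl⟩ := (Sieve.mem_ofArrows_iff _ _ _).1 hφ
    obtain ⟨a, ha'⟩ : xf (k ≫ _) trivial ∈ Set.range ((m (i t)).app (op V)) := hi t k trivial
    have hag : ∀ ⦃W : Over S⦄ (ψ : W ⟶ V), (R.pullback (k ≫ Over.homMk (O t).ι rfl)) ψ →
        F.map ψ.op (F.map (k ≫ Over.homMk (O t).ι rfl : V ⟶ T).op y) = (m (i t)).app _ ((Fi (i t)).map ψ.op a) := by
      intro W ψ hψ
      rw [NatTrans.naturality_apply, ha', ← FunctorToTypes.map_comp_apply, ← op_comp,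
        ← FunctorToTypes.map_comp_apply, ← op_comp]
      exact (hxy _ hψ).symm
    have hR' := (J S).pullback_stable (k ≫ (Over.homMk (O t).ι rfl : _ ⟶ T)) hR
    obtain ⟨b, hb'⟩ := mem_range_of_covering (m (i t)) (hb (i t))
      (F.map (k ≫ Over.homMk (O t).ι rfl : V ⟶ T).op y) hR' fun W ψ hψ => ⟨_, (hag ψ hψ).symm⟩
    have hab : a = b := ((isSheaf_iff_isSheaf_of_type _ _).1 (ha (i t)) _ hR').isSeparatedFor.ext
      fun W ψ hψ => hinj _ _ (by rw [← hag ψ hψ, NatTrans.naturality_apply, hb'])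
    change xf (k ≫ _) trivial = F.map _ y
    rw [← ha', ← hb', hab]
  rw [isSheaf_iff_isSheaf_of_type]
  intro T R hR x hx
  choose O i hO hi using exists_opens m hb hc hR x hx
  let inc : ∀ t, Over.mk ((O t).ι ≫ T.hom) ⟶ T := fun t => Over.homMk (O t).ι rfl
  have hex : ∀ t, ∃ y : F.obj (op (Over.mk ((O t).ι ≫ T.hom))),
      ∀ ⦃V : Over S⦄ (g : V ⟶ Over.mk ((O t).ι ≫ T.hom)) (hg : R (g ≫ inc t)), F.map g.op y = x _ hg := by
    intro t
    have hR' := (J S).pullback_stable (inc t) hR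
    let z : Presieve.FamilyOfElements (Fi (i t)) (R.pullback (inc t)).arrows := fun V g hg => (hi t g hg).choose
    have hz' : ∀ ⦃V : Over S⦄ (g : V ⟶ Over.mk ((O t).ι ≫ T.hom)) (hg : R (g ≫ inc t)),
        (m (i t)).app _ (z g hg) = x _ hg := fun V g hg => (hi t g hg).choose_spec
    have hzc : z.Compatible := fun V₁ V₂ W g₁ g₂ f₁ f₂ h₁ h₂ e => hinj _ _ (by
      rw [NatTrans.naturality_apply, NatTrans.naturality_apply, hz' f₁ h₁, hz' f₂ h₂]
      exact hx g₁ g₂ h₁ h₂ (by rw [reassoc_of% e]))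
    obtain ⟨a, ha', -⟩ := (isSheaf_iff_isSheaf_of_type _ _).1 (ha (i t)) _ hR' z hzc
    exact ⟨(m (i t)).app _ a, fun V g hg => by rw [← NatTrans.naturality_apply, ha' g hg, hz']⟩
  choose y hy using hex
  have hs : Presieve.IsSheafFor F (Presieve.ofArrows _ inc) :=
    (Presieve.isSheafFor_iff_generate _).2 (hFz _ (hz O hO))
  obtain ⟨s, hs', -⟩ := (Presieve.isSheafFor_arrows_iff _ _).1 hs y fun t t' W p q hpq => by
    refine hsep ((J S).pullback_stable (p ≫ inc t) hR) _ _ fun V φ hφ => ?_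
    rw [← FunctorToTypes.map_comp_apply, ← op_comp, ← FunctorToTypes.map_comp_apply, ← op_comp,
      hy t (φ ≫ p) (by simpa using hφ), hy t' (φ ≫ q) (by simpa [← hpq] using hφ)]
    congr 1
    simp [hpq]
  have hJ : Sieve.ofArrows _ inc ∈ J S T := by
    have := hz O hO
    rw [GrothendieckTopology.mem_over_iff] at this ⊢
    exact Precoverage.toGrothendieck_mono Scheme.zariskiPrecoverage_le_fppfPrecoverage _ this
  refine ⟨s, fun V f hf => ?_, fun s' hs'' => hsep hR _ _ fun V f hf => ?_⟩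
  · refine hsep ((J S).pullback_stable f hJ) _ _ fun W h hh => ?_
    obtain ⟨t, k, hk⟩ := (Sieve.mem_ofArrows_iff _ _ _).1 hh
    have hkR : R (k ≫ inc t) := hk ▸ R.downward_closed hf h
    rw [← FunctorToTypes.map_comp_apply, ← op_comp, hk, op_comp, FunctorToTypes.map_comp_apply, hs', hy t k hkR]
    have := hx h (𝟙 W) hf hkR (by rw [hk, Category.id_comp])
    rw [op_id, FunctorToTypes.map_id_apply] at this
    exact this.symm
  · rw [hs'' f hf]
    symm
    refine hsep ((J S).pullback_stable f hJ) _ _ fun W h hh => ?_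
    obtain ⟨t, k, hk⟩ := (Sieve.mem_ofArrows_iff _ _ _).1 hh
    have hkR : R (k ≫ inc t) := hk ▸ R.downward_closed hf h
    rw [← FunctorToTypes.map_comp_apply, ← op_comp, hk, op_comp, FunctorToTypes.map_comp_apply, hs', hy t k hkR]
    have := hx h (𝟙 W) hf hkR (by rw [hk, Category.id_comp])
    rw [op_id, FunctorToTypes.map_id_apply] at this
    exact this.symm

end Groth.Agent.AlgSpDec.SubGlue
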