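import Groth.Agent.S0431
import Groth.Agent.S10699
import Groth.Agent.RingPO.ChartPushout
import Groth.Agent.AlgSpLib.EtLocalInst
import Groth.Prelude.Def_AlgSpInf

/-!
# Pushouts of schemes over a base along a thickening and an affine morphism
-/

set_option backward.isDefEq.respectTransparency false
set_option backward.isDefEq.respectTransparency.types false
set_option autoImplicit false

noncomputable section

universe u

open CategoryTheory CategoryTheory.Limits AlgebraicGeometry AlgSp TensorProduct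

namespace Groth.Agent.AlgSpDec

variable {S : Scheme.{u}}

/-- A pushout square of schemes over `S` along a thickening and an affine morphism. -/
structure ThickSq {U U' V V' : Over S} (i : U ⟶ U') (j : U ⟶ V) (a : U' ⟶ V') (b : V ⟶ V') : Prop where
  thick : AlgSp.thick i.left
  affine : IsAffineHom j.left
  po : IsPushout i j a b

/-- A square over `S` which is a pushout of schemes is a pushout over `S`. -/
theorem isPushout_over {U U' V V' : Over S} {i : U ⟶ U'} {j : U ⟶ V} {a : U' ⟶ V'} {b : V ⟶ V'}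
    (w : i ≫ a = j ≫ b) (h : IsPushout i.left j.left a.left b.left) : IsPushout i j a b :=
  IsPushout.of_map (Over.forget S) w h

theorem exists_thickSq {U U' V : Over S} (i : U ⟶ U') (hi : AlgSp.thick i.left) (j : U ⟶ V)
    [hj : IsAffineHom j.left] : ∃ (V' : Over S) (a : U' ⟶ V') (b : V ⟶ V'), ThickSq i j a b := by
  have : IsClosedImmersion i.left := hi.1
  obtain ⟨P, a, b, hpo, -, -, -⟩ := Groth.Agent.S0431.result i.left hi.2.surj j.left
  let π : P ⟶ S := hpo.desc U'.hom V.hom ((Over.w i).trans (Over.w j).symm)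
  let a' : U' ⟶ Over.mk π := CategoryTheory.Over.homMk a (hpo.inl_desc _ _ _)
  let b' : V ⟶ Over.mk π := CategoryTheory.Over.homMk b (hpo.inr_desc _ _ _)
  exact ⟨Over.mk π, a', b', hi, hj, isPushout_over (Over.OverMorphism.ext hpo.w) hpo⟩

namespace ThickSq

variable {U U' V V' : Over S} {i : U ⟶ U'} {j : U ⟶ V} {a : U' ⟶ V'} {b : V ⟶ V'} (H : ThickSq i j a b)
include H

theorem closed : IsClosedImmersion i.left := H.thick.1

theorem surj : Surjective i.left := H.thick.2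

theorem left : IsPushout i.left j.left a.left b.left := H.po.map (Over.forget S)

theorem chart (y : ↥V.left) : ∃ c : RingPO.Chart i.left j.left, y ∈ c.V :=
  have := H.closed
  have := H.affine
  RingPO.chart_of_thickening H.surj.surj y

theorem isAffineHom_a : IsAffineHom a.left :=
  have := H.closed
  RingPO.isAffineHom_inl H.left H.chart

theorem thick_b : AlgSp.thick b.left :=
  have := H.closed
  ⟨RingPO.isClosedImmersion_inr H.left H.chart, ⟨RingPO.surjective_inr H.left H.chart H.surj.surj⟩⟩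

theorem mono_b : Mono b :=
  have : IsClosedImmersion b.left := H.thick_b.1
  (Over.forget S).mono_of_mono_map (inferInstanceAs (Mono b.left))

theorem space : IsPushout ((AlgSp.ofScheme S).map i) ((AlgSp.ofScheme S).map j) ((AlgSp.ofScheme S).map a)
    ((AlgSp.ofScheme S).map b) :=
  have := H.affine
  Groth.Agent.S10699.result i j a b ((thick_iff _).1 H.thick) H.po

theorem space_ext {Z : Sp S} (hZ : IsAlgSpace Z) {m m' : (yon S).obj V' ⟶ Z}
    (ha : (yon S).map a ≫ m = (yon S).map a ≫ m') (hb : (yon S).map b ≫ m = (yon S).map b ≫ m') : m = m' := by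
  let Z' : AlgSp.Space S := ⟨Z, hZ⟩
  have := H.space.hom_ext (k := (ObjectProperty.homMk m : (AlgSp.ofScheme S).obj V' ⟶ Z'))
    (l := ObjectProperty.homMk m') (ObjectProperty.hom_ext _ ha) (ObjectProperty.hom_ext _ hb)
  exact congrArg (·.hom) this

theorem space_desc {Z : Sp S} (hZ : IsAlgSpace Z) (mU : (yon S).obj U' ⟶ Z) (mV : (yon S).obj V ⟶ Z)
    (w : (yon S).map i ≫ mU = (yon S).map j ≫ mV) :
    ∃ m : (yon S).obj V' ⟶ Z, (yon S).map a ≫ m = mU ∧ (yon S).map b ≫ m = mV := by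
  let Z' : AlgSp.Space S := ⟨Z, hZ⟩
  have w' : (AlgSp.ofScheme S).map i ≫ (ObjectProperty.homMk mU : (AlgSp.ofScheme S).obj U' ⟶ Z') =
      (AlgSp.ofScheme S).map j ≫ (ObjectProperty.homMk mV : (AlgSp.ofScheme S).obj V ⟶ Z') := ObjectProperty.hom_ext _ w
  exact ⟨(H.space.desc _ _ w').hom, congrArg (·.hom) (H.space.inl_desc _ _ w'),
    congrArg (·.hom) (H.space.inr_desc _ _ w')⟩

/-- Flat base change. -/
theorem baseChange {W WU WU' WV : Over S} {k : W ⟶ V'} [Flat k.left] {a' : WU' ⟶ W} {g₁ : WU' ⟶ U'}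
    {b' : WV ⟶ W} {g₂ : WV ⟶ V} {i' : WU ⟶ WU'} {g₀ : WU ⟶ U} {j' : WU ⟶ WV}
    (sqa : IsPullback a' g₁ k a) (sqb : IsPullback b' g₂ k b) (sqi : IsPullback i' g₀ g₁ i)
    (hj : j' ≫ g₂ = g₀ ≫ j) (hc : i' ≫ a' = j' ≫ b') :
    ThickSq i' j' a' b' ∧ IsPullback j' g₀ g₂ j := by
  have sqj : IsPullback j' g₀ g₂ j := by
    refine IsPullback.of_right ?_ hj sqb
    rw [← hc, ← H.po.w]
    exact sqi.paste_horiz sqa
  have := H.closed
  have := H.affine
  have := H.isAffineHom_a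
  have hiL := sqi.map (Over.forget S)
  have hpo := RingPO.isPushout_baseChange H.left H.chart (S := V'.left) (T := W.left) (𝟙 V'.left) k.left
    (Or.inr inferInstance) (pP := k.left) (sT := 𝟙 W.left)
    (IsPullback.of_vert_isIso ⟨by rw [Category.id_comp, Category.comp_id]⟩)
    (sqa.map (Over.forget S)).flip (sqb.map (Over.forget S)).flip hiL.flip
    (congrArg Over.Hom.left hj) (congrArg Over.Hom.left hc)
  refine ⟨⟨⟨MorphismProperty.of_isPullback hiL.flip H.closed, MorphismProperty.of_isPullback hiL.flip H.surj⟩,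
    MorphismProperty.of_isPullback (sqj.map (Over.forget S)).flip H.affine, isPushout_over hc hpo⟩, sqj⟩

end ThickSq

section Cube

variable {U U' V V' : Over S} {i : U ⟶ U'} {j : U ⟶ V} {a : U' ⟶ V'} {b : V ⟶ V'}
  {Z X Y P : Over S} {i' : Z ⟶ X} {j' : Z ⟶ Y} {a' : X ⟶ P} {b' : Y ⟶ P}
  {f : X ⟶ U'} {g : Y ⟶ V} {c : Z ⟶ U} {h : P ⟶ V'}

/-- A morphism of pushout squares with cartesian back faces has cartesian front faces. -/
theorem ThickSq.cube (H : ThickSq i j a b) (H' : ThickSq i' j' a' b') (hX : IsPullback i' c f i)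
    (hY : IsPullback j' c g j) (ha : a' ≫ h = f ≫ a) (hb : b' ≫ h = g ≫ b) :
    IsPullback a' f h a ∧ IsPullback b' g h b := by
  have := H.closed
  have := H.affine
  have := H.isAffineHom_a
  have := H'.closed
  have := H'.affine
  have := H'.isAffineHom_a
  have hcb : IsClosedImmersion b.left := H.thick_b.1
  have hcb' : IsClosedImmersion b'.left := H'.thick_b.1
  have hal : a'.left ≫ h.left = f.left ≫ a.left := congrArg Over.Hom.left ha
  have hbl : b'.left ≫ h.left = g.left ≫ b.left := congrArg Over.Hom.left hb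
  let ι := { p : V'.left.affineOpens × P.left.affineOpens // p.2.1 ≤ h.left ⁻¹ᵁ p.1.1 }
  have e₁ : ∀ p : ι, a'.left ⁻¹ᵁ p.1.2.1 ≤ f.left ⁻¹ᵁ a.left ⁻¹ᵁ p.1.1.1 := fun p => by
    rw [← Scheme.Hom.comp_preimage, ← hal, Scheme.Hom.comp_preimage]; exact a'.left.preimage_mono p.2
  have e₂ : ∀ p : ι, b'.left ⁻¹ᵁ p.1.2.1 ≤ g.left ⁻¹ᵁ b.left ⁻¹ᵁ p.1.1.1 := fun p => by
    rw [← Scheme.Hom.comp_preimage, ← hbl, Scheme.Hom.comp_preimage]; exact b'.left.preimage_mono p.2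
  have hXl : IsPullback i'.left c.left f.left i.left := hX.map (Over.forget S)
  have hYl : IsPullback j'.left c.left g.left j.left := hY.map (Over.forget S)
  have spec := fun p : ι => RingPO.chart_spec H.left H.chart H'.left H'.chart hXl hYl hal hbl p.1.1 p.1.2 p.2 (e₁ p) (e₂ p)
  have hcov' : ∀ x, ∃ p : ι, x ∈ Set.range p.1.2.2.fromSpec := fun x => by
    obtain ⟨O, hO, hxO, -⟩ := exists_isAffineOpen_mem_and_subset (x := h.left x) (U := (⊤ : V'.left.Opens)) (by simp)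
    obtain ⟨O', hO', hxO', hle⟩ := exists_isAffineOpen_mem_and_subset (x := x) (U := h.left ⁻¹ᵁ O) hxO
    exact ⟨⟨(⟨O, hO⟩, ⟨O', hO'⟩), hle⟩, by rw [hO'.range_fromSpec]; exact hxO'⟩
  haveI hopen : ∀ p : ι, IsOpenImmersion p.1.2.2.fromSpec := fun p => IsAffineOpen.isOpenImmersion_fromSpec p.1.2.2
  constructor
  · refine (IsPullback.of_map (Over.forget S) ha.symm ?_).flip
    refine RingPO.isPullback_of_cover hal.symm (fun p : ι => Spec Γ(_, p.1.2.1))
      (fun p : ι => Spec Γ(_, a'.left ⁻¹ᵁ p.1.2.1)) (fun p => p.1.2.2.fromSpec) hcov'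
      (fun p => (p.1.2.2.preimage a'.left).fromSpec)
      (fun p => Spec.map (a'.left.appLE p.1.2 _ le_rfl)) (fun p => RingPO.isPullback_fromSpec _ p.1.2.2)
      (fun p => ?_)
    have h2 := (isPullback_SpecMap_of_isPushout _ _ _ _ (spec p).2.1).paste_horiz
      (RingPO.isPullback_fromSpec a.left p.1.1.2)
    rwa [(p.1.1.2.preimage a.left).SpecMap_appLE_fromSpec f.left (p.1.2.2.preimage a'.left) (e₁ p),
      p.1.1.2.SpecMap_appLE_fromSpec h.left p.1.2.2 p.2] at h2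
  · refine (IsPullback.of_map (Over.forget S) hb.symm ?_).flip
    refine RingPO.isPullback_of_cover hbl.symm (fun p : ι => Spec Γ(_, p.1.2.1))
      (fun p : ι => Spec Γ(_, b'.left ⁻¹ᵁ p.1.2.1)) (fun p => p.1.2.2.fromSpec) hcov'
      (fun p => (p.1.2.2.preimage b'.left).fromSpec)
      (fun p => Spec.map (b'.left.appLE p.1.2 _ le_rfl)) (fun p => RingPO.isPullback_fromSpec _ p.1.2.2)
      (fun p => ?_)
    have h2 := (isPullback_SpecMap_of_isPushout _ _ _ _ (spec p).1).paste_horiz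
      (RingPO.isPullback_fromSpec b.left p.1.1.2)
    rwa [(p.1.1.2.preimage b.left).SpecMap_appLE_fromSpec g.left (p.1.2.2.preimage b'.left) (e₂ p),
      p.1.1.2.SpecMap_appLE_fromSpec h.left p.1.2.2 p.2] at h2

/-- Properties descend from the pieces to the pushout. -/
theorem ThickSq.prop_glue (H : ThickSq i j a b) (H' : ThickSq i' j' a' b') (hX : IsPullback i' c f i)
    (hY : IsPullback j' c g j) (ha : a' ≫ h = f ≫ a) (hb : b' ≫ h = g ≫ b)
    (Pr : MorphismProperty Scheme.{u}) {Q : ∀ {R T : Type u} [CommRing R] [CommRing T], (R →+* T) → Prop}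
    [HasRingHomProperty Pr Q]
    (key : ∀ {B' B A' A : Type u} [CommRing B'] [CommRing B] [CommRing A'] [CommRing A] [Algebra B' B] [Algebra B' A']
      [Algebra B A] [Algebra A' A] [Algebra B' A] [IsScalarTower B' B A] [IsScalarTower B' A' A],
      EtMil.IsFibreSquare B' B A' A → ∀ (D' : Type u) [CommRing D'] [Algebra B' D'],
      (Flat h.left → Module.Flat B' D') →
      Q (algebraMap B (B ⊗[B'] D')) → Q (algebraMap A' (A' ⊗[B'] D')) → Q (algebraMap B' D'))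
    (hf : Pr f.left) (hg : Pr g.left) : Pr h.left := by
  have := H.closed
  have := H.affine
  have := H.isAffineHom_a
  have := H'.closed
  have := H'.affine
  have := H'.isAffineHom_a
  have hcb : IsClosedImmersion b.left := H.thick_b.1
  have hcb' : IsClosedImmersion b'.left := H'.thick_b.1
  have hal : a'.left ≫ h.left = f.left ≫ a.left := congrArg Over.Hom.left ha
  have hbl : b'.left ≫ h.left = g.left ≫ b.left := congrArg Over.Hom.left hb
  refine HasRingHomProperty.iff_appLE.mpr fun O O' e => ?_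
  have e₁ : a'.left ⁻¹ᵁ O'.1 ≤ f.left ⁻¹ᵁ a.left ⁻¹ᵁ O.1 := by
    rw [← Scheme.Hom.comp_preimage, ← hal, Scheme.Hom.comp_preimage]; exact a'.left.preimage_mono e
  have e₂ : b'.left ⁻¹ᵁ O'.1 ≤ g.left ⁻¹ᵁ b.left ⁻¹ᵁ O.1 := by
    rw [← Scheme.Hom.comp_preimage, ← hbl, Scheme.Hom.comp_preimage]; exact b'.left.preimage_mono e
  have hXl : IsPullback i'.left c.left f.left i.left := hX.map (Over.forget S)
  have hYl : IsPullback j'.left c.left g.left j.left := hY.map (Over.forget S)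
  obtain ⟨hB, hA, -, -⟩ := RingPO.chart_spec H.left H.chart H'.left H'.chart hXl hYl hal hbl O O' e e₁ e₂
  have hF2 := RingPO.isFibreProd_of_affineOpen H.left H.chart O.2
  set W : U.left.Opens := i.left ⁻¹ᵁ a.left ⁻¹ᵁ O.1 with hW
  have eW : W = j.left ⁻¹ᵁ b.left ⁻¹ᵁ O.1 := by
    rw [hW, ← Scheme.Hom.comp_preimage, H.left.w, Scheme.Hom.comp_preimage]
  have hF : RingPO.IsFibreProd (i.left.appLE (a.left ⁻¹ᵁ O.1) W le_rfl).hom
      (j.left.appLE (b.left ⁻¹ᵁ O.1) W eW.le).hom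
      (a.left.appLE O (a.left ⁻¹ᵁ O.1) le_rfl).hom (b.left.appLE O (b.left ⁻¹ᵁ O.1) le_rfl).hom := hF2
  letI : Algebra Γ(V'.left, O) Γ(V.left, b.left ⁻¹ᵁ O.1) := (b.left.appLE O (b.left ⁻¹ᵁ O.1) le_rfl).hom.toAlgebra
  letI : Algebra Γ(V'.left, O) Γ(U'.left, a.left ⁻¹ᵁ O.1) := (a.left.appLE O (a.left ⁻¹ᵁ O.1) le_rfl).hom.toAlgebra
  letI : Algebra Γ(V.left, b.left ⁻¹ᵁ O.1) Γ(U.left, W) := (j.left.appLE (b.left ⁻¹ᵁ O.1) W eW.le).hom.toAlgebra
  letI : Algebra Γ(U'.left, a.left ⁻¹ᵁ O.1) Γ(U.left, W) := (i.left.appLE (a.left ⁻¹ᵁ O.1) W le_rfl).hom.toAlgebra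
  letI : Algebra Γ(V'.left, O) Γ(U.left, W) :=
    ((b.left.appLE O (b.left ⁻¹ᵁ O.1) le_rfl) ≫ (j.left.appLE (b.left ⁻¹ᵁ O.1) W eW.le)).hom.toAlgebra
  haveI : IsScalarTower Γ(V'.left, O) Γ(V.left, b.left ⁻¹ᵁ O.1) Γ(U.left, W) := IsScalarTower.of_algebraMap_eq' rfl
  haveI : IsScalarTower Γ(V'.left, O) Γ(U'.left, a.left ⁻¹ᵁ O.1) Γ(U.left, W) :=
    IsScalarTower.of_algebraMap_eq' (RingHom.ext fun z => (hF.comm z).symm)
  letI : Algebra Γ(V'.left, O) Γ(P.left, O') := (h.left.appLE O O' e).hom.toAlgebra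
  letI : Algebra Γ(P.left, O') Γ(Y.left, b'.left ⁻¹ᵁ O'.1) := (b'.left.appLE O' (b'.left ⁻¹ᵁ O'.1) le_rfl).hom.toAlgebra
  letI : Algebra Γ(P.left, O') Γ(X.left, a'.left ⁻¹ᵁ O'.1) := (a'.left.appLE O' (a'.left ⁻¹ᵁ O'.1) le_rfl).hom.toAlgebra
  letI : Algebra Γ(V.left, b.left ⁻¹ᵁ O.1) Γ(Y.left, b'.left ⁻¹ᵁ O'.1) :=
    (g.left.appLE (b.left ⁻¹ᵁ O.1) (b'.left ⁻¹ᵁ O'.1) e₂).hom.toAlgebra
  letI : Algebra Γ(U'.left, a.left ⁻¹ᵁ O.1) Γ(X.left, a'.left ⁻¹ᵁ O'.1) :=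
    (f.left.appLE (a.left ⁻¹ᵁ O.1) (a'.left ⁻¹ᵁ O'.1) e₁).hom.toAlgebra
  letI : Algebra Γ(V'.left, O) Γ(Y.left, b'.left ⁻¹ᵁ O'.1) :=
    ((b.left.appLE O (b.left ⁻¹ᵁ O.1) le_rfl) ≫ (g.left.appLE (b.left ⁻¹ᵁ O.1) (b'.left ⁻¹ᵁ O'.1) e₂)).hom.toAlgebra
  haveI : IsScalarTower Γ(V'.left, O) Γ(V.left, b.left ⁻¹ᵁ O.1) Γ(Y.left, b'.left ⁻¹ᵁ O'.1) := IsScalarTower.of_algebraMap_eq' rfl
  haveI : IsScalarTower Γ(V'.left, O) Γ(P.left, O') Γ(Y.left, b'.left ⁻¹ᵁ O'.1) :=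
    IsScalarTower.of_algebraMap_eq' (congrArg CommRingCat.Hom.hom hB.w)
  letI : Algebra Γ(V'.left, O) Γ(X.left, a'.left ⁻¹ᵁ O'.1) :=
    ((a.left.appLE O (a.left ⁻¹ᵁ O.1) le_rfl) ≫ (f.left.appLE (a.left ⁻¹ᵁ O.1) (a'.left ⁻¹ᵁ O'.1) e₁)).hom.toAlgebra
  haveI : IsScalarTower Γ(V'.left, O) Γ(U'.left, a.left ⁻¹ᵁ O.1) Γ(X.left, a'.left ⁻¹ᵁ O'.1) := IsScalarTower.of_algebraMap_eq' rfl
  haveI : IsScalarTower Γ(V'.left, O) Γ(P.left, O') Γ(X.left, a'.left ⁻¹ᵁ O'.1) :=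
    IsScalarTower.of_algebraMap_eq' (congrArg CommRingCat.Hom.hom hA.w)
  haveI : Algebra.IsPushout Γ(V'.left, O) Γ(V.left, b.left ⁻¹ᵁ O.1) Γ(P.left, O') Γ(Y.left, b'.left ⁻¹ᵁ O'.1) :=
    CommRingCat.isPushout_iff_isPushout.mp hB
  haveI : Algebra.IsPushout Γ(V'.left, O) Γ(U'.left, a.left ⁻¹ᵁ O.1) Γ(P.left, O') Γ(X.left, a'.left ⁻¹ᵁ O'.1) :=
    CommRingCat.isPushout_iff_isPushout.mp hA
  have eB := (Algebra.IsPushout.equiv Γ(V'.left, O) Γ(V.left, b.left ⁻¹ᵁ O.1) Γ(P.left, O') Γ(Y.left, b'.left ⁻¹ᵁ O'.1)).symm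
  have eA := (Algebra.IsPushout.equiv Γ(V'.left, O) Γ(U'.left, a.left ⁻¹ᵁ O.1) Γ(P.left, O') Γ(X.left, a'.left ⁻¹ᵁ O'.1)).symm
  have hQ : RingHom.RespectsIso Q := (HasRingHomProperty.isLocal_ringHomProperty Pr).respectsIso
  have qB : Q (algebraMap Γ(V.left, b.left ⁻¹ᵁ O.1) (Γ(V.left, b.left ⁻¹ᵁ O.1) ⊗[Γ(V'.left, O)] Γ(P.left, O'))) := by
    have h1 := hQ.1 _ eB.toRingEquiv
      (HasRingHomProperty.appLE Pr g.left hg ⟨_, O.2.preimage b.left⟩ ⟨_, O'.2.preimage b'.left⟩ e₂)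
    convert h1 using 1
    exact (eB.toAlgHom.comp_algebraMap).symm
  have qA : Q (algebraMap Γ(U'.left, a.left ⁻¹ᵁ O.1) (Γ(U'.left, a.left ⁻¹ᵁ O.1) ⊗[Γ(V'.left, O)] Γ(P.left, O'))) := by
    have h1 := hQ.1 _ eA.toRingEquiv
      (HasRingHomProperty.appLE Pr f.left hf ⟨_, O.2.preimage a.left⟩ ⟨_, O'.2.preimage a'.left⟩ e₁)
    convert h1 using 1
    exact (eA.toAlgHom.comp_algebraMap).symm
  exact key (RingPO.isFibreSquare_of_isFibreProd hF) Γ(P.left, O')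
    (fun hfl => HasRingHomProperty.appLE @Flat h.left hfl O O' e) qB qA

end Cube

end Groth.Agent.AlgSpDec
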