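import Mathlib.RingTheory.Unramified.Locus
import Mathlib.RingTheory.Kaehler.TensorProduct
import Mathlib.RingTheory.LocalRing.Module
import Mathlib.AlgebraicGeometry.Morphisms.FormallyUnramified
import Mathlib.AlgebraicGeometry.Morphisms.Etale
import Mathlib.AlgebraicGeometry.PullbackCarrier

/-! The unramified locus descends along arbitrary base change. -/

set_option autoImplicit false
set_option backward.isDefEq.respectTransparency false
set_option backward.isDefEq.respectTransparency.types false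

open CategoryTheory Limits AlgebraicGeometry TensorProduct

namespace Groth.Agent.AlgSpDec.UnramLocus

universe u

section
attribute [local instance] Algebra.TensorProduct.rightAlgebra

theorem isUnramifiedAt_of_baseChange {B A B' : Type u} [CommRing B] [CommRing A] [CommRing B'] [Algebra B A]
    [Algebra B B'] [Algebra.FiniteType B A] (q' : PrimeSpectrum (B' ⊗[B] A))
    (h : q' ∈ Algebra.unramifiedLocus B' (B' ⊗[B] A)) :
    PrimeSpectrum.comap (algebraMap A (B' ⊗[B] A)) q' ∈ Algebra.unramifiedLocus B A := by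
  rw [Algebra.unramifiedLocus_eq_compl_support, Set.mem_compl_iff] at h ⊢
  refine fun hq => h ?_
  let T := B' ⊗[B] A
  let q := PrimeSpectrum.comap (algebraMap A T) q'
  rw [Module.mem_support_iff_nontrivial_residueField_tensorProduct] at hq
  let K := q.asIdeal.ResidueField
  let K' := q'.asIdeal.ResidueField
  letI : Algebra K K' := (Ideal.ResidueField.map q.asIdeal q'.asIdeal (algebraMap A T) rfl).toAlgebra
  have : IsScalarTower A K K' := IsScalarTower.of_algebraMap_eq fun x =>
    ((Ideal.ResidueField.map_algebraMap _ _ _ _ _).trans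
      (IsScalarTower.algebraMap_apply A T K' x).symm).symm
  let e : T ⊗[A] Ω[A⁄B] ≃ₗ[T] Ω[T⁄B'] := KaehlerDifferential.tensorKaehlerEquiv B B' A T
  have : Nontrivial (K' ⊗[A] Ω[A⁄B]) := by
    have e1 : K' ⊗[K] (K ⊗[A] Ω[A⁄B]) ≃ₗ[K'] K' ⊗[A] Ω[A⁄B] :=
      TensorProduct.AlgebraTensorModule.cancelBaseChange A K K' K' Ω[A⁄B]
    have : Module.Free K K' := Module.Free.of_divisionRing K K'
    have : Nontrivial K' := inferInstance
    have hι : Nonempty (Module.Free.ChooseBasisIndex K K') := (Module.Free.chooseBasis K K').index_nonempty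
    have : Module.FaithfullyFlat K K' :=
      Module.FaithfullyFlat.of_linearEquiv _ _ (Module.Free.chooseBasis K K').repr
    have : Nontrivial (K' ⊗[K] (K ⊗[A] Ω[A⁄B])) :=
      (Module.FaithfullyFlat.nontrivial_tensorProduct_iff_right (R := K) (M := K')).mpr hq
    exact e1.nontrivial_congr.1 this
  have : Nontrivial (K' ⊗[T] (T ⊗[A] Ω[A⁄B])) :=
    (TensorProduct.AlgebraTensorModule.cancelBaseChange A T K' K' Ω[A⁄B]).nontrivial_congr.2 this
  have hs : q' ∈ Module.support T (T ⊗[A] Ω[A⁄B]) :=
    (Module.mem_support_iff_nontrivial_residueField_tensorProduct q').2 this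
  rwa [LinearEquiv.support_eq e] at hs

end

/-- The locus where a morphism is formally unramified. -/
def unramLocus {X Y : Scheme.{u}} (f : X ⟶ Y) : Set ↥X :=
  {x | ∃ U : X.Opens, x ∈ U ∧ FormallyUnramified (U.ι ≫ f)}

theorem isOpen_unramLocus {X Y : Scheme.{u}} (f : X ⟶ Y) : IsOpen (unramLocus f) :=
  isOpen_iff_forall_mem_open.2 fun _ ⟨U, hx, hU⟩ => ⟨U, fun _ hy => ⟨U, hy, hU⟩, U.2, hx⟩

theorem formallyUnramified_iff_unramLocus {X Y : Scheme.{u}} (f : X ⟶ Y) :
    FormallyUnramified f ↔ unramLocus f = Set.univ := by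
  refine ⟨fun h => Set.eq_univ_of_forall fun x => ⟨⊤, trivial,
    MorphismProperty.comp_mem @FormallyUnramified _ _ inferInstance h⟩, fun h => ?_⟩
  choose U hxU hU using fun x : ↥X => Set.eq_univ_iff_forall.1 h x
  exact IsZariskiLocalAtSource.of_iSup_eq_top (P := @FormallyUnramified) U
    (top_unique fun x _ => TopologicalSpace.Opens.mem_iSup.2 ⟨x, hxU x⟩) hU

theorem mem_unramLocus_comp_etale {U X Y : Scheme.{u}} (a : U ⟶ X) (f : X ⟶ Y) [Etale a] {u : ↥U}
    (h : a u ∈ unramLocus f) : u ∈ unramLocus (a ≫ f) := by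
  obtain ⟨V, hV, hVf⟩ := h
  refine ⟨a ⁻¹ᵁ V, hV, ?_⟩
  rw [← Category.assoc, ← morphismRestrict_ι a V, Category.assoc]
  have : Etale (a ∣_ V) := IsZariskiLocalAtTarget.restrict ‹Etale a› V
  exact MorphismProperty.comp_mem @FormallyUnramified _ _ inferInstance hVf

theorem SpecMap_unramLocus_iff {B A : Type u} [CommRing B] [CommRing A] [Algebra B A] [Algebra.FiniteType B A]
    (p : PrimeSpectrum A) :
    p ∈ unramLocus (Spec.map (CommRingCat.ofHom (algebraMap B A))) ↔ p ∈ Algebra.unramifiedLocus B A := by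
  have key : ∀ r : A, (FormallyUnramified (Spec.map (CommRingCat.ofHom (algebraMap A (Localization.Away r))) ≫
      Spec.map (CommRingCat.ofHom (algebraMap B A)))) ↔
      (↑(PrimeSpectrum.basicOpen r) : Set (PrimeSpectrum A)) ⊆ Algebra.unramifiedLocus B A := fun r => by
    rw [Algebra.basicOpen_subset_unramifiedLocus_iff, ← Spec.map_comp, ← CommRingCat.ofHom_comp,
      ← IsScalarTower.algebraMap_eq, HasRingHomProperty.Spec_iff (P := @FormallyUnramified)]
    exact RingHom.formallyUnramified_algebraMap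
  constructor
  · rintro ⟨U, hp, hU⟩
    obtain ⟨_, ⟨r, rfl⟩, hpr, hrU⟩ :=
      PrimeSpectrum.isTopologicalBasis_basic_opens.exists_subset_of_mem_open
        (u := (U.carrier : Set (PrimeSpectrum A))) (show p ∈ U.carrier from hp) U.is_open'
    refine (key r).1 ?_ hpr
    let j := Spec.map (CommRingCat.ofHom (algebraMap A (Localization.Away r)))
    have hj : IsOpenImmersion j := inferInstance
    have hr : Set.range j ⊆ Set.range U.ι := by
      rw [Scheme.Opens.range_ι]
      refine Set.Subset.trans (le_of_eq ?_) hrU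
      exact PrimeSpectrum.localization_away_comap_range (Localization.Away r) r
    have : FormallyUnramified (IsOpenImmersion.lift U.ι j hr ≫ U.ι ≫
        Spec.map (CommRingCat.ofHom (algebraMap B A))) := by
      have : IsOpenImmersion (IsOpenImmersion.lift U.ι j hr ≫ U.ι) := by
        rw [IsOpenImmersion.lift_fac]; exact hj
      have : IsOpenImmersion (IsOpenImmersion.lift U.ι j hr) := IsOpenImmersion.of_comp _ U.ι
      exact MorphismProperty.comp_mem @FormallyUnramified _ _ inferInstance hU
    rwa [IsOpenImmersion.lift_fac_assoc] at this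
  · intro hp
    obtain ⟨_, ⟨r, rfl⟩, hpr, hrU⟩ :=
      PrimeSpectrum.isTopologicalBasis_basic_opens.exists_subset_of_mem_open hp
        (Algebra.isOpen_unramifiedLocus (R := B) (A := A))
    let j := Spec.map (CommRingCat.ofHom (algebraMap A (Localization.Away r)))
    have : FormallyUnramified (j ≫ Spec.map (CommRingCat.ofHom (algebraMap B A))) := (key r).2 hrU
    refine ⟨j.opensRange, ?_, ?_⟩
    · change p ∈ Set.range j
      rw [show Set.range j = _ from PrimeSpectrum.localization_away_comap_range (Localization.Away r) r]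
      exact hpr
    · rw [← Scheme.Hom.isoOpensRange_inv_comp, Category.assoc]
      exact MorphismProperty.comp_mem @FormallyUnramified _ _ inferInstance this

/-- Unramifiedness at a point of a base change descends to the point below. -/
theorem mem_unramLocus_of_baseChange {X Y X' Y' : Scheme.{u}} {f : X ⟶ Y} [LocallyOfFiniteType f] {g : Y' ⟶ Y}
    {g' : X' ⟶ X} {f' : X' ⟶ Y'} (sq : IsPullback g' f' f g) {x' : ↥X'} (h : x' ∈ unramLocus f') :
    g' x' ∈ unramLocus f := by
  obtain ⟨iB, bB, hbB⟩ := Y.affineOpenCover.openCover.exists_eq (f (g' x'))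
  let B : CommRingCat.{u} := Y.affineOpenCover.X iB
  let vY : Spec B ⟶ Y := Y.affineOpenCover.f iB
  have hvY : IsOpenImmersion vY := Y.affineOpenCover.openCover.map_prop iB
  obtain ⟨p₁, hp₁, -⟩ := Scheme.Pullback.exists_preimage_pullback (f := f) (g := vY) (g' x') bB hbB.symm
  obtain ⟨iA, aA, haA⟩ := (pullback f vY).affineOpenCover.openCover.exists_eq p₁
  let A : CommRingCat.{u} := (pullback f vY).affineOpenCover.X iA
  let eA : Spec A ⟶ pullback f vY := (pullback f vY).affineOpenCover.f iA
  have heA : IsOpenImmersion eA := (pullback f vY).affineOpenCover.openCover.map_prop iA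
  obtain ⟨p₂, hp₂, -⟩ := Scheme.Pullback.exists_preimage_pullback (f := g) (g := vY) (f' x') bB
    (by rw [← Scheme.Hom.comp_apply, ← sq.w, Scheme.Hom.comp_apply]; exact hbB.symm)
  obtain ⟨iC, cC, hcC⟩ := (pullback g vY).affineOpenCover.openCover.exists_eq p₂
  let C : CommRingCat.{u} := (pullback g vY).affineOpenCover.X iC
  let eC : Spec C ⟶ pullback g vY := (pullback g vY).affineOpenCover.f iC
  have heC : IsOpenImmersion eC := (pullback g vY).affineOpenCover.openCover.map_prop iC
  let uX : Spec A ⟶ X := eA ≫ pullback.fst f vY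
  let uY : Spec C ⟶ Y' := eC ≫ pullback.fst g vY
  obtain ⟨φ, hφ⟩ := Spec.map_surjective (eA ≫ pullback.snd f vY)
  obtain ⟨ψ, hψ⟩ := Spec.map_surjective (eC ≫ pullback.snd g vY)
  letI : Algebra B A := φ.hom.toAlgebra
  letI : Algebra B C := ψ.hom.toAlgebra
  let Φ : Spec A ⟶ Spec B := Spec.map (CommRingCat.ofHom (algebraMap B A))
  let Ψ : Spec C ⟶ Spec B := Spec.map (CommRingCat.ofHom (algebraMap B C))
  have hΦ : uX ≫ f = Φ ≫ vY := by
    rw [show Φ = Spec.map φ from rfl, hφ, Category.assoc, Category.assoc, pullback.condition]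
  have hΨ : uY ≫ g = Ψ ≫ vY := by
    rw [show Ψ = Spec.map ψ from rfl, hψ, Category.assoc, Category.assoc, pullback.condition]
  have : Algebra.FiniteType B A := by
    have h1 : LocallyOfFiniteType (Spec.map φ) := by rw [hφ]; infer_instance
    exact (HasRingHomProperty.Spec_iff (P := @LocallyOfFiniteType)).1 h1
  let μ : pullback Ψ Φ ⟶ pullback g f := pullback.map Ψ Φ g f uY uX vY hΨ.symm hΦ.symm
  let j : pullback Ψ Φ ⟶ X' := μ ≫ sq.flip.isoPullback.inv
  obtain ⟨w, hw⟩ : sq.flip.isoPullback.hom x' ∈ Set.range μ := by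
    rw [Scheme.Pullback.range_map]
    refine ⟨⟨cC, ?_⟩, ⟨aA, ?_⟩⟩
    · change uY cC = pullback.fst g f (sq.flip.isoPullback.hom x')
      rw [← Scheme.Hom.comp_apply (sq.flip.isoPullback.hom), sq.flip.isoPullback_hom_fst, Scheme.Hom.comp_apply]
      exact (congrArg _ hcC).trans hp₂
    · change uX aA = pullback.snd g f (sq.flip.isoPullback.hom x')
      rw [← Scheme.Hom.comp_apply (sq.flip.isoPullback.hom), sq.flip.isoPullback_hom_snd, Scheme.Hom.comp_apply]
      exact (congrArg _ haA).trans hp₁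
  have hjw : j w = x' := by
    rw [Scheme.Hom.comp_apply, hw, ← Scheme.Hom.comp_apply, Iso.hom_inv_id]
    rfl
  have hjf : j ≫ f' = pullback.fst Ψ Φ ≫ uY := by
    rw [Category.assoc, sq.flip.isoPullback_inv_fst, pullback.lift_fst]
  have hjg : j ≫ g' = pullback.snd Ψ Φ ≫ uX := by
    rw [Category.assoc, sq.flip.isoPullback_inv_snd, pullback.lift_snd]
  obtain ⟨W, hwW, hW⟩ := mem_unramLocus_comp_etale j f' (u := w) (hjw.symm ▸ h)
  rw [hjf, ← Category.assoc] at hW
  have hW' : FormallyUnramified (W.ι ≫ pullback.fst Ψ Φ) := FormallyUnramified.of_comp _ uY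
  let I := pullbackSpecIso B C A
  obtain ⟨W', hzW', hW''⟩ := mem_unramLocus_comp_etale I.inv (pullback.fst Ψ Φ) (u := I.hom w)
    ⟨W, by rwa [← Scheme.Hom.comp_apply, Iso.hom_inv_id], hW'⟩
  rw [pullbackSpecIso_inv_fst' B C A] at hW''
  have hz := (SpecMap_unramLocus_iff (B := C) (A := C ⊗[B] A) (I.hom w)).1 ⟨W', hzW', hW''⟩
  have hA := isUnramifiedAt_of_baseChange (I.hom w) hz
  obtain ⟨U, hU, hUf⟩ := (SpecMap_unramLocus_iff _).2 hA
  have hpt : PrimeSpectrum.comap (letI := Algebra.TensorProduct.rightAlgebra (R := B) (A := C) (B := A)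
      algebraMap A (C ⊗[B] A)) (I.hom w) = pullback.snd Ψ Φ w := by
    have e : Spec.map (CommRingCat.ofHom (Algebra.TensorProduct.includeRight (R := B) (A := C) (B := A)).toRingHom)
        = I.inv ≫ pullback.snd Ψ Φ := (pullbackSpecIso_inv_snd B C A).symm
    change (Spec.map (CommRingCat.ofHom (Algebra.TensorProduct.includeRight (R := B) (A := C) (B := A)).toRingHom))
      (I.hom w) = _
    rw [e, ← Scheme.Hom.comp_apply, Iso.hom_inv_id_assoc]
    rfl
  rw [hpt] at hU
  refine ⟨(U.ι ≫ uX).opensRange, ⟨⟨_, hU⟩, ?_⟩, ?_⟩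
  · change uX (pullback.snd Ψ Φ w) = g' x'
    rw [← Scheme.Hom.comp_apply, ← hjg, Scheme.Hom.comp_apply, hjw]
  · rw [← Scheme.Hom.isoOpensRange_inv_comp, Category.assoc, Category.assoc, hΦ]
    refine MorphismProperty.comp_mem @FormallyUnramified _ _ inferInstance ?_
    rw [← Category.assoc]
    exact MorphismProperty.comp_mem @FormallyUnramified _ _ hUf inferInstance

end Groth.Agent.AlgSpDec.UnramLocus
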