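import Groth.Agent.AlgSpDec.UnramLocus
import Groth.Agent.AlgSpDec.MonoTfae
import Groth.Agent.AlgSpPts.OpenSub
import Groth.Agent.AlgSpPts.Props
import Groth.Agent.AlgSpPts.Misc
import Groth.Agent.AlgSpLib.LargestOpen
import Groth.Agent.AlgSpLib.FlatAt
import Groth.Agent.AlgSpLib.EtLocalInst
import Groth.Agent.AlgSpLib.OpenMor

/-! The open subspace of the target over which a morphism is unramified. -/

set_option autoImplicit false
set_option backward.isDefEq.respectTransparency false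
set_option backward.isDefEq.respectTransparency.types false

open CategoryTheory Limits Opposite AlgebraicGeometry MorphismProperty AlgSp Groth.Agent.AlgSpLib
  Groth.Agent.AlgSpPts Groth.Agent.AlgSpDec.UnramLocus

namespace Groth.Agent.AlgSpDec.UnramSpace

universe u

variable {S : Scheme.{u}} {X Y X' Y' : Sp S} {f : X ⟶ Y}

/-- The points at which `f` is unramified in some chart. -/
def Good (f : X ⟶ Y) : Set (Points X) := {x | HasAtMor (fun _ _ h u => u ∈ unramLocus h) f x}

theorem isOpen_good (f : X ⟶ Y) : IsOpen (Good f) := by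
  refine isOpen_iff_forall_mem_open.2 fun x ⟨U, V, a, b, h, u, ha, hb, w, hx, hu⟩ => ?_
  exact ⟨Points.ofPt a '' unramLocus h.left, fun y ⟨v, hv, hy⟩ => ⟨U, V, a, b, h, v, ha, hb, w, hy, hv⟩,
    isOpenMap_ofPt ha _ (isOpen_unramLocus _), u, hu, hx⟩

theorem locP_restrict (hX : IsAlgSpace X) (hl : LocP @LocallyOfFiniteType f) {X₀ : Sp S} (hX₀ : IsAlgSpace X₀)
    {j : X₀ ⟶ X} (hj : RepWith @IsOpenImmersion j) (h : Set.range (Points.map j) ⊆ Good f) :
    LocP (@LocallyOfFiniteType ⊓ @FormallyUnramified) (j ≫ f) := by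
  refine locP_of_hasAt fun z => ?_
  obtain ⟨U, V, a, b, g, u, ha, hb, w, hu, hgood⟩ := h ⟨z, rfl⟩
  obtain ⟨U₀, ι, a₀, sq⟩ := hj.rep a
  have : IsOpenImmersion ι.left := hj.2 a _ _ sq
  obtain ⟨c, hc₁, hc₂⟩ := exists_point_of_isPullback sq (x := z) (y := Points.ofScheme U u)
    (by rw [← hu, Points.ofPt_eq_map_ofScheme])
  rw [← Points.ofScheme_toScheme U₀ c] at hc₁ hc₂
  rw [Points.map_ofPt, Category.id_comp] at hc₁ hc₂
  have hu₀ : ι.left (Points.toScheme U₀ c) = u :=
    ((Points.toScheme_ofPt ι _).symm.trans (congrArg (Points.toScheme U) hc₂)).trans (Points.toScheme_ofScheme U u)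
  have w₀ : a₀ ≫ j ≫ f = (yon S).map (ι ≫ g) ≫ b := by
    rw [← Category.assoc, sq.w, Category.assoc, w, Functor.map_comp, Category.assoc]
  refine ⟨U₀, V, a₀, b, ι ≫ g, _, repWith_of_isPullback sq.flip ha, hb, w₀, hc₁, ?_⟩
  obtain ⟨W, hW, hWf⟩ := mem_unramLocus_comp_etale ι.left g.left (u := Points.toScheme U₀ c) (by rw [hu₀]; exact hgood)
  have : LocallyOfFiniteType g.left := hl a b g ha hb w
  exact ⟨W, hW, inferInstanceAs (LocallyOfFiniteType (W.ι ≫ ι.left ≫ g.left)), hWf⟩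

theorem locP_of_range_subset (hX : IsAlgSpace X) (hY : IsAlgSpace Y) (hY' : IsAlgSpace Y')
    (hl : LocP @LocallyOfFiniteType f) {gY : Y' ⟶ Y} {gX : X' ⟶ X} {f' : X' ⟶ Y'}
    (sq : IsPullback gX f' f gY) (h : Set.range (Points.map gX) ⊆ Good f) :
    LocP (@LocallyOfFiniteType ⊓ @FormallyUnramified) f' := by
  obtain ⟨X₀, j, hX₀, hj, hr⟩ := exists_open_subspace hX (isOpen_good f)
  obtain ⟨g₁, hg₁⟩ := exists_lift_openImmersion (isAlgSpace_of_isPullback sq hX hY' hY) hX₀ hX hj gX (hr ▸ h)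
  have : Mono j := AlgSpDec.mono_of_openImmersion hj
  refine locP_of_isPullback (f := j ≫ f) (g := gY) (fst := g₁) ?_ hX₀ hY hY'
    (locP_restrict hX hl hX₀ hj hr.le)
  refine ⟨⟨by rw [reassoc_of% hg₁, sq.w]⟩, ⟨PullbackCone.IsLimit.mk _
    (fun s => sq.lift (s.fst ≫ j) s.snd (by simpa using s.condition))
    (fun s => (cancel_mono j).1 (by rw [Category.assoc, hg₁, sq.lift_fst]))
    (fun s => sq.lift_snd _ _ _)
    (fun s m h1 h2 => sq.hom_ext (by rw [sq.lift_fst, ← h1, Category.assoc, hg₁]) (by rw [sq.lift_snd, h2]))⟩⟩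

theorem range_subset_good (hX : IsAlgSpace X) (hY : IsAlgSpace Y) (hY' : IsAlgSpace Y')
    (hl : LocP @LocallyOfFiniteType f) {gY : Y' ⟶ Y} {gX : X' ⟶ X} {f' : X' ⟶ Y'}
    (sq : IsPullback gX f' f gY) (h : LocP (@LocallyOfFiniteType ⊓ @FormallyUnramified) f') :
    Set.range (Points.map gX) ⊆ Good f := by
  obtain ⟨V, b, hb, hb'⟩ := hY.atlas
  obtain ⟨U, e, k, he, hes, hk⟩ := exists_chart_over hX hY f b
  obtain ⟨V', c₀, c, hc1, hc2, hc3⟩ := exists_chart_over hY' hY gY b
  have hc : (c₀ ≫ pullback.fst gY b) ≫ gY = (yon S).map c ≫ b := by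
    rw [Category.assoc, pullback.condition, ← Category.assoc, hc3]
  obtain ⟨U', c', k', a', sq', ha', has', w', wX⟩ := exists_chart_baseChange sq hc hk he hes
    (repWith_comp hc1 (repWith_fst gY hb)) (repWith_comp hc2 (repWith_fst gY hb'))
  rintro _ ⟨x', rfl⟩
  obtain ⟨u', rfl⟩ := surjective_ofPt has' x'
  have w : (e ≫ pullback.fst f b) ≫ f = (yon S).map k ≫ b := by
    rw [Category.assoc, pullback.condition, ← Category.assoc, hk]
  have ha : RepWith @Etale (e ≫ pullback.fst f b) := repWith_comp he (repWith_fst f hb)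
  have : LocallyOfFiniteType k.left := hl _ _ k ha hb w
  refine ⟨U, V, e ≫ pullback.fst f b, b, k, c'.left u', ha, hb, w, ?_, ?_⟩
  · rw [Points.map_ofPt, wX, ofPt_comp]
  · refine mem_unramLocus_of_baseChange (f := k.left) (g := c.left) (sq'.map (Over.forget S)) ?_
    have := (h a' (c₀ ≫ pullback.fst gY b) k' ha' (repWith_comp hc1 (repWith_fst gY hb)) w').2
    change u' ∈ unramLocus k'.left
    rw [(formallyUnramified_iff_unramLocus k'.left).1 this]
    trivial

theorem locP_lft_of_comp_eq {Z : Sp S} (hZ : IsAlgSpace Z) {q : Y ⟶ Z} {p : X ⟶ Z} (hc : f ≫ q = p)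
    (hp : LocP @LocallyOfFiniteType p) : LocP @LocallyOfFiniteType f :=
  AlgSpPts.locP_of_comp (fun a b (_ : LocallyOfFiniteType (a ≫ b)) => locallyOfFiniteType_of_comp a b) hZ
    (show LocP @LocallyOfFiniteType (f ≫ q) by rw [hc]; exact hp)

theorem isOpenMap_diag_comp (hY : IsAlgSpace Y) {X₀ : Sp S} (hX₀ : IsAlgSpace X₀) {j : X₀ ⟶ X}
    (hj : RepWith @IsOpenImmersion j) (h : LocP (@LocallyOfFiniteType ⊓ @FormallyUnramified) (j ≫ f)) :
    IsOpenMap (Points.map (j ≫ pullback.diagonal f)) := by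
  obtain ⟨h1, h2⟩ := (locP_lft_unramified_iff hX₀ hY (j ≫ f)).1 h
  have hP := isAlgSpace_pullback hX₀ hX₀ hY (j ≫ f) (j ≫ f)
  have hd := (isEtaleMor_iff_locP hX₀ hP _).1 (isEtaleMor_diagonal hX₀ hY _ h1 h2)
  have ho : IsOpenMap (Points.map (pullback.diagonal (j ≫ f))) :=
    isOpenMap_map_of_fppf hX₀ hP _ (fun U V a b k ha hb w => have : Etale k.left := hd a b k ha hb w; inferInstance)
      (fun U V a b k ha hb w => have : Etale k.left := hd a b k ha hb w; inferInstance)
  have : (RepWith (S := S) @IsOpenImmersion).IsStableUnderComposition := ⟨fun _ _ => repWith_comp⟩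
  have hm : RepWith @IsOpenImmersion (pullback.map (j ≫ f) (j ≫ f) f f j j (𝟙 Y) (Category.comp_id _) (Category.comp_id _)) :=
    MorphismProperty.pullbackMap hj hj rfl rfl
  have hm' := AlgSpPts.isOpenMap_map (repWith_mono (fun _ _ k (_ : IsOpenImmersion k) =>
    (inferInstance : UniversallyOpen k)) _ hm)
  have e : j ≫ pullback.diagonal f = pullback.diagonal (j ≫ f) ≫
      pullback.map (j ≫ f) (j ≫ f) f f j j (𝟙 Y) (Category.comp_id _) (Category.comp_id _) := by
    apply pullback.hom_ext <;> simp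
  rw [e]
  intro O hO
  simp only [Points.map_comp, ← Set.image_image]
  exact hm' _ (ho _ hO)

/-- The image of the unramified locus under the diagonal is open. -/
theorem isOpen_image_diag (hX : IsAlgSpace X) (hY : IsAlgSpace Y) (hl : LocP @LocallyOfFiniteType f) {XX : Sp S} {pr0 pr1 : XX ⟶ X}
    (sq : IsPullback pr0 pr1 f f) (d : X ⟶ XX) (hd0 : d ≫ pr0 = 𝟙 X) (hd1 : d ≫ pr1 = 𝟙 X) :
    IsOpen (Points.map d '' Good f) := by
  obtain ⟨X₀, j, hX₀, hj, hr⟩ := exists_open_subspace hX (isOpen_good f)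
  have ho := isOpenMap_diag_comp hY hX₀ hj (locP_restrict hX hl hX₀ hj hr.le)
  have e : d = pullback.diagonal f ≫ sq.isoPullback.inv := sq.hom_ext (by simp [hd0]) (by simp [hd1])
  have hi : IsOpenMap (Points.map sq.isoPullback.inv) := AlgSpPts.isOpenMap_map
    (repWith_of_isIso @UniversallyOpen _)
  rw [← hr, ← Set.range_comp]
  have : Points.map d ∘ Points.map j = Points.map sq.isoPullback.inv ∘ Points.map (j ≫ pullback.diagonal f) := by
    funext z
    simp only [Function.comp_apply, ← Points.map_comp, e, Category.assoc]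
  rw [this]
  exact (hi.comp ho).isOpen_range

end Groth.Agent.AlgSpDec.UnramSpace
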