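import Groth.Agent.AlgSpDec.UnramSpace

/-! The loci in the target where the base change is unramified, or unramified and universally injective. -/

set_option autoImplicit false
set_option backward.isDefEq.respectTransparency false
set_option backward.isDefEq.respectTransparency.types false

open CategoryTheory Limits Opposite AlgebraicGeometry MorphismProperty AlgSp Groth.Agent.AlgSpLib
  Groth.Agent.AlgSpPts Groth.Agent.AlgSpDec.UnramSpace

namespace Groth.Agent.AlgSpDec.UnramWhere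

universe u

variable {S : Scheme.{u}} {X Y Z X' Y' Z' : Sp S} {f : X ⟶ Y} {p : X ⟶ Z} {q : Y ⟶ Z}

/-- The points of `Z` all of whose preimages in `X` are unramified points of `f`. -/
def goodZ (f : X ⟶ Y) (p : X ⟶ Z) : Set (Points Z) := (Points.map p '' (Good f)ᶜ)ᶜ

theorem isOpen_goodZ (hp : IsClosedMor p) : IsOpen (goodZ f p) :=
  (hp _ (isOpen_good f).isClosed_compl).isOpen_compl

theorem gX_subset (hc : f ≫ q = p) {g : Z' ⟶ Z} {gY : Y' ⟶ Y} {q' : Y' ⟶ Z'} (wY : gY ≫ q = q' ≫ g)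
    {gX : X' ⟶ X} {f' : X' ⟶ Y'} (wX : gX ≫ f = f' ≫ gY) (h : Set.range (Points.map g) ⊆ goodZ f p) :
    Set.range (Points.map gX) ⊆ Good f := by
  rintro _ ⟨x', rfl⟩
  by_contra hx
  refine h ⟨Points.map q' (Points.map f' x'), rfl⟩ ⟨_, hx, ?_⟩
  rw [← hc, ← Points.map_comp, ← Points.map_comp, ← Points.map_comp]
  rw [reassoc_of% wX, wY]

theorem mem_goodZ (hc : f ≫ q = p) {g : Z' ⟶ Z} {gY : Y' ⟶ Y} {q' : Y' ⟶ Z'} (sY : IsPullback gY q' q g)
    {gX : X' ⟶ X} {f' : X' ⟶ Y'} (sX : IsPullback gX f' f gY) (h : Set.range (Points.map gX) ⊆ Good f) :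
    Set.range (Points.map g) ⊆ goodZ f p := by
  rintro _ ⟨z', rfl⟩ ⟨x, hx, hxz⟩
  obtain ⟨y', hy, -⟩ := exists_point_of_isPullback sY (x := Points.map f x) (y := z')
    (by rw [← Points.map_comp, hc, hxz])
  obtain ⟨x', hx', -⟩ := exists_point_of_isPullback sX (x := x) (y := y') hy.symm
  exact hx (hx' ▸ h ⟨x', rfl⟩)

theorem unramified_iff (hX : IsAlgSpace X) (hY : IsAlgSpace Y) (hZ : IsAlgSpace Z) (hc : f ≫ q = p)
    (hp : LocP @LocallyOfFiniteType p) {g : Z' ⟶ Z} {gY : Y' ⟶ Y} {q' : Y' ⟶ Z'} (hY' : IsAlgSpace Y')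
    (sY : IsPullback gY q' q g) {gX : X' ⟶ X} {f' : X' ⟶ Y'} (sX : IsPullback gX f' f gY) :
    LocP (@LocallyOfFiniteType ⊓ @FormallyUnramified) f' ↔ Set.range (Points.map g) ⊆ goodZ f p :=
  ⟨fun h => mem_goodZ hc sY sX (range_subset_good hX hY hY' (locP_lft_of_comp_eq hZ hc hp) sX h),
    fun h => locP_of_range_subset hX hY hY' (locP_lft_of_comp_eq hZ hc hp) sX (gX_subset hc sY.w sX.w h)⟩

/-- The points of `Z` over which `f` is in addition universally injective. -/
def injZ (f : X ⟶ Y) (p : X ⟶ Z) {XX : Sp S} (pr1 : XX ⟶ X) (d : X ⟶ XX) : Set (Points Z) :=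
  goodZ f p ∩ (Points.map (pr1 ≫ p) '' (Points.map d '' Good f)ᶜ)ᶜ

variable {XX : Sp S} {pr0 pr1 : XX ⟶ X} {d : X ⟶ XX}

theorem univInjective_iff (hX : IsAlgSpace X) (hY : IsAlgSpace Y) (hZ : IsAlgSpace Z) (hc : f ≫ q = p)
    (hp : LocP @LocallyOfFiniteType p) (sXX : IsPullback pr0 pr1 f f) (hd0 : d ≫ pr0 = 𝟙 X) (hd1 : d ≫ pr1 = 𝟙 X)
    {g : Z' ⟶ Z} {gY : Y' ⟶ Y} {q' : Y' ⟶ Z'} (hY' : IsAlgSpace Y') (sY : IsPullback gY q' q g)
    {gX : X' ⟶ X} {f' : X' ⟶ Y'} (sX : IsPullback gX f' f gY) :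
    (LocP (@LocallyOfFiniteType ⊓ @FormallyUnramified) f' ∧ IsUnivInjectiveMor f') ↔
      Set.range (Points.map g) ⊆ injZ f p pr1 d := by
  have hX' : IsAlgSpace X' := isAlgSpace_of_isPullback sX hX hY' hY
  constructor
  · rintro ⟨h, hi⟩
    obtain ⟨h1, h2⟩ := (locP_lft_unramified_iff hX' hY' f').1 h
    have : Mono f' := mono_of_unramified_univInjective hX' hY' f' h1 h2 hi
    have hg := (unramified_iff hX hY hZ hc hp hY' sY sX).1 h
    refine Set.subset_inter hg ?_
    rintro _ ⟨z', rfl⟩ ⟨ζ, hζ, hζz⟩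
    obtain ⟨y', hy, -⟩ := exists_point_of_isPullback sY (x := Points.map (pr1 ≫ f) ζ) (y := z')
      (by rw [← Points.map_comp, Category.assoc, hc, hζz])
    obtain ⟨w, hw, -⟩ := exists_point_of_isPullback (IsPullback.of_hasPullback (pr1 ≫ f) gY) hy.symm
    let a₀ := sX.lift (pullback.fst (pr1 ≫ f) gY ≫ pr0) (pullback.snd _ _)
      (by rw [Category.assoc, sXX.w]; exact pullback.condition)
    let a₁ := sX.lift (pullback.fst (pr1 ≫ f) gY ≫ pr1) (pullback.snd _ _)
      (by rw [Category.assoc]; exact pullback.condition)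
    have ha : a₀ = a₁ := (cancel_mono f').1 (by rw [sX.lift_snd, sX.lift_snd])
    have e : pullback.fst (pr1 ≫ f) gY = (a₀ ≫ gX) ≫ d := by
      apply sXX.hom_ext
      · rw [Category.assoc, hd0, Category.comp_id, sX.lift_fst]
      · rw [Category.assoc, hd1, Category.comp_id, ha, sX.lift_fst]
    refine hζ ⟨Points.map (a₀ ≫ gX) w, ?_, ?_⟩
    · rw [Points.map_comp]
      exact gX_subset hc sY.w sX.w hg ⟨_, rfl⟩
    · rw [← Points.map_comp, ← e, hw]
  · intro hg
    have hu := (unramified_iff hX hY hZ hc hp hY' sY sX).2 fun z hz => (hg hz).1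
    obtain ⟨h1, h2⟩ := (locP_lft_unramified_iff hX' hY' f').1 hu
    refine ⟨hu, ?_⟩
    have : Mono f' := by
      refine mono_of_diagonal hX' hY' f' (isEtaleMor_diagonal hX' hY' f' h1 h2) fun ζ => ?_
      let μ : pullback f' f' ⟶ XX := sXX.lift (pullback.fst f' f' ≫ gX) (pullback.snd f' f' ≫ gX)
        (by rw [Category.assoc, Category.assoc, sX.w, pullback.condition_assoc])
      have hz : Points.map (pr1 ≫ p) (Points.map μ ζ) =
          Points.map g (Points.map q' (Points.map (pullback.snd f' f' ≫ f') ζ)) := by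
        simp only [← Points.map_comp, μ]
        rw [IsPullback.lift_snd_assoc, ← hc]
        simp only [Category.assoc]
        rw [reassoc_of% sX.w, sY.w]
      have hmem : Points.map μ ζ ∈ Points.map d '' Good f := by
        by_contra hne
        exact (hg ⟨_, rfl⟩).2 ⟨_, hne, hz⟩
      obtain ⟨x, -, hx⟩ := hmem
      obtain ⟨w, -, hw⟩ := exists_point_of_isPullback (IsPullback.of_hasPullback d μ) hx
      refine ⟨Points.map (pullback.snd d μ ≫ pullback.fst f' f') w, ?_⟩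
      have e0 : pullback.snd d μ ≫ pullback.fst f' f' ≫ gX = pullback.fst d μ := by
        have := congrArg (· ≫ pr0) (pullback.condition (f := d) (g := μ))
        simpa [μ, hd0] using this.symm
      have e1 : pullback.snd d μ ≫ pullback.snd f' f' ≫ gX = pullback.fst d μ := by
        have := congrArg (· ≫ pr1) (pullback.condition (f := d) (g := μ))
        simpa [μ, hd1] using this.symm
      have e : (pullback.snd d μ ≫ pullback.fst f' f') ≫ pullback.diagonal f' = pullback.snd d μ := by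
        apply pullback.hom_ext
        · simp
        · apply sX.hom_ext
          · simp [e0, e1]
          · simp [pullback.condition]
      rw [← Points.map_comp, e, hw]
    exact isUnivInjectiveMor_of_mono

theorem isOpen_injZ (hX : IsAlgSpace X) (hY : IsAlgSpace Y) (hZ : IsAlgSpace Z) (hc : f ≫ q = p)
    (hp : LocP @LocallyOfFiniteType p) (hp2 : IsClosedMor p) (hp3 : IsClosedMor (pr1 ≫ p))
    (sXX : IsPullback pr0 pr1 f f) (hd0 : d ≫ pr0 = 𝟙 X) (hd1 : d ≫ pr1 = 𝟙 X) :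
    IsOpen (injZ f p pr1 d) :=
  (isOpen_goodZ hp2).inter (hp3 _ (isOpen_image_diag hX hY (locP_lft_of_comp_eq hZ hc hp) sXX d hd0 hd1).isClosed_compl).isOpen_compl

/-- From a set of points with the test property, the open subspace. -/
theorem exists_open_of_iff {X Y Z : Space S} (f : X ⟶ Y) (q : Y ⟶ Z) {T : Set (Points Z.obj)} (hT : IsOpen T)
    {P : ∀ ⦃A B : Sp S⦄, (A ⟶ B) → Prop}
    (H : ∀ {Z' X' Y' : Space S} (g : Z' ⟶ Z) (gY : Y' ⟶ Y) (q' : Y' ⟶ Z'), IsPullback gY.hom q'.hom q.hom g.hom →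
      ∀ (gX : X' ⟶ X) (f' : X' ⟶ Y'), IsPullback gX.hom f'.hom f.hom gY.hom →
      (P f'.hom ↔ Set.range (Points.map g.hom) ⊆ T)) :
    ∃ (W : AlgSp.Space S) (w : W ⟶ Z), AlgSp.RepWith @IsOpenImmersion w.hom ∧
      ∀ (Z' : AlgSp.Space S) (g : Z' ⟶ Z),
        (∃ k : Z' ⟶ W, k ≫ w = g) ↔
          ∀ (Y' : AlgSp.Space S) (gY : Y' ⟶ Y) (q' : Y' ⟶ Z'),
            IsPullback gY.hom q'.hom q.hom g.hom →
            ∀ (X' : AlgSp.Space S) (gX : X' ⟶ X) (f' : X' ⟶ Y'),
              IsPullback gX.hom f'.hom f.hom gY.hom → P f'.hom := by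
  obtain ⟨W, j, hW, hj, hr⟩ := exists_open_subspace Z.property hT
  refine ⟨⟨W, hW⟩, ObjectProperty.homMk j, hj, fun Z' g => ⟨?_, fun h => ?_⟩⟩
  · rintro ⟨k, rfl⟩ Y' gY q' sY X' gX f' sX
    refine (H _ _ _ sY _ _ sX).2 ?_
    rintro _ ⟨z, rfl⟩
    rw [← hr]
    exact ⟨Points.map k.hom z, (Points.map_comp _ _ _).symm⟩
  · let Y' : Space S := ⟨pullback q.hom g.hom, isAlgSpace_pullback Y.property Z'.property Z.property _ _⟩
    let gY : Y' ⟶ Y := ObjectProperty.homMk (pullback.fst _ _)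
    let q' : Y' ⟶ Z' := ObjectProperty.homMk (pullback.snd _ _)
    let X' : Space S := ⟨pullback f.hom gY.hom, isAlgSpace_pullback X.property Y'.property Y.property _ _⟩
    let gX : X' ⟶ X := ObjectProperty.homMk (pullback.fst _ _)
    let f' : X' ⟶ Y' := ObjectProperty.homMk (pullback.snd _ _)
    have sY : IsPullback gY.hom q'.hom q.hom g.hom := IsPullback.of_hasPullback _ _
    have sX : IsPullback gX.hom f'.hom f.hom gY.hom := IsPullback.of_hasPullback _ _
    obtain ⟨k, hk⟩ := exists_lift_openImmersion Z'.property hW Z.property hj g.hom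
      (hr ▸ (H _ _ _ sY _ _ sX).1 (h Y' gY q' sY X' gX f' sX))
    exact ⟨ObjectProperty.homMk k, ObjectProperty.hom_ext _ hk⟩

end Groth.Agent.AlgSpDec.UnramWhere
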